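import Cfsg.Statements.S3225
import Cfsg.Agent.H3.Transfer

set_option autoImplicit false
open Cfsg

namespace Cfsg.Agent.S3225

/-- Let G be a finite group of even order with no subgroup of index 2, S a Sylow 2-subgroup of G and M a subgroup of index 2 in S such that, for some n ≥ 1, every element of S outside M has order greater than 2^(n−1). Then every element of S of order 2ⁿ is conjugate in G to an element of M. -/
theorem result {G : Type*} [Group G] [Finite G] (hev : Even (Nat.card G))
    (hG : ∀ H : Subgroup G, H.index ≠ 2) (S : Sylow 2 G) (M : Subgroup G) (hMS : M ≤ (S : Subgroup G)) (hM : M.relIndex (S : Subgroup G) = 2)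
    (n : ℕ) (hn : 1 ≤ n) (hord : ∀ y ∈ (S : Subgroup G), y ∉ M → 2 ^ (n - 1) < orderOf y)
    (x : G) (hx : x ∈ (S : Subgroup G)) (hxn : orderOf x = 2 ^ n) :
    ∃ g : G, g * x * g⁻¹ ∈ M := by
  by_contra h
  have h3 : ¬ 2 ∣ (S : Subgroup G).index := S.not_dvd_index
  obtain ⟨N, -, hN, -⟩ := H3.thompson_transfer (H := (S : Subgroup G)) (u := x)
    (Nat.not_even_iff_odd.1 fun hh => h3 hh.two_dvd) hM
    (fun t ht => h ⟨t⁻¹, by rwa [inv_inv]⟩) (fun k t ht => by
      by_contra hh
      have h1 := hord _ ht hh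
      have h2 : (t⁻¹ * x ^ (2 * k) * t) ^ 2 ^ (n - 1) = 1 := by
        have := conj_pow (a := t⁻¹) (b := x ^ (2 * k)) (i := 2 ^ (n - 1))
        rw [inv_inv] at this
        rw [this, ← pow_mul, mul_comm 2 k, mul_assoc k, ← pow_succ', Nat.sub_add_cancel hn, mul_comm k,
          pow_mul, ← hxn, pow_orderOf_eq_one]
        simp
      exact absurd (Nat.le_of_dvd (by positivity) (orderOf_dvd_of_pow_eq_one h2)) (not_le.2 h1))
    ⟨n, by rw [← hxn, pow_orderOf_eq_one]⟩
  exact hG N hN

end Cfsg.Agent.S3225
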