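import Cfsg.Statements.S4401
import Cfsg.Agent.H23.SecFour

set_option autoImplicit false
open Cfsg

namespace Cfsg.Agent.S4401

open Subgroup H24
open scoped commutatorElement Pointwise

/-- Let S be a finite 2-group of sectional 2-rank at most 4 and P a proper non-abelian subgroup whose centre has order 2. Let S₀ be the centralizer in S of Z(P) and suppose P is normal in S₀. Then either S₀ = S, or P has sectional 2-rank at most 2 and S₀ has index 2 in S. -/
theorem result {S : Type*} [Group S] [Finite S] (h2 : IsPGroup 2 S) (hr : Cfsg.SectionalPRankLE 2 4 S)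
    (P : Subgroup S) (hPlt : P ≠ ⊤) (hP : ¬ IsMulCommutative ↥P) (hZP : Nat.card ↥(Subgroup.center ↥P) = 2)
    (S₀ : Subgroup S) (hS₀ : S₀ = Subgroup.centralizer (((Subgroup.center ↥P).map P.subtype : Subgroup S) : Set S))
    (hPn : ∀ s ∈ S₀, ∀ x ∈ P, s * x * s⁻¹ ∈ P) :
    S₀ = ⊤ ∨ (Cfsg.SectionalPRankLE 2 2 ↥P ∧ S₀.index = 2) := by
  obtain ⟨z, hz, e1⟩ := H23.exists_ZC hP hZP
  rw [e1, zpowers_eq_closure, centralizer_closure] at hS₀
  rw [or_iff_not_imp_left]
  intro hne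
  haveI := h2.isNilpotent
  have hm : ∀ {s}, s ∈ S₀ ↔ s * z * s⁻¹ = z := hS₀ ▸ mem_cent_iff_conj
  have hPS : P ≤ S₀ := fun x hx => hS₀ ▸ mem_cent.2 (hz.cent x hx)
  set S₁ := normalizer (S₀ : Set S) with hS₁
  have hle : ∀ n ∈ S₁, MulAut.conj n • P ≤ S₀ := by
    rintro n hn _ ⟨x, hx, rfl⟩
    exact (mem_normalizer_iff.1 hn x).1 (hPS hx)
  have hnor : ∀ n ∈ S₁, S₀ ≤ normalizer ((MulAut.conj n • P : Subgroup S) : Set S) := by
    intro n hn s hs
    refine mem_normalizer_fintype ?_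
    rintro _ ⟨x, hx, rfl⟩
    refine ⟨_, hPn _ ((mem_normalizer_iff.1 (inv_mem hn) s).1 hs) x hx, ?_⟩
    simp [mul_assoc]
  have hpair : ∀ n ∈ S₁, ∀ m ∈ S₁, n * z * n⁻¹ ≠ m * z * m⁻¹ →
      MulAut.conj n • P ⊓ MulAut.conj m • P = ⊥ ∧
        ∀ x ∈ MulAut.conj n • P, ∀ y ∈ MulAut.conj m • P, x * y = y * x := fun n hn m hm' e =>
    (hz.conj n).inf_eq_bot h2 (hz.conj m) e ((hle n hn).trans (hnor m hm'))
      ((hle m hm').trans (hnor n hn))
  have hone : MulAut.conj (1 : S) • P = P := by rw [map_one, one_smul]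
  obtain ⟨g, hg, hg'⟩ := SetLike.exists_of_lt
    (Group.normalizerCondition_of_isNilpotent _ (lt_top_iff_ne_top.2 hne))
  have hgz : g * z * g⁻¹ ≠ z := mt hm.2 hg'
  obtain ⟨hi, hc⟩ := hpair 1 (one_mem _) g hg (by simpa using hgz.symm)
  rw [hone] at hi hc
  have hw := hz.conj g
  set Q := MulAut.conj g • P
  set w := g * z * g⁻¹ with hwdef
  have hcs : ∀ u, (∀ x ∈ P, x * u = u * x) → (∀ x ∈ Q, x * u = u * x) →
      u = 1 ∨ u = z ∨ u = w ∨ u = z * w := fun u h1 h3 =>
    hz.cent_cases hw hc (hz.cent_le h2 hr hw hi hc h1 h3) h1 h3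
  have hzw : z * w = w * z := hc z hz.mem w hw.mem
  have horb : ∀ n ∈ S₁, n * z * n⁻¹ = z ∨ n * z * n⁻¹ = w := by
    intro n hn
    by_contra hcon
    push Not at hcon
    have h1 := (hpair 1 (one_mem _) n hn (by simpa using hcon.1.symm)).2
    rw [hone] at h1
    have h3 := (hpair g hg n hn hcon.2.symm).2
    obtain ⟨x, hx, y, hy, e⟩ := (hz.conj n).na
    have h4 : ∀ u, u = 1 ∨ u = z ∨ u = w ∨ u = z * w → Commute u y := by
      have c1 : Commute z y := h1 z hz.mem y hy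
      have c2 : Commute w y := h3 w hw.mem y hy
      rintro u (rfl | rfl | rfl | rfl)
      exacts [Commute.one_left y, c1, c2, c1.mul_left c2]
    exact e (h4 x (hcs x (fun a ha => h1 a ha x hx) fun a ha => h3 a ha x hx))
  have horb' : ∀ n ∈ S₁, (n * z * n⁻¹ = z ∧ n * w * n⁻¹ = w) ∨
      (n * z * n⁻¹ = w ∧ n * w * n⁻¹ = z) := by
    intro n hn
    have h1 := horb (n * g) (mul_mem hn hg)
    rw [show n * g * z * (n * g)⁻¹ = n * w * n⁻¹ by rw [hwdef]; group] at h1
    have h3 : n * z * n⁻¹ ≠ n * w * n⁻¹ := fun e => hgz (by simpa using e.symm)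
    rcases horb n hn with e | e <;> rcases h1 with e' | e'
    exacts [absurd (e.trans e'.symm) h3, Or.inl ⟨e, e'⟩, Or.inr ⟨e, e'⟩, absurd (e.trans e'.symm) h3]
  have hcen : ∀ n ∈ S₁, n * (z * w) * n⁻¹ = z * w := fun n hn => by
    rw [← conj_mul]
    rcases horb' n hn with ⟨e, e'⟩ | ⟨e, e'⟩ <;> rw [e, e']
    exact hzw.symm
  have hgw : g * w * g⁻¹ ≠ w := fun e => hgz (by
    rcases horb' g hg with ⟨e1, -⟩ | ⟨-, e1⟩
    exacts [e1, e.symm.trans e1])
  have htop : S₁ = ⊤ := by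
    by_contra hne'
    obtain ⟨h, hh, hh'⟩ := SetLike.exists_of_lt
      (Group.normalizerCondition_of_isNilpotent _ (lt_top_iff_ne_top.2 hne'))
    have hfix : ∀ h ∈ normalizer (S₁ : Set S), h * (z * w) * h⁻¹ = z * w := by
      intro h hh
      have h1 : ∀ n ∈ S₁, n * (h * (z * w) * h⁻¹) = h * (z * w) * h⁻¹ * n := fun n hn => by
        have := hcen _ ((mem_normalizer_iff.1 (inv_mem hh) n).1 hn)
        calc _ = h * (h⁻¹ * n * h⁻¹⁻¹ * (z * w) * (h⁻¹ * n * h⁻¹⁻¹)⁻¹) * h⁻¹ * n := by group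
          _ = _ := by rw [this]
      rcases hcs _ (fun x hx => h1 x (le_normalizer (hPS hx)))
        fun x hx => h1 x (le_normalizer (hle g hg hx)) with e | e | e | e
      · refine absurd ?_ hgz
        have : z * w = 1 := by simpa using e
        rw [← mul_eq_one_iff_inv_eq.1 this, inv_eq_of_mul_eq_one_right hz.sq]
      · have := h1 g hg
        rw [e] at this
        exact absurd (by rw [hwdef, this, mul_inv_cancel_right]) hgz
      · have := h1 g hg
        rw [e] at this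
        exact absurd (by rw [this, mul_inv_cancel_right]) hgw
      · exact e
    set u := h * z * h⁻¹ with hu
    have huS : u ∈ S₁ := (mem_normalizer_iff.1 hh z).1 (le_normalizer (hPS hz.mem))
    have hcomm : ∀ x ∈ S₁, u * x * u⁻¹ = x ∨ u * x * u⁻¹ = z * w * x := fun x hx => by
      have hy := (mem_normalizer_iff.1 (inv_mem hh) x).1 hx
      set y := h⁻¹ * x * h⁻¹⁻¹ with hy'
      have e0 : u * x * u⁻¹ = h * (z * (y * z * y⁻¹)⁻¹) * h⁻¹ * x := by rw [hu, hy']; group
      rcases horb y hy with e | e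
      · left; rw [e0, e]; group
      · right; rw [e0, e, inv_eq_of_mul_eq_one_right hw.sq, hfix h hh]
    have hzwc : ∀ x ∈ S₁, Commute x (z * w) := fun x hx => mul_inv_eq_iff_eq_mul.1 (hcen x hx)
    rcases horb u huS with e | e
    · have hu0 := hm.2 e
      have h1 : ∀ x ∈ P, x * u = u * x := fun x hx => by
        rcases hcomm x (le_normalizer (hPS hx)) with e' | e'
        · exact (mul_inv_eq_iff_eq_mul.1 e').symm
        · have h3 : z * w * x ∈ P := e' ▸ hPn u hu0 x hx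
          rw [Subgroup.mul_mem_cancel_right _ hx, Subgroup.mul_mem_cancel_left _ hz.mem] at h3
          exact absurd (mem_bot.1 (hi ▸ mem_inf.2 ⟨h3, hw.mem⟩)) hw.ne
      have h3 : ∀ x ∈ Q, x * u = u * x := fun x hx => by
        rcases hcomm x (le_normalizer (hle g hg hx)) with e' | e'
        · exact (mul_inv_eq_iff_eq_mul.1 e').symm
        · have h3 : z * w * x ∈ Q := e' ▸ (mem_normalizer_iff.1 (hnor g hg hu0) x).1 hx
          rw [Subgroup.mul_mem_cancel_right _ hx, Subgroup.mul_mem_cancel_right _ hw.mem] at h3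
          exact absurd (mem_bot.1 (hi ▸ mem_inf.2 ⟨hz.mem, h3⟩)) hz.ne
      rcases hcs u h1 h3 with e' | e' | e' | e'
      · exact hz.ne (by simpa [hu] using e')
      · exact hh' (le_normalizer (hm.2 e'))
      · refine hh' ((Subgroup.mul_mem_cancel_left _ (inv_mem hg)).1 (le_normalizer (hm.2 ?_)))
        calc g⁻¹ * h * z * (g⁻¹ * h)⁻¹ = g⁻¹ * u * g := by rw [hu]; group
          _ = z := by rw [e', hwdef]; group
      · rw [← hfix h hh, hu] at e'
        exact hw.ne (by simpa using e')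
    · have h1 := (hpair 1 (one_mem _) u huS (by simpa [e] using hgz.symm)).2
      rw [hone] at h1
      obtain ⟨x, hx, y, hy, e'⟩ := hz.na
      have h3 := h1 x hx _ ⟨y, hy, rfl⟩
      change x * (u * y * u⁻¹) = u * y * u⁻¹ * x at h3
      rcases hcomm y (le_normalizer (hPS hy)) with e'' | e''
      · exact e' (e'' ▸ h3)
      · rw [e'', ← mul_assoc, (hzwc x (le_normalizer (hPS hx))).eq, mul_assoc, mul_assoc (z * w)] at h3
        exact e' (mul_left_cancel h3)
  refine ⟨H23.sec_of_forall fun H N hH hN hsq => hw.sec_two h2 hr hi hc hH hN hsq, ?_⟩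
  rw [hS₀]
  change cs z = 2
  rw [← ncard_isConj, Set.ncard_eq_two]
  refine ⟨z, w, hgz.symm, Set.ext fun y => ⟨fun hy => ?_, ?_⟩⟩
  · obtain ⟨n, rfl⟩ := isConj_iff.1 hy
    exact horb n (htop ▸ mem_top n)
  · rintro (rfl | rfl)
    exacts [IsConj.refl _, isConj_iff.2 ⟨g, rfl⟩]

end Cfsg.Agent.S4401
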