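import Cfsg.Statements.S1897
import Cfsg.Agent.H27.DG3
-- import your own Cfsg.Agent.* helpers here

set_option autoImplicit false
open Cfsg

namespace Cfsg.Agent.S1897


/-- The projective special unitary group PSU₃(3) (realised over the field with 9 elements) has a subgroup isomorphic to PSL₂(7). -/
theorem result {F : Type*} [Field F] [Fintype F] (hF : Fintype.card F = 9)
    {K : Type*} [Field K] [Fintype K] (hK : Fintype.card K = 7) :
    ∃ H : Subgroup (Cfsg.PSU 3 F 3), Nonempty (H ≃* Matrix.ProjectiveSpecialLinearGroup (Fin 2) K) := by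
  have e : PSU 3 F 3 ≃* H27.DG.F9.U := (H11.psuCongr 3 3 (FiniteField.ringEquivOfCardEq (hF.trans H27.DG.F9.card.symm))).trans
    ((QuotientGroup.quotientMulEquivOfEq (Subgroup.card_eq_one.1
      (H11.card_center_SU H27.DG.F9.card (by norm_num)))).trans QuotientGroup.quotientBot)
  obtain ⟨φ, h⟩ := H27.DG.F9.l27
  exact ⟨_, ⟨(MonoidHom.ofInjective (f := e.symm.toMonoidHom.comp φ) (e.symm.injective.comp h)).symm.trans
    (H11.pslCongr (Equiv.refl _) (FiniteField.ringEquivOfCardEq ((ZMod.card 7).trans hK.symm)))⟩⟩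

end Cfsg.Agent.S1897
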