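import Cfsg.Statements.S3897
import Cfsg.Agent.H23.Elem
import Cfsg.Agent.H3.NPC
import Cfsg.Agent.H4.Basic

set_option autoImplicit false
open Cfsg

namespace Cfsg.Agent.S3897

open Subgroup

theorem normalizer_le {G : Type*} [Group G] [Finite G] {p : ℕ} [hp : Fact p.Prime] (P : Sylow p G)
    (h : (p + 1) * Nat.card ↥(P : Subgroup G) < 2 * p * H23.kq G (fun n => ∃ k, n = p ^ k)) :
    normalizer ((P : Subgroup G) : Set G) ≤ centralizer ((P : Subgroup G) : Set G) := by
  intro g hg
  by_contra hc
  have h1 := H23.two_mul_classes_le (P : Subgroup G) hg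
  rw [← H23.kq_pow_eq P] at h1
  have hlt : ((P : Subgroup G) ⊓ centralizer {g}).subgroupOf P < ⊤ := by
    refine lt_top_iff_ne_top.2 fun ht => hc ?_
    rw [subgroupOf_eq_top] at ht
    intro x hx
    exact mem_centralizer_singleton_iff.1 (ht hx).2
  have h2 := H4.card_mul_le_of_lt P.isPGroup' hlt
  rw [H1.card_subgroupOf_of_le inf_le_left, card_top] at h2
  nlinarith [hp.out.pos]

/-- Let p be an odd prime and G a finite group with Sylow p-subgroup P, and write k_p(G) for the number of conjugacy classes of G consisting of p-elements (elements of p-power order, the identity included). Then k_p(G) > (p + 1)|P|/(2p) if and only if G has a normal p-complement and P is abelian. -/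
theorem result {G : Type*} [Group G] [Finite G] {p : ℕ} [Fact p.Prime] (hp : p ≠ 2) (P : Sylow p G) :
    (p + 1) * Nat.card ↥(P : Subgroup G) < 2 * p * Nat.card {c : ConjClasses G // ∀ x ∈ c.carrier, ∃ k : ℕ, orderOf x = p ^ k} ↔
      Cfsg.HasNormalPComplement p G ∧ IsMulCommutative ↥(P : Subgroup G) := by
  have hpp : p.Prime := Fact.out
  change _ < 2 * p * H23.kq G (fun n => ∃ k, n = p ^ k) ↔ _
  constructor
  · intro h
    have h1 := normalizer_le P h
    refine ⟨H3.hasNPC_of_normalizer_le_centralizer P h1, ?_⟩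
    exact Subgroup.le_centralizer_iff_isMulCommutative.1 (le_normalizer.trans h1)
  · rintro ⟨h1, h2⟩
    obtain ⟨N, hN, hc⟩ := (H3.hasNPC_iff_exists P).1 h1
    have hinj : Set.InjOn ConjClasses.mk ((P : Subgroup G) : Set G) := by
      intro x hx y hy hxy
      obtain ⟨g, hg⟩ := isConj_iff.1 (ConjClasses.mk_eq_mk_iff_isConj.1 hxy)
      obtain ⟨⟨n, s⟩, hns⟩ := hc.existsUnique g |>.exists
      simp only at hns
      have h3 : (s : G) * x = x * s := (H1.isMulCommutative_iff.1 h2) _ s.2 _ hx
      have h4 : y * x⁻¹ ∈ N := by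
        have : y * x⁻¹ = n * (x * (n : G)⁻¹ * x⁻¹) := by
          rw [← hg, ← hns]
          calc (n : G) * s * x * ((n : G) * s)⁻¹ * x⁻¹
              = n * (s * x) * (s : G)⁻¹ * (n : G)⁻¹ * x⁻¹ := by group
            _ = _ := by rw [h3]; group
        rw [this]
        exact N.mul_mem n.2 (hN.conj_mem _ (N.inv_mem n.2) _)
      have h5 : y * x⁻¹ ∈ (P : Subgroup G) := mul_mem hy (inv_mem hx)
      have h6 : y * x⁻¹ = 1 := by
        have := hc.disjoint.le_bot ⟨h4, h5⟩
        simpa using this
      exact (mul_inv_eq_one.1 h6).symm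
    rw [H23.kq_pow_eq P, hinj.ncard_image]
    have h7 : Nat.card (P : Subgroup G) = ((P : Subgroup G) : Set G).ncard := rfl
    rw [← h7]
    have h8 : 0 < Nat.card (P : Subgroup G) := Nat.card_pos
    have h9 : p + 1 < 2 * p := by have := hpp.two_le; omega
    exact Nat.mul_lt_mul_of_pos_right h9 h8

end Cfsg.Agent.S3897
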