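import Cfsg.Statements.S3898
import Cfsg.Agent.H24.TwoClasses
import Cfsg.Agent.H23.PiNilp
import Cfsg.Agent.H2.Hall

set_option autoImplicit false
open Cfsg

namespace Cfsg.Agent.S3898

open Subgroup


/-- Let π be a finite set of primes containing 2 and G a finite group. Write k_π(G) for the number of conjugacy classes of G consisting of π-elements (elements all of whose order's prime divisors lie in π) and |G|_π for the π-part of the order of G. If k_π(G) > |G|_π/2, then G has a normal π-complement (a normal subgroup of order prime to π whose index is a π-number) and an abelian Hall subgroup for the set of odd primes in π. -/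
theorem result {G : Type*} [Group G] [Finite G] (π : Finset ℕ) (hπ : ∀ r ∈ π, r.Prime) (h2 : 2 ∈ π)
    (hk : π.prod (fun r => r ^ (Nat.card G).factorization r) < 2 * Nat.card {c : ConjClasses G // ∀ x ∈ c.carrier, ∀ r : ℕ, r.Prime → r ∣ orderOf x → r ∈ π}) :
    (∃ N : Subgroup G, N.Normal ∧ (∀ r : ℕ, r.Prime → r ∣ Nat.card ↥N → r ∉ π) ∧ ∀ r : ℕ, r.Prime → r ∣ N.index → r ∈ π) ∧ ∃ H : Subgroup G, Cfsg.IsPiHall ((↑π : Set ℕ) \ {2}) H ∧ IsMulCommutative ↥H := by
  classical
  change _ < 2 * H23.kq G (fun n => ∀ r : ℕ, r.Prime → r ∣ n → r ∈ π) at hk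
  have key : ∀ r ∈ π, ∀ [Fact r.Prime] (R : Sylow r G),
      Nat.card R < 2 * H23.kq G (fun n => ∃ k, n = r ^ k) := by
    intro r hr hrp R
    have h3 := H23.kq_pi_le_mul (G := G) π hπ hrp.out
    rw [← Finset.mul_prod_erase π _ hr, ← R.card_eq_multiplicity] at hk
    exact lt_of_mul_lt_mul_right (hk.trans_le (by
      rw [mul_assoc]; exact Nat.mul_le_mul_left _ h3)) (Nat.zero_le _)
  have hN2 : HasNormalPComplement 2 G := by
    by_contra h
    exact absurd (key 2 h2 default) (not_lt.mpr (H24.two_mul_kq_le _ h))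
  set K := pResidual 2 G with hK
  have hKo : (Nat.card K).Coprime 2 := H3.hasNPC_iff_coprime.mp hN2
  obtain ⟨j, hj⟩ : ∃ j, K.index ∣ 2 ^ j := H3.index_pResidual_dvd_pow two_ne_zero
  have key2 : ∀ r ∈ (π : Set ℕ) \ {2}, r.Prime → ∀ R : Sylow r K,
      HasNormalPComplement r K ∧ IsMulCommutative (R : Subgroup K) := by
    intro r hr hrp R
    haveI := Fact.mk hrp
    have hr2 : r ≠ 2 := hr.2
    obtain ⟨S, hS⟩ := H1.exists_sylow_inf_eq R
    have hSK : (S : Subgroup G) ≤ K := fun x hx => by
      obtain ⟨k, hk⟩ := H24.orderOf_eq_pow_of_mem S.isPGroup' hx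
      exact H3.mem_pResidual (hk ▸ ((Nat.coprime_primes hrp Nat.prime_two).mpr hr2).pow_left k)
    rw [inf_eq_left.mpr hSK] at hS
    have h3 := key r hr.1 S
    rw [H23.kq_pow_eq S] at h3
    have h4 : (S : Subgroup G) ≤ centralizer (S : Set G) := by
      by_contra h
      exact absurd h3 (not_lt.mpr (H24.two_mul_classes_le_of_not_comm hr2 S.isPGroup' h))
    have h5 : normalizer (R : Set K) ≤ centralizer (R : Set K) := by
      intro g hg
      obtain ⟨a, b, ha, hb, rfl, -, ⟨k, hk⟩, hb'⟩ := H24.exists_pPart hrp g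
      have hmem : ∀ x : K, (x : G) ∈ centralizer (S : Set G) → x ∈ centralizer (R : Set K) :=
        fun x hx y hy => Subtype.ext (hx y (by
          change (y : G) ∈ (S : Subgroup G)
          rw [hS]; exact mem_map_of_mem _ hy))
      refine mul_mem (hmem _ (h4 ?_)) (hmem _ ?_)
      · rw [hS]
        refine mem_map_of_mem _ ?_
        have := R.is_maximal' (IsPGroup.to_sup_of_normal_left' R.isPGroup' (H24.isPGroup_zpowers hk)
          (zpowers_le.mpr (zpowers_le.mpr hg ha))) le_sup_left
        rw [← this]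
        exact mem_sup_right (mem_zpowers a)
      · by_contra h
        refine absurd h3 (not_lt.mpr (H24.two_mul_classes_le_of_odd_prime hr2 S.isPGroup' ?_ h ?_ ?_))
        · rw [hS]
          exact (H1.map_subtype_normalizer (R : Subgroup K) ▸
            mem_map_of_mem K.subtype (zpowers_le.mpr hg hb) :).2
        · rw [orderOf_coe]; exact hKo.coprime_dvd_left (orderOf_dvd_natCard b)
        · rw [orderOf_coe]; exact (hrp.coprime_iff_not_dvd.mpr hb').symm
    exact ⟨H3.hasNPC_of_normalizer_le_centralizer R h5,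
      le_centralizer_iff_isMulCommutative.1 (le_normalizer.trans h5)⟩
  have hA : ∀ r : ℕ, r.Prime → r ∣ Nat.card (H23.piResInf ((π : Set ℕ) \ {2}) K) →
      r ∉ (π : Set ℕ) \ {2} :=
    fun r hr hd => H23.not_mem_of_dvd_card_piResInf
      (fun s hs hsp => (key2 s hs hsp default).1) hr hd
  have hB : ∀ r : ℕ, r.Prime → r ∣ (H23.piResInf ((π : Set ℕ) \ {2}) K).index →
      r ∈ (π : Set ℕ) \ {2} := fun r hr hd => H23.mem_of_dvd_index_piResInf hr hd
  haveI : (H23.piResInf ((π : Set ℕ) \ {2}) K).Characteristic := by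
    rw [characteristic_iff_comap_eq]
    intro φ
    rw [H23.piResInf, comap_iInf]
    exact iInf_congr fun r => characteristic_iff_comap_eq.mp inferInstance φ
  constructor
  · refine ⟨(H23.piResInf ((π : Set ℕ) \ {2}) K).map K.subtype, inferInstance, fun r hr hd h => ?_,
      fun r hr hd => ?_⟩
    · rw [card_map_of_injective K.subtype_injective] at hd
      refine hA r hr hd ⟨h, ?_⟩
      rintro rfl
      exact absurd (Nat.eq_one_of_dvd_coprimes hKo (hd.trans (card_subgroup_dvd_card _)) dvd_rfl)
        (by norm_num)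
    · rw [index_map_subtype] at hd
      rcases (hr.dvd_mul).mp hd with h | h
      · exact (hB r hr h).1
      · rwa [(Nat.prime_dvd_prime_iff_eq hr Nat.prime_two).mp (hr.dvd_of_dvd_pow (h.trans hj))]
  obtain ⟨H, hH, hH'⟩ := H23.exists_piHall_complement _ hA hB
  refine ⟨H.map K.subtype, ⟨?_, fun r hr hr' hd => ?_⟩, ?_⟩
  · rw [card_map_of_injective K.subtype_injective]; exact hH'.1
  · rw [index_map_subtype] at hd
    rcases (hr.dvd_mul).mp hd with h | h
    · exact hH'.2 r hr hr' h
    · exact hr'.2 ((Nat.prime_dvd_prime_iff_eq hr Nat.prime_two).mp (hr.dvd_of_dvd_pow (h.trans hj)))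
  haveI : IsMulCommutative H := by
    refine H23.isMulCommutative_of_disjoint hH.disjoint.eq_bot (le_iInf fun s => ?_)
    have := Fact.mk s.2.2
    obtain ⟨h1, h3⟩ := key2 s.1 s.2.1 s.2.2 default
    exact H23.commutator_le_of_isComplement' ((H3.hasNPC_iff_isComplement' default).1 h1) h3
  infer_instance

end Cfsg.Agent.S3898
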