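import Cfsg.Statements.S1220
import Cfsg.Agent.H18.Be12

set_option autoImplicit false
open Cfsg

namespace Cfsg.Agent.S1220

/-- Let H be a strongly embedded subgroup of the finite group G. Then either G acts doubly transitively on the cosets of H (H permutes transitively the cosets gH with g ∉ H), or every Sylow 2-subgroup of G is cyclic or generalized quaternion and G = O(G)H. -/
theorem result {G : Type*} [Group G] [Finite G] (H : Subgroup G) (hH : Cfsg.IsStronglyEmbedded H) : (∀ g₁ g₂ : G, g₁ ∉ H → g₂ ∉ H → ∃ h ∈ H, g₂⁻¹ * (h * g₁) ∈ H) ∨ ((∀ S : Sylow 2 G, IsCyclic S ∨ ∃ m : ℕ, 1 ≤ m ∧ Nonempty ((S : Subgroup G) ≃* QuaternionGroup (2 ^ m))) ∧ Cfsg.oddCore G ⊔ H = ⊤) := by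
  open H18.Be in
  by_cases hr : H3.Rk2 G
  · refine Or.inl fun g₁ g₂ h1 h2 => ?_
    obtain ⟨t, h3, h4⟩ := ex_out hH
    obtain ⟨Q, -, h5, -, -, -, h6, -⟩ := (ben_coset hH hr h3 h4).reg
    rw [stab_pt] at h5
    obtain ⟨q, hq, e⟩ := h6 _ (orb_coset _ _) (mt smul_pt.1 h1)
    obtain ⟨q', hq', e'⟩ := h6 _ (orb_coset _ _) (mt smul_pt.1 h2)
    refine ⟨q' * q⁻¹, mul_mem (h5 hq') (inv_mem (h5 hq)), smul_pt.1 ?_⟩
    rw [mul_smul, mul_smul, mul_smul, ← e, inv_smul_smul, e', inv_smul_smul]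
  · exact Or.inr ⟨fun S => cyc_or_quat (mt rk_top.1 hr) S.2 le_top, rank1_sup hH hr⟩

end Cfsg.Agent.S1220
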