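import Cfsg.Statements.S3815
import Cfsg.Agent.H1.Core
import Cfsg.Agent.H3.NPC

set_option autoImplicit false
open Cfsg

namespace Cfsg.Agent.S3815

/-- Let G be a finite group, p a prime and d ∈ G an element of order prime to p. If dg has order prime to p for every element g ∈ G of order prime to p, then d ∈ O_{p'}(G). -/
theorem result {G : Type*} [Group G] [Finite G] {p : ℕ} [Fact p.Prime]
    (d : G) (hd : (orderOf d).Coprime p)
    (h : ∀ g : G, (orderOf g).Coprime p → (orderOf (d * g)).Coprime p) :
    d ∈ Cfsg.pPrimeCore p G := by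
  have key : ∀ d : G, (∀ g : G, (orderOf g).Coprime p → (orderOf (d * g)).Coprime p) →
      ∀ k : ℕ, ∀ g : G, (orderOf g).Coprime p → (orderOf (d ^ k * g)).Coprime p := by
    intro d hd k
    induction k with
    | zero => intro g hg; simpa using hg
    | succ k ih => intro g hg; rw [pow_succ', mul_assoc]; exact hd _ (ih g hg)
  let D : Subgroup G :=
    { carrier := {d | ∀ g : G, (orderOf g).Coprime p → (orderOf (d * g)).Coprime p}
      mul_mem' := fun {a b} ha hb g hg => by rw [mul_assoc]; exact ha _ (hb g hg)
      one_mem' := fun g hg => by simpa using hg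
      inv_mem' := fun {a} ha => by
        have : a⁻¹ = a ^ (orderOf a - 1) := by
          rw [inv_eq_iff_mul_eq_one, ← pow_succ', Nat.sub_add_cancel (orderOf_pos a), pow_orderOf_eq_one]
        rw [this]; exact key a ha _ }
  have hn : D.Normal := ⟨fun x hx g y hy => by
    have := H3.coprime_orderOf_conj (hx _ (H3.coprime_orderOf_conj hy g⁻¹)) g
    rwa [show g * (x * (g⁻¹ * y * g⁻¹⁻¹)) * g⁻¹ = g * x * g⁻¹ * y by group] at this⟩
  refine H1.le_pPrimeCore hn (H3.coprime_card_subgroup_iff.2 fun g hg => ?_) (show d ∈ D from h)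
  simpa using hg 1 (by simp)

end Cfsg.Agent.S3815
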