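import Cfsg.Statements.S3234
import Cfsg.Agent.H9.Pf5
import Cfsg.Agent.H7.ZStar

set_option autoImplicit false
open Cfsg

open Subgroup H19 H9.Fv

namespace Cfsg.Agent.S3234

/-- Let G be a finite group with an involution z, H = C_G(z), such that (i) J = O₂(H) is extraspecial of order 2¹³ with C_H(J) ≤ J, and (ii) H has normal subgroups J ≤ M ≤ K where M/J has order 3 and is the largest normal 3-subgroup of H/J (that is, M = O_{2,3}(H)) and K/M ≅ U₄(3). Then G = H·O(G); or H/K has order 2 and G is isomorphic to the Fischer group Fi₂₄′; or H/K is a four-group and G ≅ Fi₂₄. -/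
theorem result {G : Type*} [Group G] [Finite G] (z : G) (hz : orderOf z = 2)
    {L : Type*} [Field L] [Fintype L] (hL : Fintype.card L = 9)
    (hJ : Cfsg.IsExtraspecial 2 ↥(Cfsg.pCore 2 ↥(Subgroup.centralizer ({z} : Set G)))) (hJc : Nat.card ↥(Cfsg.pCore 2 ↥(Subgroup.centralizer ({z} : Set G))) = 2 ^ 13)
    (hCJ : Subgroup.centralizer ((Cfsg.pCore 2 ↥(Subgroup.centralizer ({z} : Set G))) : Set ↥(Subgroup.centralizer ({z} : Set G))) ≤ Cfsg.pCore 2 ↥(Subgroup.centralizer ({z} : Set G)))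
    (M K : Subgroup ↥(Subgroup.centralizer ({z} : Set G))) [hMn : M.Normal] [hKn : K.Normal] (hJM : Cfsg.pCore 2 ↥(Subgroup.centralizer ({z} : Set G)) ≤ M) (hMK : M ≤ K)
    (hM3 : Nat.card ↥M = 3 * Nat.card ↥(Cfsg.pCore 2 ↥(Subgroup.centralizer ({z} : Set G))))
    (hMmax : ∀ M' : Subgroup ↥(Subgroup.centralizer ({z} : Set G)), M'.Normal → Cfsg.pCore 2 ↥(Subgroup.centralizer ({z} : Set G)) ≤ M' → (∃ a : ℕ, Nat.card ↥M' = 3 ^ a * Nat.card ↥(Cfsg.pCore 2 ↥(Subgroup.centralizer ({z} : Set G)))) → M' ≤ M)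
    (e : (↥K ⧸ M.subgroupOf K) ≃* Cfsg.PSU 4 L 3) :
    Subgroup.centralizer ({z} : Set G) ⊔ Cfsg.oddCore G = ⊤ ∨
      (K.index = 2 ∧ Cfsg.Spor.IsoFi24' G) ∨
      (K.index = 4 ∧ (∀ x : ↥(Subgroup.centralizer ({z} : Set G)) ⧸ K, x ^ 2 = 1) ∧ Nonempty (G ≃* Cfsg.Spor.Fi24)) := by
  have hE := H0.exists_ES hJ
  have le : H0.LE ((Cfsg.pCore 2 C[z]).map C[z].subtype) z := H0.LE_of_norm hz
    (hE.choose_spec.map C[z].subtype fun x _ e => Subtype.ext e).extraspecial (map_subtype_le _) (fun c hc => by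
      have zQ : z ∈ (Cfsg.pCore 2 C[z]).map C[z].subtype := ⟨⟨z, mem_cent1_self z⟩, hCJ fun a _ =>
        Subtype.ext (mem_cent1.1 a.2), rfl⟩
      exact ⟨⟨c, mem_cent1.2 (hc z zQ).symm⟩, hCJ fun a ha => Subtype.ext (hc _ ⟨a, ha, rfl⟩), rfl⟩)
    (normalIn_map_subtype _).norm
  obtain ⟨x, π, ρ, h, hK⟩ := exists_F0 le hJc hJM hMK hM3 H16.card_F9c (e.trans (H11.psuCongr 4 3
    (H11.nonempty_ringEquiv_of_card (F := L) (K := H16.F9c) (by rw [hL]; rfl)).some))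
  by_cases w : ∀ a ∈ (Cfsg.pCore 2 C[z]).map C[z].subtype, IsConj z a → a = z
  · exact .inl ((sup_comm _ _).trans (H7.zstar_sup (h.isolated w)))
  push Not at w
  obtain ⟨a, ha, c, n⟩ := w
  obtain ⟨g, rfl⟩ := isConj_iff.1 c
  have r : h.hom.range ≤ WT := by rintro _ ⟨a, rfl⟩; exact h.mem _ a.2
  have m : MM ≤ h.hom.range := fun m hm => let ⟨a, ha, e⟩ := h.onto m hm; ⟨⟨a, ha⟩, e⟩
  have i : K.index = MM.relIndex h.hom.range := by
    rw [← index_comap, show MM.comap h.hom = K from Subgroup.ext hK]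
  have d := relIndex_mul_relIndex _ _ _ m r
  rw [index_WT, ← i] at d
  obtain ⟨k, hk, e⟩ := (Nat.dvd_prime_pow Nat.prime_two (m := 2)).1 ⟨_, d.symm⟩
  interval_cases k
  · obtain ⟨a, ha, k⟩ := h.out (h.le.lp ha n)
    exact (k ((hK ⟨a, ha⟩).2 (index_eq_one.1 e ▸ mem_top _))).elim
  · refine .inr (.inl ⟨e, (h.toFT (fun a ha b hb na nb => (hK ⟨_, mul_mem ha hb⟩).2 ?_) ⟨g, ha, n⟩).iso24⟩)
    exact (mul_mem_iff_of_index_two e (a := ⟨a, ha⟩) (b := ⟨b, hb⟩)).2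
      (iff_of_false (mt (hK _).2 na) (mt (hK _).2 nb))
  · refine .inr (.inr ⟨e, fun y => ?_, h.iso24 ⟨g, ha, n⟩ fun m hm => ?_⟩)
    · obtain ⟨y, rfl⟩ := QuotientGroup.mk_surjective y
      rw [sq, ← QuotientGroup.mk_mul, QuotientGroup.eq_one_iff, ← hK]; exact h.sq_rho y.2
    · obtain ⟨a, e⟩ := relIndex_eq_one.1 (by rw [e] at d; omega : h.hom.range.relIndex WT = 1) hm
      exact ⟨a, a.2, e⟩

end Cfsg.Agent.S3234
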