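import Cfsg.Agent.H16.D.HN
import Cfsg.Statements.S2056
-- import your own Cfsg.Agent.* helpers here

set_option autoImplicit false
open Cfsg

namespace Cfsg.Agent.S2056

/-- The Schur multiplier of the Harada–Norton group (the finitely presented group of the definitions) is trivial; here the Schur multiplier is described through stem extensions, as in the definitions: surjective homomorphisms onto the group from a finite group, whose kernel is central in that finite group and contained in that finite group's commutator subgroup. -/
theorem result : Cfsg.HasCyclicSchurMultiplier Cfsg.Spor.HN 1 := by
  have := (H16.HNc.bound.le H16.DHN.rels).1
  exact H23.schur_congr_left (H16.schur_one H16.DHN.ker_le) H16.DHN.equiv.symm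

end Cfsg.Agent.S2056
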