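import Cfsg.Statements.S4398
import Cfsg.Agent.H24.SecTwo

set_option autoImplicit false
open Cfsg

namespace Cfsg.Agent.S4398

open Subgroup
open scoped commutatorElement

/-- Let S be a finite 2-group of sectional 2-rank at most 2 that contains a subgroup isomorphic to the dihedral group of order 8 or to the quaternion group of order 8. Then S is dihedral of order at least 8, semidihedral of order at least 16 (order 2^(k+4) with an element a of order 2^(k+3) and an involution b with b a b⁻¹ = a^(2^(k+2)−1)), or generalized quaternion of order at least 8. -/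
theorem result {S : Type*} [Group S] [Finite S] (h2 : IsPGroup 2 S) (hr : Cfsg.SectionalPRankLE 2 2 S)
    (hsub : ∃ H : Subgroup S, Nonempty (↥H ≃* DihedralGroup 4) ∨ Nonempty (↥H ≃* QuaternionGroup 2)) :
    ((∃ k : ℕ, Nonempty (S ≃* DihedralGroup (2 ^ (k + 2)))) ∨
      (∃ k : ℕ, Nat.card S = 2 ^ (k + 4) ∧ ∃ a b : S, orderOf a = 2 ^ (k + 3) ∧ orderOf b = 2 ∧ b * a * b⁻¹ = a ^ (2 ^ (k + 2) - 1)) ∨
      (∃ k : ℕ, Nonempty (S ≃* QuaternionGroup (2 ^ (k + 1))))) := by
  obtain ⟨a, s, _, h1⟩ := H24.IsMetacyclic.exists_pair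
    (H24.meta_of_rank S h2 fun _ _ => H24.rank_of_sectional hr)
  obtain ⟨m, hm⟩ := IsPGroup.iff_orderOf.1 h2 a
  have h3 : zpowers (s : S ⧸ zpowers a) = ⊤ := by
    have := congrArg (map (QuotientGroup.mk' (zpowers a))) h1
    rwa [Subgroup.map_sup, H1.map_mk'_eq_bot_iff.2 le_rfl, bot_sup_eq, MonoidHom.map_zpowers,
      map_top_of_surjective _ (QuotientGroup.mk'_surjective _)] at this
  suffices ∃ v ∈ zpowers a, ∃ w, w ^ 2 ∈ zpowers a ∧ v ^ 4 = 1 ∧ w * v ≠ v * w by
    obtain ⟨v, a1, w, a2, a3, a4⟩ := this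
    haveI := H4.normal_of_le_cyclic inferInstance (zpowers_le.2 a1)
    haveI := H4.normal_zpowers_pow (a := v) 2
    have b1 : zpowers a ≤ centralizer {v} := fun x hx => mem_centralizer_singleton_iff.2
      (H4.isMulCommutative_iff.1 inferInstance x hx v a1)
    have b2 : Commute s (v ^ 2) := by
      have := H24.commutator_mem_zpowers_pow h2 (a := v ^ 2) s
      rw [← pow_mul, a3, zpowers_one_eq_bot, mem_bot] at this
      exact (commutatorElement_eq_one_iff_commute.1 this).symm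
    have b3 : s ^ 2 ∈ centralizer {v} := by
      obtain ⟨i, hi⟩ := mem_zpowers_iff.1 (H24.commutator_mem_zpowers_pow h2 (a := v) s)
      refine mem_centralizer_singleton_iff.2 (commutatorElement_eq_one_iff_commute.1 ?_).symm.eq
      rw [H4.commutator_pow_right (hi ▸ b2.zpow_right i), ← hi, ← zpow_natCast, ← zpow_mul, mul_comm,
        zpow_mul, zpow_natCast, ← pow_mul, a3, one_zpow]
    obtain ⟨n, hn⟩ := IsPGroup.iff_orderOf.1 (h2.to_quotient (zpowers a)) s
    have b4 := H4.zpowers_eq_of_notMem (x := (w : S ⧸ zpowers a)) hn (h3 ▸ mem_top _) fun e =>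
      a4 (mem_centralizer_singleton_iff.1
      (sup_le (zpowers_le.2 b3) b1 (by rw [← H1.comap_map_mk', MonoidHom.map_zpowers]; exact e)))
    refine H24.maxclass_cases hm ?_ ⟨w, v, a4⟩ fun c => ⟨w, fun e => a4 ?_⟩
    · rw [index, ← card_top, ← h3, ← b4, Nat.card_zpowers]
      exact orderOf_eq_prime ((QuotientGroup.eq_one_iff (w ^ 2)).2 a2) fun e =>
        a4 (mem_centralizer_singleton_iff.1 (b1 ((QuotientGroup.eq_one_iff w).1 e)))
    · obtain ⟨i, rfl⟩ := mem_zpowers_iff.1 (by_contra fun f => by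
        have := congrArg (fun K : Subgroup S => Nat.card K) (H4.zpowers_eq_of_notMem hm a1 f)
        simp only [Nat.card_zpowers, hm] at this
        exact absurd ((pow_dvd_pow 2 c).trans (this ▸ orderOf_dvd_of_pow_eq_one a3)) (by decide) :
          v ∈ zpowers (a ^ 2))
      exact (Commute.zpow_right e i).eq
  obtain ⟨x, y, e1, e2, e3⟩ : ∃ x y : S, orderOf x = 4 ∧ (y ^ 2 = 1 ∨ y ^ 2 = x ^ 2) ∧
      y * x * y⁻¹ = x⁻¹ := by
    obtain ⟨H, ⟨⟨e⟩⟩ | ⟨⟨e⟩⟩⟩ := hsub
    · obtain ⟨x, y, a, b, c, -⟩ := H4.exists_gens_of_dihedral e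
      exact ⟨x, y, by simpa using a, Or.inl (congrArg Subtype.val b), congrArg Subtype.val c⟩
    · obtain ⟨x, y, a, b, c, -⟩ := H4.exists_gens_of_quaternion e
      exact ⟨x, y, by simpa using a, Or.inr (congrArg Subtype.val b), congrArg Subtype.val c⟩
  have c0 : x ^ 4 = 1 := e1 ▸ pow_orderOf_eq_one x
  have c1 : x ^ 2 ∈ zpowers a := by
    have := H4.commutator_le_of_pair h1 (commutator_le_left (zpowers a) ⊤ (commutator_mem_commutator
      (mem_zpowers a) (mem_top s))) (commutator_mem_commutator (mem_top x) (mem_top y))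
    rwa [commutatorElement_def, mul_assoc, mul_assoc, ← mul_assoc y, ← inv_inv (y * x⁻¹ * y⁻¹),
      show (y * x⁻¹ * y⁻¹)⁻¹ = y * x * y⁻¹ by group, e3, inv_inv, ← sq] at this
  have c2 : y ^ 2 ∈ zpowers a := e2.elim (· ▸ one_mem _) (· ▸ c1)
  have c3 : y ^ 4 = 1 := by
    rw [show 4 = 2 * 2 from rfl, pow_mul]; rcases e2 with e | e <;> simp [e, ← pow_mul, c0]
  have c4 : y * x ≠ x * y := fun e => absurd (e1 ▸ orderOf_dvd_of_pow_eq_one (show x ^ 2 = 1 by
    rw [e, mul_inv_cancel_right] at e3; rw [sq, ← eq_inv_iff_mul_eq_one, ← e3])) (by decide)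
  have c5 : (x * y) ^ 2 = y ^ 2 := by
    rw [sq, mul_assoc, ← mul_assoc y, mul_inv_eq_iff_eq_mul.1 e3]; simp [sq, mul_assoc]
  by_contra! hc
  exact H4.not_isCyclic_of_two_involutions (x := (x : S ⧸ zpowers a)) (y := y) (h3 ▸ mem_top _)
    (h3 ▸ mem_top _) (fun e => c4 (hc x ((QuotientGroup.eq_one_iff x).1 e) y c2 c0))
    (fun e => c4 (hc y ((QuotientGroup.eq_one_iff y).1 e) x c1 c3).symm)
    (fun e => c4 (mul_left_cancel (a := x) ((mul_assoc _ _ _).symm.trans (hc (x * y)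
      ((QuotientGroup.eq_one_iff _).1 (by
        rw [QuotientGroup.mk_mul, e, ← sq]; exact (QuotientGroup.eq_one_iff (y ^ 2)).2 c2)) x c1
      (by rw [show 4 = 2 * 2 from rfl, pow_mul, c5, ← pow_mul, c3])).symm)))
    ((QuotientGroup.eq_one_iff (x ^ 2)).2 c1) ((QuotientGroup.eq_one_iff (y ^ 2)).2 c2)
    (inferInstanceAs (IsCyclic (zpowers (s : S ⧸ zpowers a))))

end Cfsg.Agent.S4398
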