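import Cfsg.Statements.S2920
import Cfsg.Agent.H14.P8A
-- import your own Cfsg.Agent.* helpers here

set_option autoImplicit false
open Cfsg

namespace Cfsg.Agent.S2920

/-- Let G be a finite group of even order with parabolic characteristic 2 and H a subgroup of odd index such that F*(H) ≅ PΩ₈⁺(2) and H = N_G(F*(H)). Then F*(G) is isomorphic to PΩ₈⁺(2) or to PΩ₈⁺(3). -/
theorem result {G : Type*} [Group G] [Finite G] (h2 : 2 ∣ Nat.card G) (hG : Cfsg.IsOfParabolicCharacteristic 2 G) (H : Subgroup G) (hidx : ¬ 2 ∣ H.index) (hF : (∃ (F : Type) (_ : Field F) (_ : Fintype F), Fintype.card F = 2 ∧ Nonempty (↥(Cfsg.generalizedFittingSubgroup ↥H) ≃* Cfsg.POmega F (Cfsg.quadFormPlus 4 F)))) (hN : Subgroup.normalizer (((Cfsg.generalizedFittingSubgroup ↥H).map H.subtype : Subgroup G) : Set G) = H) : (∃ (F : Type) (_ : Field F) (_ : Fintype F), Fintype.card F = 2 ∧ Nonempty (↥(Cfsg.generalizedFittingSubgroup G) ≃* Cfsg.POmega F (Cfsg.quadFormPlus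 4 F))) ∨ (∃ (F : Type) (_ : Field F) (_ : Fintype F), Fintype.card F = 3 ∧ Nonempty (↥(Cfsg.generalizedFittingSubgroup G) ≃* Cfsg.POmega F (Cfsg.quadFormPlus 4 F))) := by
  obtain ⟨F, _, _, hc, ⟨e⟩⟩ := hF
  have : IsSimpleGroup (commutator (isometryGroup (ZMod 2) (quadFormPlus 4 (ZMod 2)))) := H15.XW8p.simple
  obtain ⟨_, g, M, -⟩ := H15.XW8p.md
  have := M.fin
  obtain ⟨_, _, _, _, _, _, _, h⟩ := H14.P8.model M
  have f := H15.XW8p.pom.some.symm.trans (H11.pomegaCongr (H11.isometryCongr (Equiv.refl _)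
    (H11.nonempty_ringEquiv_zmod 2 hc).some.symm _ (Cfsg.quadFormPlus 4 F) (by simp [Cfsg.quadFormPlus])))
  exact (H14.P8.main h M.card hG hidx (f.trans e.symm)).imp (fun ⟨k⟩ => ⟨F, _, _, hc, ⟨k.symm.trans f⟩⟩)
    fun k => ⟨ZMod 3, inferInstance, inferInstance, ZMod.card 3, k⟩

end Cfsg.Agent.S2920
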