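import Cfsg.Statements.S3134
import Cfsg.Agent.H1.GT1
import Cfsg.Agent.H1.GT4
import Cfsg.Agent.H6.GT4
import Cfsg.Agent.H6.GT5
import Cfsg.Agent.H6.GT6
import Cfsg.Agent.H16.GT3
import Cfsg.Agent.H16.L.G23
import Cfsg.Agent.H25.GT1
import Cfsg.Agent.H25.GT2
import Cfsg.Agent.H25.GT3
import Cfsg.Agent.H25.GT4
import Cfsg.Agent.H25.GT5
import Cfsg.Agent.H25.GT6

set_option autoImplicit false
open Cfsg

namespace Cfsg.Agent.S3134

/-- Let G be a finite group with a standard subgroup L such that L modulo its centre is isomorphic to the Chevalley group of type G₂ over the field with 3 elements, and such that the centralizer of L in G has cyclic Sylow 2-subgroups. If L·O(G) is not normal in G (O(G) the largest normal odd-order subgroup), then one of the following holds: the layer E(G) is isomorphic to the Chevalley group of type G₂ over the field with 9 elements; E(G) modulo its centre is isomorphic to the direct product of two copies of the type-G₂ group over the field with 3 elements; or L·C_G(L)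 has index 2 in N_G(L) (the full automorphism group of L/Z(L) is induced) and for every involution z of L the centralizer C_G(z) has a quasisimple subgroup K containing z, with O₂(K) cyclic of order 4, with K modulo its largest normal odd-order subgroup isomorphic to the special unitary group of dimension 4 with parameter 3 (realised over the field with 9 elements), and with K commuting elementwise with the largest normal odd-order subgroup of C_G(z). -/
theorem result {G : Type*} [Group G] [Finite G] (L : Subgroup G) (hL : Cfsg.IsStandardSubgroup L)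
    {F : Type*} [Field F] [Fintype F] (hF : Fintype.card F = 3) (hLX : Nonempty ((↥L ⧸ Subgroup.center ↥L) ≃* ↥(Cfsg.Lie.chevG2.group F)))
    (hR : ∀ R : Sylow 2 ↥(Subgroup.centralizer (L : Set G)), IsCyclic ↥(R : Subgroup ↥(Subgroup.centralizer (L : Set G))))
    (hn : ¬ (L ⊔ Cfsg.oddCore G).Normal) :
    (∃ (K : Type) (_ : Field K) (_ : Fintype K), Fintype.card K = 9 ∧ Nonempty (↥(Cfsg.layer G) ≃* ↥(Cfsg.Lie.chevG2.group K))) ∨
      Nonempty ((↥(Cfsg.layer G) ⧸ Subgroup.center ↥(Cfsg.layer G)) ≃* ↥(Cfsg.Lie.chevG2.group F) × ↥(Cfsg.Lie.chevG2.group F)) ∨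
      ((L ⊔ Subgroup.centralizer (L : Set G)).relIndex (Subgroup.normalizer (L : Set G)) = 2 ∧
        ∀ z : G, z ∈ L → orderOf z = 2 → ∃ K : Subgroup G, K ≤ Subgroup.centralizer ({z} : Set G) ∧ Cfsg.IsQuasisimple ↥K ∧ z ∈ K ∧
          IsCyclic ↥(Cfsg.pCore 2 ↥K) ∧ Nat.card ↥(Cfsg.pCore 2 ↥K) = 4 ∧
          (∃ (E : Type) (_ : Field E) (_ : Fintype E), Fintype.card E = 9 ∧ Nonempty ((↥K ⧸ Cfsg.oddCore ↥K) ≃* ↥(Cfsg.SU 4 E 3))) ∧
          ⁅K, Cfsg.centralizerPPrimeCore 2 z⁆ = ⊥) := by
  haveI : Fact (Nat.Prime 3) := ⟨Nat.prime_three⟩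
  obtain ⟨c⟩ := H16.LG23.congr (FiniteField.ringEquivOfCardEq (K := F) (K' := ZMod 3) (hF.trans (ZMod.card 3).symm))
  obtain ⟨e⟩ := hLX
  rcases H1.GT.wr H16.GT.lm H25.GT.lt H25.GT.ra (H6.GT.mt_of H16.GT.lm H6.GT.tw2 H25.GT.sv H6.GT.id2 H25.GT.wa H25.GT.wb
    H25.GT.wc H1.GT.we) L hL ⟨e.trans c⟩ hR hn with h | ⟨⟨d⟩⟩
  · exact .inl h
  · exact .inr (.inl ⟨d.trans (MulEquiv.prodCongr c.symm c.symm)⟩)

end Cfsg.Agent.S3134
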