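import Cfsg.Statements.S3129
import Cfsg.Agent.H26.SP6
import Cfsg.Agent.H26.SP10
import Cfsg.Agent.H26.SP12
import Cfsg.Agent.H1.SP1
import Cfsg.Agent.H25.SP1
import Cfsg.Agent.H25.SP2
import Cfsg.Agent.H25.SP3
import Cfsg.Agent.H25.SP4
import Cfsg.Agent.H25.SP5
import Cfsg.Agent.H23.SP2
import Cfsg.Agent.H23.SP3
import Cfsg.Agent.H23.SP5
import Cfsg.Agent.H23.SP6
import Cfsg.Agent.H23.SP7
import Cfsg.Agent.H23.SP8
import Cfsg.Agent.H23.SP9
import Cfsg.Agent.H19.GE1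
import Cfsg.Agent.H8.SP4
import Cfsg.Agent.H8.SP6
import Cfsg.Agent.H3.SP1
import Cfsg.Agent.H3.SP2
import Cfsg.Agent.H3.SP8
import Cfsg.Agent.H24.RO3
import Cfsg.Agent.H24.LC3
import Cfsg.Agent.H9.SP1
import Cfsg.Agent.H9.SP3
import Cfsg.Agent.H4.OM3
import Cfsg.Agent.H8.UC4
import Cfsg.Agent.H1.SP4

set_option autoImplicit false
open Cfsg

namespace Cfsg.Agent.S3129

/-- Let G be a finite group whose generalized Fitting subgroup F*(G) is a non-abelian simple group and in which every section has the B-property, and let L be a standard subgroup of G whose centralizer has cyclic Sylow 2-subgroups. Suppose L modulo its largest normal odd-order subgroup is isomorphic to the projective symplectic group of dimension m = 2k ≥ 6 over the field with q = 2^n elements, with (m, q) ≠ (6, 2). Then F*(G) is isomorphic to one of: the projective special linear group of dimension m or m + 1 over the field with q elements; the projective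 special unitary group of dimension m or m + 1 with parameter q (realised over the field with q² elements); the simple orthogonal group PΩ⁺ or PΩ⁻ of dimension m + 2 over the field with q elements; or the projective symplectic group of dimension m over the field with q² elements. -/
theorem result {G : Type*} [Group G] [Finite G]
    (hF : IsSimpleGroup ↥(Cfsg.generalizedFittingSubgroup G)) (hF' : ¬ IsMulCommutative ↥(Cfsg.generalizedFittingSubgroup G))
    (hB : Cfsg.HasStrongBProperty G) (L : Subgroup G) (hL : Cfsg.IsStandardSubgroup L)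
    (hR : ∀ R : Sylow 2 ↥(Subgroup.centralizer (L : Set G)), IsCyclic ↥(R : Subgroup ↥(Subgroup.centralizer (L : Set G))))
    (k n : ℕ) (hk : 3 ≤ k) (hn : 1 ≤ n) (hex : ¬ (k = 3 ∧ n = 1))
    {F : Type*} [Field F] [Fintype F] (hFq : Fintype.card F = 2 ^ n)
    (hLX : Nonempty ((↥L ⧸ Cfsg.oddCore ↥L) ≃* Cfsg.PSp k F)) :
    Nonempty (↥(Cfsg.generalizedFittingSubgroup G) ≃* Matrix.ProjectiveSpecialLinearGroup (Fin (2 * k)) F) ∨
      Nonempty (↥(Cfsg.generalizedFittingSubgroup G) ≃* Matrix.ProjectiveSpecialLinearGroup (Fin (2 * k + 1)) F) ∨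
      (∃ (K : Type) (_ : Field K) (_ : Fintype K), Fintype.card K = (2 ^ n) ^ 2 ∧
        (Nonempty (↥(Cfsg.generalizedFittingSubgroup G) ≃* Cfsg.PSU (2 * k) K (2 ^ n)) ∨ Nonempty (↥(Cfsg.generalizedFittingSubgroup G) ≃* Cfsg.PSU (2 * k + 1) K (2 ^ n)) ∨
          Nonempty (↥(Cfsg.generalizedFittingSubgroup G) ≃* Cfsg.PSp k K))) ∨
      Nonempty (↥(Cfsg.generalizedFittingSubgroup G) ≃* Cfsg.POmega F (Cfsg.quadFormPlus (k + 1) F)) ∨
      (∃ a b : F, (∀ z₁ z₂ : F, z₁ ^ 2 + a * z₁ * z₂ + b * z₂ ^ 2 = 0 → z₁ = 0 ∧ z₂ = 0) ∧ Nonempty (↥(Cfsg.generalizedFittingSubgroup G) ≃* Cfsg.POmega F (Cfsg.quadFormMinus k F a b))) := by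
  exact H26.SP.Steps.red ⟨H1.SP.au, H1.SP.ps, H1.SP.pm, H1.SP.br, H25.SP.rl0, H25.SP.rl1, H8.SP.ru0, H8.SP.ru1, H1.SP.sc, H1.SP.fc,
    H24.SP.ro, H19.GE.ge, H3.SP.el, H3.SP.uql, H8.SP.lcl, H3.SP.uqu, H8.SP.lcu, H3.SQ.uqs, H24.SP.lcs, H3.SQ.ep, H23.SP.tr, H23.SP.uqo,
    H23.SP.oc, H25.SO.ko, H25.SO.mo, H23.SP.eo, H4.OM.au, H23.SP.rk, H23.SP.aa', H23.SP.ns, H23.SP.tv1, H23.SP.tv2, H23.SP.int,
    H23.SP.fs1, H23.SP.fus, H23.SP.ne1, H23.SP.ne2, H26.SP.cu (H23.SP.aa' H23.SP.rk), H26.SP.ne3,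
    H26.SP.n1 (H23.SP.aa' H23.SP.rk), H26.SP.tw1 (H23.SP.aa' H23.SP.rk), H26.SP.tw2, H9.SP.pt1,
    H25.ST.pt2, H9.SP.pc, H25.ST.pd, H26.SP.pe⟩ hF hF' L hL hR k n hk hn hex hFq hLX

end Cfsg.Agent.S3129
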