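import Cfsg.Statements.S1773
import Cfsg.Agent.H19.LS5
import Cfsg.Agent.H19.LS7
import Cfsg.Agent.H23.LU1
import Cfsg.Agent.H23.LU2
import Cfsg.Agent.H9.LV0
import Cfsg.Agent.H9.LV1
import Cfsg.Agent.H9.LV2
import Cfsg.Agent.H9.LV4
import Cfsg.Agent.H29.LX2
import Cfsg.Agent.H29.LT6
import Cfsg.Agent.H9.LV5
import Cfsg.Agent.H29.LZ4

set_option autoImplicit false
open Cfsg

namespace Cfsg.Agent.S1773

/-- Let G be a finite group with no nontrivial normal subgroup of odd order in which every section has the B-property; let A be a standard subgroup of G which is not normal in G, whose centralizer has cyclic Sylow 2-subgroups, and let t be an involution centralizing A. Suppose A modulo its centre is isomorphic to the projective special linear group of dimension 2 over the field F with 2^a elements (a ≥ 2). Then either the layer E(G) is isomorphic to A × A, or E(G) is a group of Lie type in characteristic 2 (here including the Tits group) on which t induces an outer automorphism (no element of E(G)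 induces the same conjugation action on E(G) as t); or a = 2 and E(G) is isomorphic to the Mathieu group of degree 12, the alternating group of degree 9 or 7, the first or second Janko group, the projective special linear group of dimension 2 over the field with 25 elements, the projective special linear group of dimension 3 over the field with 5 elements, the projective special unitary group of dimension 3 over the field with 25 elements, or the Chevalley group of type G₂ or the triality-twisted group of type D₄ with parameter 5; or A is isomorphic to the projective special linear group of dimension 2 over the field with 8 elements and E(G) to the Chevalley group of type G₂ over the field with 3 elements. -/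
theorem result {G : Type*} [Group G] [Finite G] (hO : Cfsg.oddCore G = ⊥) (hB : Cfsg.HasStrongBProperty G)
    (A : Subgroup G) (hA : Cfsg.IsStandardSubgroup A) (hnA : ¬ A.Normal)
    (hR : ∀ R : Sylow 2 ↥(Subgroup.centralizer (A : Set G)), IsCyclic ↥(R : Subgroup ↥(Subgroup.centralizer (A : Set G))))
    (t : G) (ht : orderOf t = 2) (htA : t ∈ Subgroup.centralizer (A : Set G))
    {F : Type*} [Field F] [Fintype F] (a : ℕ) (ha : 2 ≤ a) (hF : Fintype.card F = 2 ^ a)
    (hAX : Nonempty (↥A ⧸ Subgroup.center ↥A ≃* Matrix.ProjectiveSpecialLinearGroup (Fin 2) F)) :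
    Nonempty (↥(Cfsg.layer G) ≃* ↥A × ↥A) ∨ ((Cfsg.IsLieTypeChar 2 ↥(Cfsg.layer G) ∨ Cfsg.Lie.IsoTits ↥(Cfsg.layer G)) ∧ ¬ (∃ e : G, e ∈ Cfsg.layer G ∧ ∀ x ∈ Cfsg.layer G, t * x * t⁻¹ = e * x * e⁻¹)) ∨
      (a = 2 ∧ (Cfsg.Spor.IsoM12 ↥(Cfsg.layer G) ∨ Nonempty (↥(Cfsg.layer G) ≃* ↥(alternatingGroup (Fin 9))) ∨ Cfsg.Spor.IsoJ1 ↥(Cfsg.layer G) ∨
        Cfsg.Spor.IsoJ2 ↥(Cfsg.layer G) ∨ Nonempty (↥(Cfsg.layer G) ≃* ↥(alternatingGroup (Fin 7))) ∨
        (∃ (E : Type) (_ : Field E) (_ : Fintype E), Fintype.card E = 25 ∧ (Nonempty (↥(Cfsg.layer G) ≃* Matrix.ProjectiveSpecialLinearGroup (Fin 2) E) ∨ Nonempty (↥(Cfsg.layer G) ≃* Cfsg.PSU 3 E 5))) ∨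
        (∃ (E : Type) (_ : Field E) (_ : Fintype E), Fintype.card E = 5 ∧ (Nonempty (↥(Cfsg.layer G) ≃* Matrix.ProjectiveSpecialLinearGroup (Fin 3) E) ∨ Nonempty (↥(Cfsg.layer G) ≃* ↥(Cfsg.Lie.chevG2.group E)))) ∨
        (∃ (K : Type) (_ : Field K) (_ : Fintype K), Fintype.card K = 125 ∧ Nonempty (↥(Cfsg.layer G) ≃* ↥(Cfsg.Lie.twistedD4 K 5))))) ∨
      (Nonempty (↥A ≃* Matrix.ProjectiveSpecialLinearGroup (Fin 2) F) ∧ Fintype.card F = 8 ∧
        ∃ (E : Type) (_ : Field E) (_ : Fintype E), Fintype.card E = 3 ∧ Nonempty (↥(Cfsg.layer G) ≃* ↥(Cfsg.Lie.chevG2.group E))) := by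
  obtain ⟨ι⟩ := hAX
  refine (H19.L2.Main.fin (fun o => H19.L2.St.main H23.LU.x0 H19.L2.r2 H9.LV.pq H29.LT.mx H29.LT.cl H23.LU.gp
    H9.LV.xe H9.LV.xz H9.LV.b0 H29.LZ.b1 H9.LV.b2 o) hO hB hA hnA hR ht htA ha hF ι).imp_right (Or.imp (And.imp_left .inl) (Or.imp_right ?_))
  exact fun ⟨z, k⟩ => ⟨⟨(QuotientGroup.quotientBot.symm.trans (QuotientGroup.quotientMulEquivOfEq z.symm)).trans ι⟩, k⟩

end Cfsg.Agent.S1773
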