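import Cfsg.Statements.S0204
import Cfsg.Agent.H7.Iso
import Cfsg.Agent.H20.FT
import Cfsg.Agent.H24.ClassSize

set_option autoImplicit false
open Cfsg

open H5 H7 H8 H28

namespace Cfsg.Agent.S0204

/-- A non-cyclic finite simple group contains a subgroup which is a Klein four-group; this combines the Odd Order Theorem, Burnside's transfer argument for cyclic Sylow 2-subgroups and the Brauer–Suzuki Theorem. -/
theorem result {G : Type*} [Group G] [Finite G] [IsSimpleGroup G] (hG : ¬ IsCyclic G) : ∃ E : Subgroup G, IsKleinFour E := by
  by_contra hE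
  have hc : ¬ IsMulCommutative G := fun h => by
    letI : CommGroup G := { (inferInstance : Group G) with mul_comm := h.is_comm.comm }
    exact hG inferInstance
  obtain ⟨t, ht⟩ := exists_prime_orderOf_dvd_card' (G := G) 2
    (even_iff_two_dvd.1 (H20.even_card_of_simple G hc))
  refine hc (not_simple_of_isolated_two (x := t) ⟨1, by rw [pow_one, ht]⟩
    (fun h => by rw [h, orderOf_one] at ht; omega) fun g hg => ?_)
  by_contra hne
  exact hE ⟨_, H4.isKleinFour_sup ht ((H24.orderOf_conj g t).trans ht) (Ne.symm hne) hg⟩

end Cfsg.Agent.S0204
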