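import Cfsg.Statements.S2378
import Cfsg.Agent.H14.SylT
import Cfsg.Agent.S1059
import Cfsg.Agent.S1060
import Cfsg.Agent.S1061
import Cfsg.Agent.S1062
import Cfsg.Agent.S1063
import Cfsg.Agent.S1064
import Cfsg.Agent.S1065

set_option autoImplicit false
open Cfsg

namespace Cfsg.Agent.S2378

/-- Sylow subgroups for primes away from the characteristic and the Weyl group. Let `G` be the Chevalley group of type G₂, B₂, D₄, F₄, E₆, E₇ or E₈ over a field with `q` elements, with the degrees of its Weyl group listed beside the type (their product is the order of the Weyl group), and let `r` be a prime dividing the order of `G`, not dividing `q` and not dividing the order of the Weyl group. Let `d` be the multiplicative order of `q` modulo `r`, `a` the number of degrees divisible by `d`, and `m` the `r`-part of the value at `q` of the `d`-th cyclotomic polynomial. Then every Sylow `r`-subgroup of `G` is homocyclic: a direct product of `a` cyclic groups of order `m` (in particular abelian). -/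
theorem result {F : Type*} [Field F] [Fintype F] {q : ℕ} (hq : Fintype.card F = q)
    (c : Cfsg.Lie.ChevalleyDatum × List ℕ)
    (hc : c ∈ [(Cfsg.Lie.chevG2, [2, 6]), (Cfsg.Lie.chevB2, [2, 4]), (Cfsg.Lie.chevD4, [2, 4, 4, 6]), (Cfsg.Lie.chevF4, [2, 6, 8, 12]),
      (Cfsg.Lie.chevE6, [2, 5, 6, 8, 9, 12]), (Cfsg.Lie.chevE7, [2, 6, 8, 10, 12, 14, 18]), (Cfsg.Lie.chevE8, [2, 8, 12, 14, 18, 20, 24, 30])])
    (r : ℕ) [Fact r.Prime] (hrq : ¬ r ∣ q) (hrW : ¬ r ∣ c.2.prod) (hrG : r ∣ Nat.card ↥(c.1.group F)) (P : Sylow r ↥(c.1.group F)) :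
    Nonempty (↥(P : Subgroup ↥(c.1.group F)) ≃*
      (Fin (c.2.filter (fun e => orderOf (q : ZMod r) ∣ e)).length →
        Multiplicative (ZMod (r ^ padicValNat r ((Polynomial.cyclotomic (orderOf (q : ZMod r)) ℤ).eval (q : ℤ)).natAbs)))) := by
  simp only [List.mem_cons, List.not_mem_nil, or_false] at hc
  rcases hc with rfl | rfl | rfl | rfl | rfl | rfl | rfl
  · exact H14.goodG2.sylow F hq (e := 1) (z := 1) (N := 6) (fun c h => by simpa using H14.kerG2 c h) (by decide) (by decide)
      (by simp [S1059.result hq, mul_assoc]) H14.sylOkG2 r hrq hrW P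
  · exact H14.goodB2.sylow F hq (N := 4) H14.kerB2 (by decide) ((Nat.gcd_dvd_left 2 (q - 1)).trans (by decide))
      (by simp [S1060.result hq, mul_assoc]) H14.sylOkB2 r hrq hrW P
  · exact H14.goodD4.sylow F hq (N := 12) H14.kerD4 (by decide)
      ((pow_dvd_pow_of_dvd (Nat.gcd_dvd_left 2 (q - 1)) 2).trans (by decide))
      (by simp [S1061.result hq, mul_assoc]) H14.sylOkD4 r hrq hrW P
  · exact H14.goodF4.sylow F hq (e := 1) (z := 1) (N := 24) (fun c h => by simpa using H14.kerF4 c h) (by decide) (by decide)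
      (by simp [S1062.result hq, mul_assoc]) H14.sylOkF4 r hrq hrW P
  · exact H14.goodE6.sylow F hq (N := 36) H14.kerE6 (by decide) ((Nat.gcd_dvd_left 3 (q - 1)).trans (by decide))
      (by simp [S1063.result hq, mul_assoc]) H14.sylOkE6 r hrq hrW P
  · exact H14.goodE7.sylow F hq (N := 63) H14.kerE7 (by decide) ((Nat.gcd_dvd_left 2 (q - 1)).trans (by decide))
      (by simp [S1064.result hq, mul_assoc]) H14.sylOkE7 r hrq hrW P
  · exact H14.goodE8.sylow F hq (e := 1) (z := 1) (N := 120) (fun c h => by simpa using H14.kerE8 c h) (by decide) (by decide)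
      (by simp [S1065.result hq, mul_assoc]) H14.sylOkE8 r hrq hrW P

end Cfsg.Agent.S2378
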