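import Cfsg.Statements.S3332
import Cfsg.Agent.H1.SF12

set_option autoImplicit false
open Cfsg

namespace Cfsg.Agent.S3332

/-- Let G be a finite group of 2-rank at least 4 with O_{2'}(G) = 1 whose Sylow 2-subgroup S has a normal abelian subgroup of rank at least 3 that is its own centralizer in S. If the centralizer of every involution of G is solvable, then O_{2'}(C_G(t)) = 1 for every involution t of G. -/
theorem result {G : Type*} [Group G] [Finite G]
    (hrank : ¬ Cfsg.PRankLE 2 3 G) (hO : Cfsg.oddCore G = ⊥) (S : Sylow 2 G)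
    (A : Subgroup G) (hAS : A ≤ S) (hAn : (A.subgroupOf S).Normal) (hAc : IsMulCommutative A)
    (hAself : (S : Subgroup G) ⊓ Subgroup.centralizer (A : Set G) = A) (hA3 : ¬ Cfsg.PRankLE 2 2 A)
    (hsol : ∀ t : G, orderOf t = 2 → Group.IsSolvable (Subgroup.centralizer ({t} : Set G))) :
    ∀ t : G, orderOf t = 2 → Cfsg.oddCore (Subgroup.centralizer ({t} : Set G)) = ⊥ := by
    open H19 in
    intro t ht
    have hA3' : ¬ Cfsg.PRankLE 2 2 (A.subgroupOf S) := fun h =>
      hA3 ((prankLE_congr (Subgroup.subgroupOfEquivOfLe hAS)).1 h)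
    obtain ⟨h1, h2⟩ := H1.fourConn_of_scn S S (A.subgroupOf S) hAn inferInstance hA3'
    have c : H1.CC G := fun t t2 t1 =>
      H1.isPConstrained_of_isSolvable (hsol t (orderOf_of_pow Nat.prime_two t2 t1))
    have h3 : ¬ Cfsg.PRankLE 2 2 G := fun h => h2 (prankLE_of_inj _ (Subgroup.subtype_injective _) h)
    exact (Subgroup.map_eq_bot_iff_of_injective _ (Subgroup.subtype_injective _)).1
      (c.cpp_eq_bot hO (fun t t2 _ => H1.exists_el3_of_conn S h3 h1 t2)
      (ht ▸ pow_orderOf_eq_one t) fun e => by simp [e] at ht)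

end Cfsg.Agent.S3332
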