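import Cfsg.Statements.S0264
import Cfsg.Agent.H11.SL

set_option autoImplicit false
open Cfsg

namespace Cfsg.Agent.S0264

open Matrix.SpecialLinearGroup in
open scoped commutatorElement in
theorem comm_diag {F : Type*} [Field F] {ι : Type*} [Fintype ι] [DecidableEq ι] {i j : ι}
    (hij : i ≠ j) (a : F) (ha : a ≠ 0) (b : F) :
    ∃ d : Matrix.GeneralLinearGroup ι F,
      ⁅d, toGL (transvection hij b)⁆ = toGL (transvection hij ((a - 1) * b)) := by
  let d : Matrix.GeneralLinearGroup ι F :=
    ⟨Matrix.diagonal (Function.update 1 i a), Matrix.diagonal (Function.update 1 i a⁻¹), by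
      rw [Matrix.diagonal_mul_diagonal, ← Matrix.diagonal_one]
      congr 1; ext k; by_cases h : k = i
      · subst h; simp [ha]
      · simp [h], by
      rw [Matrix.diagonal_mul_diagonal, ← Matrix.diagonal_one]
      congr 1; ext k; by_cases h : k = i
      · subst h; simp [ha]
      · simp [h]⟩
  refine ⟨d, ?_⟩
  have key : d * toGL (transvection hij b) * d⁻¹ = toGL (transvection hij (a * b)) := by
    rw [mul_inv_eq_iff_eq_mul]
    apply Units.ext
    simp only [Units.val_mul, coe_GL_coe_matrix, transvection_coe, d]
    ext k l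
    simp only [Matrix.diagonal_mul, Matrix.mul_diagonal, Matrix.add_apply, Matrix.one_apply,
      Matrix.single_apply]
    by_cases hk : k = i
    · subst hk
      by_cases hl : l = k
      · subst hl; simp [hij.symm]
      · by_cases hl' : j = l
        · subst hl'; simp [hij, hij.symm]
        · simp [Ne.symm hl, hl']
    · by_cases hl : k = l
      · subst hl; simp [Ne.symm hk]
      · simp [hl, Ne.symm hk]
  rw [commutatorElement_def, key, ← map_inv, ← map_mul, transvection_inv, ← transvection_add]
  congr 2; ring

/-- GL_n(F)' = SL_n(F) (as the kernel of det), for every field F and every n, except n = 2 over the field of two elements. -/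
theorem result {F : Type*} [Field F] (n : ℕ) (h : n = 2 → ∃ a : F, a ≠ 0 ∧ a ≠ 1) : commutator (Matrix.GeneralLinearGroup (Fin n) F) = (Matrix.GeneralLinearGroup.det : Matrix.GeneralLinearGroup (Fin n) F →* Fˣ).ker := by
  apply le_antisymm (Abelianization.commutator_subset_ker _)
  rw [← H11.range_toGL]
  by_cases h3 : 3 ≤ n
  · rw [MonoidHom.range_eq_map, ← H11.sl_commutator_eq_top (by simpa using h3),
      map_commutator_eq]
    exact Subgroup.commutator_mono le_top le_top
  · rintro _ ⟨g, rfl⟩
    refine H11.sl_transvection_induction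
      (fun g => Matrix.SpecialLinearGroup.toGL g ∈ commutator (Matrix.GeneralLinearGroup (Fin n) F))
      (by simp) ?_ (fun A B hA hB => by simpa using Subgroup.mul_mem _ hA hB) g
    intro i j hij c
    have hn : n = 2 := by
      have := i.2; have := j.2
      have : (i : ℕ) ≠ j := fun h => hij (Fin.ext h)
      omega
    obtain ⟨a, ha0, ha1⟩ := h hn
    obtain ⟨d, hd⟩ := comm_diag hij a ha0 ((a - 1)⁻¹ * c)
    rw [mul_inv_cancel_left₀ (sub_ne_zero.2 ha1)] at hd
    rw [← hd]
    exact Subgroup.commutator_mem_commutator (Subgroup.mem_top _) (Subgroup.mem_top _)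

end Cfsg.Agent.S0264
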