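import Cfsg.Statements.S1603
import Cfsg.Agent.H15.Dod

set_option autoImplicit false
open scoped Pointwise
open Cfsg

namespace Cfsg.Agent.S1603

open H15 Finset
open scoped Pointwise

/-- Involution centralisers in the smallest Mathieu group are isomorphic to GL(2, 3). -/
theorem result (d : Finset Cfsg.GolayPt) (hd : d ∈ Cfsg.dodecads) (p : Cfsg.GolayPt) (hp : p ∈ d) (x : ↥(MulAction.stabilizer Cfsg.M24 d ⊓ MulAction.stabilizer Cfsg.M24 p)) (hx : orderOf x = 2) : Nonempty (↥(Subgroup.centralizer ({x} : Set ↥(MulAction.stabilizer Cfsg.M24 d ⊓ MulAction.stabilizer Cfsg.M24 p))) ≃* GL (Fin 2) (ZMod 3)) := by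
  obtain ⟨e⟩ := stab_iso_M11 hd hp
  have hz : isM 0xbae957b6289ba44b1cd0524ac18820 = true := by decide +kernel
  have h1 : orderOf (e x : Equiv.Perm Cfsg.GolayPt) = 2 := by
    rw [Subgroup.orderOf_coe, e.orderOf_eq, hx]
  have f := centEquiv e x
  generalize (e x : Equiv.Perm Cfsg.GolayPt) = y, (e x).2 = hy at h1 f
  obtain ⟨⟨h2, h3⟩, h4⟩ := mem_M11.1 hy
  have h5 : y ≠ 1 := by rintro rfl; simp at h1
  have h6 : 3 ≤ ((fixS y ∩ S 340831).erase (pt 0)).card := by
    have h6 := dod_fix_le (compl_mem_dodecads D0_mem) h2 (by rw [smul_finset_compl', h3]) h5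
    have h7 := card_inter_add_card_sdiff (fixS y) (S 340831)
    rw [sdiff_eq_inter_compl] at h7
    have h8 := pred_card_le_card_erase (s := fixS y ∩ S 340831) (a := pt 0)
    rcases inv_cases h2 h1 with h | h
    · omega
    · exact absurd h.1 (card_ne_zero.2 ⟨pt 0, by simpa using h4⟩)
  obtain ⟨u, h7, h8⟩ := exists_inj h6
  simp only [mem_erase, mem_inter, mem_filter, mem_univ, true_and] at h8
  obtain ⟨σ, h9, h10, h11⟩ := dod_multi (n := 4) (by norm_num) D0_mem D0_mem
    ![pt 0, pt 1, pt 2, pt 3] (Fin.cons (pt 0) u) (by decide +kernel) (inj_cons h7 fun i => (h8 i).1)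
    (by decide +kernel) (fun i => by
      induction i using Fin.cases with
      | zero => show pt 0 ∈ _; decide +kernel
      | succ i => exact (h8 i).2.2)
  have h12 : σ ∈ Cfsg.Spor.M11 := mem_M11.2 ⟨⟨h9, h10⟩, h11 0⟩
  have h13 : σ⁻¹ * y * σ = P 0xbae957b6289ba44b1cd0524ac18820 := by
    obtain ⟨g, h13, h14⟩ := d_chain4.forall (Q := fun g => bimp (sq1 g) (bor (is1 g) (peq g 0xbae957b6289ba44b1cd0524ac18820)))
      (by decide +kernel) (σ⁻¹ * y * σ) ⟨M11_le_M12 (mul_mem (mul_mem (inv_mem h12) hy) h12),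
        mem_Fx.2 fun p hp => by
          have : ∃ i, p = ![pt 0, pt 1, pt 2, pt 3] i := by revert hp; generalize p = p; revert p; decide +kernel
          obtain ⟨i, rfl⟩ := this
          rw [conj_apply_eq_iff, h11]
          induction i using Fin.cases with
          | zero => exact h4
          | succ i => exact (h8 i).2.1⟩
    rw [bimp_iff, bor_iff, ← sq1_iff h13, ← is1_iff h13, ← h13.eq_iff (isM_rep hz)] at h14
    refine (h14 ?_).resolve_left fun h => h5 (eq_one_of_conj h)
    rw [show σ⁻¹ * y * σ * (σ⁻¹ * y * σ) = σ⁻¹ * y ^ 2 * σ by rw [pow_two]; group, ← h1, pow_orderOf_eq_one]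
    group
  let C := Cfsg.Spor.M11 ⊓ Subgroup.centralizer {P 0xbae957b6289ba44b1cd0524ac18820}
  have hC : ∀ σ, σ ∈ C ↔ σ ∈ Cfsg.Spor.M11 ∧ σ * P 0xbae957b6289ba44b1cd0524ac18820 = P 0xbae957b6289ba44b1cd0524ac18820 * σ := fun σ =>
    and_congr_right' Subgroup.mem_centralizer_singleton_iff
  have g := equivOfConj' (Cfsg.Spor.M11 ⊓ Subgroup.centralizer {y}) C σ fun a => by
    rw [hC, ← h13, Subgroup.mem_inf, Subgroup.mem_centralizer_singleton_iff]
    refine and_congr ⟨fun h => mul_mem (mul_mem (inv_mem h12) h) h12, fun h => ?_⟩ ?_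
    · simpa [mul_assoc] using mul_mem (mul_mem h12 h) (inv_mem h12)
    · simp only [mul_assoc, mul_inv_cancel_left, mul_right_inj]
      simp only [← mul_assoc, mul_left_inj]
  obtain ⟨ψ, hψ⟩ := gl23_hom C 0xbdab49ca307b9ac5a928398a41882075576518ac3dd28a3e449b63018820755f33a2ec51606a2da4b4a29184402d5475b1c6b5c88a4da97ca3010c20bdab49ca307b9ac5a928398a4188202d66fb22e65ba0ca2a493b62410460bd4ea7b1c899486a5a505b62908c40bd6cb998a87b92ca1db054a2408860bdab49ca307b9ac5a928398a41882074d763a4ac544cd7d204aa2f210c20bdab49ca307b9ac5a928398a418820759f3542ec3c5125d124a98ad08c40bdab49ca307b9ac5a928398a4188202bd47b11c65c5929d209aa2ed1882029e6f5c2e6b450d55089ab1d208860baacb7a4a89c4d23d090ab1cd10460bacea991c87c58db5130a98b218440bdab49ca307b9ac5a928398a41882074e955362c396497ad04b42e61046075a953ca2c55db05bcc49a4a808860bdab49ca307b9ac5a928398a41882029e95b36265de5054d89791c808c402be955ca26b39a49a9093c2ec18440bdab49ca307b9ac5a928398a418820bae957b6289ba44b1cd0524ac18820baa959ca287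95a93d990591c610c20bdab49ca307b9ac5a928398a4188202ccea5b1c9b448d7d506a42f218820bdab49ca307b9ac5a928398a4188202a9f3b22e95c6123d586a11cd08860bdab49ca307b9ac5a928398a41882073ecb518a43c5329d50ca42ed10c2072e6f3a2e45460db54cca24b208c40bd9477b1d09c4925d4c8a24ad18440b9d76998b07c52d55588a11d210460bdab49ca307b9ac5a928398a418820bdab49ca307b9ac5a928398a4188202d0eab11c95dd90abe469b62810c202d1f35c2e9b3904a9da654a2c10460752cb3a4a455cd0acdac7ca2818820bdab49ca307b9ac5a928398a4188207526f542e439509ada4c5b62618440bd1767a4b09b8c4aaa483b62c08860bd147991d079589aada8b4a2608c40bdab49ca307b9ac5a928398a4188202ceb4b36295ba4c79e06522e4184402aab45ca29b5da83bc869b1d008c40bdab49ca307b9ac5a928398a41882072eb4536243de48b4d2c798b00886073eb43ca24515a69da0c5a2e910460bdab49ca307b9ac5a928398a418820b9eb47b6309964652c88b31c910c20bdab49ca307b9ac5a928398a418820bdab49ca307b9ac5a928398a4188208cd47a31cda94897da125a2e60886089ecba18adadd3053c929b1c8184408adf3a22edaba04b2932398ac10c208d8eaa31d2adc905cd2d79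8a8104608bd76a18b2ab92499e0d522ec08c408aa6fa22f2a96093ac8db31c618820bdab49ca307b9ac5a928398a418820bdab49ca307b9ac5a928398a418820bdab49ca307b9ac5a928398a4188208cecbaa4ada38cc7a9123c2e408c408ad47a91cda5d88b3cd29a4b01046089df3ac2eda150655992591c9188208a976aa4b2a5cc83cd8d791d0184408bceaa91d2a15869ad0db42e9088608da6fac2f2a390c59ccd524a410c20bdab49ca307b9ac5a928398a418820bdab49ca307b9ac5a928398a418820bdab49ca307b9ac5a928398a418820bdab49ca307b9ac5a928398a418820bdab49ca307b9ac5a928398a418820bdab49ca307b9ac5a928398a418820bdab49ca307b9ac5a928398a418820bdab49ca307b9ac5a928398a418820bdab49ca307b9ac5a928398a418820bdab49ca307b9ac5a928398a418820bdab49ca307b9ac5a928398a418820bdab49ca307b9ac5a928398a418820 is1 (fun a b c d h => by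
      have : ∀ g, isM g = true ∧ act g 340831 = 340831 ∧ fixes g 1 = true ∧ cjq g 0xbae957b6289ba44b1cd0524ac18820 0xbae957b6289ba44b1cd0524ac18820 = true →
        InK C g := fun g h => ⟨_, (hC _).2 ⟨M11_eq ▸ (inK_G ⟨h.1, h.2.1, h.2.2.1⟩).elim
          fun _ k => k.2.P_eq ▸ k.1, (cjq_iff (isM_rep h.1) (isM_rep hz) (isM_rep hz)).2 h.2.2.2⟩,
          isM_rep h.1⟩
      apply this
      revert a b c d; decide +kernel) (by decide +kernel) (by decide +kernel)
  have h14 : Function.Injective ψ := (injective_iff_map_eq_one _).2 fun A hA => by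
    obtain ⟨g, h14, h15⟩ := hψ A
    exact h15 ((is1_iff h14).1 (congrArg Subtype.val hA))
  refine ⟨(f.trans g).trans (MulEquiv.ofBijective ψ (h14.bijective_of_nat_card_le ?_)).symm⟩
  have := d_chain1.card_sub (H := Cfsg.Spor.M12 ⊓ Subgroup.centralizer {P 0xbae957b6289ba44b1cd0524ac18820}) inf_le_left
    (q := fun σ => σ * P 0xbae957b6289ba44b1cd0524ac18820 = P 0xbae957b6289ba44b1cd0524ac18820 * σ) (Q := fun g => cjq g 0xbae957b6289ba44b1cd0524ac18820 0xbae957b6289ba44b1cd0524ac18820)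
    (fun _ _ h => cjq_iff h (isM_rep hz) (isM_rep hz))
    (fun σ h => by simp [h, Subgroup.mem_centralizer_singleton_iff])
  rw [inf_right_comm, ← M11_eq] at this
  rw [card_gl23, this]
  decide +kernel

end Cfsg.Agent.S1603
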