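import Cfsg.Statements.S2193
import Cfsg.Agent.H27.KG
import Cfsg.Agent.H15.CK1
import Cfsg.Agent.H15.CK2
import Cfsg.Agent.H20.CK2
import Cfsg.Agent.H20.CK3
import Cfsg.Agent.H20.CK4
import Cfsg.Agent.H20.CK5
import Cfsg.Agent.H20.CK7
import Cfsg.Agent.H9.CK1
import Cfsg.Agent.H9.CK2
import Cfsg.Agent.H9.CK3
import Cfsg.Agent.H9.CK5
import Cfsg.Agent.H3.DT1
import Cfsg.Agent.H3.DT2
import Cfsg.Agent.H3.DT3
import Cfsg.Agent.H3.DT4
import Cfsg.Agent.H3.DT5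

set_option autoImplicit false
open Cfsg

namespace Cfsg.Agent.S2193


/-- The faithful 2-transitive permutation representations of the finite simple groups of Lie type. Let G be a finite simple group of Lie type (isomorphic to a member of one of the sixteen families over a finite field, the Tits group excepted) acting faithfully and 2-transitively on a finite set Ω. Then one of the following holds: G ≅ PSL_l(F) with l ≥ 3 and Ω has (|F|^l − 1)/(|F| − 1) points; G ≅ PSL₂(F) with |F| ≥ 4 and Ω has |F| + 1 points; G ≅ PSU₃(q), q ≥ 3, and Ω has q³ + 1 points; G is a Suzuki group Sz(q), q = 2^(2m+1) ≥ 8, and Ω has q² + 1 points; G is a Ree group ²G₂(q), q = 3^(2m+1) ≥ 27, and Ω has q³ + 1 points; G ≅ PSL₂(9) and Ω has 6 points; G ≅ PSL₂(11) and Ω has 11 points; G ≅ PSL₄(2) and Ω has 8 points; or G ≅ PSp_{2n}(2) with n ≥ 3 and Ω has 2^(n−1)(2^n + 1) or 2^(n−1)(2^n − 1) points.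 -/
theorem result {G Ω : Type*} [Group G] [Finite G] [MulAction G Ω] [FaithfulSMul G Ω] [Fintype Ω] (r : ℕ) [Fact r.Prime] (hG : Cfsg.IsLieTypeChar r G) (h2 : MulAction.IsMultiplyPretransitive G Ω 2) :
    (∃ (F : Type) (_ : Field F) (_ : Fintype F) (l : ℕ), 3 ≤ l ∧ Nonempty (G ≃* Matrix.ProjectiveSpecialLinearGroup (Fin l) F) ∧ Fintype.card Ω * (Fintype.card F - 1) = Fintype.card F ^ l - 1) ∨
    (∃ (F : Type) (_ : Field F) (_ : Fintype F), 4 ≤ Fintype.card F ∧ Nonempty (G ≃* Matrix.ProjectiveSpecialLinearGroup (Fin 2) F) ∧ Fintype.card Ω = Fintype.card F + 1) ∨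
    (∃ (F : Type) (_ : Field F) (_ : Fintype F) (q : ℕ), 3 ≤ q ∧ Fintype.card F = q ^ 2 ∧ Nonempty (G ≃* Cfsg.PSU 3 F q) ∧ Fintype.card Ω = q ^ 3 + 1) ∨
    (∃ (F : Type) (_ : Field F) (_ : Fintype F) (m : ℕ), 1 ≤ m ∧ Fintype.card F = 2 ^ (2 * m + 1) ∧ Nonempty (G ≃* ↥(Cfsg.Lie.Sz F (2 ^ (m + 1)))) ∧ Fintype.card Ω = Fintype.card F ^ 2 + 1) ∨
    (∃ (K : Type) (_ : Field K) (_ : Fintype K) (m : ℕ), 1 ≤ m ∧ Fintype.card K = 3 ^ (2 * m + 1) ∧ Nonempty (G ≃* ↥(Cfsg.Lie.twistedG2 K (3 ^ m))) ∧ Fintype.card Ω = Fintype.card K ^ 3 + 1) ∨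
    (∃ (F : Type) (_ : Field F) (_ : Fintype F), Fintype.card F = 9 ∧ Nonempty (G ≃* Matrix.ProjectiveSpecialLinearGroup (Fin 2) F) ∧ Fintype.card Ω = 6) ∨
    (∃ (F : Type) (_ : Field F) (_ : Fintype F), Fintype.card F = 11 ∧ Nonempty (G ≃* Matrix.ProjectiveSpecialLinearGroup (Fin 2) F) ∧ Fintype.card Ω = 11) ∨
    (∃ (F : Type) (_ : Field F) (_ : Fintype F), Fintype.card F = 2 ∧ Nonempty (G ≃* Matrix.ProjectiveSpecialLinearGroup (Fin 4) F) ∧ Fintype.card Ω = 8) ∨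
    (∃ (F : Type) (_ : Field F) (_ : Fintype F) (n : ℕ), 3 ≤ n ∧ Fintype.card F = 2 ∧ Nonempty (G ≃* Cfsg.PSp n F) ∧ (Fintype.card Ω = 2 ^ (n - 1) * (2 ^ n + 1) ∨ Fintype.card Ω = 2 ^ (n - 1) * (2 ^ n - 1))) := by
  exact H27.K.main H9.CK.gen1 H9.CK.gen2 H20.KS.l2 H9.CK.u3 H15.CK.sz H15.CK.re H20.KS.sp2 H3.DT.rf H3.DT.g23 H3.DT.f42
    H3.DT.g2n H3.DT.td4 H20.KS.ln H20.KS.spn H20.KS.un H9.CK.ob H9.CK.op H9.CK.om hG h2

end Cfsg.Agent.S2193
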