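import Cfsg.Statements.S3888
import Cfsg.Agent.H4.Rk2

set_option autoImplicit false
open Cfsg

namespace Cfsg.Agent.S3888

/-- The classification of the p-groups of rank at most two for odd p. Let p be an odd prime and G a group of order p^n with no elementary abelian subgroup of order p³. Then one of the following holds: G is metacyclic; n ≥ 3 and G is generated by elements x, y, z with x^p = y^p = z^(p^(n−2)) = 1, z commuting with x and y, and x⁻¹yx = y z^(p^(n−3)); n ≥ 4 and G is generated by elements x, y, z with x^p = y^p = z^(p^(n−2)) = 1, yz = zy, x⁻¹yx = y z^(s p^(n−3)) and x⁻¹zx = yz, where s = 1 or s is a quadratic non-residue modulo p; or p = 3 and G has maximal class (nilpotency class n − 1). -/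
theorem result {G : Type*} [Group G] [Finite G] {p : ℕ} [Fact p.Prime] (hp : p ≠ 2) (n : ℕ) (hG : Nat.card G = p ^ n)
    (hrk : Cfsg.PRankLE p 2 G) :
    Cfsg.IsMetacyclic G ∨
    (3 ≤ n ∧ ∃ x y z : G, Subgroup.closure ({x, y, z} : Set G) = ⊤ ∧ x ^ p = 1 ∧ y ^ p = 1 ∧ z ^ p ^ (n - 2) = 1 ∧
        x * z = z * x ∧ y * z = z * y ∧ x⁻¹ * y * x = y * z ^ p ^ (n - 3)) ∨
    (4 ≤ n ∧ ∃ (s : ℕ) (x y z : G), (s = 1 ∨ ¬ IsSquare (s : ZMod p)) ∧ Subgroup.closure ({x, y, z} : Set G) = ⊤ ∧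
        x ^ p = 1 ∧ y ^ p = 1 ∧ z ^ p ^ (n - 2) = 1 ∧ y * z = z * y ∧ x⁻¹ * y * x = y * z ^ (s * p ^ (n - 3)) ∧
        x⁻¹ * z * x = y * z) ∨
    (p = 3 ∧ 2 ≤ n ∧ (⊤ : Subgroup G).lowerCentralSeries (n - 2) ≠ ⊥) := by
  have P : IsPGroup p G := .of_card hG
  have hpp : p.Prime := Fact.out
  refine or_iff_not_imp_left.2 fun hm => ?_
  rw [← or_assoc]
  rcases lt_or_ge 3 p with h3 | h3
  · have hn : (Cfsg.omegaOne p (⊤ : Subgroup G)).Normal := H4.normal_closure fun g x hx =>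
      ⟨trivial, by rw [conj_pow, hx.2, mul_one, mul_inv_cancel]⟩
    have he : ∀ x ∈ Cfsg.omegaOne p (⊤ : Subgroup G), x ^ p = 1 := fun x hx =>
      H4.pow_eq_one_of_mem_closure (fun _ h => h.2) (fun a _ b _ =>
        H4.mul_pow_eq_one_of_rank_two h3 P fun E h => hrk E h.1 h.2) hx
    exact Or.inl (H4.struct_of_cube hp hG hrk (H4.card_eq_of_lt_of_le hpp
      (H4.pG_of' (P.to_subgroup _)) (not_le.1 fun h => hm (H4.isMetacyclic_of_card_omega h3 P h))
      (H4.card_le_cube_of_exponent P he fun E h => hrk E h.1 h.2)) he)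
  rcases H4.exists_cube_or hp P hrk hm with ⟨E, h1, h2, h4⟩ | ⟨x, hx⟩
  · exact Or.inl (H4.struct_of_cube hp hG hrk h2 h4)
  have h2 : 2 ≤ n := by
    by_contra! h
    obtain ⟨a, ha⟩ := H4.exists_eq_zpowers (H4.cyc_of_card_le_prime (H := ⊤)
      (H4.pG_of' (P.to_subgroup _)) (by
        rw [Subgroup.card_top, hG]
        exact (Nat.pow_le_pow_right hpp.pos (by omega)).trans_eq (pow_one p)))
    exact hm (H4.isMetacyclic_iff.2 ⟨a, a, ha ▸ inferInstance, by rw [sup_idem, ha]⟩)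
  have := hpp.two_le
  refine Or.inr ⟨by omega, h2, ?_⟩
  have := P.isNilpotent
  rw [Ne, Subgroup.lowerCentralSeries_eq_bot_iff_nilpotencyClass_le,
    H10.nilpotencyClass_of_centralizer h2 hG x hx]
  omega

end Cfsg.Agent.S3888
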