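import Cfsg.Statements.S3050
import Cfsg.Agent.H5.Hig
-- import your own Cfsg.Agent.* helpers here

set_option autoImplicit false
open Cfsg

namespace Cfsg.Agent.S3050
open H5

open H19 Subgroup


/-- Let G be a finite group with a normal 2-subgroup Q such that G/Q is isomorphic to SL(2, 2ⁿ) with n ≥ 2, and suppose some element of G of order 3 fixes no nonidentity element of Q under conjugation. Then Q is elementary abelian and is the direct product of normal subgroups of G on each of which G acts as SL(2, 2ⁿ) acts on its natural two-dimensional module (a Galois twist of the natural action allowed). -/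
theorem result {G : Type*} [Group G] [Finite G]
    (Q : Subgroup G) [Q.Normal] (hQ : IsPGroup 2 ↥Q) (n : ℕ) (hn : 2 ≤ n)
    (K : Type*) [Field K] [Fintype K] (hK : Fintype.card K = 2 ^ n)
    (e : G ⧸ Q ≃* Matrix.SpecialLinearGroup (Fin 2) K)
    (x : G) (hx : orderOf x = 3) (hfpf : ∀ q ∈ Q, x * q * x⁻¹ = q → q = 1) :
    Cfsg.IsElementaryAbelian 2 Q ∧
      ∃ (k : ℕ) (V : Fin k → Subgroup G), (∀ i, V i ≤ Q ∧ (V i).Normal ∧
        Cfsg.ActsAsSL2OnSection K ⊤ ⊤ (V i) ⊥) ∧ iSupIndep V ∧ ⨆ i, V i = Q := by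
  have : CharP K 2 := charP_of_card_eq_prime_pow (p := 2) (f := n) hK
  let π := e.toMonoidHom.comp (QuotientGroup.mk' Q)
  have hπ : Function.Surjective π := e.surjective.comp (QuotientGroup.mk'_surjective Q)
  have hk : π.ker = Q := Subgroup.ext fun g => by simp [π]
  obtain ⟨ab, k, φ, h⟩ := Hig.F3.struct (x := x) hπ hk ⟨hx ▸ pow_orderOf_eq_one x, fun q hq e =>
    hfpf q hq (mul_inv_eq_of_eq_mul e.symm)⟩ (fun e => by
      rw [hfpf x (hk ▸ e) (by simp), orderOf_one] at hx; omega) hQ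
    (hK ▸ Nat.pow_le_pow_right two_pos hn)
  let X : (Fin k → Prop) → Subgroup G := fun p => Subgroup.map Q.subtype
    { carrier := {q | ∀ j, p j → (φ q).toAdd j = 0}
      one_mem' := fun j _ => by simp
      mul_mem' := fun a b j hj => by simp [a j hj, b j hj]
      inv_mem' := fun a j hj => by simp [a j hj] }
  have mX : ∀ {p} {q : Q}, q.1 ∈ X p ↔ ∀ j, p j → (φ q).toAdd j = 0 :=
    mem_map_iff_mem Q.subtype_injective
  have lX : ∀ p, X p ≤ Q := fun p => map_subtype_le _
  have nX : ∀ p, (X p).Normal := fun p => ⟨fun q hq g =>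
    (mX (q := MulAut.conjNormal g ⟨q, lX p hq⟩)).2 fun j hj => by
      rw [h, mX.1 hq j hj, Matrix.mulVec_zero]⟩
  have sX : ∀ i v, (φ.symm (.ofAdd (Pi.single i v))).1 ∈ X (· ≠ i) := fun i v =>
    mX.2 fun j hj => by simp [Pi.single_eq_of_ne hj]
  refine ⟨⟨ab, fun q hq => congrArg Subtype.val (φ.injective (a₁ := ⟨q, hq⟩ ^ 2) (a₂ := 1) (by
    rw [map_pow, map_one, pow_two]
    exact funext fun _ => funext fun _ => CharTwo.add_self_eq_zero _))⟩, k, fun i => X (· ≠ i),
    fun i => ⟨lX _, nX _, (normalIn_top (h := nX _)).2, bot_le, π.comp (Subgroup.subtype _),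
      (AddMonoidHom.toMultiplicative (Pi.evalAddMonoidHom (fun _ => Fin 2 → K) i)).comp
        (φ.toMonoidHom.comp (inclusion (lX _))),
      MonoidHom.range_eq_top.2 fun g => let ⟨y, e⟩ := hπ g; ⟨⟨y, trivial⟩, e⟩,
      fun v => ⟨⟨_, sX i v.toAdd⟩, by simp [inclusion]⟩, fun u => ⟨fun e => ?_, fun e => by
        rw [show u = 1 from Subtype.ext e, map_one]⟩,
      fun g u => ⟨⟨_, (nX _).1 _ u.2 g⟩, rfl, h g ⟨u, lX _ u.2⟩ i⟩⟩, fun i => ?_,
    le_antisymm (iSup_le fun i => lX _) fun q hq => ?_⟩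
  · refine congrArg Subtype.val (φ.injective (a₁ := ⟨u, lX _ u.2⟩) (a₂ := 1) ?_)
    rw [map_one]
    funext j
    by_cases n : j = i
    · exact n ▸ e
    · exact mX.1 u.2 j n
  · refine Disjoint.mono_right (c := X (· = i)) (iSup₂_le fun j n q hq => (mX (q := ⟨q, lX _ hq⟩)).2
      fun l e => mX.1 hq l (e ▸ n.symm)) (disjoint_iff_inf_le.2 fun q hq => ?_)
    refine congrArg Subtype.val (φ.injective (a₁ := ⟨q, lX _ hq.1⟩) (a₂ := 1) ?_)
    rw [map_one]
    funext j
    by_cases n : j = i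
    · exact mX.1 hq.2 j n
    · exact mX.1 hq.1 j n
  · have : (⟨q, hq⟩ : Q) ∈ (⨆ i, X (· ≠ i)).subgroupOf Q := by
      open scoped IsMulCommutative in
      rw [← φ.symm_apply_apply ⟨q, hq⟩, ← ofAdd_toAdd (φ _), ← Finset.univ_sum_single (φ _).toAdd,
        ofAdd_sum, map_prod]
      open scoped IsMulCommutative in
      exact prod_mem fun i _ => mem_iSup_of_mem i (sX i _)
    exact this

end Cfsg.Agent.S3050
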