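import Cfsg.Statements.S1572
import Cfsg.Agent.H15.Conway2
import Cfsg.Agent.H15.Levels
import Cfsg.Agent.H15.Octad

set_option autoImplicit false
open scoped Pointwise
open Cfsg

namespace Cfsg.Agent.S1572

open H15 Finset MulAction
open scoped Pointwise

theorem lev_du : Lev (cwE 8).Ω ci ((1 : Equiv.Perm GolayPt) • S 8388609) :=
  (cwE 8).lev (cw_inv 8) _ _ (chk_S _) _ ci_smul _ (ci_cw 8 _)
    0xbbe72a2608734ac8aaa61aec710480bce55814c36a4efa284b758880b220bda869c60c5c92e091436a1e7a9440bd531b3613238237ca8b2b14641c40bce4c31e166d0af4894e58d040d620bcad02a28f139a362567a90c154660bcacf84d952a5545a0e31362e31020bd6714c187791ab2984370692559000564ab4ce6806827446c4ad0d291f7bd68b6c1e548912b0d5109c869b980bda927a20b49583089ca254f3899a0 11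
    0x20000000000000000000000000000000000000000000000000000000000000000000000000000000000000000000000000000000000000000000000000000000000000000000000000000000000000000000000000800000000000000000000000000000200000000000000000000000000000000000000000000000000000000000000000000000000000000000000000000000000000002000000000000000000000000000000000000000000000000000000000000000000000000000000000000000000000000000000000000000000000000000000000000000000000000000000000000000000000000000000000000000000000000000000000000000000000000000000000000000000000000000000000000000000000000000000000000000200020300000000000000000000000000000000050000000000000000000000000000000000000004000000000000000000000000000000000000030000000000000000000000000000000000000000000000000000000000000000000000000000000000000000000000000000000000000000000000000000000000000400000000000000000000000000000000000000000000000000000000000000000000000000000000000000000002000000000000000000000000000000000000000000000000000000000000000000000000000000000000000000000000000000000000000000000000000000000000000000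000003000000000000000000000000000003020000000000000000000000000000000200000000000000000000000000000000000000000000000000000000000000000000000000000003000000000000000000000000000000000000000000000000000000000000000000000000000000020000000000000000000000000000000000000000000003000000000000000002000000000000000000000000000000000000000200000000000000000000000000000000000000000000000800000000000000000000000000000000000000000000000000000000000000000000000000000000000000000000000000020005000000000004000000000000000000020000000500000002000000020300000000000000000000000000000000000000000000000000000000000000000000000000000000000000000000000002000000000000000000000000000000000000000000000000000000000000000000000000000000000000000000000000000000000000000000000000000000000000000000000000000000000000000002000000000000000000000000000000000000000000000000000000000000000000000000000000000000000000000000000000000200000000000000000000000000000000000000000000000000000000000000000000000000000000000000000000000000000000000000080000000000000000000000000000000000030003000000000000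000000000000000000020000000000000000000000000000000000000000000000000000000000000000000000000002000000000000000000000000000000000000000000000000000000000000000000000000000400000000000000000000000000000000000000000000000000000003000000000002000000000000000006000000000000000000000000000000000000000000000000000000000000000000000200000000000000000000000000000000000000000000000000000000000000000000000200000000000000000000000000000000050200000000000000020000000000000300040000000000000300000002000000010000000000000000000000000000000000000000000000020000000000000000000000000000000000000000000002020000000000000000000000000000000000000000000000000000000000000002000000000000000000000000000000000000000000000000000000000000000000000000000000020000000000000003000000000000000000000000000000000000000000000000000000000000000000000000000000000000040000000000000000000000000000000000000000000000000000000000000000000000000000000000000000000000000204000002000000000000050000000000000200000000000200020000000007000000000200000000000000000000000000000000000000000000020000000000000000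000000000000000000000000000000040200000000000000000000000000000000000000000000000000000000000000000000000000020000000000000000030000000002000000000000000006000002000000000000000000000702000300020000000000000000000000070000000000000000000000000000000000000000000000000002000300000000000000000000040000000000000000000000000000000000000000030000000000000002000000020000040000020000000000000000000000000000000800020000030200000000000302020002040003020303000000000000000000000000030200000000000000000000000000000000000000000502000000000000000000000000000000000300000000000000000000000000000000000000000000000000000000000000000000000000000000000000000000000000000000000000000000000000000000000000000000000000000100000000000000000000000000000000000000000000000000000000000000000000000000000000000000000000000000000000000001000000000000000000000000000000000000000000000000000000000000000000000000000000000000000000000000000000000000000002000000000000000000000100000100000000000000000000000000000000000000000000000000000000000000000000000000000000000600000000000000000000000000000000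0000000000000000000000000000000000000000000000000000000000000000000000000100000000000000000000000000000000000000000000020000000000000000000000000000000000000000000000000000000000000000000000000000000000000000000000000000000000000000000101000000000000000000000000000000000000000000000000000000000000000001000000000000000000000001000000010000000000000100000100000000000000000000000300010000000000000101000000000001000000000000000000000000090000000000000000000000000000000000000000000000010200000000000000000000000000000000000000000000000000000000000000000000000000000000000000000000000000000001000000000000000000000000000001000000000000000001000000000000000000000000000000000000000000000000000000000002000000000000000000000000000000000000000000000001000000000000000000000000000000000000000000000000000000000000000600000000000000000000000000040000010000000001000000000000000000000000000000000a0000010000000100010001000000000000040000000000000000000000000200000000000000000000000000000000000000000000010000000000000000000000000000000000000000000000000000000006000000000000000000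000000000000000000000100000000000000000000000000000001000100000000000000010000000001000001030100000000000000000000000000000102000000000000000000000000000000000000000000000000000000000000000000000000000000010000000000000000000000000000000000000000000000010001000000000102000000000001010000000000000000010000000101000501000001000000000101010001000101010000000000000000000100010000000000000000000000000000000000000000000000000000020100000000000000000001000000000000000000000000000000000000000000000000000000000000000000000000000000000000000000020000000000030000000000000000000000000000000000000000000100000000000000000000000000000000000000000000000000000002000000000000000000000000000000000000000000000901000000000000000000000000000000000000000000000000000000000000010000000000000000000002000000000001000000000000000000000000000000010000000100000301000000000100000100000000000000050000000000000000000000000000000000000000000000000000000000000000000100000000000000000000000000000000000000000000000000000000000000000000000000010000000000000001000000000000000000000000000000000000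0100000000010000000000000100000100000001010100000000000000000000000000080001000000000000000000000100000000000000000100000000000000000000000000000000000100000000000000000000000000020000000000000000000000000000000000060100000001000001000100000000000000010000000102010001000000010001000000010101010001010000000000000000000000010000000000000000000000000000000000000000000000000400010000000000000000000000000100000000000000000000000000000000000000000000000000000000000007000000000000000000000100000000000000000000000000020000000100000000000000010000000101010100000000000000000000000000070000000000000000000000000000000000000000000002000000000000000000000000000000000000000000000000000000000000000000000001000000010000000000000000000100050000000000000101000000000000000101000000000101010001000000000000000101050001010100000000000000000000080100000000000000000000000000000000000000000000000001020001000000000000000000000100000000000000000000000000000000000000000000010000000001000000000000000001000000010001010100000000000001030000000000010001000a0001010000010100000100000001000000010000000000000000000000000000000000000900000000000000000000000000000000000000000000000101000000000000000000000000000000000000000001000000000000010001010100000001000000010700010101010001000201000001000100000101000001000000010103010102000100000101010100000000000605010000000000000000020000000000000000000000000000000000000000000000010100000000000000000000000000000000000000000000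
    [1183, 2366, 3189] (by decide +kernel) (one_mem _)

theorem cross_of_eight {y : Lam} (hy : sqNorm (cf y) = 64) (h : ∀ i, (8 : ℤ) ∣ cf y i) :
    cf y ∈ stdCross := by
  obtain ⟨i, hi⟩ : ∃ i, cf y i ≠ 0 := by
    by_contra hc
    push Not at hc
    rw [show cf y = 0 from funext hc, sqNorm_zero] at hy; omega
  obtain ⟨a, ha⟩ := h i
  have h1 := abs_le_of_sqNorm (b := 8) hy.le (by norm_num) (by norm_num) i
  have h2 : cf y i = 8 ∨ cf y i = -8 := by omega
  refine ⟨i, cf y i, h2, sub_eq_zero.1 (sqNorm_eq_zero ?_)⟩
  rw [sqNorm_sub, hy, sqNorm_single, dotInt_single_right]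
  rcases h2 with h | h <;> rw [h] <;> rfl

theorem norm_ge {y : GolayPt → ℤ} {b : ℤ} (T : Finset GolayPt) (h : ∀ i ∈ T, b ≤ y i ^ 2) :
    b * T.card ≤ sqNorm y := by
  refine le_trans ?_ (sum_le_univ_sum_of_nonneg (s := T) fun i => sq_nonneg (y i))
  simpa [mul_comm] using card_nsmul_le_sum T _ b h

theorem crossA {y : Lam} (hy : sqNorm (cf y) = 64)
    (h : ∀ i j, i ≠ j → ∀ b, (b = 4 ∨ b = -4) → (32 : ℤ) ∣ dotInt (pr i j 4 b) (cf y)) :
    cf y ∈ stdCross := by
  have h1 : ∀ i j, i ≠ j → (8 : ℤ) ∣ cf y i + cf y j ∧ (8 : ℤ) ∣ cf y i - cf y j := fun i j hij => by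
    have a := h i j hij 4 (by omega)
    have b := h i j hij (-4) (by omega)
    rw [pr, dotInt_add_left, dotInt_single_left, dotInt_single_left] at a b
    omega
  refine cross_of_eight hy fun i => by_contra fun hi => ?_
  have := norm_ge (y := cf y) (b := 16) univ fun j _ => by
    have : cf y j % 8 = 4 := by
      by_cases e : j = i
      · obtain ⟨k, hk⟩ := exists_ne i
        have := h1 k i hk
        subst e; omega
      · have := h1 j i e
        omega
    have : 4 ≤ cf y j ∨ cf y j ≤ -4 := by omega
    rcases this with h | h <;> nlinarith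
  rw [hy, card_univ, show Fintype.card GolayPt = 24 from rfl] at this
  omega

theorem dot_oc (o s : Finset GolayPt) (hs : s ⊆ o) (y : GolayPt → ℤ) :
    dotInt (oc o s) y = 2 * ∑ i ∈ o, y i - 4 * ∑ i ∈ s, y i := by
  rw [dotInt, ← univ_inter o, ← sum_ite_mem, ← univ_inter s, ← sum_ite_mem, mul_sum, mul_sum,
    ← sum_sub_distrib, univ_inter, univ_inter]
  refine sum_congr rfl fun i _ => ?_
  have := @hs i
  unfold oc
  split_ifs <;> first | ring1 | tauto

theorem crossB {y : Lam} (hy : sqNorm (cf y) = 64)
    (h : ∀ o ∈ octads, ∀ s ⊆ o, s.card % 2 = 0 → (16 : ℤ) ∣ dotInt (oc o s) (cf y)) :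
    cf y ∈ stdCross := by
  have h1 : ∀ i j, i ≠ j → (4 : ℤ) ∣ cf y i + cf y j := fun i j hij => by
    obtain ⟨o, ho, hs⟩ := exists_octad (s := {i, j}) (card_le_two.trans (by norm_num))
    have a := h o ho ∅ (empty_subset _) rfl
    have b := h o ho _ hs (by rw [card_pair hij])
    rw [dot_oc _ _ (empty_subset _), sum_empty] at a
    rw [dot_oc _ _ hs, sum_pair hij] at b
    omega
  have h3 : ∀ i : GolayPt, ∃ j k, i ≠ j ∧ i ≠ k ∧ j ≠ k := by decide +kernel
  have h2 : ∀ i, cf y i % 4 = 0 := fun i => by_contra fun hi => by
    have := norm_ge (y := cf y) (b := 4) univ fun j _ => by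
      have : cf y j % 4 = 2 := by
        obtain ⟨k, l, a, b, c⟩ := h3 j
        have := h1 _ _ a; have := h1 _ _ b; have := h1 _ _ c
        by_cases e : j = i
        · subst e; omega
        · have := h1 j i e
          omega
      have : 2 ≤ cf y j ∨ cf y j ≤ -2 := by omega
      rcases this with h | h <;> nlinarith
    rw [hy, card_univ, show Fintype.card GolayPt = 24 from rfl] at this
    omega
  let T := univ.filter fun i => cf y i % 8 = 4
  have hT : T ∈ cw := mem_cw_of_even_ob fun j hj => by
    have a := h _ (ob_mem hj) ∅ (empty_subset _) rfl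
    rw [dot_oc _ _ (empty_subset _), sum_empty] at a
    have b := dvd_sum_sub (S (ob j)) (cf y) (fun i => if i ∈ T then 4 else 0) 8 fun i _ => by
      have := h2 i
      simp only [T, mem_filter, mem_univ, true_and]
      split_ifs <;> omega
    rw [sum_ite_mem, sum_const, inter_comm, nsmul_eq_mul] at b
    omega
  have := norm_ge (y := cf y) (b := 16) T fun j hj => by
    have := (mem_filter.1 hj).2
    have : 4 ≤ cf y j ∨ cf y j ≤ -4 := by omega
    rcases this with h | h <;> nlinarith
  have h0 : T = ∅ := card_eq_zero.1 (by have := cw_card hT; omega)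
  refine cross_of_eight hy fun i => ?_
  have : ¬ cf y i % 8 = 4 := fun e => notMem_empty i (h0 ▸ mem_filter.2 ⟨mem_univ _, e⟩)
  have := h2 i
  omega

theorem nn_dvd {n : Co0} (hn : n ∈ NN) (m : ℤ) (x : Lam) :
    (∀ i, m ∣ cf (n • x) i) ↔ ∀ i, m ∣ cf x i := by
  obtain ⟨σ, hσ, c, hc, rfl⟩ := exists_mono hn
  rw [← σ.forall_congr_right]
  refine forall_congr' fun i => ?_
  rw [cf_mono, sp_apply]
  split_ifs <;> simp

theorem to_vC {K : Subgroup Co0} (hK : NN < K) : ∃ k ∈ K, k • lU = vC := by
  obtain ⟨k, hk, hk'⟩ := SetLike.exists_of_lt hK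
  have hy : cf (k • e8 (pt 23) 1) ∉ stdCross := fun h => hk' (mem_NN_of_e8 h)
  have hn : sqNorm (cf (k • e8 (pt 23) 1)) = 64 := (co_norm _ _).trans (norm_e8 _)
  have hd : ∀ v : Lam, dotInt (cf v) (cf (k • e8 (pt 23) 1)) = 8 * cf (k⁻¹ • v) (pt 23) := fun v => by
    rw [← dot_e8, ← co_dot k (e8 _ _), smul_inv_smul, dotInt_comm]
  let r : Lam → Lam → Prop := fun x y => ∃ k ∈ K, k • x = y
  have sy : ∀ {x y}, r x y → r y x := by
    rintro _ _ ⟨a, ha, rfl⟩; exact ⟨a⁻¹, inv_mem ha, inv_smul_smul _ _⟩
  have tr : ∀ {x y z}, r x y → r y z → r x z := by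
    rintro _ _ _ ⟨a, ha, rfl⟩ ⟨b, hb, rfl⟩; exact ⟨b * a, mul_mem hb ha, mul_smul _ _ _⟩
  have st : ∀ x : Lam, sqNorm (cf x) = 32 → ((∀ i, 4 ∣ cf x i) ∧ r x lU) ∨
      ((¬ ∀ i, 4 ∣ cf x i) ∧ (∀ i, 2 ∣ cf x i) ∧ r x vB) ∨ ((¬ ∀ i, 2 ∣ cf x i) ∧ r x vC) := fun x hx => by
    obtain ⟨n, hn, h⟩ := min_std hx
    rw [← nn_dvd hn 4, ← nn_dvd hn 2]
    rcases h with h | h | h <;> rw [h]
    · exact Or.inl ⟨by decide +kernel, n, hK.le hn, h⟩
    · exact Or.inr (Or.inl ⟨by decide +kernel, by decide +kernel, n, hK.le hn, h⟩)
    · exact Or.inr (Or.inr ⟨by decide +kernel, n, hK.le hn, h⟩)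
  have hBC : r vB vC := by
    by_contra hc
    refine hy (crossB hn fun o ho s hs he => ?_)
    obtain ⟨c, h1, h2⟩ := exists_cw_inter ho s hs he
    let b : Lam := sgn h1 • ⟨oc o ∅, (LC_oc ho.1).mem⟩
    have hb : cf b = oc o s := by
      show signedPerm 1 c (oc o ∅) = _
      rw [sp_oc, one_smul]; apply oc_congr
      rw [smul_finset_empty, ← bot_eq_empty, bot_symmDiff, h2, inter_eq_left.2 hs]
    have nb : sqNorm (cf b) = 32 := by rw [hb, norm_oc, ho.2]; rfl
    have rb : r b vB := by
      obtain ⟨i, hi⟩ : o.Nonempty := card_pos.1 (by rw [ho.2]; norm_num)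
      rcases st b nb with ⟨a, -⟩ | ⟨-, -, a⟩ | ⟨a, -⟩
      · have := a i
        rw [hb, oc, if_pos hi] at this
        split_ifs at this <;> omega
      · exact a
      · refine absurd (fun i => ?_) a
        rw [hb, oc]; split_ifs <;> omega
    rw [← hb, hd]
    rcases st (k⁻¹ • b) ((co_norm _ _).trans nb) with ⟨a, -⟩ | ⟨-, a, -⟩ | ⟨-, a⟩
    · have := a (pt 23); omega
    · have := a (pt 23); omega
    · exact absurd (tr (sy rb) (tr ⟨k⁻¹, inv_mem hk, rfl⟩ a)) hc
  by_contra hc
  refine hy (crossA hn fun i j hij b hb => ?_)
  let a : Lam := ⟨pr i j 4 b, pr_mem i j (Or.inl rfl) hb⟩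
  have na : sqNorm (cf a) = 32 := by
    show sqNorm (pr i j 4 b) = 32
    rw [norm_pr hij]; rcases hb with rfl | rfl <;> rfl
  have ra : r a lU := by
    have : ∀ l, 4 ∣ cf a l := fun l => by
      show 4 ∣ pr i j 4 b l
      simp only [pr, Pi.add_apply, Pi.single_apply]
      split_ifs <;> omega
    rcases st a na with ⟨-, h⟩ | ⟨h, -⟩ | ⟨h, -⟩
    exacts [h, absurd this h, absurd (fun l => (show (2 : ℤ) ∣ 4 by norm_num).trans (this l)) h]
  have ra' : r lU (k⁻¹ • a) := tr (sy ra) ⟨k⁻¹, inv_mem hk, rfl⟩
  show 32 ∣ dotInt (cf a) _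
  rw [hd]
  rcases st (k⁻¹ • a) ((co_norm _ _).trans na) with ⟨h, -⟩ | ⟨-, -, h⟩ | ⟨-, h⟩
  · have := h (pt 23); omega
  · exact absurd (tr ra' (tr h hBC)) hc
  · exact absurd (tr ra' h) hc

theorem U_app (p : GolayPt) : cf lU p = if p ∈ S 8388609 then 4 else 0 := by revert p; decide +kernel

theorem fixU {σ : Equiv.Perm GolayPt} (hσ : σ ∈ M24) {c : Finset GolayPt} (hc : c ∈ cw)
    (h : σ • S 8388609 = S 8388609) (h1 : pt 23 ∉ c) (h2 : pt 0 ∉ c) : mono hσ hc • lU = lU := by
  refine Subtype.ext (funext fun p => ?_)
  obtain ⟨q, rfl⟩ := σ.surjective p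
  show cf (mono hσ hc • lU) _ = cf lU _
  rw [cf_mono, sp_apply, U_app, U_app]
  simp only [apply_mem_of_smul_eq h]
  split_ifs with a b
  · have : ∀ p ∈ S 8388609, p = pt 23 ∨ p = pt 0 := by decide +kernel
    rcases this _ ((apply_mem_of_smul_eq h q).2 b) with e | e <;> rw [e] at a <;> contradiction
  all_goals rfl

theorem fixD {σ : Equiv.Perm GolayPt} (h1 : σ (pt 23) = pt 23) (h2 : σ (pt 0) = pt 0) :
    σ • S 8388609 = S 8388609 := smul_eq_of_fix fun p hp => by
  have : ∀ p ∈ S 8388609, p = pt 23 ∨ p = pt 0 := by decide +kernel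
  rcases this p hp with rfl | rfl <;> assumption

open Classical in
noncomputable def cl (x : GolayPt → ℤ) : ℕ :=
  if x (pt 23) = 0 ∧ ∀ i, 4 ∣ x i then 5 else (x (pt 23)).natAbs

def rp (k : ℕ) : GolayPt → ℤ :=
  if k = 0 then oc (S 4845570) ∅ else if k = 1 then od (S 1302533) (pt 1) else
  if k = 2 then oc (S 8536111) {pt 0, pt 1} else if k = 4 then cf lU' else pr (pt 1) (pt 2) 4 4

theorem dotU (x : GolayPt → ℤ) : dotInt (cf lU) x = 4 * x (pt 23) + 4 * x (pt 0) := by
  rw [show cf lU = pr (pt 23) (pt 0) 4 4 from vecU_eq, pr, dotInt_add_left, dotInt_single_left,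
    dotInt_single_left]
theorem dotU' (x : GolayPt → ℤ) : dotInt (cf lU') x = 4 * x (pt 23) + -4 * x (pt 0) := by
  rw [show cf lU' = pr (pt 23) (pt 0) 4 (-4) from vecU'_eq, pr, dotInt_add_left, dotInt_single_left,
    dotInt_single_left]

theorem std0 {x : Lam} (hx : x ∈ Sh lU 0) (h0 : 0 ≤ cf x (pt 23)) :
    ∃ n ∈ NN, n • lU = lU ∧ cf (n • x) = rp (cl (cf x)) := by
  have hd := hx.2
  rw [dotU] at hd
  by_cases h4 : 2 < cf x (pt 23)
  · obtain rfl : lU' = x := eq_of_dot norm_U' hx.1 (by rw [dotU']; omega)
    exact ⟨1, one_mem _, one_smul _ _, by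
      rw [one_smul, cl, if_neg (fun h => absurd h.1 (by decide +kernel))]; rfl⟩
  rcases min_shape x.2 hx.1 with ⟨i, j, a, b, hij, ha, hb, e⟩ | ⟨o, ho, s, hs, he, e⟩ | ⟨c, hc, i, e⟩
  · have e' : ∀ l, cf x l = (if l = i then a else 0) + if l = j then b else 0 := fun l => by
      show (x : GolayPt → ℤ) l = _
      rw [e]; simp only [pr, Pi.add_apply, Pi.single_apply]
    have h5 : ∀ l, 4 ∣ cf x l := fun l => by rw [e']; split_ifs <;> omega
    have h6 : cf x (pt 23) = 0 := by have := h5 (pt 23); omega
    have h7 : ∀ l, cf x l = 0 → i ≠ l ∧ j ≠ l := fun l hl => by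
      rw [e'] at hl
      constructor <;> rintro rfl
      · rw [if_pos rfl, if_neg hij] at hl; omega
      · rw [if_pos rfl, if_neg hij.symm] at hl; omega
    obtain ⟨σ, h1, s1, s2, s3, s4⟩ := m24_trans4 (a' := pt 1) (b' := pt 2) (c' := pt 23) (d' := pt 0) hij
      (h7 _ h6).1 (h7 _ (by omega : cf x (pt 0) = 0)).1 (h7 _ h6).2 (h7 _ (by omega : cf x (pt 0) = 0)).2
      (by decide) (by decide) (by decide) (by decide) (by decide) (by decide) (by decide)
    obtain ⟨c, hc, c1, c2, c3, c4⟩ : ∃ c ∈ cw, pt 23 ∉ c ∧ pt 0 ∉ c ∧ (pt 1 ∈ c ↔ a = -4) ∧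
        (pt 2 ∈ c ↔ b = -4) := by
      rcases ha with rfl | rfl <;> rcases hb with rfl | rfl
      exacts [⟨S 0, S_mem_cw (by decide +kernel), by decide +kernel⟩,
        ⟨S 5210132, S_mem_cw (by decide +kernel), by decide +kernel⟩,
        ⟨S 4845570, S_mem_cw (by decide +kernel), by decide +kernel⟩,
        ⟨S 421910, S_mem_cw (by decide +kernel), by decide +kernel⟩]
    refine ⟨mono h1 hc, mono_mem _ _, fixU _ _ (fixD s3 s4) c1 c2, ?_⟩
    rw [cl, if_pos ⟨h6, h5⟩, cf_mono, show cf x = _ from e, sp_pr, s1, s2]
    simp only [c3, c4]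
    show _ = pr (pt 1) (pt 2) 4 4
    congr 1 <;> split_ifs <;> omega
  · have e' : ∀ l, cf x l = if l ∈ o then (if l ∈ s then -2 else 2) else 0 := fun l => congrFun e l
    have h5 : ¬ ∀ l, 4 ∣ cf x l := fun h => by
      obtain ⟨i, hi⟩ : o.Nonempty := card_pos.1 (by rw [ho.2]; norm_num)
      have := h i
      rw [e', if_pos hi] at this
      split_ifs at this <;> omega
    rw [cl, if_neg fun h => h5 h.2]
    have a1 := e' (pt 23)
    have a2 := e' (pt 0)
    have key : ∀ (σ : Equiv.Perm GolayPt) (o' t c : Finset GolayPt), σ • o = o' → t ⊆ o' →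
        c ∩ o' = symmDiff (σ • s) t → signedPerm σ c (cf x) = oc o' t := fun σ o' t c h1 h2 h3 => by
      rw [show cf x = _ from e, sp_oc, h1]
      apply oc_congr
      rw [← inf_eq_inter, inf_symmDiff_distrib_right, inf_eq_inter, inf_eq_inter, h3,
        inter_eq_left.2 (h1 ▸ smul_finset_subset_smul_finset hs), symmDiff_symmDiff_cancel_left,
        inter_eq_left.2 h2]
    by_cases b1 : pt 23 ∈ o
    · have b2 : pt 23 ∉ s := fun h => by rw [if_pos b1, if_pos h] at a1; omega
      rw [if_pos b1, if_neg b2] at a1
      have b3 : pt 0 ∈ o := by_contra fun h => by rw [if_neg h] at a2; omega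
      have b4 : pt 0 ∈ s := by_contra fun h => by rw [if_pos b3, if_neg h] at a2; omega
      obtain ⟨σ, h1, s1, s2⟩ := oct_frame' (n := 2) (by norm_num) ho O0_mem ![pt 23, pt 0] ![pt 23, pt 0]
        (by decide) (by decide) (by simp [Fin.forall_fin_two, b1, b3]) (by decide +kernel)
      have s3 : σ (pt 23) = pt 23 := s2 0
      have s4 : σ (pt 0) = pt 0 := s2 1
      have hs' : σ • s ⊆ S 8536111 := s1 ▸ smul_finset_subset_smul_finset hs
      obtain ⟨c, hc, h3⟩ := exists_cw_inter O0_mem (symmDiff (σ • s) {pt 0, pt 1})
        (symmDiff_le_sup.trans (sup_le hs' (by decide +kernel))) (by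
          have := card_inter_symmDiff_mod univ (σ • s) {pt 0, pt 1}
          rw [univ_inter, univ_inter, univ_inter, card_smul_finset, card_pair (by decide)] at this
          omega)
      have m : ∀ p ∈ S 8536111, p ∈ c ↔ p ∈ symmDiff (σ • s) {pt 0, pt 1} := fun p hp => by
        rw [← h3, mem_inter, and_iff_left hp]
      refine ⟨mono h1 hc, mono_mem _ _, fixU _ _ (fixD s3 s4) ?_ ?_, ?_⟩
      · rw [m _ (by decide +kernel), mem_symmDiff, ← s3, apply_mem_smul_iff, s3]
        simp only [b2, false_and, false_or, not_false_eq_true, and_true]; decide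
      · rw [m _ (by decide +kernel), mem_symmDiff, ← s4, apply_mem_smul_iff, s4]
        simp [b4]
      · rw [a1, cf_mono, key σ _ _ c s1 (by decide +kernel) h3]; rfl
    · rw [if_neg b1] at a1
      have b3 : pt 0 ∉ o := fun h => by rw [if_pos h] at a2; split_ifs at a2 <;> omega
      have o3 : S 4845570 ∈ octads := S_mem_octads (by decide +kernel)
      obtain ⟨σ, h1, s1, s2⟩ := lev_du.tr o ho _ o3 (by
        rw [one_smul, show ci (S 8388609) (S 4845570) = 0 by decide +kernel, ci, card_eq_zero,
          show S 8388609 = {pt 23, pt 0} by decide +kernel]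
        simp [b1, b3])
      rw [one_smul] at s1
      obtain ⟨c, hc, h3⟩ := exists_cw_inter o3 (σ • s) (s2 ▸ smul_finset_subset_smul_finset hs)
        (by rwa [card_smul_finset])
      obtain ⟨d, hd, d1, d2, d3⟩ : ∃ d ∈ cw, d ∩ S 4845570 = ∅ ∧ (pt 23 ∈ d ↔ pt 23 ∈ c) ∧
          (pt 0 ∈ d ↔ pt 0 ∈ c) := by
        by_cases c1 : pt 23 ∈ c <;> by_cases c2 : pt 0 ∈ c <;> simp only [c1, c2]
        exacts [⟨S 9830549, S_mem_cw (by decide +kernel), by decide +kernel⟩,
          ⟨S 9568632, S_mem_cw (by decide +kernel), by decide +kernel⟩,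
          ⟨S 262637, S_mem_cw (by decide +kernel), by decide +kernel⟩,
          ⟨S 0, S_mem_cw (by decide +kernel), by decide +kernel⟩]
      refine ⟨mono h1 (cw_symmDiff hc hd), mono_mem _ _, fixU _ _ s1 ?_ ?_, ?_⟩
      · rw [mem_symmDiff, d2]; tauto
      · rw [mem_symmDiff, d3]; tauto
      · rw [a1, cf_mono, key σ _ ∅ _ s2 (empty_subset _)]; · rfl
        rw [← inf_eq_inter, inf_symmDiff_distrib_right, inf_eq_inter, inf_eq_inter, h3, d1]
  · have e' : ∀ l, cf x l = (if l ∈ c then -1 else 1) * if l = i then -3 else 1 := fun l => congrFun e l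
    have a1 := e' (pt 23)
    have a2 := e' (pt 0)
    have b1 : pt 23 ≠ i := by rintro rfl; rw [if_neg (by decide : pt 0 ≠ pt 23)] at a2; rw [if_pos rfl] at a1; split_ifs at a1 a2 <;> omega
    have b2 : pt 0 ≠ i := by rintro rfl; rw [if_neg b1] at a1; rw [if_pos rfl] at a2; split_ifs at a1 a2 <;> omega
    rw [if_neg b1] at a1
    rw [if_neg b2] at a2
    have b3 : pt 23 ∉ c := fun h => by rw [if_pos h] at a1; omega
    rw [if_neg b3] at a1
    have b4 : pt 0 ∈ c := by_contra fun h => by rw [if_neg h] at a2; omega
    obtain ⟨σ, h1, s1, s3, s4⟩ := m24_trans3 (a' := pt 1) (b' := pt 23) (c' := pt 0) b1.symm b2.symm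
      (by decide) (by decide) (by decide) (by decide)
    refine ⟨mono h1 (cw_symmDiff (smul_mem_cw h1 hc) (S_mem_cw (m := 1302533) (by decide +kernel))),
      mono_mem _ _, fixU _ _ (fixD s3 s4) ?_ ?_, ?_⟩
    · rw [mem_symmDiff, ← s3, apply_mem_smul_iff, s3]
      simp only [b3, false_and, false_or, not_false_eq_true, and_true]; decide +kernel
    · rw [mem_symmDiff, ← s4, apply_mem_smul_iff, s4]
      simp only [b4, true_and, not_true, and_false, or_false]; decide +kernel
    · rw [cl, if_neg fun h => by omega, a1, cf_mono, show cf x = _ from e, sp_od,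
        symmDiff_symmDiff_cancel_left, s1]; rfl

theorem std {x : Lam} (hx : x ∈ Sh lU 0) :
    ∃ n ∈ NN, n • lU = lU ∧ cf (n • x) = rp (cl (cf x)) := by
  by_cases h0 : 0 ≤ cf x (pt 23)
  · exact std0 hx h0
  obtain ⟨σ, h1, s1, s2⟩ := m24_trans2 (a := pt 23) (b := pt 0) (a' := pt 0) (b' := pt 23) (by decide)
    (by decide)
  have h2 : prm h1 • lU = lU := fixU _ _ (by
    rw [show S 8388609 = {pt 23, pt 0} by decide +kernel, smul_finset_insert, smul_finset_singleton,
      pair_comm]
    exact congrArg₂ (fun a b => ({a, b} : Finset GolayPt)) s2 s1) (notMem_empty _) (notMem_empty _)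
  have hd := hx.2
  rw [dotU] at hd
  have h3 : cf (prm h1 • x) (pt 23) = -cf x (pt 23) := by rw [← s2, cf_prm, s2]; omega
  obtain ⟨n, hn, a, b⟩ := std0 (Sh.smul h2 hx) (by omega)
  refine ⟨n * prm h1, mul_mem hn (mono_mem _ _), by rw [mul_smul, h2, a], ?_⟩
  rw [mul_smul, b, cl, cl, h3, if_neg fun h => by omega, if_neg fun h => by omega, Int.natAbs_neg]

theorem cen_abs (k : ℕ) : {x | x ∈ Sh lU 0 ∧ (cf x (pt 23)).natAbs = k}.ncard =
    cnt fun a b _ => band (Nat.beq a 4) (bor (Nat.beq (Nat.add k 4) b) (Nat.beq (Nat.add k b) 4)) :=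
  census _ _ (fun _ h => h.1.1) fun v a b c hv ha hb _ => by
    have := dotU (cf v); have := dotU' (cf v)
    simp only [Sh, Set.mem_setOf_eq, hv, true_and, band_iff, bor_iff,
      Nat.beq_eq, Nat.add_eq]
    omega

theorem abs_lt {x : Lam} (hx : x ∈ Sh lU 0) : (cf x (pt 23)).natAbs < 5 := by
  obtain ⟨a, h1, h2⟩ := exists_digit (w := lU') (by rw [norm_U']; norm_num) hx.1
  have := dotU (cf x); have := dotU' (cf x); have := hx.2
  omega

def sg (b : Bool) : ℤ := if b then 4 else -4
theorem sg_or (b : Bool) : sg b = 4 ∨ sg b = -4 := by cases b <;> simp [sg]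

theorem cen5 : {x | x ∈ Sh lU 0 ∧ cl (cf x) = 5}.ncard = 924 := by
  obtain ⟨F, hF, hm⟩ : ∃ F : Finset (GolayPt × GolayPt × Bool × Bool), F.card = 924 ∧
      ∀ t, t ∈ F ↔ ix t.1 < ix t.2.1 ∧ t.1 ≠ pt 0 ∧ t.2.1 ≠ pt 23 :=
    ⟨univ.filter fun t => ix t.1 < ix t.2.1 ∧ t.1 ≠ pt 0 ∧ t.2.1 ≠ pt 23, by decide +kernel,
      fun t => mem_filter_univ t⟩
  let φ : GolayPt × GolayPt × Bool × Bool → Lam := fun t =>
    ⟨pr t.1 t.2.1 (sg t.2.2.1) (sg t.2.2.2), pr_mem _ _ (sg_or _) (sg_or _)⟩
  have e' : ∀ t l, cf (φ t) l = (if l = t.1 then sg t.2.2.1 else 0) + if l = t.2.1 then sg t.2.2.2 else 0 :=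
    fun t l => by simp only [φ, cf, pr, Pi.add_apply, Pi.single_apply]
  have hne : ∀ t ∈ F, t.1 ≠ t.2.1 := fun t ht e => by
    exact absurd (congrArg ix e) ((hm t).1 ht).1.ne
  rw [← hF, ← Set.ncard_coe_finset, ← Set.ncard_image_of_injOn (f := φ)]
  · congr 1
    ext x
    constructor
    · rintro ⟨hx, h5⟩
      have h6 := abs_lt hx
      rw [cl] at h5
      obtain ⟨h7, h8⟩ : cf x (pt 23) = 0 ∧ ∀ i, 4 ∣ cf x i := by_contra fun h => by
        rw [if_neg h] at h5; omega
      have h9 : cf x (pt 0) = 0 := by have := dotU (cf x); have := hx.2; omega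
      have sb : ∀ a : ℤ, a = 4 ∨ a = -4 → ∃ b, a = sg b := by
        rintro _ (rfl | rfl); exacts [⟨true, rfl⟩, ⟨false, rfl⟩]
      have key : ∀ i j a b, ix i < ix j → x = φ (i, j, a, b) → x ∈ φ '' F := fun i j a b h e => by
        refine ⟨_, (hm _).2 ⟨h, ?_, ?_⟩, e.symm⟩ <;> rintro (rfl : _ = _)
        · rw [e, e', if_pos rfl, if_neg (by rintro rfl; omega)] at h9
          have := sg_or a; simp only at h9; omega
        · rw [e, e', if_pos rfl, if_neg (by rintro rfl; omega)] at h7
          have := sg_or b; simp only at h7; omega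
      rcases min_shape x.2 hx.1 with ⟨i, j, a, b, hij, ha, hb, e⟩ | ⟨o, ho, s, hs, he, e⟩ | ⟨c, hc, i, e⟩
      · obtain ⟨a, rfl⟩ := sb a ha
        obtain ⟨b, rfl⟩ := sb b hb
        rcases lt_trichotomy (ix i) (ix j) with h | h | h
        · exact key i j a b h (Subtype.ext e)
        · exact absurd (by rw [← pt_ix i, h, pt_ix]) hij
        · exact key j i b a h (Subtype.ext (e.trans (add_comm _ _)))
      · obtain ⟨i, hi⟩ : o.Nonempty := card_pos.1 (by rw [ho.2]; norm_num)
        have := h8 i
        rw [show cf x = _ from e, oc, if_pos hi] at this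
        split_ifs at this <;> omega
      · rw [show cf x = _ from e, od] at h7
        split_ifs at h7 <;> omega
    · rintro ⟨t, ht, rfl⟩
      obtain ⟨h1, h2, h3⟩ := (hm _).1 ht
      have a1 : cf (φ t) (pt 23) = 0 := by
        rw [e', if_neg h3.symm, if_neg]; · rfl
        intro h
        obtain ⟨n, hn, e⟩ := exists_pt t.2.1
        rw [← h, e, ix_pt hn, ix_pt (by norm_num)] at h1; omega
      have a2 : cf (φ t) (pt 0) = 0 := by
        rw [e', if_neg h2.symm, if_neg]; · rfl
        intro h
        rw [← h, ix_pt (by norm_num)] at h1; omega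
      refine ⟨⟨?_, by rw [dotU, a1, a2]; rfl⟩, if_pos ⟨a1, fun l => ?_⟩⟩
      · show sqNorm (pr _ _ _ _) = 32
        rw [norm_pr (hne t ht)]
        rcases sg_or t.2.2.1 with h | h <;> rcases sg_or t.2.2.2 with h' | h' <;> rw [h, h'] <;> rfl
      · have := sg_or t.2.2.1; have := sg_or t.2.2.2
        rw [e']; split_ifs <;> omega
  · rintro ⟨i, j, a, b⟩ ht ⟨i', j', a', b'⟩ ht' e
    have h1 := ((hm _).1 ht).1
    have h2 := ((hm _).1 ht').1
    have e1 : ∀ l, (if l = i then sg a else 0) + (if l = j then sg b else 0) =
        (if l = i' then sg a' else 0) + if l = j' then sg b' else 0 := fun l => by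
      rw [← e' (i, j, a, b), e, e']
    have := sg_or a; have := sg_or b; have := sg_or a'; have := sg_or b'
    have n1 : i ≠ j := hne _ ht
    have n2 : i' ≠ j' := hne _ ht'
    have c1 := e1 i; have c2 := e1 j; have c3 := e1 i'
    simp only [if_true, n1, n1.symm, n2, if_false] at c1 c2 c3 h1 h2
    obtain rfl : i = i' := by_contra fun h => by
      rw [if_neg h] at c1
      rw [if_neg (Ne.symm h)] at c3
      have d1 : i = j' := by_contra fun h => by rw [if_neg h] at c1; omega
      have d2 : i' = j := by_contra fun h => by rw [if_neg h] at c3; omega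
      rw [d1, ← d2] at h1; omega
    rw [if_neg n1.symm] at c2
    obtain rfl : j = j' := by_contra fun h => by rw [if_neg h] at c2; omega
    rw [if_pos rfl, if_neg n1] at c1
    rw [if_pos rfl] at c2
    have : ∀ a b, sg a = sg b → a = b := by decide
    rw [this a a' (by omega), this b b' (by omega)]

theorem sum_cl {X : Set Lam} (hX : X ⊆ Sh lU 0) :
    X.ncard = ∑ k ∈ range 6, {x | x ∈ X ∧ cl (cf x) = k}.ncard := by
  classical
  have hf := (Sh_fin _ _).subset hX
  rw [Set.ncard_eq_toFinset_card _ hf, card_eq_sum_card_fiberwise (f := fun x => cl (cf x))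
    (t := range 6) fun x hx => by
      have := abs_lt (hX (hf.mem_toFinset.1 hx))
      simp only [coe_range, Set.mem_Iio, cl]; split_ifs <;> omega]
  refine sum_congr rfl fun k _ => ?_
  rw [← Set.ncard_coe_finset]
  congr 1; ext; simp

theorem cen_k {k : ℕ} (h0 : 0 < k) (h5 : k < 5) : {x | x ∈ Sh lU 0 ∧ cl (cf x) = k}.ncard =
    cnt fun a b _ => band (Nat.beq a 4) (bor (Nat.beq (Nat.add k 4) b) (Nat.beq (Nat.add k b) 4)) := by
  rw [← cen_abs]
  congr 1; ext x
  refine and_congr_right fun _ => ?_
  rw [cl]; split_ifs with h
  · have := h.1; omega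
  · rfl

theorem arith {a c : ℕ → ℕ} {s : ℕ} (h : ∀ k, a k = 0 ∨ a k = c k) (h4 : a 4 ≠ 0)
    (s1 : s = ∑ k ∈ range 6, a k) (s2 : 93150 = ∑ k ∈ range 6, c k) (c1 : c 1 = 45056) (c2 : c 2 = 4928)
    (c3 : c 3 = 0) (c4 : c 4 = 2) (c5 : c 5 = 924) (h5 : 23 ∣ s) : s = 93150 := by
  simp only [sum_range_succ, sum_range_zero] at s1 s2
  have n0 := h 0; have n1 := h 1; have n2 := h 2; have n3 := h 3; have n4 := h 4; have n5 := h 5
  omega

theorem dvd_vC : 23 ∣ Nat.card ↥(NN ⊓ stabilizer Co0 vC) := by
  have := card_mono (NN ⊓ stabilizer Co0 vC : Subgroup Co0) (fun _ h => h.1) Spor.M23 M23_le {∅}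
    (by simpa using cw_empty) fun σ hσ c hc => by
      have e : cf (mono hσ hc • vC) = od c (σ (pt 23)) := by
        rw [cf_mono, show cf vC = od ∅ (pt 23) from rfl, sp_od, smul_finset_empty, ← bot_eq_empty,
          bot_symmDiff]
      constructor
      · rintro ⟨-, h⟩
        rw [show mono hσ hc • vC = vC from h] at e
        have e' : ∀ p, (if p = pt 23 then (-3 : ℤ) else 1) = (if p ∈ c then -1 else 1) *
            if p = σ (pt 23) then -3 else 1 := fun p => (one_mul _).symm.trans (congrFun e p)
        have h1 : σ (pt 23) = pt 23 := by_contra fun h => by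
          have := e' (pt 23)
          rw [if_pos rfl, if_neg (Ne.symm h)] at this
          split_ifs at this <;> omega
        refine ⟨⟨hσ, h1⟩, eq_empty_of_forall_notMem fun p hp => ?_⟩
        have := e' p
        rw [if_pos hp, h1] at this
        split_ifs at this <;> omega
      · rintro ⟨h, rfl⟩
        exact ⟨mono_mem _ _, Subtype.ext (e.trans (by rw [(mem_M23.1 h).2]; rfl))⟩
  rw [card_M23, Set.ncard_singleton] at this
  exact (show 23 ∣ 1 * 10200960 by norm_num).trans (dvd_of_eq this.symm)

/-- The stabiliser of the standard cross is a maximal proper subgroup of the lattice's automorphism group. -/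
theorem result (H : Subgroup ↥Cfsg.Co0) (hH : (H : Set ↥Cfsg.Co0) = {g : ↥Cfsg.Co0 | (∀ v : ↥Cfsg.leechLattice, (v : Cfsg.GolayPt → ℤ) ∈ Cfsg.stdCross → ((g • v : ↥Cfsg.leechLattice) : Cfsg.GolayPt → ℤ) ∈ Cfsg.stdCross)}) : IsCoatom H := by

  obtain rfl : H = NN := SetLike.coe_injective hH
  refine ⟨fun h => absurd (card_NN.symm.trans (by rw [h, Subgroup.card_top, card_Co0])) (by norm_num),
    fun K hK => ?_⟩
  obtain ⟨k, hk, e⟩ := to_vC hK
  have h23 : 23 ∣ Nat.card ↥(K ⊓ sCo2) := by
    rw [Nat.card_congr (conjEq k (K ⊓ sCo2) (K ⊓ stabilizer Co0 vC) fun a => by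
      rw [Subgroup.mem_inf, Subgroup.mem_inf, ← e, conj_stab, mul_mem_cancel_right (inv_mem hk),
        mul_mem_cancel_left hk]).toEquiv]
    exact dvd_vC.trans (Subgroup.card_dvd_of_le (inf_le_inf_right _ hK.le))
  let O : Set Lam := {y | ∃ h ∈ K ⊓ sCo2, h • lU' = y}
  have hO : O ⊆ Sh lU 0 := by rintro _ ⟨h, hh, rfl⟩; exact Sh.smul hh.2 U'_mem_U
  have hP : K ⊓ sCo2 ⊓ stabilizer Co0 lU' = sCo2 ⊓ stabilizer Co0 lU' :=
    le_antisymm (inf_le_inf_right _ inf_le_right) fun g hg =>
      ⟨⟨hK.le (mem_NN_of_fix (fix_UU'.1 hg).1), hg.1⟩, hg.2⟩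
  have hc := card_eq_of_orbit (K ⊓ sCo2) lU' O (fun h hh => ⟨h, hh, rfl⟩) fun y hy => hy
  rw [hP, card_stab_UU'] at hc
  have hn : ∀ k, {x | x ∈ O ∧ cl (cf x) = k}.ncard = 0 ∨
      {x | x ∈ O ∧ cl (cf x) = k}.ncard = {x | x ∈ Sh lU 0 ∧ cl (cf x) = k}.ncard := fun k => by
    rcases Set.eq_empty_or_nonempty {x | x ∈ O ∧ cl (cf x) = k} with h | ⟨_, ⟨h, hh, rfl⟩, h1⟩
    · exact Or.inl (by rw [h, Set.ncard_empty])
    refine Or.inr (congrArg _ (Set.ext fun y => ⟨fun hy => ⟨hO hy.1, hy.2⟩, fun hy => ⟨?_, hy.2⟩⟩))
    obtain ⟨n, a1, a2, a3⟩ := std (hO ⟨h, hh, rfl⟩)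
    obtain ⟨m, b1, b2, b3⟩ := std hy.1
    refine ⟨m⁻¹ * n * h, mul_mem (mul_mem (inv_mem ⟨hK.le b1, b2⟩) ⟨hK.le a1, a2⟩) hh, ?_⟩
    rw [mul_smul, mul_smul, inv_smul_eq_iff]
    exact Subtype.ext (a3.trans (by rw [h1, ← hy.2]; exact b3.symm))
  have h4 : {x | x ∈ O ∧ cl (cf x) = 4}.ncard ≠ 0 := Set.ncard_ne_zero_of_mem (a := lU')
    ⟨⟨1, one_mem _, one_smul _ _⟩, if_neg fun h => absurd h.1 (by decide +kernel)⟩
    ((Sh_fin _ _).subset fun _ h => hO h.1)
  rw [hc] at h23
  have h6 : O.ncard = 93150 := arith hn h4 (sum_cl hO) (n93150.symm.trans (sum_cl le_rfl))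
    ((cen_k (k := 1) (by norm_num) (by norm_num)).trans (by decide +kernel))
    ((cen_k (k := 2) (by norm_num) (by norm_num)).trans (by decide +kernel))
    ((cen_k (k := 3) (by norm_num) (by norm_num)).trans (by decide +kernel))
    ((cen_k (k := 4) (by norm_num) (by norm_num)).trans (by decide +kernel)) cen5
    ((Nat.Coprime.dvd_mul_right (by norm_num)).1 h23)
  have h7 : K ⊓ sCo2 = sCo2 := Subgroup.eq_of_le_of_card_ge inf_le_right (by
    rw [hc, h6, card_sCo2])
  have h8 : sCo2 ≤ K := inf_eq_right.1 h7
  have h9 : coN ∈ K := hK.le (mono_mem (one_mem _) cw_univ)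
  refine eq_top_of_co2 h8 h9 hk ?_ ?_ <;> rw [e] <;> decide +kernel

end Cfsg.Agent.S1572
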