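import Cfsg.Statements.S0380
import Cfsg.Agent.H15.Dod
import Cfsg.Agent.H16.L.L34
import Cfsg.Agent.H11.Congr

set_option autoImplicit false
open Cfsg

namespace Cfsg.Agent.S0380

open H15 Finset MulAction
open scoped Pointwise MatrixGroups

/-- A three-point stabiliser in the group of the length-24 code is isomorphic to PSL(3, F) for the field F with 4 elements. -/
theorem result (p q r : Cfsg.GolayPt) (hpq : p ≠ q) (hpr : p ≠ r) (hqr : q ≠ r) (F : Type) [Field F] [Fintype F] (hF : Fintype.card F = 4) : Nonempty (↥(MulAction.stabilizer Cfsg.M24 p ⊓ MulAction.stabilizer Cfsg.M24 q ⊓ MulAction.stabilizer Cfsg.M24 r) ≃* Matrix.ProjectiveSpecialLinearGroup (Fin 3) F) := by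
  obtain ⟨σ, h1, rfl, rfl, rfl⟩ := m24_trans3 (a := pt 23) (b := pt 0) (c := pt 1) (by decide)
    (by decide) (by decide) hpq hpr hqr
  have hk : ∀ k < 6, isM (getP 0xbaa959ca28795a93d990591c610c20bc533a4ace340ac59ea853da320820b926faa22da3a0b6255231cb618820bae957b6289ba44b1cd0524ac18820ba9b5b48a93468864ceb811cf18820bce8d549c7216ab45a0c4be2618820 k) = true ∧ fixes (getP 0xbaa959ca28795a93d990591c610c20bc533a4ace340ac59ea853da320820b926faa22da3a0b6255231cb618820bae957b6289ba44b1cd0524ac18820ba9b5b48a93468864ceb811cf18820bce8d549c7216ab45a0c4be2618820 k) 8388611 = true := by decide +kernel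
  have ha : H16.Act (fun k => H15.P (getP 0xbaa959ca28795a93d990591c610c20bc533a4ace340ac59ea853da320820b926faa22da3a0b6255231cb618820bae957b6289ba44b1cd0524ac18820ba9b5b48a93468864ceb811cf18820bce8d549c7216ab45a0c4be2618820 k)) pt (fun k => ap (getP 0xbaa959ca28795a93d990591c610c20bc533a4ace340ac59ea853da320820b926faa22da3a0b6255231cb618820bae957b6289ba44b1cd0524ac18820ba9b5b48a93468864ceb811cf18820bce8d549c7216ab45a0c4be2618820 k)) 24 6 :=
    fun k h i hi => isM_rep (hk k h).1 i hi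
  have := H16.L34.simple
  obtain ⟨e, -⟩ := H16.L34.bound.exists_equiv_of_simple H16.L34.rels H16.L34.card
    (H16.rels_of_all ha (fun a _ h => perm_ext_iff.2 h) (H16.FixUpTo.first (by decide +kernel)))
    (j := 0) (by norm_num) (fun e => absurd ((is1_iff (isM_rep (hk 0 (by norm_num)).1)).1 e)
      (by decide +kernel))
  have h2 : H16.gen (fun k => H15.P (getP 0xbaa959ca28795a93d990591c610c20bc533a4ace340ac59ea853da320820b926faa22da3a0b6255231cb618820bae957b6289ba44b1cd0524ac18820ba9b5b48a93468864ceb811cf18820bce8d549c7216ab45a0c4be2618820 k)) 6 = Cfsg.M24 ⊓ Fx 8388611 :=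
    Subgroup.eq_of_le_of_card_ge (H16.gen_le.2 fun k h =>
      ⟨isM_mem (hk k h).1, (isM_rep (hk k h).1).mem_Fx (hk k h).2⟩) (by
        rw [card_F3, ← Nat.card_congr e.toEquiv, H16.L34.card])
  obtain ⟨f⟩ := H16.LL34.equiv
  refine ⟨(equivOfConj _ _ inf_le_left σ h1 fun x => ?_).trans ((MulEquiv.subgroupCongr h2.symm).trans
    (e.symm.trans (f.trans (H11.pslCongr (Equiv.refl _) (FiniteField.ringEquivOfCardEq
      (hF.trans rfl).symm)))))⟩
  rw [Subgroup.mem_inf (p := Cfsg.M24), mem_Fx, show S 8388611 = {pt 23, pt 0, pt 1} by decide +kernel]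
  simp only [mem_insert, mem_singleton, forall_eq_or_imp, forall_eq, conj_apply_eq_iff]
  exact ⟨fun h => ⟨conj_mem_M24 h1 x.2, h.1.1, h.1.2, h.2⟩, fun h => ⟨⟨h.2.1, h.2.2.1⟩, h.2.2.2⟩⟩

end Cfsg.Agent.S0380
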