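import Cfsg.Statements.S2807
import Cfsg.Agent.H3.Yoshida

set_option autoImplicit false
open Cfsg

namespace Cfsg.Agent.S2807

open Cfsg Subgroup H28 H3

/-- Let S be a Sylow p-subgroup of the finite group G. If S ∩ G' ≠ S ∩ (N_G(S))' (derived subgroups), then the wreath product Z_p ≀ Z_p — realised as a Sylow p-subgroup of the symmetric group of degree p² — is a homomorphic image of S. -/
theorem result {G : Type*} [Group G] [Finite G] {p : ℕ} [Fact p.Prime] (S : Sylow p G) (h : (S : Subgroup G) ⊓ commutator G ≠ (S : Subgroup G) ⊓ ⁅Subgroup.normalizer ((S : Subgroup G) : Set G), Subgroup.normalizer ((S : Subgroup G) : Set G)⁆) : ∃ (P : Sylow p (Equiv.Perm (Fin (p ^ 2)))) (f : ↥(S : Subgroup G) →* ↥(P : Subgroup (Equiv.Perm (Fin (p ^ 2))))), Function.Surjective f := by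
  have hp : p.Prime := Fact.out
  obtain ⟨T, A, h1, h2, h3, h4, z, hz, hzA, u, hu, hy⟩ := yoshida S le_normalizer le_rfl
    le_normalizer (fun t ht => mem_normalizer_of_cj_le
      ((isSylowIn_of_sylow_le S le_normalizer).le_of_le_normalizer (isPGroup_cj t S.2) ht ht)) h
  obtain rfl : T = S := le_antisymm h2 h1
  have hn : (A.subgroupOf S).Normal := H4.normal_of_index_prime S.2 h4
  obtain ⟨B, hB, hyB⟩ : ∃ B : Subgroup A, IsCoatom B ∧
      (fun y : G => y⁻¹ * z⁻¹ * y * z)^[p - 1] u ∉ B.map A.subtype := by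
    by_contra hne
    push Not at hne
    have hzn : z ∈ 𝐍 A := (normal_subgroupOf_iff_le_normalizer h3).1 hn hz
    have hA : ∀ n, (fun y : G => y⁻¹ * z⁻¹ * y * z)^[n] u ∈ A := fun n => by
      induction n with
      | zero => exact hu
      | succ n ih =>
        rw [Function.iterate_succ_apply']
        have := mul_mem (inv_mem ih) (conj_mem_of_mem_normalizer' hzn ih)
        simpa only [mul_assoc] using this
    refine hy ⟨⟨_, hA _⟩, ?_, rfl⟩
    simp only [frattini, Order.radical, SetLike.mem_coe, mem_iInf]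
    intro B hB
    obtain ⟨x, hx, e⟩ := hne B hB
    rwa [← Subtype.ext (a1 := x) (a2 := ⟨_, hA _⟩) e]
  set B' := (B.map A.subtype).subgroupOf S with hB'
  have hBi : Nat.card (S ⧸ B') = p ^ 2 := by
    have h5 : (B.map A.subtype).relIndex A = p := by
      rw [relIndex, subgroupOf_map_subtype', H4.index_of_coatom (S.2.to_le h3) hB]
    change (B.map A.subtype).relIndex S = _
    rw [← relIndex_mul_relIndex _ _ _ (map_subtype_le B) h3, h5, h4, sq]
  let e := Finite.equivFinOfCardEq hBi
  let f : S →* Equiv.Perm (Fin (p ^ 2)) :=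
    e.permCongrHom.toMonoidHom.comp (MulAction.toPermHom S (S ⧸ B'))
  have hk : f.rangeRestrict.ker ≤ B' := by
    rw [MonoidHom.ker_rangeRestrict, MonoidHom.ker_comp_of_injective _ _ e.permCongrHom.injective,
      ← normalCore_eq_ker]
    exact normalCore_le _
  have hf := f.rangeRestrict_surjective
  have hX : IsPGroup p f.range := S.2.of_surjective _ hf
  have hn' := hn.map _ hf
  have h5 := pow_le_card_of_iterate hX (f.rangeRestrict ⟨z, hz⟩) (p - 1) ((A.subgroupOf S).map f.rangeRestrict)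
    (f.rangeRestrict ⟨u, h3 hu⟩) (mem_map_of_mem _ hu) (by
      have h6 : ∀ n, ∃ x : S, (x : G) = (fun y : G => y⁻¹ * z⁻¹ * y * z)^[n] u ∧
          f.rangeRestrict x = (fun y => y⁻¹ * (f.rangeRestrict ⟨z, hz⟩)⁻¹ * y *
            f.rangeRestrict ⟨z, hz⟩)^[n] (f.rangeRestrict ⟨u, h3 hu⟩) := fun n => by
        induction n with
        | zero => exact ⟨⟨u, h3 hu⟩, rfl, rfl⟩
        | succ n ih =>
          obtain ⟨x, e1, e2⟩ := ih
          refine ⟨x⁻¹ * (⟨z, hz⟩ : S)⁻¹ * x * ⟨z, hz⟩, ?_, ?_⟩
          · rw [Function.iterate_succ_apply', ← e1]; rfl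
          · rw [Function.iterate_succ_apply', ← e2]; simp
      obtain ⟨x, e1, e2⟩ := h6 (p - 1)
      rw [← e2]
      exact fun h7 => hyB (e1 ▸ hk h7))
  rw [Nat.sub_add_cancel hp.one_le] at h5
  have h6 : (A.subgroupOf S).map f.rangeRestrict < ⊤ := lt_top_iff_ne_top.2 fun e => by
    have := comap_map_eq_self (hk.trans (comap_mono (map_subtype_le B)))
    rw [show comap (S : Subgroup G).subtype A = A.subgroupOf S from rfl, e, comap_top] at this
    exact hzA (this.le (mem_top ⟨z, hz⟩))
  have h7 := H4.card_mul_le_of_lt hX h6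
  rw [card_top] at h7
  obtain ⟨P, hP⟩ := hX.exists_le_sylow
  have h8 : Nat.card P = p ^ (p + 1) := by
    rw [Sylow.card_eq_multiplicity, Nat.card_perm, Nat.card_fin, Nat.factorization_def _ hp, sq,
      padicValNat_factorial_mul]
    have := padicValNat_factorial_mul (p := p) 1
    rw [mul_one] at this
    rw [this]
    simp [add_comm]
  have h9 : f.range = P := eq_of_le_of_card_le hP (by
    rw [h8, pow_succ]; exact (Nat.mul_le_mul_right p h5).trans h7)
  refine ⟨P, (inclusion hP).comp f.rangeRestrict, ?_⟩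
  intro x
  obtain ⟨y, hy⟩ := h9.ge x.2
  exact ⟨y, Subtype.ext hy⟩

end Cfsg.Agent.S2807
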