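import Cfsg.Statements.S3224
import Cfsg.Agent.H10.Taussky
import Cfsg.Agent.H10.QD

set_option autoImplicit false
open Cfsg

namespace Cfsg.Agent.S3224

/-- A finite 2-group containing an involution whose centralizer has order 4 is dihedral, quasi-dihedral (semidihedral), or of order 4. -/
theorem result {S : Type*} [Group S] [Finite S] (hS : IsPGroup 2 S)
    (x : S) (hx : orderOf x = 2) (hC : Nat.card ↥(Subgroup.centralizer ({x} : Set S)) = 4) :
    (∃ n : ℕ, Nonempty (S ≃* DihedralGroup n)) ∨ Cfsg.IsQuasiDihedral S ∨ Nat.card S = 4 := by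
  by_cases h4 : Nat.card S = 4
  · exact Or.inr (Or.inr h4)
  have h5 : 4 < Nat.card S := lt_of_le_of_ne (hC ▸ Subgroup.card_le_card_group _) (Ne.symm h4)
  obtain ⟨n, a, e, h⟩ := H10.taussky_mc hS ((H10.index_commutator_le_card_centralizer x).trans hC.le) h5
  have hx2 : x ^ 2 = 1 := hx ▸ pow_orderOf_eq_one x
  have hxa : x ∉ Subgroup.zpowers a := by
    intro hxa
    rcases h.invol_in hxa hx2 with rfl | rfl
    · simp at hx
    · have : Subgroup.centralizer ({H10.mcZ a n} : Set S) = ⊤ := by
        rw [eq_top_iff]; intro s hs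
        exact Subgroup.mem_centralizer_singleton_iff.2 (h.z_comm hs)
      rw [this, Subgroup.card_top] at hC
      exact h4 hC
  have hconj := h.conj x trivial hxa
  have hd := h.dvd_e
  have h2 := h.two_le
  obtain ⟨j, hj⟩ := hd
  rcases Int.even_or_odd' j with ⟨i, rfl | rfl⟩
  · left
    refine ⟨2 ^ n, H4.nonempty_mulEquiv_dihedral h.ord hx2 ?_ hxa (h.eq_sup trivial hxa)⟩
    rw [hconj, ← zpow_neg_one, h.eq_iff]
    exact ⟨-i, by rw [h.pow_n]; linear_combination -hj⟩
  · have h3 : x * a * x⁻¹ = a ^ ((2 : ℤ) ^ (n - 1) - 1) := by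
      rw [hconj, h.eq_iff]
      exact ⟨-i, by rw [h.pow_n]; linear_combination -hj⟩
    by_cases hn : 3 ≤ n
    · right; left
      refine ⟨n, hn, by simpa using h.card, a, x, h.ord, hx, ?_⟩
      rw [h3, ← zpow_natCast]
      congr 1
      rw [Nat.cast_sub Nat.one_le_two_pow]; simp
    · exfalso
      obtain rfl : n = 2 := by omega
      obtain ⟨k, rfl⟩ := h.odd
      omega

end Cfsg.Agent.S3224
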