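import Cfsg.Statements.S0213
import Cfsg.Agent.H10.Syl

set_option autoImplicit false
open Cfsg

namespace Cfsg.Agent.S0213

/-- Thompson Order Formula, two-class case: if every involution of the finite group G is conjugate to exactly one of the non-conjugate involutions x₁, x₂, and nᵢ is the number of pairs (u, v) with u conjugate to x₁, v conjugate to x₂ and xᵢ in the cyclic group generated by uv, then |G| = |C(x₂)| n₁ + |C(x₁)| n₂. -/
theorem result {G : Type*} [Group G] [Finite G] (x₁ x₂ : G) (h₁ : orderOf x₁ = 2) (h₂ : orderOf x₂ = 2) (hnc : ¬ IsConj x₁ x₂) (hall : ∀ t : G, orderOf t = 2 → IsConj x₁ t ∨ IsConj x₂ t) : Nat.card G = Nat.card (Subgroup.centralizer ({x₂} : Set G)) * Nat.card {p : G × G // IsConj x₁ p.1 ∧ IsConj x₂ p.2 ∧ x₁ ∈ Subgroup.zpowers (p.1 * p.2)} + Nat.card (Subgroup.centralizer ({x₁} : Set G)) * Nat.card {p : G × G // IsConj x₁ p.1 ∧ IsConj x₂ p.2 ∧ x₂ ∈ Subgroup.zpowers (p.1 * p.2)} := by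
  classical
  have := Fintype.ofFinite G
  -- the set of pairs
  let P : Finset (G × G) := Finset.univ.filter fun p => IsConj x₁ p.1 ∧ IsConj x₂ p.2
  let f : G × G → G := fun p => (p.1 * p.2) ^ (orderOf (p.1 * p.2) / 2)
  have hf : ∀ p ∈ P, orderOf (f p) = 2 := by
    intro p hp
    simp only [P, Finset.mem_filter, Finset.mem_univ, true_and] at hp
    have hu : orderOf p.1 = 2 := (H10.orderOf_eq_of_isConj hp.1).symm.trans h₁
    have hv : orderOf p.2 = 2 := (H10.orderOf_eq_of_isConj hp.2).symm.trans h₂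
    refine H10.orderOf_pow_half (orderOf_pos _).ne' ?_
    rw [← Nat.not_odd_iff_even]
    intro hodd
    exact hnc ((hp.1.trans (H10.isConj_of_odd (H10.mul_self_of_orderOf_two hu)
      (H10.mul_self_of_orderOf_two hv) hodd)).trans hp.2.symm)
  have hfib : ∀ z : G, orderOf z = 2 → (P.filter fun p => f p = z).card =
      Nat.card {p : G × G // IsConj x₁ p.1 ∧ IsConj x₂ p.2 ∧ z ∈ Subgroup.zpowers (p.1 * p.2)} := by
    intro z hz
    rw [Nat.card_eq_fintype_card, Fintype.card_subtype]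
    congr 1
    ext p
    simp only [Finset.mem_filter, Finset.mem_univ, true_and]
    constructor
    · rintro ⟨hp, rfl⟩
      simp only [P, Finset.mem_filter, Finset.mem_univ, true_and] at hp
      exact ⟨hp.1, hp.2, Subgroup.pow_mem _ (Subgroup.mem_zpowers _) _⟩
    · rintro ⟨a, b, c⟩
      have hp : p ∈ P := by simp only [P, Finset.mem_filter, Finset.mem_univ, true_and]; exact ⟨a, b⟩
      exact ⟨hp, H10.invol_unique_of_isCyclic (H := Subgroup.zpowers (p.1 * p.2)) inferInstance
        (Subgroup.pow_mem _ (Subgroup.mem_zpowers _) _) c (hf p hp) hz⟩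
  have hconj : ∀ x z : G, IsConj x z →
      Nat.card {p : G × G // IsConj x₁ p.1 ∧ IsConj x₂ p.2 ∧ z ∈ Subgroup.zpowers (p.1 * p.2)} =
      Nat.card {p : G × G // IsConj x₁ p.1 ∧ IsConj x₂ p.2 ∧ x ∈ Subgroup.zpowers (p.1 * p.2)} := by
    intro x z hxz
    obtain ⟨c, rfl⟩ := isConj_iff.1 hxz
    symm
    refine Nat.card_congr (Equiv.subtypeEquiv
      ((MulAut.conj c).toEquiv.prodCongr (MulAut.conj c).toEquiv) fun p => ?_)
    have e : ∀ a b : G, IsConj a b ↔ IsConj a (c * b * c⁻¹) := fun a b =>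
      ⟨fun h => h.trans (isConj_iff.2 ⟨c, rfl⟩), fun h => h.trans (isConj_iff.2 ⟨c, rfl⟩).symm⟩
    have e2 : x ∈ Subgroup.zpowers (p.1 * p.2) ↔
        c * x * c⁻¹ ∈ Subgroup.zpowers (c * p.1 * c⁻¹ * (c * p.2 * c⁻¹)) := by
      rw [conj_mul]
      constructor
      · rintro ⟨k, rfl⟩; exact ⟨k, by simp⟩
      · rintro ⟨k, hk⟩; exact ⟨k, by simpa using hk⟩
    exact and_congr (e _ _) (and_congr (e _ _) e2)
  set n₁ := Nat.card {p : G × G // IsConj x₁ p.1 ∧ IsConj x₂ p.2 ∧ x₁ ∈ Subgroup.zpowers (p.1 * p.2)}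
  set n₂ := Nat.card {p : G × G // IsConj x₁ p.1 ∧ IsConj x₂ p.2 ∧ x₂ ∈ Subgroup.zpowers (p.1 * p.2)}
  let K₁ : Finset G := Finset.univ.filter fun y => IsConj x₁ y
  let K₂ : Finset G := Finset.univ.filter fun y => IsConj x₂ y
  have hP : P.card = K₁.card * K₂.card := by
    rw [← Finset.card_product]; congr 1; ext p; simp [P, K₁, K₂]
  have hd : Disjoint K₁ K₂ := by
    rw [Finset.disjoint_left]
    intro y a b
    simp only [K₁, K₂, Finset.mem_filter, Finset.mem_univ, true_and] at a b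
    exact hnc (a.trans b.symm)
  have hsum : P.card = K₁.card * n₁ + K₂.card * n₂ := by
    rw [Finset.card_eq_sum_card_fiberwise (f := f) (t := K₁ ∪ K₂) (by
      intro p hp
      simpa [K₁, K₂, -isConj_iff] using hall _ (hf p hp)), Finset.sum_union hd]
    congr 1
    · rw [Finset.sum_const_nat]
      intro z hz
      simp only [K₁, Finset.mem_filter, Finset.mem_univ, true_and] at hz
      rw [hfib z ((H10.orderOf_eq_of_isConj hz).symm.trans h₁), hconj _ _ hz]
    · rw [Finset.sum_const_nat]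
      intro z hz
      simp only [K₂, Finset.mem_filter, Finset.mem_univ, true_and] at hz
      rw [hfib z ((H10.orderOf_eq_of_isConj hz).symm.trans h₂), hconj _ _ hz]
  have e1 := H10.card_isConj_mul_card_centralizer x₁
  have e2 := H10.card_isConj_mul_card_centralizer x₂
  rw [Nat.card_eq_fintype_card, Fintype.card_subtype] at e1 e2
  change K₁.card * _ = _ at e1
  change K₂.card * _ = _ at e2
  set c₁ := Nat.card (Subgroup.centralizer ({x₁} : Set G))
  set c₂ := Nat.card (Subgroup.centralizer ({x₂} : Set G))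
  have hg : 0 < Nat.card G := Nat.card_pos
  refine Nat.eq_of_mul_eq_mul_left hg ?_
  calc Nat.card G * Nat.card G = (K₁.card * c₁) * (K₂.card * c₂) := by rw [e1, e2]
    _ = P.card * (c₁ * c₂) := by rw [hP]; ring
    _ = (K₁.card * c₁) * (c₂ * n₁) + (K₂.card * c₂) * (c₁ * n₂) := by rw [hsum]; ring
    _ = _ := by rw [e1, e2]; ring

end Cfsg.Agent.S0213
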