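import Cfsg.Statements.S4194
import Cfsg.Agent.H25.CamH

set_option autoImplicit false
open Cfsg

namespace Cfsg.Agent.S4194
open _root_.H25 Subgroup

/-- A finite group G has commutative Sylow 2-subgroups if and only if every 2-element of G (element of order a power of 2) is 2-central, that is, its centralizer contains a Sylow 2-subgroup of G. -/
theorem result {G : Type*} [Group G] [Finite G] (P : Sylow 2 G) :
    IsMulCommutative (P : Subgroup G) ↔ ∀ x : G, (∃ k : ℕ, orderOf x = 2 ^ k) → (∃ Q : Sylow 2 G, (Q : Subgroup G) ≤ Subgroup.centralizer ({x} : Set G)) := by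
  refine ⟨fun h x hx => ?_, fun h => ?_⟩
  · obtain ⟨k, hk⟩ := hx
    obtain ⟨Q, hQ⟩ := (isPGroup_zpowers_of_orderOf hk).exists_le_sylow
    obtain ⟨g, -, hg⟩ := (syl_sylow P).exists_cj_le Q.isPGroup' le_top
    refine ⟨Q, fun y hy => mem_centralizer_singleton_iff.2 ?_⟩
    have := congrArg Subtype.val (h.1.1 ⟨_, hg (conj_mem_cj g hy)⟩
      ⟨_, hg (conj_mem_cj g (hQ (mem_zpowers x)))⟩)
    simpa [← mul_assoc] using (by simpa [mul_assoc] using this : y * (x * g⁻¹) = x * (y * g⁻¹))
  · have h1 := camina_herzog P fun x hx => by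
      obtain ⟨Q, hQ⟩ := h x (by
        simpa using IsPGroup.iff_orderOf.1 P.isPGroup' ⟨x, hx⟩)
      exact ⟨Q, fun y hy => mem_cz_zpowers.2 (by
        rw [mem_centralizer_singleton_iff.1 (hQ hy)]; group)⟩
    exact ⟨⟨fun a b => Subtype.ext (mem_cz'.1 (h1 b.2) a a.2)⟩⟩

end Cfsg.Agent.S4194
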