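import Cfsg.Statements.S4355
import Cfsg.Agent.S4194
import Cfsg.Agent.H25.Syl

set_option autoImplicit false
open Cfsg

namespace Cfsg.Agent.S4355
open _root_.H25 Subgroup

/-- If every element of 2-power order of a finite group has a conjugacy class of odd size, then the Sylow 2-subgroups of the group are abelian. -/
theorem result {G : Type*} [Group G] [Finite G]
    (h : ∀ x : G, (∃ k : ℕ, orderOf x = 2 ^ k) → ¬ 2 ∣ (Subgroup.centralizer ({x} : Set G)).index) (P : Sylow 2 G) :
    IsMulCommutative P := by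
  refine (S4194.result P).2 fun x hx => ?_
  obtain ⟨Y, hY, hs⟩ := exists_syl (p := 2) (centralizer ({x} : Set G))
  obtain ⟨Q, hQ⟩ := hY.exists_le_sylow
  have h1 : Syl 2 Y ⊤ := hs.trans ⟨le_top, by simpa using h x hx⟩
  exact ⟨Q, (h1.eq_of_le Q.isPGroup' hQ le_top).le.trans hs.le⟩

end Cfsg.Agent.S4355
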