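import Cfsg.Statements.S2202
import Cfsg.Agent.H19.Ab2b

set_option autoImplicit false
open Cfsg

namespace Cfsg.Agent.S2202

/-- Finite groups in which the centralizer of every involution is abelian. Let G be a finite group of even order in which the centralizer of every element of order 2 is abelian. Then the Sylow 2-subgroups of G are cyclic, or a Sylow 2-subgroup of G is normal, or G is isomorphic to the direct product of SL₂(F) for a finite field F of characteristic two and an abelian group of odd order. -/
theorem result {G : Type*} [Group G] [Finite G] (heven : Even (Nat.card G)) (h : ∀ t : G, orderOf t = 2 → IsMulCommutative ↥(Subgroup.centralizer ({t} : Set G))) :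
    (∀ P : Sylow 2 G, IsCyclic ↥P) ∨ (∀ P : Sylow 2 G, (P : Subgroup G).Normal) ∨
    (∃ (F : Type) (_ : Field F) (_ : Fintype F) (A : Type) (_ : CommGroup A) (_ : Finite A), CharP F 2 ∧ Odd (Nat.card A) ∧ Nonempty (G ≃* Matrix.SpecialLinearGroup (Fin 2) F × A)) := by
  refine (H19.AC.main h).imp_right (Or.imp_right ?_)
  rintro ⟨F, _, _, Z, h1, -, h2, h3, ⟨e⟩⟩
  let _ : CommGroup Z :=
    { mul_comm := fun a b => Subtype.ext (Subgroup.mem_center_iff.1 (h3 b.2) a) }
  exact ⟨F, inferInstance, inferInstance, Shrink.{0} Z, inferInstance,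
    Finite.of_equiv _ (equivShrink.{0} Z), h1, Nat.card_congr (equivShrink.{0} Z) ▸ h2,
    ⟨e.trans ((MulEquiv.refl _).prodCongr Shrink.mulEquiv.symm)⟩⟩

end Cfsg.Agent.S2202
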