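import Cfsg.Statements.S4034
import Cfsg.Agent.H7.Kazarin
import Cfsg.Agent.H23.PiClosed
import Cfsg.Agent.H23.Nil
import Cfsg.Agent.H2.Hall
import Cfsg.Agent.H28.GFAct

set_option autoImplicit false
open Cfsg

namespace Cfsg.Agent.S4034

open Subgroup H24 Cfsg

theorem base {G : Type*} [Group G] [Finite G] {p : ℕ} [hp : Fact p.Prime] (hO : pCore p G = ⊥)
    (h : ∀ x : G, (orderOf x).Coprime p → ∃ k : ℕ, cs x = p ^ k) :
    ∃ H : Subgroup G, IsMulCommutative H ∧ ¬ p ∣ Nat.card H ∧ ∃ k : ℕ, H.index = p ^ k := by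
  have hc := H28.coprime_card_fitting (G := G) (p := p) hO
  refine ⟨fittingSubgroup G, H1.isMulCommutative_iff.2 fun a ha b hb => ?_,
    (hp.out.coprime_iff_not_dvd.1 hc.symm), ?_⟩
  · have : (orderOf a).Coprime p := Nat.Coprime.coprime_dvd_left (orderOf_dvd_natCard _ ha) hc
    obtain ⟨k, hk⟩ := h a this
    exact ((H7.kazarin_fitting hO (x := a) (k := k) (by rw [hk])).2 b hb).symm
  · have := H23.piNum_index_of_forall_mem (π := {p}ᶜ) (K := fittingSubgroup G) fun x hx => by
      have h1 := (H23.piNum_compl_singleton_iff hp.out).1 hx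
      obtain ⟨k, hk⟩ := h x (hp.out.coprime_iff_not_dvd.2 h1).symm
      exact (H7.kazarin_fitting hO (x := x) (k := k) (by rw [hk])).1
    rw [compl_compl] at this
    exact (H23.piNum_singleton_iff hp.out index_ne_zero_of_finite).1 this

theorem solv {G : Type*} [Group G] [Finite G] {p : ℕ} [hp : Fact p.Prime] (H : Subgroup G)
    (hH : IsMulCommutative H) {k : ℕ} (hk : H.index = p ^ k) : Group.IsSolvable G := by
  have hle : H ≤ solvableRadical G := fun x hx => by
    refine H7.kazarin hp.out (k := k) ?_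
    rw [← hk]
    exact index_dvd_of_le fun y hy => mem_cent.2 (H1.isMulCommutative_iff.1 hH y hy x hx)
  refine H23.solvable_of_quot (solvableRadical G) H1.solvRad_isSolvable ?_
  have : IsPGroup p (G ⧸ solvableRadical G) := by
    obtain ⟨j, -, hj⟩ := (Nat.dvd_prime_pow hp.out).1 (hk ▸ index_dvd_of_le hle)
    exact IsPGroup.of_card hj
  haveI := this.isNilpotent
  infer_instance

/-- Let G be a finite group and p a prime. Every conjugacy class of p-regular elements of G (elements of order prime to p) has p-power size if and only if G has an abelian p-complement, i.e. an abelian subgroup of order prime to p and p-power index. -/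
theorem result {G : Type*} [Group G] [Finite G] {p : ℕ} (hp : p.Prime) :
    (∀ x : G, (orderOf x).Coprime p → ∃ k : ℕ, (ConjClasses.mk x).carrier.ncard = p ^ k) ↔
    (∃ H : Subgroup G, IsMulCommutative H ∧ ¬ p ∣ Nat.card H ∧ ∃ k : ℕ, H.index = p ^ k) := by
  haveI := Fact.mk hp
  have e : ∀ x : G, (ConjClasses.mk x).carrier.ncard = cs x := fun x => by
    rw [← card_carrier_mk, Nat.card_coe_set_eq]
  simp only [e]
  constructor
  · intro h
    set M := pCore p G
    obtain ⟨L, hL, hLp, k, hk⟩ := base (G := G ⧸ M) (p := p) H1.pCore_quotient_pCore fun x hx => by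
      obtain ⟨x, rfl⟩ := QuotientGroup.mk_surjective x
      obtain ⟨a, -, ha, hax⟩ := H23.exists_piElt_lift (QuotientGroup.mk' M) (π := {p}ᶜ) x
        ((H23.piNum_compl_singleton_iff hp).2 (hp.coprime_iff_not_dvd.1 hx.symm))
      obtain ⟨k, hk⟩ := h a (hp.coprime_iff_not_dvd.2 ((H23.piNum_compl_singleton_iff hp).1 ha)).symm
      have := cs_quot_dvd M a
      rw [hk] at this
      obtain ⟨j, -, hj⟩ := (Nat.dvd_prime_pow hp).1 this
      exact ⟨j, by rw [← hj]; exact congrArg cs hax.symm⟩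
    obtain ⟨m, hm⟩ := IsPGroup.iff_card.1 (H1.pCore_isPGroup (G := G) (p := p))
    have hcop : (Nat.card M).Coprime (Nat.card L) := by
      rw [hm]; exact Nat.Coprime.pow_left _ (hp.coprime_iff_not_dvd.2 hLp)
    obtain ⟨H, h1, h2, h3⟩ := H2.exists_complement_comap M L hcop
    refine ⟨H, H1.isMulCommutative_iff.2 fun a ha b hb => ?_, h1 ▸ hLp, k + m, by rw [h2, hk, hm, pow_add]⟩
    have hd : M ⊓ H = ⊥ := inf_eq_bot_of_coprime (h1 ▸ hcop)
    have ha' : (a : G ⧸ M) ∈ L := by
      have : a ∈ M ⊔ H := mem_sup_right ha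
      rw [h3] at this; exact this
    have hb' : (b : G ⧸ M) ∈ L := by
      have : b ∈ M ⊔ H := mem_sup_right hb
      rw [h3] at this; exact this
    have hab := H1.isMulCommutative_iff.1 hL _ ha' _ hb'
    rw [← QuotientGroup.mk_mul, ← QuotientGroup.mk_mul, QuotientGroup.eq] at hab
    have : (a * b)⁻¹ * (b * a) ∈ M ⊓ H :=
      ⟨hab, H.mul_mem (H.inv_mem (H.mul_mem ha hb)) (H.mul_mem hb ha)⟩
    rw [hd, mem_bot, inv_mul_eq_one] at this
    exact this
  · rintro ⟨H, hH, hHp, k, hk⟩ x hx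
    haveI := solv H hH hk
    have hall : IsPiHall {p}ᶜ H := (H2.isPiHall_compl_singleton_iff hp).2
      ⟨(hp.coprime_iff_not_dvd.2 hHp).symm, k, hk⟩
    obtain ⟨g, hg⟩ := (H2.dPi_of_isSolvable {p}ᶜ G).exists_conj_mem hall (K := zpowers x)
      ((H2.piNum_compl_singleton_iff hp).2 (by rwa [Nat.card_zpowers]))
    have h1 := hg x (mem_zpowers x)
    have h2 : cs (g⁻¹ * x * g) ∣ p ^ k := by
      rw [← hk]
      exact index_dvd_of_le fun y hy => mem_cent.2 (H1.isMulCommutative_iff.1 hH y hy _ h1)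
    have h3 := cs_conj g⁻¹ x
    rw [inv_inv] at h3
    rw [h3] at h2
    obtain ⟨j, -, hj⟩ := (Nat.dvd_prime_pow hp).1 h2
    exact ⟨j, hj⟩

end Cfsg.Agent.S4034
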