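import Cfsg.Statements.S3071
import Cfsg.Agent.H9.StrCtl
import Cfsg.Agent.H29.WellPlaced

set_option autoImplicit false
open Cfsg

namespace Cfsg.Agent.S3071

open Cfsg Subgroup H28 H29 in
theorem fctl_of_wp_center {G : Type*} [Group G] [Finite G] {p : ℕ} [Fact p.Prime]
    {W : Subgroup G → Subgroup G} (hW : IsConjugacyFunctor p W)
    (hWZ : ∀ P : Subgroup G, P ⊓ 𝐂 P ≤ W P) {S H : Subgroup G} (hS : IsSylowIn p S H)
    (hloc : ∀ U, WP p W S H U → S ⊓ 𝐂 S ≤ U → FCtl {W} (H ⊓ 𝐍 U) (S ⊓ 𝐍 U)) :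
    FCtl {W} H S := by
  have key := wp_induction (H := H) hW hS.isPGroup (S ⊓ 𝐂 S ≤ ·)
    (fun V => ∀ B ≤ S ⊓ 𝐍 V, ∀ g ∈ H ⊓ 𝐍 V, cj g B ≤ S ⊓ 𝐍 V → Fus (famX {W} H S) S B g)
    (fun U hU _ => (center_le_center_normalizer hU.ext.le).trans (hWZ _))
    (fun U hU h0 ih B hB g hg hle => by
      refine (hloc U hU h0 B hB g hg hle).good (fusPred_fus _ _)
        ((famX_subset _ _ _).trans inf_le_left)
        (fun B hB c hc => Fus.cent (hB.trans inf_le_left) hc.2) ?_ hg.1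
      rintro B hB x ⟨W, rfl, hx⟩ hle
      rcases (inf_le_left : S ⊓ 𝐍 U ≤ S).lt_or_eq with hlt | e
      · have hn : S ⊓ 𝐍 U ≤ S ⊓ 𝐍 (W (S ⊓ 𝐍 U)) :=
          le_inf inf_le_left (le_normalizer_functor hW hS.isPGroup.to_inf_left)
        exact ih hlt B (hB.trans hn) x ⟨hx.1.1, hx.2⟩ (hle.trans hn)
      · rw [e] at hx hB hle
        exact Fus.single hB ⟨W, rfl, hx.1.1, hx.2⟩ hle)
  intro A hA
  refine alperin_centric hS (fusPred_fus _ _) (fun B hB c hc => Fus.cent hB hc.2)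
    (WP p W S H) 0 (fun T hT _ => ?_) (fun U hU _ hcen _ _ g hg => ?_) A hA (Nat.zero_le _)
  · obtain ⟨h, hh, h1⟩ := exists_wp_conj hW hS (hS.isPGroup.to_le hT) (hT.trans hS.le)
    exact ⟨h, hh, h1, h1.ext⟩
  · exact key U hU ((inf_le_inf_left _ (centralizer_anti hU.ext.le)).trans hcen) U
      (le_inf_normalizer_self hU.ext.le) g hg
      (by rw [cj_eq_self hg.2]; exact le_inf_normalizer_self hU.ext.le)

/-- Let p be an odd prime and S a Sylow p-subgroup of the finite group G such that, for every subgroup P with Z(S) ≤ P ≤ S, the normalizer N_G(P) has no section isomorphic to SL₂(p). Let J(S) be the subgroup generated by the abelian subgroups of S of largest order. Then two elements of S are conjugate in G if and only if they are conjugate in N_G(Z(J(S))). -/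
theorem result {G : Type*} [Group G] [Finite G] {p : ℕ} [Fact p.Prime]
    (hp : p ≠ 2) (S : Sylow p G)
    (hfree : ∀ P : Subgroup G, (S : Subgroup G) ⊓ Subgroup.centralizer ((S : Subgroup G) : Set G) ≤ P → P ≤ S →
      ¬ ∃ (H K : Subgroup G) (hK : (K.subgroupOf H).Normal), H ≤ Subgroup.normalizer (P : Set G) ∧
        Nonempty ((H ⧸ K.subgroupOf H) ≃* Matrix.SpecialLinearGroup (Fin 2) (ZMod p))) :
    ∀ x ∈ S, ∀ y ∈ S, (∃ g : G, g * x * g⁻¹ = y) ↔
      ∃ n ∈ Subgroup.normalizer (Cfsg.centerThompsonAOf (S : Subgroup G) : Set G), n * x * n⁻¹ = y := by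
  open Cfsg Subgroup H28 H29 H9 in
  have hZ := zjType_ZJ (p := p) hp (e := 0) (Or.inr rfl)
  have hS := isSylowIn_top S
  have h := fctl_of_wp_center (isConj_induced (G := G) hZ.1) (fun P => by
      rw [induced_ZJ]
      have := omegaOneCenter_le_ZJ 0 P
      rwa [omegaOneCenter, omegaOne_zero] at this) hS (fun U hU hc => by
      have hs := hU.ext.syl
      rw [top_inf_eq] at hs ⊢
      rw [fctl_singleton_iff]
      refine (hZ.dCtl_of_not_involves hp fun h => hfree U hc hU.ext.le ?_).aCtl hZ.1 hs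
        (strCl_self _ _)
      exact (involves_SL2_of_qd (H9.involves_iff.2 h)).section')
  rw [fctl_top_iff, induced_ZJ, ← centerThompsonAOf_eq_ZJ] at h
  intro x hx y hy
  refine ⟨?_, fun ⟨n, _, hn⟩ => ⟨n, hn⟩⟩
  rintro ⟨g, rfl⟩
  obtain ⟨n, hn, c, hc, rfl⟩ := h (zpowers x) (zpowers_le.2 hx) g
    (by rw [cj_zpowers]; exact zpowers_le.2 hy)
  refine ⟨n, hn, ?_⟩
  rw [mul_assoc n c x, ← mem_centralizer_iff.1 hc x (mem_zpowers x)]; group

end Cfsg.Agent.S3071
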