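import Cfsg.Statements.S3192
import Cfsg.Agent.H24.Rank3b

set_option autoImplicit false
open Cfsg

namespace Cfsg.Agent.S3192

open H24 Subgroup in
theorem set_eq {G : Type*} [Group G] (hZ : center G = ⊥) :
    {m : ℕ | ∃ x : G, x ∉ center G ∧ m = (centralizer ({x} : Set G)).index} =
      {m : ℕ | ∃ x : G, x ≠ 1 ∧ m = cs x} := by
  simp only [hZ, mem_bot]


/-- Simple groups of conjugate type rank three. For a finite group G consider the set of indices of the centralizers of the non-central elements of G. Then G is a non-abelian simple group for which this set has exactly three members if and only if G is isomorphic to PSL(2, 2^m) for some m ≥ 2. -/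
theorem result (G : Type*) [Group G] [Finite G] :
    (IsSimpleGroup G ∧ ¬ IsMulCommutative G ∧
        Set.ncard {m : ℕ | ∃ x : G, x ∉ Subgroup.center G ∧ m = (Subgroup.centralizer ({x} : Set G)).index} = 3) ↔
      ∃ (m : ℕ) (F : Type) (_ : Field F) (_ : Fintype F), 2 ≤ m ∧ Fintype.card F = 2 ^ m ∧
        Nonempty (G ≃* Matrix.ProjectiveSpecialLinearGroup (Fin 2) F) := by
  open H24 Subgroup in
  constructor
  · rintro ⟨hs, hna, h3⟩
    have hZ : center G = ⊥ := (inferInstance : (center G).Normal).eq_bot_or_eq_top.resolve_right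
      fun e => hna ⟨⟨fun x y => mem_center_iff.1 (e ▸ mem_top y) x⟩⟩
    rw [set_eq hZ] at h3
    obtain ⟨a, b, c, -, -, -, h⟩ := Set.ncard_eq_three.1 h3
    have hS : ∀ g : G, g ≠ 1 → cs g = a ∨ cs g = b ∨ cs g = c := fun g hg => by
      have : cs g ∈ ({a, b, c} : Set ℕ) := h ▸ ⟨g, hg, rfl⟩
      simpa using this
    have hn : ∀ x y : G, x ≠ 1 → y ≠ 1 → ¬ (cs x).Coprime (cs y) := fun x y hx hy hc => by
      have h1 := one_lt_cs hZ hx
      have hne : cs x ≠ cs y := fun e => by rw [← e, Nat.coprime_self] at hc; omega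
      obtain ⟨d, hd⟩ : ∃ d, ∀ g : G, g ≠ 1 → cs g = cs x ∨ cs g = cs y ∨ cs g = d := by
        have e1 := hS x hx
        have e2 := hS y hy
        by_cases ha : a = cs x ∨ a = cs y
        · by_cases hb : b = cs x ∨ b = cs y
          · by_cases hab : a = b
            · exact ⟨a, fun g hg => by have := hS g hg; omega⟩
            · exact ⟨c, fun g hg => by have := hS g hg; omega⟩
          · exact ⟨b, fun g hg => by have := hS g hg; omega⟩
        · exact ⟨a, fun g hg => by have := hS g hg; omega⟩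
      exact not_coprime_of_three hZ hd hx hy rfl rfl hc
    rcases solvable_or_psl hZ fun t ht => ab_cent_of_antichain
      (fun u v hu hv => antichain_of_three hZ hS hn hu hv) ht with h1 | ⟨F, _, _, hF, ⟨e⟩⟩
    · exact absurd ⟨⟨IsSimpleGroup.comm_iff_isSolvable.2 h1⟩⟩ hna
    · obtain ⟨n, -, hn⟩ := FiniteField.card F 2
      refine ⟨n, F, inferInstance, inferInstance, ?_, hn, ⟨e⟩⟩
      by_contra hlt
      have h1 : (n : ℕ) = 1 := by have := n.pos; omega
      rw [h1, pow_one] at hn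
      classical
      have h6 : Nat.card G = 2 ^ 1 * 3 ^ 1 := by
        rw [Nat.card_congr e.toEquiv, Nat.card_congr ((QuotientGroup.quotientMulEquivOfEq
          center_sl_two).trans QuotientGroup.quotientBot).toEquiv, H11.card_sl_two, hn]
        norm_num
      exact hna ⟨⟨IsSimpleGroup.comm_iff_isSolvable.2 (H5.isSolvable_of_card_dvd_prime_pow_mul
        Nat.prime_two Nat.prime_three h6.dvd)⟩⟩
  · rintro ⟨m, F, _, _, hm, hF, ⟨e⟩⟩
    have h4 : 4 ≤ Fintype.card F := hF ▸ (Nat.pow_le_pow_right (by norm_num) hm : 2 ^ 2 ≤ 2 ^ m)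
    obtain ⟨p, hp⟩ := CharP.exists F
    haveI : CharP F 2 := by
      obtain ⟨n, hp', hn⟩ := FiniteField.card F p
      have : p ∣ 2 ^ m := hF ▸ hn ▸ dvd_pow_self p n.ne_zero
      rwa [(Nat.prime_dvd_prime_iff_eq hp' Nat.prime_two).1 (hp'.dvd_of_dvd_pow this)] at hp
    haveI := H11.psl2_simple h4
    haveI hs : IsSimpleGroup G := e.isSimpleGroup
    have hr := range_cs_psl h4
    have hr' : {m : ℕ | ∃ x : G, x ≠ 1 ∧ m = cs x} = {m : ℕ | ∃ x : Matrix.ProjectiveSpecialLinearGroup (Fin 2) F, x ≠ 1 ∧ m = cs x} := by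
      ext n
      exact ⟨fun ⟨x, h1, h2⟩ => ⟨e x, by simpa using h1, by rw [cs_equiv, h2]⟩,
        fun ⟨x, h1, h2⟩ => ⟨e.symm x, by simpa using h1, by rw [cs_equiv, h2]⟩⟩
    obtain ⟨q, hq⟩ : ∃ q, Fintype.card F = q + 4 := ⟨Fintype.card F - 4, by omega⟩
    rw [← hr', hq, show (q + 4) ^ 2 - 1 = q * q + 8 * q + 15 by
      rw [show (q + 4) ^ 2 = q * q + 8 * q + 15 + 1 by ring]; rfl,
      show (q + 4) * (q + 4 + 1) = q * q + 9 * q + 20 by ring,
      show (q + 4) * (q + 4 - 1) = q * q + 7 * q + 12 by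
        rw [show q + 4 - 1 = q + 3 by omega]; ring] at hr
    have hna : ¬ IsMulCommutative G := fun hc => by
      obtain ⟨x, -, hx⟩ : q * q + 8 * q + 15 ∈ {m : ℕ | ∃ x : G, x ≠ 1 ∧ m = cs x} := by
        rw [hr]; simp
      rw [cs_eq_one_iff.2 (mem_center_iff.2 fun g => hc.is_comm.comm g x)] at hx
      omega
    have hZ : center G = ⊥ := (inferInstance : (center G).Normal).eq_bot_or_eq_top.resolve_right
      fun e => hna ⟨⟨fun x y => mem_center_iff.1 (e ▸ mem_top y) x⟩⟩
    refine ⟨hs, hna, ?_⟩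
    rw [set_eq hZ, hr]
    exact Set.ncard_eq_three.2 ⟨_, _, _, by omega, by omega, by omega, rfl⟩

end Cfsg.Agent.S3192
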