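import Cfsg.Statements.S0501
import Cfsg.Agent.H28.GC18
import Cfsg.Agent.H4.Alperin

set_option autoImplicit false
open Cfsg

namespace Cfsg.Agent.S0501

section
set_option linter.unusedVariables false
set_option linter.unusedSectionVars false
open H9 hiding zj
open Cfsg Subgroup H28 H28.GC H29 H29.PU H29.BB
open scoped commutatorElement

universe u
variable {X : Type u} [Group X] [Finite X] {B C H N Q W : Subgroup X} {a b b' c d g s t u w x y z b₁ b₂ : X}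

/-- the subgroup generated by the squares -/
def sq2 (Q : Subgroup X) : Subgroup X := closure {x | ∃ q ∈ Q, q * q = x}

theorem mem_sq2 (h : x ∈ Q) : x * x ∈ sq2 Q := subset_closure ⟨x, h, rfl⟩
theorem sq2_le (h : ∀ x ∈ Q, x * x ∈ H) : sq2 Q ≤ H := (closure_le _).2 fun _ ⟨q, k, e⟩ => e ▸ h q k
theorem sq2_mono (h : Q ≤ H) : sq2 Q ≤ sq2 H := sq2_le fun _ k => mem_sq2 (h k)

theorem exists_four {n : ℕ} (hc : c ^ 2 ^ n = 1) (h : c * c ≠ 1) : ∃ k : ℕ, (c ^ k) ^ 2 ^ 2 = 1 ∧ c ^ k * c ^ k ≠ 1 := by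
  induction n generalizing c with
  | zero => exact (h (by simp [show c = 1 by simpa using hc])).elim
  | succ n ih =>
    by_cases e : c * c * (c * c) = 1
    · exact ⟨1, by rw [← e, pow_one, sq 2, pow_mul, sq, sq], by simpa using h⟩
    · obtain ⟨k, h1⟩ := ih (c := c * c) (by rw [← sq, ← pow_mul, ← pow_succ', hc]) e
      exact ⟨2 * k, by rwa [pow_mul, sq c]⟩

theorem card_le_sq (h1 : ∀ x ∈ H, ∀ c ∈ H, x * c * x⁻¹ = c⁻¹ → c ∈ W) : # H ≤ # W * # (sq2 H) := by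
  classical
  have k : ∀ y : X, ∃ r, (∃ x ∈ H, x * x = y) → r ∈ H ∧ r * r = y := fun y =>
    (em _).elim (fun ⟨x, h⟩ => ⟨x, fun _ => h⟩) fun n => ⟨1, fun h => (n h).elim⟩
  choose r hr using k
  rw [← Nat.card_prod]
  refine Nat.card_le_card_of_injective (fun x : H => ((⟨x * (r (x * x))⁻¹, ?_⟩ : W), (⟨x * x, mem_sq2 x.2⟩ : sq2 H)))
    fun x y e => ?_
  · obtain ⟨h2, h3⟩ := hr _ ⟨x, x.2, rfl⟩
    refine h1 x x.2 _ (mul_mem x.2 (inv_mem h2)) ?_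
    generalize r (x * x) = y at h3
    rw [← mul_assoc, ← h3]; simp
  · have e1 : (x : X) * (r (x * x))⁻¹ = y * (r (y * y))⁻¹ := congrArg (fun p => (p.1 : X)) e
    have e2 : (x : X) * x = y * y := congrArg (fun p => (p.2 : X)) e
    exact Subtype.ext (mul_right_cancel (e2 ▸ e1))

theorem fin (l : C ≤ N) [C.Normal] [N.Normal] (h1 : ∀ n ∈ N, n * n ∈ C) (h2 : ∀ n ∈ N, ∀ g : X, ⁅g, n⁆ ∈ C) (h3 : N.index ≤ 8)
    (h4 : ∀ H ≤ N, # H ≤ 4 * # (sq2 H)) (h5 : 5 ≤ N.index → ¬ ∀ g h : X, ⁅g, h⁆ ∈ C) (H : Subgroup X) :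
    # H ≤ 16 * # (sq2 H) := by
  have e1 := card_idx N H
  have e2 := h4 _ (inf_le_left : N ⊓ H ≤ N)
  have e3 : N.relIndex H ≤ N.index := relIndex_top_right N ▸ idx_mono le_top
  have l1 : sq2 (N ⊓ H) ≤ sq2 H := sq2_mono inf_le_right
  by_cases e : sq2 H ≤ sq2 (N ⊓ H)
  · have e4 := card_le_of_le' l1
    suffices N.relIndex H ≤ 4 by nlinarith
    refine by_contra fun n => h5 (by omega) fun g h => ?_
    have t : H ⊔ N = ⊤ := by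
      have := relIndex_mul_index (le_sup_right : N ≤ H ⊔ N)
      rw [relIndex_sup_right] at this
      have h0 : N.index ≠ 0 := index_ne_zero_of_finite
      refine index_eq_one.1 (by_contra fun k => ?_)
      have : 2 ≤ (H ⊔ N).index := by
        have : (H ⊔ N).index ≠ 0 := index_ne_zero_of_finite
        omega
      nlinarith
    have k : ∀ g : X, g * g ∈ C := fun g => by
      obtain ⟨h, hh, n, hn, rfl⟩ := (mem_sup_of_le_normalizer (le_normalizer_of_normal' H N)).1 (t.ge (mem_top g))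
      rw [show h * n * (h * n) = h * h * ⁅h⁻¹, n⁆ * (n * n) by simp only [commutatorElement_def]; group]
      exact mul_mem (mul_mem (sq2_le (Q := N ⊓ H) (fun x hx => h1 x hx.1) (e (mem_sq2 hh))) (h2 n hn _)) (h1 n hn)
    rw [show ⁅g, h⁆ = g * h * (g * h) * (h⁻¹ * (g⁻¹ * g⁻¹) * h⁻¹⁻¹) * (h⁻¹ * h⁻¹) by simp only [commutatorElement_def]; group]
    exact mul_mem (mul_mem (k _) (Normal.conj_mem ‹_› _ (k _) _)) (k _)
  · have e4 := card_idx (sq2 (N ⊓ H)) (sq2 H)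
    have := two_le e
    rw [inf_of_le_left l1] at e4
    nlinarith

/-- a maximal abelian normal subgroup of exponent four -/
structure Mw (B W : Subgroup X) : Prop where
  pg : IsPGroup 2 X
  nm : B.Normal
  ab : B ≤ 𝐂 B
  e4 : ∀ b ∈ B, b * b * (b * b) = 1
  al : ∀ x ∈ 𝐂 B, x ^ 2 ^ 2 = 1 → x ∈ B
  mW : ∀ w, w ∈ W ↔ w ∈ B ∧ w * w = 1
  n8 : ∀ A : Subgroup X, A.Normal → IsElementaryAbelian 2 A → # A ≤ 4

namespace Mw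
variable (m : Mw B W)
include m

theorem WB : W ≤ B := fun w h => ((m.mW w).1 h).1
theorem ea : IsElementaryAbelian 2 W := ea_of_sq fun w h => ((m.mW w).1 h).2
theorem cjB (hb : b ∈ B) (g : X) : g * b * g⁻¹ ∈ B := m.nm.conj_mem b hb g
theorem nW : W.Normal := ⟨fun w h g => (m.mW _).2 ⟨m.cjB (m.WB h) g, conj_sq ((m.mW w).1 h).2⟩⟩
theorem cjW (hb : w ∈ W) (g : X) : g * w * g⁻¹ ∈ W := m.nW.conj_mem w hb g
theorem c4 : # W ≤ 4 := m.n8 W m.nW m.ea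
theorem cm (h : b ∈ B) (h' : b' ∈ B) : b * b' = b' * b := m.ab h' b h
theorem sqW (h : b ∈ B) : b * b ∈ W := (m.mW _).2 ⟨mul_mem h h, m.e4 b h⟩
theorem CT : 𝐂 B ≤ 𝐂 W := centralizer_anti m.WB
theorem sqm (h : b ∈ B) (h' : b' ∈ B) : b * b' * (b * b') = b * b * (b' * b') := by
  rw [mul_assoc, ← mul_assoc b', ← m.cm h h']; simp only [mul_assoc]

theorem cW (hb : b ∈ B) (ht : t ∈ 𝐂 W) : ⁅b, t⁆ ∈ W := by
  have h := m.cjB (inv_mem hb) t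
  rw [m.mW, commutatorElement_def, mul_assoc, mul_assoc, ← mul_assoc t, m.sqm hb h, conj_mul,
    mem_c''.1 (cen_le_c (m.sqW (inv_mem hb)) ht)]
  exact ⟨mul_mem hb h, by group⟩

theorem cr (hb : b ∈ B) (hs : s ∈ 𝐂 W) (ht : t ∈ 𝐂 W) : ⁅b, s * t⁆ = ⁅b, s⁆ * ⁅b, t⁆ := by
  rw [comm_mul_right, mem_c''.1 (cen_le_c (m.cW hb ht) hs)]

theorem cl (hb : b ∈ B) (hb' : b' ∈ B) (ht : t ∈ 𝐂 W) : ⁅b * b', t⁆ = ⁅b, t⁆ * ⁅b', t⁆ := by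
  rw [comm_mul_left, m.cm hb (m.WB (m.cW hb' ht)), mul_inv_cancel_right, comm_of_ea m.ea (m.cW hb' ht) (m.cW hb ht)]

theorem ceq (hb : b ∈ B) (hb' : b' ∈ B) (ht : t ∈ 𝐂 W) (e : b * b = b' * b') : ⁅b, t⁆ = ⁅b', t⁆ := by
  have k : b'⁻¹ * b ∈ W := (m.mW _).2 ⟨mul_mem (inv_mem hb') hb, by rw [m.sqm (inv_mem hb') hb, e]; group⟩
  rw [← mul_inv_cancel_left b' b, m.cl hb' (m.WB k) ht, mem_cen_iff.1 ht _ k, mul_one]

theorem c0 (hb : b ∈ B) (ht : t ∈ 𝐂 W) (e : b * b = 1) : ⁅b, t⁆ = 1 := mem_cen_iff.1 ht _ ((m.mW _).2 ⟨hb, e⟩)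

theorem cC (hb : b ∈ B) (ht : t ∈ 𝐂 W) (h : s * t⁻¹ ∈ 𝐂 B) : ⁅b, s⁆ = ⁅b, t⁆ := by
  rw [← inv_mul_cancel_right s t, m.cr hb (m.CT h) ht, mem_cen_iff.1 h b hb, one_mul]

theorem cjT (ht : t ∈ 𝐂 W) (g : X) : g * t * g⁻¹ ∈ 𝐂 W := have := m.nW; Normal.conj_mem inferInstance t ht g

theorem sqC (ht : t ∈ 𝐂 W) : t * t ∈ 𝐂 B := mem_cen_iff.2 fun b hb => by
  rw [m.cr hb ht ht, sq_of_ea m.ea (m.cW hb ht)]

theorem abT (hs : s ∈ 𝐂 W) (ht : t ∈ 𝐂 W) : ⁅s, t⁆ ∈ 𝐂 B := by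
  rw [show ⁅s, t⁆ = s * t * (s * t) * (t⁻¹ * (s⁻¹ * s⁻¹) * t⁻¹⁻¹) * (t⁻¹ * t⁻¹) by simp only [commutatorElement_def]; group]
  have := m.nm
  exact mul_mem (mul_mem (m.sqC (mul_mem hs ht)) (Normal.conj_mem inferInstance _ (m.sqC (inv_mem hs)) _)) (m.sqC (inv_mem ht))

/-- a property of the elements of order four passes to the centralizer -/
theorem low (hc : c ∈ 𝐂 B) {P : X → Prop} (h1 : ∀ k : ℕ, P (c ^ k)) (h2 : ∀ b ∈ B, P b → b * b = 1) : c ∈ W := by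
  obtain ⟨n, hn⟩ := m.pg c
  have : c * c = 1 := by_contra fun e =>
    let ⟨k, e1, e2⟩ := exists_four hn e
    e2 (h2 _ (m.al _ (pow_mem hc k) e1) (h1 k))
  exact (m.mW _).2 ⟨m.al c hc (by rw [sq, pow_mul, sq c, this, one_pow]), this⟩

theorem inv (hc : c ∈ 𝐂 B) (h : x * c * x⁻¹ = c⁻¹) (h2 : ∀ b ∈ B, x * b * x⁻¹ = b⁻¹ → b * b = 1) : c ∈ W :=
  m.low hc (P := fun b => x * b * x⁻¹ = b⁻¹) (fun k => by rw [← conj_pow, h, inv_pow]) h2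

theorem invC (hc : c ∈ 𝐂 B) (hx : x ∈ 𝐂 B) (h : x * c * x⁻¹ = c⁻¹) : c ∈ W := m.inv hc h fun b hb e => by
  rw [mem_c''.1 (cen_le_c hb hx)] at e
  exact mul_eq_one_iff_eq_inv.2 e

theorem base (H : Subgroup X) (l : H ≤ 𝐂 B) : # H ≤ 4 * # (sq2 H) :=
  (card_le_sq fun x hx c hc e => m.invC (l hc) (l hx) e).trans (Nat.mul_le_mul_right _ m.c4)

theorem bas (n : ¬ # W ≤ 2) : ∃ z ∈ W, ∃ w ∈ W, (∀ g, g ∈ 𝐜 z) ∧ z ≠ 1 ∧ w ≠ 1 ∧ z * w ≠ 1 := by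
  have := m.nW
  obtain ⟨z, z1, -, z3, z4⟩ := exists_z (T := ⊤) (isPGroup_top_iff.2 m.pg) (ea_isPGroup m.ea)
    (le_normalizer_of_normal' _ _) (fun e => n (by rw [e, card_bot]; omega))
  obtain ⟨a, a1, c, c1, h1, h2, h3⟩ := exists_three (H := ⊥) (K := W) (by rw [relIndex_bot_left]; omega)
  rw [mem_bot] at h1 h2 h3
  by_cases e : z * a = 1
  · exact ⟨z, z1, c, c1, fun g => z4 trivial, z3, h2, by rwa [eq_inv_of_mul_eq_one_left e]⟩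
  · exact ⟨z, z1, a, a1, fun g => z4 trivial, z3, h1, e⟩

theorem four (hz : z ∈ W) (hw : w ∈ W) (z1 : z ≠ 1) (w1 : w ≠ 1) (e : z * w ≠ 1) (hx : x ∈ W) :
    x = 1 ∨ x = z ∨ x = w ∨ x = z * w := by
  refine or_iff_not_imp_left.2 fun n => ?_
  have k : ∀ y ∈ W, y * x ∈ (⊥ : Subgroup X) → x = y := fun y hy h => by
    rw [eq_inv_of_mul_eq_one_right (mem_bot.1 h), inv_of_ea m.ea hy]
  exact (quad m.ea (V := ⊥) (by rw [relIndex_bot_left]; exact m.c4) hz hw hx z1 w1 e n).imp (k _ hz)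
    (Or.imp (k _ hw) (k _ (mul_mem hz hw)))

theorem mv (hz : z ∈ W) (hw : w ∈ W) (zc : ∀ g, g ∈ 𝐜 z) (z1 : z ≠ 1) (w1 : w ≠ 1) (e : z * w ≠ 1) (n : g ∉ 𝐂 W) :
    g * w * g⁻¹ = z * w := by
  rcases m.four hz hw z1 w1 e (m.cjW hw g) with h | h | h | h
  · exact (conj_ne w1 h).elim
  · refine (e ?_).elim
    rw [show w = g⁻¹ * z * g⁻¹⁻¹ by rw [← h]; group, mem_c''.1 (zc _), sq_of_ea m.ea hz]
  · refine (n (le_centralizer_comm.1 (fun x hx => ?_) (mem_zpowers g))).elim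
    rw [centralizer_zpowers]
    have a1 := mem_c_symm.1 (zc g)
    have a2 := mem_c'.2 h
    rcases m.four hz hw z1 w1 e hx with rfl | rfl | rfl | rfl
    exacts [one_mem _, a1, a2, mul_mem a1 a2]
  · exact h

theorem iT : (𝐂 W).index ≤ 2 := by
  rw [← relIndex_top_right]
  refine two_idx fun g _ h _ g1 h1 => ?_
  by_cases n : # W ≤ 2
  · have := m.nW
    exact cen_of_two n (mem_normalizer_of_normal W _)
  obtain ⟨z, hz, w, hw, zc, z1, w1, e⟩ := m.bas n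
  refine by_contra fun k => z1 ?_
  have := m.mv hz hw zc z1 w1 e k
  rw [show g * h * w * (g * h)⁻¹ = g * (h * w * h⁻¹) * g⁻¹ by group, m.mv hz hw zc z1 w1 e h1, ← conj_mul,
    m.mv hz hw zc z1 w1 e g1, mem_c''.1 (zc g), mul_left_cancel_iff] at this
  exact mul_eq_right.1 this

end Mw

/-- an element acting on `B` without inverting an element of order four, central modulo `C(B)` -/
structure Good (B W : Subgroup X) (t : X) : Prop where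
  mem : t ∈ 𝐂 W
  nc : t ∉ 𝐂 B
  ni : ∀ b ∈ B, ⁅b, t⁆ = b * b → b * b = 1
  cn : ∀ g : X, ⁅g, t⁆ ∈ 𝐂 B

namespace Mw
variable (m : Mw B W)
include m

theorem ni' (ht : t ∈ 𝐂 W) (h : ∀ b ∈ B, ⁅b, t⁆ = b * b → b * b = 1) (hs : s * t⁻¹ ∈ 𝐂 B) (b : X) (hb : b ∈ B)
    (e : s * b * s⁻¹ = b⁻¹) : b * b = 1 := h b hb (by
  rw [← m.cC hb ht hs, commutatorElement_def, mul_assoc, mul_assoc, ← mul_assoc s, ← conj_inv, e, inv_inv])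

theorem onto (hq : ∀ w ∈ W, ∃ b ∈ B, b * b = w) {f : X → X} (h1 : ∀ b ∈ B, f b ∈ W)
    (h2 : ∀ b ∈ B, ∀ b' ∈ B, f (b * b') = f b * f b') (h3 : ∀ b ∈ B, f b = 1 ↔ b * b = 1) (hw : w ∈ W) : ∃ b ∈ B, f b = w := by
  choose! r r1 r2 using hq
  obtain ⟨⟨v, hv⟩, e⟩ := Finite.injective_iff_surjective.1 (show Function.Injective
    fun v : W => (⟨f (r v), h1 _ (r1 v v.2)⟩ : W) from fun u v e => Subtype.ext (by
      have e1 : f (r u) = f (r v) := congrArg Subtype.val e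
      have := (h3 _ (mul_mem (r1 u u.2) (r1 v v.2))).1 (by
        rw [h2 _ (r1 u u.2) _ (r1 v v.2), e1, sq_of_ea m.ea (h1 _ (r1 v v.2))])
      rw [m.sqm (r1 u u.2) (r1 v v.2), r2 u u.2, r2 v v.2] at this
      rw [eq_inv_of_mul_eq_one_left this, inv_of_ea m.ea v.2])) ⟨w, hw⟩
  exact ⟨_, r1 v hv, congrArg Subtype.val e⟩

variable (hq : ∀ w ∈ W, ∃ b ∈ B, b * b = w)
include hq

theorem invol (ht : t ∈ 𝐂 W) (h : ∀ b ∈ B, ⁅b, t⁆ = b * b → b * b = 1) (e : t * t ∈ W) : ∃ b ∈ B, b * t * (b * t) = 1 := by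
  obtain ⟨b, hb, e1⟩ := m.onto hq (f := fun b => b * b * ⁅b, t⁆) (fun b hb => mul_mem (m.sqW hb) (m.cW hb ht))
    (fun b hb b' hb' => by
      rw [m.sqm hb hb', m.cl hb hb' ht, mul_assoc, mul_assoc (b * b), ← mul_assoc (b' * b'), ← mul_assoc ⁅b, t⁆,
        comm_of_ea m.ea (m.sqW hb') (m.cW hb ht)])
    (fun b hb => ⟨fun k => h b hb (by rw [eq_inv_of_mul_eq_one_right k, inv_of_ea m.ea (m.sqW hb)]),
      fun k => by rw [k, m.c0 hb ht k, one_mul]⟩) e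
  refine ⟨b, hb, ?_⟩
  rw [show b * t * (b * t) = b * (⁅b, t⁆⁻¹ * b) * (t * t) by simp only [commutatorElement_def]; group,
    inv_of_ea m.ea (m.cW hb ht), ← m.cm hb (m.WB (m.cW hb ht)), ← mul_assoc b, e1, sq_of_ea m.ea e]

omit hq in
theorem cosW (ht : t ∈ 𝐂 W) (h : ∀ b ∈ B, ⁅b, t⁆ = b * b → b * b = 1) (t2 : t * t = 1) (hg : ⁅g, t⁆ ∈ 𝐂 B) : ⁅g, t⁆ ∈ W := by
  refine m.inv hg (x := t) ?_ (m.ni' ht h (by simp))
  have e := conj_sq (g := g) t2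
  rw [commutatorElement_def, mul_inv_rev, inv_inv, inv_eq_of_mul_eq_one_right e, inv_eq_of_mul_eq_one_right t2, mul_assoc,
    mul_assoc _ t, t2, mul_one]

theorem _root_.Cfsg.Agent.S0501.Good.big (k : Good B W t) (hs : s * t⁻¹ ∈ 𝐂 B) : s * s ∉ W := fun e => by
  have := m.nm
  have s1 : s ∈ 𝐂 W := (mul_mem_cancel_right (inv_mem k.mem)).1 (m.CT hs)
  have s2 : ∀ b ∈ B, ⁅b, s⁆ = b * b → b * b = 1 := fun b hb e => k.ni b hb (m.cC hb k.mem hs ▸ e)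
  obtain ⟨b, hb, e1⟩ := m.invol hq s1 s2 e
  have h1 : b * s * t⁻¹ ∈ 𝐂 B := mul_assoc b s _ ▸ mul_mem (m.ab hb) hs
  have h2 : b * s ∈ 𝐂 W := mul_mem (m.CT (m.ab hb)) s1
  have nW : zpowers (b * s) ≤ 𝐍 W := le_normalizer_of_le_centralizer (zpowers_le.2 h2)
  have c := m.n8 (zpowers (b * s) ⊔ W) (normal_of_cj_le fun g => ?_) (GC.ea_of_sq fun x hx => ?_)
  · have l := card_lt_of_lt (right_lt_sup.2 fun l : zpowers (b * s) ≤ W => k.nc (inv_mem_iff.1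
      ((mul_mem_cancel_left (m.ab (m.WB (l (mem_zpowers _))))).1 h1)))
    obtain ⟨c, c1, c2⟩ : ∃ c ∈ B, ⁅c, t⁆ ≠ 1 := by simpa only [mem_cen_iff, not_forall, exists_prop] using k.nc
    have := three_le (H := ⊥) (m.sqW c1) (m.cW c1 k.mem) (fun e => c2 (m.c0 c1 k.mem e)) c2
      fun e => c2 (m.c0 c1 k.mem (k.ni c c1 (inv_mul_eq_one.1 e).symm))
    have d := card_dvd_of_le (le_sup_right : W ≤ zpowers (b * s) ⊔ W)
    rw [relIndex_bot_left] at this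
    obtain ⟨j, d⟩ := d
    rcases j with _ | _ | j <;> nlinarith
  · rw [cj_sup, cj_zpowers, have := m.nW; cj_eq_self_of_normal g W]
    refine sup_le (zpowers_le.2 ?_) le_sup_right
    rw [← inv_mul_cancel_right (g * (b * s) * g⁻¹) (b * s)]
    refine mul_mem (mem_sup_right (m.cosW h2 (fun c hc e => k.ni c hc (m.cC hc k.mem h1 ▸ e)) e1 ?_)) (mem_sup_left (mem_zpowers _))
    rw [show ⁅g, b * s⁆ = g * (b * s * t⁻¹) * g⁻¹ * ⁅g, t⁆ * (b * s * t⁻¹)⁻¹ by simp only [commutatorElement_def]; group]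
    exact mul_mem (mul_mem (Normal.conj_mem inferInstance _ h1 _) (k.cn g)) (inv_mem h1)
  · obtain ⟨y, hy, w, hw, rfl⟩ := (mem_sup_of_le_normalizer nW).1 hx
    rw [mul_assoc, ← mul_assoc w, zpowers_le.2 h2 hy w hw, mul_assoc, sq_of_ea m.ea hw, mul_one]
    rcases (mem_zp e1).1 hy with rfl | rfl
    exacts [one_mul 1, e1]

theorem _root_.Cfsg.Agent.S0501.Good.sing (k : Good B W t) (hs : s ∈ 𝐂 W) (h1 : ∀ b ∈ B, ⁅b, s⁆ = b * b → b * b = 1)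
    (h2 : ∀ b ∈ B, ⁅b, s⁆ = 1 → b * b = 1) : False := by
  have f : ∀ s ∈ 𝐂 W, (∀ b ∈ B, ⁅b, s⁆ = 1 → b * b = 1) → ∀ c ∈ 𝐂 B, c ∈ 𝐜 s → c ∈ W := fun s hs h c c1 c2 =>
    m.low c1 (P := fun b => b ∈ 𝐜 s) (fun j => pow_mem c2 j) fun b hb e => h b hb (mem_c_comm'.1 e)
  obtain ⟨b, hb, e⟩ := m.invol hq hs h1 (f s hs h2 _ (m.sqC hs) (mul_mem (self_mem_c s) (self_mem_c s)))
  have s1 : b * s * s⁻¹ ∈ 𝐂 B := by simpa using m.ab hb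
  have s2 : b * s ∈ 𝐂 W := mul_mem (m.CT (m.ab hb)) hs
  have s3 : ∀ c ∈ B, ⁅c, b * s⁆ = 1 → c * c = 1 := fun c hc e => h2 c hc (m.cC hc hs s1 ▸ e)
  have w := m.cosW s2 (fun c hc e => h1 c hc (m.cC hc hs s1 ▸ e)) e (m.abT k.mem s2)
  obtain ⟨c, c1, c2⟩ := m.onto hq (f := fun c => ⁅c, b * s⁆) (fun c hc => m.cW hc s2) (fun c hc d hd => m.cl hc hd s2)
    (fun c hc => ⟨s3 c hc, m.c0 hc s2⟩) w
  have c3 : c * t ∈ 𝐜 (b * s) := mem_c_comm'.2 (by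
    rw [comm_mul_left, m.cm c1 (m.WB w), mul_inv_cancel_right, c2, sq_of_ea m.ea w])
  exact k.big m hq (s := c * t) (by simpa using m.ab c1)
    (f _ s2 s3 _ (m.sqC (mul_mem (m.CT (m.ab c1)) k.mem)) (mul_mem c3 c3))

theorem _root_.Cfsg.Agent.S0501.Good.fin (k : Good B W t) (h1 : (𝐂 B).index ≤ 16)
    (h2 : 10 ≤ (𝐂 B).index → ¬ ∀ g h : X, ⁅g, h⁆ ∈ 𝐂 B) (H : Subgroup X) : # H ≤ 16 * # (sq2 H) := by
  have := m.nm
  have ex : ∀ x ∈ zpowers t ⊔ 𝐂 B, x ∈ 𝐂 B ∨ x * t⁻¹ ∈ 𝐂 B := fun x hx => by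
    obtain ⟨_, ⟨j, rfl⟩, c, hc, rfl⟩ := (mem_sup_of_le_normalizer (le_normalizer_of_normal' _ _)).1 hx
    have q := zpow_mem (m.sqC k.mem)
    obtain ⟨i, rfl | rfl⟩ := Int.even_or_odd' j
    · exact .inl (mul_mem (by simpa only [zpow_mul, zpow_two] using q i) hc)
    · refine .inr ?_
      rw [show t ^ (2 * i + 1) * c * t⁻¹ = (t * t) ^ i * (t * c * t⁻¹) by rw [← zpow_two, ← zpow_mul]; group]
      exact mul_mem (q i) (Normal.conj_mem inferInstance _ hc _)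
  have T : zpowers t ⊔ 𝐂 B ≤ 𝐂 W := sup_le (zpowers_le.2 k.mem) m.CT
  have cn : ∀ n ∈ zpowers t ⊔ 𝐂 B, ∀ g : X, ⁅g, n⁆ ∈ 𝐂 B := fun n hn g => by
    rcases ex n hn with e | e
    · exact comm_mem_of' (mem_normalizer_of_normal _ g) e
    · rw [← inv_mul_cancel_right n t, comm_mul_right]
      exact mul_mem (comm_mem_of' (mem_normalizer_of_normal _ g) e) (mul_mem (mul_mem e (k.cn g)) (inv_mem e))
  have : (zpowers t ⊔ 𝐂 B).Normal := ⟨fun n hn g => by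
    rw [← inv_mul_cancel_right (g * n * g⁻¹) n]; exact mul_mem (mem_sup_right (cn n hn g)) hn⟩
  have e1 := relIndex_mul_index (le_sup_right : 𝐂 B ≤ zpowers t ⊔ 𝐂 B)
  have e2 := two_le (H := 𝐂 B) (K := zpowers t ⊔ 𝐂 B) fun l => k.nc (l (mem_sup_left (mem_zpowers t)))
  refine S0501.fin le_sup_right (fun n hn => m.sqC (T hn)) cn (by nlinarith) (fun H l => ?_) (fun e => h2 (by nlinarith)) H
  refine (card_le_sq fun x hx c hc e => ?_).trans (Nat.mul_le_mul_right _ m.c4)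
  have i : ∀ c ∈ 𝐂 B, x * c * x⁻¹ = c⁻¹ → c ∈ W := fun c hc e =>
    (ex x (l hx)).elim (fun h => m.invC hc h e) fun h => m.inv hc e (m.ni' k.mem k.ni h)
  exact (ex c (l hc)).elim (i c · e) fun h => (k.big m hq h (i _ (m.sqC (T (l hc))) (by rw [← conj_mul, e]; group))).elim

end Mw

namespace Mw
variable (m : Mw B W)
include m

/-- commutation with an element of `B` -/
def cmap (hb : b ∈ B) : 𝐂 W →* X := MonoidHom.mk' (fun t => ⁅b, t.1⁆) fun s t => m.cr hb s.2 t.2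

theorem one (hb : b ∈ B) (h : ∀ t ∈ 𝐂 W, ⁅b, t⁆ = 1 → t ∈ 𝐂 B) :
    (𝐂 B).relIndex (𝐂 W) ≤ 4 ∧ (3 ≤ (𝐂 B).relIndex (𝐂 W) → ∀ w ∈ W, ∃ t ∈ 𝐂 W, ⁅b, t⁆ = w) := by
  have e : (𝐂 B).relIndex (𝐂 W) = # (m.cmap hb).range := by
    rw [← index_ker, relIndex]; congr 1
    exact le_antisymm (fun t ht => mem_cen_iff.1 ht b hb) fun t ht => h t t.2 ht
  have l : (m.cmap hb).range ≤ W := fun _ ⟨t, e⟩ => e ▸ m.cW hb t.2
  have := m.c4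
  refine ⟨e ▸ (card_le_of_le' l).trans this, fun k w hw => ?_⟩
  obtain ⟨j, d⟩ := card_dvd_of_le l
  have : 0 < # W := Nat.card_pos
  obtain ⟨t, e⟩ := (eq_of_le_of_card_le l (by rcases j with _ | _ | j <;> nlinarith)).ge hw
  exact ⟨t, t.2, e⟩

theorem idxC : (𝐂 B).index ≤ 2 * (𝐂 B).relIndex (𝐂 W) ∧ ((𝐂 B).relIndex (𝐂 W) < (𝐂 B).index → ∃ u, u ∉ 𝐂 W) := by
  have e := relIndex_mul_index m.CT
  have := m.iT
  refine ⟨by nlinarith, fun h => by_contra fun n => ?_⟩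
  rw [(eq_top_iff' _).2 fun u => by_contra fun k => n ⟨u, k⟩, relIndex_top_right] at h
  omega

theorem finC (h1 : (𝐂 B).relIndex (𝐂 W) ≤ 4) (h2 : 3 ≤ (𝐂 B).relIndex (𝐂 W) → ∀ u ∉ 𝐂 W, ¬ ∀ g h : X, ⁅g, h⁆ ∈ 𝐂 B)
    (H : Subgroup X) : # H ≤ 16 * # (sq2 H) := by
  have := m.nm
  obtain ⟨e1, e2⟩ := m.idxC
  exact fin le_rfl (fun n h => mul_mem h h) (fun n h g => comm_mem_of' (mem_normalizer_of_normal _ g) h) (by omega) m.base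
    (fun e => let ⟨u, hu⟩ := e2 (by omega); h2 (by omega) u hu) H

theorem cyc (hb : b ∈ B) (h : ∀ c ∈ B, c * c = 1 ∨ c * c = b * b) (H : Subgroup X) : # H ≤ 16 * # (sq2 H) := by
  obtain ⟨h1, h2⟩ := m.one hb fun t ht e => mem_cen_iff.2 fun c hc =>
    (h c hc).elim (m.c0 hc ht) fun k => (m.ceq hc hb ht k).trans e
  refine m.finC h1 (fun e u hu k => hu (mem_centralizer'.2 fun w hw => (mem_c.1 (mem_c''.2 ?_)).symm)) H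
  obtain ⟨t, ht, rfl⟩ := h2 e w hw
  rw [conj_comm, m.cC (m.cjB hb u) ht (k u t)]
  refine m.ceq (m.cjB hb u) hb ht ((h _ (m.cjB hb u)).elim (fun e => ?_) id)
  exact e.trans (by_contra fun n : b * b ≠ 1 => conj_ne n (conj_mul.symm.trans e)).symm

section
variable (hq : ∀ w ∈ W, ∃ b ∈ B, b * b = w) (h₁ : b₁ ∈ B) (h₂ : b₂ ∈ B) (e₁ : b₁ * b₁ = z) (e₂ : b₂ * b₂ = w)
  (zc : ∀ g, g ∈ 𝐜 z) (z1 : z ≠ 1) (w1 : w ≠ 1) (zw : z * w ≠ 1)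
include h₁ h₂ e₁ e₂ z1 w1 zw

theorem val (ht : t ∈ 𝐂 W) (hb : b ∈ B) : b * b = 1 ∧ ⁅b, t⁆ = 1 ∨ b * b = z ∧ ⁅b, t⁆ = ⁅b₁, t⁆ ∨
    b * b = w ∧ ⁅b, t⁆ = ⁅b₂, t⁆ ∨ b * b = z * w ∧ ⁅b, t⁆ = ⁅b₁, t⁆ * ⁅b₂, t⁆ :=
  (m.four (e₁ ▸ m.sqW h₁) (e₂ ▸ m.sqW h₂) z1 w1 zw (m.sqW hb)).imp (fun e => ⟨e, m.c0 hb ht e⟩) (Or.imp
    (fun e => ⟨e, m.ceq hb h₁ ht (e.trans e₁.symm)⟩) (Or.imp (fun e => ⟨e, m.ceq hb h₂ ht (e.trans e₂.symm)⟩)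
      fun e => ⟨e, m.cl h₁ h₂ ht ▸ m.ceq hb (mul_mem h₁ h₂) ht (by rw [e, m.sqm h₁ h₂, e₁, e₂])⟩))

theorem memC (ht : t ∈ 𝐂 W) (a₁ : ⁅b₁, t⁆ = 1) (a₂ : ⁅b₂, t⁆ = 1) : t ∈ 𝐂 B := mem_cen_iff.2 fun b hb => by
  rcases m.val h₁ h₂ e₁ e₂ z1 w1 zw ht hb with ⟨-, e⟩ | ⟨-, e⟩ | ⟨-, e⟩ | ⟨-, e⟩ <;> simp [e, a₁, a₂]

theorem nio (ht : t ∈ 𝐂 W) (a₁ : ⁅b₁, t⁆ ≠ z) (a₂ : ⁅b₂, t⁆ ≠ w) (a₃ : ⁅b₁, t⁆ * ⁅b₂, t⁆ ≠ z * w) (b : X) (hb : b ∈ B)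
    (h : ⁅b, t⁆ = b * b) : b * b = 1 := by
  rcases m.val h₁ h₂ e₁ e₂ z1 w1 zw ht hb with ⟨e, -⟩ | ⟨e, k⟩ | ⟨e, k⟩ | ⟨e, k⟩
  exacts [e, (a₁ (k ▸ h.trans e)).elim, (a₂ (k ▸ h.trans e)).elim, (a₃ (k ▸ h.trans e)).elim]

include zc

theorem cju (ht : t ∈ 𝐂 W) (hu : u ∉ 𝐂 W) :
    ⁅b₁, u * t * u⁻¹⁆ = u * ⁅b₁, t⁆ * u⁻¹ ∧ ⁅b₂, u * t * u⁻¹⁆ = u * (⁅b₁, t⁆ * ⁅b₂, t⁆) * u⁻¹ := by
  have k : ∀ b : X, ⁅b, u * t * u⁻¹⁆ = u * ⁅u⁻¹ * b * u⁻¹⁻¹, t⁆ * u⁻¹ := fun b => by simp only [commutatorElement_def]; group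
  rw [k, k, m.ceq (m.cjB h₁ _) h₁ ht (by rw [conj_mul, e₁, mem_c''.1 (zc _)]), ← m.cl h₁ h₂ ht,
    m.ceq (m.cjB h₂ _) (mul_mem h₁ h₂) ht (by
      rw [conj_mul, m.sqm h₁ h₂, e₁, e₂, m.mv (e₁ ▸ m.sqW h₁) (e₂ ▸ m.sqW h₂) zc z1 w1 zw (mt inv_mem_iff.1 hu)])]
  exact ⟨rfl, rfl⟩

theorem good (ht : t ∈ 𝐂 W) (a₁ : ⁅b₁, t⁆ = 1) (a₂ : ⁅b₂, t⁆ = z) : Good B W t := by
  have zz := sq_of_ea m.ea (e₁ ▸ m.sqW h₁)
  refine ⟨ht, fun c => z1 (a₂ ▸ mem_cen_iff.1 c _ h₂), m.nio h₁ h₂ e₁ e₂ z1 w1 zw ht (a₁ ▸ z1.symm)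
    (a₂ ▸ fun e => zw (e ▸ zz)) (by rw [a₁, a₂, one_mul]; exact fun e => w1 (left_eq_mul.1 e)), fun g => ?_⟩
  by_cases c : g ∈ 𝐂 W
  · exact m.abT c ht
  obtain ⟨k₁, k₂⟩ := m.cju h₁ h₂ e₁ e₂ zc z1 w1 zw ht c
  have k : ∀ b ∈ B, ⁅b, g * t * g⁻¹⁆ = ⁅b, t⁆ → ⁅b, ⁅g, t⁆⁆ = 1 := fun b hb e => by
    have := m.cr hb (mul_mem (m.cjT ht g) (inv_mem ht)) ht
    rw [inv_mul_cancel_right, e] at this
    exact mul_eq_right.1 this.symm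
  exact m.memC h₁ h₂ e₁ e₂ z1 w1 zw (mul_mem (m.cjT ht g) (inv_mem ht)) (k _ h₁ (by simp [k₁, a₁]))
    (k _ h₂ (by rw [k₂, a₁, a₂, one_mul, mem_c''.1 (zc g)]))

theorem abl (hu : u ∉ 𝐂 W) (k : ∀ g h : X, ⁅g, h⁆ ∈ 𝐂 B) :
    (𝐂 B).relIndex (𝐂 W) ≤ 4 ∧ (3 ≤ (𝐂 B).relIndex (𝐂 W) → ∃ t, Good B W t) := by
  have f : ∀ t ∈ 𝐂 W, ⁅b₂, t⁆ ∈ 𝐜 u → ⁅b₁, t⁆ = 1 := fun t ht c => by
    have := (m.cju h₁ h₂ e₁ e₂ zc z1 w1 zw ht hu).2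
    rw [m.cC h₂ ht (k u t), ← conj_mul, mem_c'.1 c] at this
    exact by_contra fun n => conj_ne n (mul_eq_right.1 this.symm)
  obtain ⟨f1, f2⟩ := m.one h₂ fun t ht e => m.memC h₁ h₂ e₁ e₂ z1 w1 zw ht (f t ht (e ▸ one_mem _)) e
  refine ⟨f1, fun e => ?_⟩
  obtain ⟨t, ht, e⟩ := f2 e z (e₁ ▸ m.sqW h₁)
  exact ⟨t, m.good h₁ h₂ e₁ e₂ zc z1 w1 zw ht (f t ht (e ▸ mem_c_symm.1 (zc u))) e⟩

include hq

theorem hom (H : Subgroup X) : # H ≤ 16 * # (sq2 H) := by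
  have hz := e₁ ▸ m.sqW h₁
  have hw := e₂ ▸ m.sqW h₂
  have zz := sq_of_ea m.ea hz
  have ww := sq_of_ea m.ea hw
  have wz := comm_of_ea m.ea hw hz
  have n1 : z ≠ w := fun e => zw (e ▸ zz)
  have n2 : z ≠ z * w := fun e => w1 (left_eq_mul.1 e)
  have n3 : w ≠ z * w := fun e => z1 (right_eq_mul.1 e)
  have q1 : w * (z * w) = z := by rw [← wz, ← mul_assoc, ww, one_mul]
  let R := ((m.cmap h₁).prod (m.cmap h₂)).range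
  have mR : ∀ x y, (x, y) ∈ R ↔ ∃ t ∈ 𝐂 W, ⁅b₁, t⁆ = x ∧ ⁅b₂, t⁆ = y := fun x y =>
    ⟨fun ⟨t, e⟩ => ⟨t, t.2, Prod.ext_iff.1 e⟩, fun ⟨t, ht, e⟩ => ⟨⟨t, ht⟩, Prod.ext e.1 e.2⟩⟩
  have e : (𝐂 B).relIndex (𝐂 W) = # R := by
    rw [← index_ker, relIndex]; congr 1
    exact le_antisymm (fun t ht => Prod.ext (mem_cen_iff.1 ht _ h₁) (mem_cen_iff.1 ht _ h₂)) fun t ht =>
      m.memC h₁ h₂ e₁ e₂ z1 w1 zw t.2 (Prod.ext_iff.1 ht).1 (Prod.ext_iff.1 ht).2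
  have l : R ≤ W.prod W := fun _ ⟨t, e⟩ => e ▸ ⟨m.cW h₁ t.2, m.cW h₂ t.2⟩
  have c := card_idx R (W.prod W)
  have c4 := m.c4
  rw [inf_of_le_left l, Nat.card_congr (W.prodEquiv W).toEquiv, Nat.card_prod, ← e] at c
  obtain ⟨i1, i2⟩ := m.idxC
  by_cases gd : ∃ t, Good B W t
  · obtain ⟨t, k⟩ := gd
    have := two_le (H := R) fun l => by
      obtain ⟨s, hs, a₁, a₂⟩ := (mR w (z * w)).1 (l (show (w, z * w) ∈ W.prod W from ⟨hw, mul_mem hz hw⟩))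
      refine k.sing m hq hs (m.nio h₁ h₂ e₁ e₂ z1 w1 zw hs (a₁ ▸ n1.symm) (a₂ ▸ n3.symm) (by rwa [a₁, a₂, q1])) fun b hb h => ?_
      rcases m.val h₁ h₂ e₁ e₂ z1 w1 zw hs hb with ⟨e, -⟩ | ⟨-, k⟩ | ⟨-, k⟩ | ⟨-, k⟩
      exacts [e, (w1 (a₁ ▸ k ▸ h)).elim, (zw (a₂ ▸ k ▸ h)).elim, (z1 (by rw [← q1, ← a₂, ← a₁, ← k, h])).elim]
    have : (𝐂 B).relIndex (𝐂 W) ≤ 8 := by nlinarith
    refine k.fin m hq (by omega) (fun h k => ?_) H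
    obtain ⟨u, hu⟩ := i2 (by omega)
    have := (m.abl h₁ h₂ e₁ e₂ zc z1 w1 zw hu k).1
    omega
  refine m.finC (by_contra fun n => ?_) (fun h u hu k => gd ((m.abl h₁ h₂ e₁ e₂ zc z1 w1 zw hu k).2 h)) H
  have two : Two (W.prod W) R := two_of_idx (by
    obtain ⟨j, d⟩ := ea_isPGroup m.ea |>.exists_card_eq
    have : R.relIndex (W.prod W) ∣ 2 ^ (j + j) := ⟨_, by rw [pow_add, ← d, c]⟩
    obtain ⟨i, -, f⟩ := (Nat.dvd_prime_pow Nat.prime_two).1 this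
    rcases i with _ | _ | i
    · omega
    · omega
    · have : 0 < 2 ^ i := by positivity
      rw [pow_succ, pow_succ] at f
      nlinarith)
  have g1 : (1, z) ∉ R := fun h => let ⟨t, ht, a₁, a₂⟩ := (mR _ _).1 h; gd ⟨t, m.good h₁ h₂ e₁ e₂ zc z1 w1 zw ht a₁ a₂⟩
  by_cases u : ∃ u, u ∉ 𝐂 W
  · obtain ⟨u, hu⟩ := u
    have f : ∀ y, (z, y) ∈ R → (z, u * (z * y) * u⁻¹) ∈ R := fun y h => by
      obtain ⟨t, ht, a₁, a₂⟩ := (mR _ _).1 h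
      obtain ⟨k₁, k₂⟩ := m.cju h₁ h₂ e₁ e₂ zc z1 w1 zw ht hu
      exact (mR _ _).2 ⟨_, m.cjT ht u, by rw [k₁, a₁, mem_c''.1 (zc u)], by rw [k₂, a₁, a₂]⟩
    have f1 : (z, 1) ∈ R ↔ (z, z) ∈ R := ⟨fun h => by simpa [mem_c''.1 (zc u)] using f _ h, fun h => by simpa [zz] using f _ h⟩
    refine g1 ?_
    rw [show ((1 : X), z) = (z, 1) * (z, z) by simp [zz]]
    exact (em _).elim (fun h => mul_mem h (f1.1 h)) fun h => two _ ⟨hz, one_mem _⟩ _ ⟨hz, hz⟩ h (mt f1.2 h)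
  have g : ∀ x y, x ≠ 1 → x ≠ z → y ≠ w → x * y ≠ z * w → (x, y) ∉ R := fun x y x0 x1 x2 x3 h => by
    obtain ⟨t, ht, rfl, rfl⟩ := (mR _ _).1 h
    exact gd ⟨t, ht, fun c => x0 (mem_cen_iff.1 c _ h₁), m.nio h₁ h₂ e₁ e₂ z1 w1 zw ht x1 x2 x3,
      fun g => m.abT (by_contra fun k => u ⟨g, k⟩) ht⟩
  have hzw := mul_mem hz hw
  have := mul_mem (two (w, 1) ⟨hw, one_mem _⟩ (w, z * w) ⟨hw, hzw⟩ (g _ _ w1 n1.symm w1.symm (by rwa [mul_one]))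
    (g _ _ w1 n1.symm n3.symm (by rwa [q1]))) (two (1, z) ⟨one_mem _, hz⟩ (z * w, z * w) ⟨hzw, hzw⟩ g1
      (g _ _ zw n2.symm n3.symm (by rw [sq_of_ea m.ea hzw]; exact zw.symm)))
  refine g (z * w) z zw n2.symm n1 (fun e => z1 (mul_eq_left.1 e)) ?_
  simpa [ww, zz, ← mul_assoc, mul_assoc z w w] using this

end

theorem all (H : Subgroup X) : # H ≤ 16 * # (sq2 H) := by
  by_cases c : ∃ b ∈ B, ∀ c ∈ B, c * c = 1 ∨ c * c = b * b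
  · obtain ⟨b, hb, h⟩ := c
    exact m.cyc hb h H
  push Not at c
  obtain ⟨a, a1, a2, -⟩ := c 1 (one_mem _)
  obtain ⟨d, d1, d2, d3⟩ := c a a1
  have n : a * a * (d * d) ≠ 1 := fun e => d3 (by rw [eq_inv_of_mul_eq_one_right e, inv_of_ea m.ea (m.sqW a1)])
  have hq : ∀ w ∈ W, ∃ b ∈ B, b * b = w := fun w hw => by
    rcases m.four (m.sqW a1) (m.sqW d1) a2 d2 n hw with rfl | rfl | rfl | rfl
    exacts [⟨1, one_mem _, one_mul 1⟩, ⟨a, a1, rfl⟩, ⟨d, d1, rfl⟩, ⟨_, mul_mem a1 d1, m.sqm a1 d1⟩]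
  obtain ⟨z, hz, w, hw, zc, z1, w1, zw⟩ := m.bas (by
    have := three_le (H := ⊥) (m.sqW a1) (m.sqW d1) a2 d2 (by rwa [inv_of_ea m.ea (m.sqW a1)])
    rw [relIndex_bot_left] at this
    omega)
  obtain ⟨b₁, h₁, e₁⟩ := hq z hz
  obtain ⟨b₂, h₂, e₂⟩ := hq w hw
  exact m.hom hq h₁ h₂ e₁ e₂ zc z1 w1 zw H

end Mw

theorem macw (hP : IsPGroup 2 X) (h : ∀ A : Subgroup X, A.Normal → IsMulCommutative A → (∀ a ∈ A, a ^ 2 = 1) → # A ≤ 4) :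
    SectionalPRankLE 2 4 X := fun H N _ A hA h2 => by
  obtain ⟨B, -, ⟨h3, h4, h5⟩, h6⟩ := H1.exists_maximal_ge (P := fun B : Subgroup X =>
    B.Normal ∧ IsMulCommutative B ∧ ∀ b ∈ B, b ^ 2 ^ 2 = 1) (H := ⊥) ⟨inferInstance, inferInstance, by simp⟩
  have l := le_centralizer_self_iff.2 h4
  have m : Mw B (Ω₂ B) := ⟨hP, h3, l, fun b hb => by rw [← h5 b hb, sq 2, pow_mul, sq, sq],
    fun x hx e => H4.alperin hP (by norm_num) h4 h5 (fun C c1 c2 c3 c4 => h6 C ⟨c1, c2, c3⟩ c4) hx e,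
    fun w => by rw [mem_omegaOneCenter, sq]; exact ⟨fun k => ⟨k.1, k.2.2⟩, fun k => ⟨k.1, l k.1, k.2⟩⟩,
    fun A a b => h A a (le_centralizer_self_iff.1 (ea_le_centralizer b)) (isElementaryAbelian_iff.1 b).2⟩
  have e := m.all ((A.comap (QuotientGroup.mk' N)).map H.subtype)
  have e1 := card_le_of_le' (sq2_le (Q := (A.comap (QuotientGroup.mk' N)).map H.subtype) (H := N.map H.subtype) (by
    rintro _ ⟨x, hx, rfl⟩
    exact ⟨x * x, (QuotientGroup.eq_one_iff _).1 (by rw [QuotientGroup.mk_mul, ← sq]; exact h2 _ hx), rfl⟩))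
  have e2 : # (A.comap (QuotientGroup.mk' N)) = # N * # A := QuotientGroup.card_preimage_mk N A
  rw [card_map_subtype] at e e1
  have : 0 < # N := Nat.card_pos
  nlinarith

end

/-- A finite 2-group in which every normal elementary abelian subgroup has order at most 4 has sectional rank at most
4: every quotient of every subgroup has no elementary abelian subgroup of order exceeding 16. -/
theorem result {P : Type*} [Group P] [Finite P] (hP : IsPGroup 2 P)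
    (h : ∀ A : Subgroup P, A.Normal → IsMulCommutative A → (∀ a ∈ A, a ^ 2 = 1) → Nat.card A ≤ 4) :
    Cfsg.SectionalPRankLE 2 4 P := by
  exact macw hP h

end Cfsg.Agent.S0501
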