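import Cfsg.Statements.S2477
import Cfsg.Agent.H12.AltOrd
-- import your own Cfsg.Agent.* helpers here

set_option autoImplicit false
set_option maxHeartbeats 400000
open Cfsg

namespace Cfsg.Agent.S2477

/-- The set of element orders of the alternating group of degree 10 is {1, 2, 3, 4, 5, 6, 7, 8, 9, 10, 12, 15, 21}. -/
theorem result : Set.range (orderOf : alternatingGroup (Fin 10) → ℕ) = {1, 2, 3, 4, 5, 6, 7, 8, 9, 10, 12, 15, 21} := by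
  refine (H12.range_orderOf_alt_subset [(0, 1, 0), (2, 2, 1), (3, 3, 0), (4, 2, 0), (4, 4, 1), (5, 5, 0),
    (5, 6, 1), (6, 2, 1), (6, 3, 0), (6, 4, 0), (6, 6, 1), (7, 6, 0), (7, 7, 0), (7, 10, 1), (7, 12, 1),
    (8, 2, 0), (8, 4, 0), (8, 4, 1), (8, 6, 0), (8, 6, 1), (8, 8, 1), (8, 15, 0), (9, 3, 0), (9, 6, 1),
    (9, 9, 0), (9, 10, 0), (9, 12, 0), (9, 14, 1), (9, 20, 1), (10, 2, 1), (10, 4, 0), (10, 4, 1),
    (10, 5, 0), (10, 6, 0), (10, 6, 1), (10, 8, 0), (10, 10, 1), (10, 12, 0), (10, 12, 1), (10, 21, 0),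
    (10, 30, 1)] _ (by decide) (by decide +kernel) (by simp)).antisymm ?_
  rintro _ (rfl | rfl | rfl | rfl | rfl | rfl | rfl | rfl | rfl | rfl | rfl | rfl | rfl) <;>
    rw [H12.mem_range_orderOf_alt]
  exacts [⟨0, by decide⟩, ⟨{2, 2}, by decide⟩, ⟨{3}, by decide⟩, ⟨{4, 2}, by decide⟩,
    ⟨{5}, by decide⟩, ⟨{3, 2, 2}, by decide⟩, ⟨{7}, by decide⟩, ⟨{8, 2}, by decide⟩,
    ⟨{9}, by decide⟩, ⟨{5, 2, 2}, by decide⟩, ⟨{4, 3, 2}, by decide⟩, ⟨{5, 3}, by decide⟩,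
    ⟨{7, 3}, by decide⟩]

end Cfsg.Agent.S2477
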