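import Cfsg.Statements.S4396
import Cfsg.Agent.H23.FreeMod
import Cfsg.Agent.H17.PermMod
import Cfsg.Agent.H3.Frobenius
import Cfsg.Agent.H1.Fitting

set_option autoImplicit false
open Cfsg

namespace Cfsg.Agent.S4396

open Subgroup H19 H18 H23 Module MonoidAlgebra

universe u

/-- the dimension formula for all modules without fixed points of the kernel -/
theorem dim_fix {k A : Type*} [Field k] [Group A] [Finite A] {F H : Subgroup A} [F.Normal]
    (hn : Nil F) (hr : Semireg F H) {U : Type*} [AddCommGroup U] [Module k U] [FiniteDimensional k U]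
    (ρ : A →* End k U) (h : fix ρ F = ⊥) : finrank k U = #H * finrank k (fix ρ H) := by
  obtain ⟨p, _⟩ := CharP.exists k
  rcases CharP.char_is_prime_or_zero k p with hp | rfl
  · haveI := Fact.mk hp
    set K := (Cfsg.pPrimeCore p F).map F.subtype
    haveI : K.Normal := inferInstance
    have hK : K ≤ F := map_subtype_le _
    refine finrank_frobenius (K := K) ?_ le_normalizer_of_normal (sol_mono inferInstance hK)
      (fun x hx x1 => H3.fpf_mono (hr x hx x1) hK) (by_contra fun h0 => ?_)
    · rw [Ne, CharP.cast_eq_zero_iff k p, card_subtype]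
      exact hp.coprime_iff_not_dvd.1 H1.pPrimeCore_coprime.symm
    · obtain ⟨v, h1, h2, h3⟩ := H17.exists_fixed_vec ρ _ (H1.pCoreOf_isPGroup (p := p) F) (fix ρ K)
        (inv_fix le_normalizer_of_normal) h0
      refine h2 (h.le ?_)
      rw [← H1.pCoreOf_sup_pPrimeCoreOf hn p, fix_sup]
      exact ⟨h3, h1⟩
  · haveI := CharP.charP_to_charZero k
    exact finrank_frobenius (Nat.cast_ne_zero.2 Nat.card_pos.ne') le_normalizer_of_normal
      inferInstance hr h

theorem hom_bound {k H : Type*} [Field k] [Group H] (r : ℕ) (N : Type*) [AddCommGroup N]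
    [Module k[H] N] [Module k N] [IsScalarTower k k[H] N] [FiniteDimensional k N] :
    finrank k (N →ₗ[k[H]] (Fin r → k[H])) ≤ r * finrank k N := by
  let ev : (Fin r → k[H]) →ₗ[k] (Fin r → k) :=
    { toFun := fun x i => (x i).coeff 1, map_add' := fun _ _ => rfl, map_smul' := fun _ _ => rfl }
  have := LinearMap.finrank_le_finrank_of_injective (f := LinearMap.llcomp k N _ _ ev ∘ₗ
    LinearMap.restrictScalarsₗ k k[H] N (Fin r → k[H]) k) ((injective_iff_map_eq_zero _).2
      fun φ h => LinearMap.ext fun n => funext fun i => MonoidAlgebra.ext (Finsupp.ext fun g => by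
        have e : (φ (single g⁻¹ (1 : k) • n) i).coeff 1 = 0 :=
          congrFun (LinearMap.congr_fun h (single g⁻¹ (1 : k) • n)) i
        simpa [coeff_single_mul_apply] using e))
  rwa [finrank_linearMap k k N (Fin r → k), finrank_fin_fun, mul_comm] at this

/-- Let the finite group A act faithfully and linearly on a finite-dimensional vector space V over a field k, and suppose A is a Frobenius group with nilpotent kernel F (every Frobenius kernel is nilpotent) and complement H such that F fixes no nonzero vector. Then V is free as a module for H: there is a subspace W with V the direct sum of the translates hW, h ∈ H. (No assumption on the characteristic of k.) -/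
theorem result {k V A : Type*} [Field k] [AddCommGroup V] [Module k V] [FiniteDimensional k V] [Group A] [Finite A] [DecidableEq A]
    (ρ : Representation k A V) (hρ : Function.Injective ρ)
    (Fk Hc : Subgroup A) [Fk.Normal] (hHc : Cfsg.IsFrobeniusComplement Hc) (hker : Cfsg.frobeniusKernel Hc = (Fk : Set A)) (hnil : Group.IsNilpotent ↥Fk)
    (hCF : ∀ v : V, (∀ f ∈ Fk, ρ f v = v) → v = 0) :
    ∃ W : Submodule k V, DirectSum.IsInternal (fun h : ↥Hc => W.map (ρ (h : A))) := by
  obtain ⟨K, e, _, hc, -, hf, -⟩ := H3.exists_frobeniusKernel hHc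
  obtain rfl : K = Fk := SetLike.coe_injective (e.trans hker)
  let π : A →* Hc := hc.symm.QuotientMulEquiv.toMonoidHom.comp (QuotientGroup.mk' K)
  have π1 : ∀ h : Hc, π h = h := fun h => hc.symm.QuotientMulEquiv.apply_symm_apply h
  have π2 : ∀ f ∈ K, π f = 1 := fun f hf => by
    change hc.symm.QuotientMulEquiv (f : A ⧸ K) = 1
    rw [(QuotientGroup.eq_one_iff f).2 hf, map_one]
  have h0 := dim_fix hnil hf ρ (eq_bot_iff.2 hCF)
  set r := finrank k (fix ρ Hc)
  letI : Module k[Hc] V := Module.compHom V
    (Representation.asAlgebraHom (ρ.comp Hc.subtype)).toRingHom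
  have sm : ∀ (x : k[Hc]) (v : V), x • v = Representation.asAlgebraHom (ρ.comp Hc.subtype) x v :=
    fun _ _ => rfl
  have sm1 : ∀ (h : Hc) (v : V), single h (1 : k) • v = ρ h v := fun h v => by simp [sm]
  haveI : IsScalarTower k k[Hc] V := ⟨fun c x v => by simp [sm]⟩
  obtain ⟨f, fi⟩ := exists_injective_of_hom (k := k) (R := k[Hc]) (M := Fin r → k[Hc]) (V := V) r
    (fun N _ _ _ _ _ => by
      let σ := Representation.ofModule' (k := k) (G := Hc) N
      have hσ : ∀ h n, σ h n = single h (1 : k) • n := fun h n => by simp [σ, Representation.ofModule']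
      have h1 := dim_fix hnil hf (Representation.linHom (σ.comp π) ρ) (eq_bot_iff.2 fun φ hφ =>
        LinearMap.ext fun n => hCF _ fun f hf => by
          simpa [Representation.linHom_apply, π2 f hf] using LinearMap.congr_fun (hφ f hf) n)
      have h2 : LinearMap.range (LinearMap.restrictScalarsₗ k k[Hc] N V k) =
          fix (Representation.linHom (σ.comp π) ρ) Hc := by
        ext φ
        constructor
        · rintro ⟨φ, rfl⟩ h hh
          ext n
          have := π1 ⟨h, hh⟩
          simp only at this
          simp [Representation.linHom_apply, this, hσ, sm1, ← End.mul_apply, ← map_mul]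
        · intro hφ
          refine ⟨⟨φ.toAddHom, fun x n => ?_⟩, rfl⟩
          change φ (x • n) = x • φ n
          induction x using MonoidAlgebra.induction_on with
          | of h =>
            have := LinearMap.congr_fun (hφ h h.2) (σ h n)
            simp only [Representation.linHom_apply, MonoidHom.comp_apply, map_inv, π1,
              LinearMap.comp_apply, ← End.mul_apply, ← map_mul, inv_mul_cancel, map_one,
              End.one_apply] at this
            simp [sm1, ← hσ, this]
          | add a b ha hb => rw [add_smul, add_smul, map_add, ha, hb]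
          | smul c a ha => rw [smul_assoc, smul_assoc, map_smul, ha]
      rw [← h2, LinearMap.finrank_range_of_inj (LinearMap.restrictScalars_injective k),
        finrank_linearMap, h0, mul_left_comm] at h1
      rw [← Nat.eq_of_mul_eq_mul_left Nat.card_pos h1, mul_comm])
    (fun S => by
      haveI := FiniteDimensional.of_injective (S.subtype.restrictScalars k) S.injective_subtype
      exact hom_bound r S)
  have := Fintype.ofFinite Hc
  let b := Pi.basis fun _ : Fin r => MonoidAlgebra.basis Hc k
  have li : LinearIndependent k (f.restrictScalars k ∘ b) :=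
    b.linearIndependent.map' _ (LinearMap.ker_eq_bot.2 fi)
  have sp : Submodule.span k (Set.range (f.restrictScalars k ∘ b)) = ⊤ := by
    apply Submodule.eq_top_of_finrank_eq
    rw [finrank_span_eq_card li, h0]; simp [mul_comm]
  have hb : ∀ (h g : Hc) (i : Fin r), ρ h (f (b ⟨i, g⟩)) = f (b ⟨i, h * g⟩) := fun h g i => by
    rw [← sm1, ← map_smul]; congr 1
    simp [b, MonoidAlgebra.basis, ← Pi.single_smul, single_mul_single]
  have key : ∀ h : Hc, (Submodule.span k (Set.range fun i => f (b ⟨i, 1⟩))).map (ρ h) =
      Submodule.span k ((f.restrictScalars k ∘ b) '' {x | x.2 = h}) := fun h => by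
    rw [Submodule.map_span, ← Set.range_comp]; congr 1
    ext v
    constructor
    · rintro ⟨i, rfl⟩; exact ⟨⟨i, h⟩, rfl, by simp [hb]⟩
    · rintro ⟨⟨i, g⟩, rfl, rfl⟩; exact ⟨i, by simp [hb]⟩
  refine ⟨Submodule.span k (Set.range fun i => f (b ⟨i, 1⟩)), ?_⟩
  simp only [key]
  refine DirectSum.isInternal_submodule_of_iSupIndep_of_iSup_eq_top (fun h => ?_) ?_
  · refine (li.disjoint_span_image (s := {x | x.2 = h}) (t := {x | x.2 ≠ h})
      (Set.disjoint_left.2 fun x a b => b a)).mono_right (iSup₂_le fun g hg => ?_)
    exact Submodule.span_mono (Set.image_mono fun x (hx : x.2 = g) e => hg (hx.symm.trans e))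
  · rw [eq_top_iff, ← sp, Submodule.span_le]
    rintro _ ⟨x, rfl⟩
    exact Submodule.mem_iSup_of_mem x.2 (Submodule.subset_span ⟨x, rfl, rfl⟩)

end Cfsg.Agent.S4396
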