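import Cfsg.Statements.S0723
import Cfsg.Agent.H12.Scott
import Cfsg.Agent.S0722
import Cfsg.Agent.H17.Basic
-- import your own Cfsg.Agent.* helpers here

set_option autoImplicit false
set_option maxHeartbeats 400000
open Cfsg

namespace Cfsg.Agent.S0723

open MulAction Subgroup

/-- The core of the O'Nan–Scott Theorem. Let `H` be a primitive permutation group on a finite set whose unique minimal normal subgroup `N` is non-abelian, and `K` a point stabiliser. Then there are a non-abelian simple group `T` and an isomorphism `N ≃* T^m` (`m ≥ 1`) under which `K ⊓ N` becomes either a product `∏ K_i` of proper subgroups `K_i < T`, or the set of functions constant on each block of a partition of the index set into blocks of one common size `k ≥ 2`. -/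
theorem result {α : Type*} [Finite α] (H : Subgroup (Equiv.Perm α)) [MulAction.IsPreprimitive H α] (N : Subgroup H) [N.Normal] (hN : N ≠ ⊥) (hmin : ∀ M : Subgroup H, M.Normal → M ≤ N → M = ⊥ ∨ M = N) (huniq : ∀ L : Subgroup H, L.Normal → L ≠ ⊥ → (∀ M : Subgroup H, M.Normal → M ≤ L → M = ⊥ ∨ M = L) → L = N) (hnab : ¬ IsMulCommutative N) (a : α) : ∃ (T : Type) (_ : Group T) (m : ℕ) (e : N ≃* (Fin m → T)), IsSimpleGroup T ∧ ¬ IsMulCommutative T ∧ 0 < m ∧ ((∃ K : Fin m → Subgroup T, (∀ i, K i ≠ ⊤) ∧ ∀ n : N, (n : H) ∈ MulAction.stabilizer H a ↔ ∀ i, e n i ∈ K i) ∨ (∃ (k : ℕ) (c : Fin m → Fin m), 2 ≤ k ∧ (∀ j : Fin m, Nat.card {i : Fin m // c i = j} = k ∨ Nat.card {i : Fin m // c i = j} = 0) ∧ ∀ n : N, (n : H) ∈ MulAction.stabilizer H a ↔ ∀ i j : Fin m, c i = c j → e n i = e n j)) := by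
  classical
  obtain ⟨T, _, hS, m, hm, ⟨e⟩⟩ := H12.exists_equiv_pi_of_minNormal N hN hmin
  have hT : ¬ IsMulCommutative T := fun h => hnab ⟨⟨fun x y => e.injective
    (by rw [map_mul, map_mul]; exact funext fun i => h.is_comm.comm _ _)⟩⟩
  have hNt := H17.normal_trans (α := α) N hN
  let X : Subgroup (Fin m → T) := ((stabilizer H a).subgroupOf N).map e.toMonoidHom
  have hX : ∀ n : N, e n ∈ X ↔ (n : H) ∈ stabilizer H a := fun n =>
    mem_map_iff_mem (f := e.toMonoidHom) e.injective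
  let φ : H → MulAut (Fin m → T) := fun g => e.symm.trans ((MulAut.conjNormal g).trans e)
  have hφ : ∀ g n, φ g (e n) = e (MulAut.conjNormal g n) := fun g n => by simp [φ]
  have hφX : ∀ k ∈ stabilizer H a, ∀ x ∈ X, φ k x ∈ X := fun k hk x hx => by
    obtain ⟨n, rfl⟩ := e.surjective x
    rw [hφ, hX, MulAut.conjNormal_apply]
    exact mul_mem (mul_mem hk ((hX n).1 hx)) (inv_mem hk)
  choose τ β hτ using fun g => H12.aut_pi hT (φ g)
  have htr : ∀ i j, ∃ k ∈ stabilizer H a, τ k j = i := fun i j => by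
    obtain ⟨t, ht⟩ := exists_ne (1 : T)
    let C := ((Pi.evalMonoidHom (fun _ => T) j).comp e.toMonoidHom).ker.map N.subtype
    have h1 : C.normalCore = ⊥ := (hmin _ inferInstance ((normalCore_le _).trans
      (map_subtype_le _))).resolve_right fun h => by
        obtain ⟨n, h1, h2⟩ := normalCore_le C (h.ge (e.symm (Pi.mulSingle j t)).2)
        obtain rfl : n = _ := Subtype.ext h2
        exact ht (by simpa using h1)
    by_contra h2
    push Not at h2
    have h3 : (e.symm (Pi.mulSingle i t) : H) ∈ C.normalCore := fun g => by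
      obtain ⟨n, hn⟩ := hNt.exists_smul_eq a (g • a)
      have hk : (n : H)⁻¹ * g ∈ stabilizer H a := by
        rw [mem_stabilizer_iff, mul_smul, ← hn]; exact inv_smul_smul _ _
      have h4 := hτ ((n : H)⁻¹ * g) (e (e.symm (Pi.mulSingle i t))) j
      rw [hφ, e.apply_symm_apply, Pi.mulSingle_eq_of_ne (h2 _ hk), map_one] at h4
      refine ⟨n * MulAut.conjNormal ((n : H)⁻¹ * g) (e.symm (Pi.mulSingle i t)) * n⁻¹, ?_, ?_⟩
      · change e _ j = 1
        rw [e.map_mul, e.map_mul, Pi.mul_apply, Pi.mul_apply, h4]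
        simp
      · simp [mul_assoc]
    rw [h1, mem_bot, OneMemClass.coe_eq_one, MulEquiv.map_eq_one_iff] at h3
    exact ht (by simpa using congrFun h3 i)
  have hXt : ¬ N ≤ stabilizer H a := fun h => hN (eq_bot_iff.2 fun n hn =>
    eq_of_smul_eq_smul (α := α) fun b => by
      obtain ⟨g, rfl⟩ := hNt.exists_smul_eq a b
      rw [show g • a = a from h g.2, one_smul]; exact h hn)
  by_cases h : ∀ i t, ∃ x ∈ X, x i = t
  · obtain ⟨c, γ, hc, h1⟩ := H12.scott hT X h
    have h2 : ∀ i j, Nat.card {l // c l = c j} ≤ Nat.card {l // c l = c i} := fun i j => by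
      obtain ⟨k, hk, rfl⟩ := htr i j
      refine Nat.card_le_card_of_injective (fun l => ⟨τ k l, (hc _ _).2 fun x hx => ?_⟩)
        fun l l' h => Subtype.ext ((τ k).injective (congrArg Subtype.val h))
      simpa [hτ] using (hc _ _).1 l.2 _ (hφX k hk x hx)
    refine ⟨T, _, m, e.trans (MulEquiv.piCongrRight γ), hS, hT, hm, Or.inr
      ⟨Nat.card {l // c l = c ⟨0, hm⟩}, c, ?_, fun j => ?_, fun n => (hX n).symm.trans (h1 _)⟩⟩
    · by_contra h3
      refine hXt fun n hn => (hX ⟨n, hn⟩).1 ((h1 _).2 fun i j hij => ?_)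
      have : Subsingleton {l // c l = c j} :=
        Finite.card_le_one_iff_subsingleton.1 (by have := h2 ⟨0, hm⟩ j; omega)
      obtain rfl : i = j := congrArg Subtype.val (this.elim ⟨i, hij⟩ ⟨j, rfl⟩)
      rfl
    · rcases isEmpty_or_nonempty {i // c i = j} with h3 | ⟨⟨i, rfl⟩⟩
      · exact Or.inr Nat.card_of_isEmpty
      · exact Or.inl (le_antisymm (h2 _ _) (h2 _ _))
  push Not at h
  obtain ⟨j, t, h⟩ := h
  let K : Fin m → Subgroup T := fun i => X.map (Pi.evalMonoidHom (fun _ => T) i)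
  have hK : ∀ k ∈ stabilizer H a, ∀ j, ∀ s ∈ K (τ k j), β k j s ∈ K j := by
    rintro k hk j _ ⟨x, hx, rfl⟩
    exact ⟨_, hφX k hk x hx, hτ k x j⟩
  have hK' : ∀ i, K i ≠ ⊤ := fun i hi => by
    obtain ⟨k, hk, rfl⟩ := htr i j
    obtain ⟨x, hx, h1⟩ := hK k hk j ((β k j).symm t) (hi.ge (mem_top _))
    exact h x hx (h1.trans (MulEquiv.apply_symm_apply _ _))
  let Y := ((Subgroup.pi Set.univ K).comap e.toMonoidHom).map N.subtype
  have hY : ∀ n : N, (n : H) ∈ Y ↔ ∀ i, e n i ∈ K i := fun n =>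
    (mem_map_iff_mem (f := N.subtype) N.subtype_injective).trans (by simp [mem_pi])
  have h1 : ∀ k ∈ stabilizer H a, ∀ y ∈ Y, k * y * k⁻¹ ∈ Y := by
    rintro k hk _ ⟨n, hn, rfl⟩
    refine (hY (MulAut.conjNormal k n)).2 fun i => ?_
    rw [← hφ, hτ]
    exact hK k hk i _ (hn _ trivial)
  refine ⟨T, _, m, e, hS, hT, hm, Or.inl ⟨K, hK', fun n => ?_⟩⟩
  rcases S0722.result H N hN hmin a Y (map_subtype_le _)
    (fun n hn => (hY ⟨n, hn.2⟩).2 fun i => ⟨_, (hX ⟨n, hn.2⟩).2 hn.1, rfl⟩)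
    (fun k hk y => ⟨h1 k hk y, fun h => by
      simpa [mul_assoc] using h1 _ (inv_mem hk) _ h⟩) with h2 | h2
  · rw [← hY, h2]; simp
  · refine absurd (eq_top_iff.2 fun s _ => ?_) (hK' j)
    simpa using (hY (e.symm (Pi.mulSingle j s))).1 (h2.ge (SetLike.coe_mem _)) j

end Cfsg.Agent.S0723
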