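import Cfsg.Statements.S1824
import Cfsg.Agent.H28.QR3
import Cfsg.Agent.H28.PT7

set_option autoImplicit false
open Cfsg

namespace Cfsg.Agent.S1824

/-- The qrc-lemma in the form used for simple QTKE-groups. Let G be a non-abelian finite simple QTKE-group, T a Sylow 2-subgroup of G and M a maximal 2-local subgroup of G containing T. Let T ≤ M₀ ≤ M, let H be a minimal member of the set of subgroups of G with nontrivial 2-core that contain T and are not contained in M, and let V be a 2-reduced elementary abelian normal 2-subgroup of M₀ with O₂(M₀) = C_T(V). Suppose H ∩ M normalizes O²(M₀) or normalizes V. Then one of the following holds: (1) some nontrivial subgroup of O₂(M₀) is normalized by both M₀ and H; (2) V ≰ O₂(H) and q̂(M₀/C_{M₀}(V), V) ≤ 2; (3) q(M₀/C_{M₀}(V), V) ≤ 2. Here q (resp. q̂) ≤ 2 means that some subgroup of M₀ inducing a nontrivial elementary abelian 2-group A on V acts quadratically (resp. cubically) on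 V with |V : C_V(A)| ≤ |A|². -/
theorem result {G : Type*} [Group G] [Finite G] [IsSimpleGroup G]
    (hG : ¬ IsMulCommutative G) (hQ : Cfsg.IsQTKE G) (T : Sylow 2 G) (M M₀ H V : Subgroup G)
    (hM : M ∈ Cfsg.maxTwoLocalsContaining (T : Subgroup G))
    (hTM₀ : (T : Subgroup G) ≤ M₀) (hM₀M : M₀ ≤ M) (hH : H ∈ Cfsg.calHMin (T : Subgroup G) M)
    (hV : V ∈ Cfsg.calR2 M₀)
    (hR : (Cfsg.pCore 2 ↥M₀).map M₀.subtype = (T : Subgroup G) ⊓ Subgroup.centralizer (V : Set G))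
    (hI : H ⊓ M ≤ Subgroup.normalizer (Cfsg.oddGenerated M₀ : Set G) ∨
      H ⊓ M ≤ Subgroup.normalizer (V : Set G)) :
    (∃ R₀ : Subgroup G, R₀ ≠ ⊥ ∧ R₀ ≤ (Cfsg.pCore 2 ↥M₀).map M₀.subtype ∧
        M₀ ⊔ H ≤ Subgroup.normalizer (R₀ : Set G)) ∨
      (¬ V ≤ (Cfsg.pCore 2 ↥H).map H.subtype ∧ Cfsg.CubicParamLE M₀ V 2) ∨
      Cfsg.QuadParamLE M₀ V 2 := by
  rw [H28.GC.odd_eq] at hI
  refine or_iff_not_imp_right.2 fun n => ?_
  rw [not_or] at n
  refine H28.QR.main (fun D a b c => H28.isCharP_iff.2 (hQ.2.2 _ ⟨D, a, b, rfl⟩ ⟨T, c⟩)) (H28.isSylowIn_top T)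
    (mt H28.pCoreOf_eq_bot_iff.1 hH.1.1.1) ⟨le_inf hH.1.1.2 hM.2, inf_lt_left.2 hH.1.2, fun K a b => le_inf b.le
      (by_contra fun f => b.ne (hH.2 K ⟨⟨fun e => hH.1.1.1 (H28.pCoreOf_eq_bot_iff.1 (eq_bot_iff.2
        ((H28.pCoreOf_le_pCoreOf_of_le b.le ((H28.isSylowIn_of_sylow_le T hH.1.1.2).pCoreOf_le.trans a)).trans
          (H28.pCoreOf_eq_bot_iff.2 e).le))), a⟩, f⟩ b.le))⟩ hTM₀ hV.2.2.1 hV.1 hV.2.1 hR hI
    (fun B b q k => not_le.1 fun i => n.2 ⟨B, b.trans hTM₀, ⟨k, fun x hx => ?_, fun x hx y hy => ?_⟩, q,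
      (Subgroup.inf_relIndex_left _ _).trans_le i⟩)
    (or_iff_not_imp_left.2 fun k B b a => n.1 ⟨k, B, b.trans hTM₀, ⟨a.1, a.2.1, fun x hx y hy =>
      a.2.2.1 (Subgroup.commutator_mem_commutator hx hy)⟩, a.2.2.2.1, (Subgroup.inf_relIndex_left _ _).trans_le a.2.2.2.2⟩)
  · refine H28.mem_centralizer'.2 fun v hv => commutatorElement_eq_one_iff_mul_comm.1 ?_
    have c := Subgroup.commutator_mem_commutator hv hx
    have l := H28.commutator_le_of_le_normalizer (b.trans (hTM₀.trans hV.2.1))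
    rw [pow_two, H29.comm_mul_right, ← H28.mem_centralizer'.1 (H28.commutator_eq_bot_iff'.1 q hx) _ c,
      mul_inv_cancel_right, ← pow_two, hV.2.2.1.2 _ (l c)]
  · exact H28.commutator_eq_bot_iff.1 (Subgroup.commutator_commutator_eq_bot_of_rotate (by rwa [H28.comm_comm B V]) q)
      (Subgroup.commutator_mem_commutator hx hy)

end Cfsg.Agent.S1824
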