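import Cfsg.Statements.S5361
import Cfsg.Agent.H9.TT4

set_option autoImplicit false
open Cfsg

namespace Cfsg.Agent.S5361

/-- Let D be a conjugacy class of 3-transpositions generating the finite group G, and suppose the centre of G is trivial and some two different members of D commute. Then the following are equivalent: (1) the commutator subgroup of G is simple (possibly of prime order); (2) G acts primitively on D by conjugation; (3) the largest normal 2-subgroup and the largest normal 3-subgroup of G are trivial and the commuting graph of D is connected. -/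
theorem result {G : Type*} [Group G] [Finite G] {D : Set G} (hD : Cfsg.IsThreeTranspositionClass D) (hZ : Subgroup.center G = ⊥) (hw : ∃ a ∈ D, ∃ b ∈ D, a ≠ b ∧ Commute a b) : (IsSimpleGroup (commutator G) ↔ Cfsg.IsPrimitiveUnderConj D) ∧ (Cfsg.IsPrimitiveUnderConj D ↔ (Cfsg.pCore 2 G = ⊥ ∧ Cfsg.pCore 3 G = ⊥ ∧ (Cfsg.commutingGraph D).Connected)) := by
  classical
  have hT := H9.TG.ofClass hD
  have ht := H9.Tr.ofClass hD
  have : Nontrivial D := by
    obtain ⟨a, ha, b, hb, h, -⟩ := hw
    exact H9.nontrivial_of_two ⟨a, ha, b, hb, h⟩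
  refine ⟨⟨fun hs => (H9.prim_iff.1 (H9.prim_of_simple ht hs fun hc => ?_)).1,
    fun h => H9.Prim.isSimpleGroup (H9.prim_iff.2 ⟨h, hw⟩) hZ⟩, fun h => ?_, fun h => ?_⟩
  · obtain ⟨a, ha, b, hb, hab, hcm⟩ := hw
    have h1 := H9.mul_mem_commutator ht a ha b hb
    have h2 : (a * b) ^ 2 = 1 := (H9.comm_of_sq (hT.sq a ha) (hT.sq b hb)).2 hcm
    have h3 : a * b ≠ 1 := fun e => hab ((hT.mul_eq_one hb).1 e)
    have h4 : Subgroup.zpowers (⟨a * b, h1⟩ : commutator G) = ⊤ :=
      (hs.eq_bot_or_eq_top_of_normal _ inferInstance).resolve_left fun e =>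
        h3 (congrArg Subtype.val (Subgroup.zpowers_eq_bot.1 e))
    have h5 : orderOf (⟨a * b, h1⟩ : commutator G) = 2 := by
      rw [← Subgroup.orderOf_coe]; exact orderOf_eq_prime h2 h3
    have h6 : a * b ∈ Subgroup.center G := by
      rw [Subgroup.mem_center_iff]
      intro g
      have h7 : (⟨g * (a * b) * g⁻¹, (inferInstance : (commutator G).Normal).conj_mem _ h1 g⟩ :
          commutator G) ∈ Subgroup.zpowers (⟨a * b, h1⟩ : commutator G) := by rw [h4]; trivial
      rw [mem_zpowers_iff_mem_range_orderOf, h5] at h7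
      simp only [Finset.mem_image, Finset.mem_range] at h7
      obtain ⟨n, hn, e⟩ := h7
      have e' := congrArg Subtype.val e
      interval_cases n
      · simp only [pow_zero, OneMemClass.coe_one] at e'
        exact absurd (by simpa using e'.symm) h3
      · simp only [pow_one] at e'
        exact (eq_mul_inv_iff_mul_eq.1 e').symm
    rw [hZ] at h6
    exact h3 h6
  · have hP := H9.prim_iff.2 ⟨h, hw⟩
    exact ⟨le_bot_iff.1 (hZ ▸ H9.Prim.two hP), le_bot_iff.1 (hZ ▸ H9.Prim.three hP),
      H9.connected_iff.2 hP.cc⟩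
  · obtain ⟨h2, h3, hc⟩ := h
    exact (H9.prim_iff.1 (H9.prim_of_vwc ht
      ((H9.pCore_two_le_center_iff ht.conn.exists_adj).1 (h2 ▸ bot_le))
      (H9.pCore_three_le_center_iff.1 (h3 ▸ bot_le)) (H9.connected_iff.1 hc))).1

end Cfsg.Agent.S5361
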