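import Cfsg.Statements.S5401
import Cfsg.Agent.H9.B24
import Cfsg.Agent.H9.Grp1

set_option autoImplicit false
open Cfsg

namespace Cfsg.Agent.S5401

/-- Existence of the Fischer 3-transposition groups: there exist finite groups generated by a conjugacy class of 3-transpositions on which they act primitively that are of type M(22), of type M(23), and of type M(24) respectively. -/
theorem result : (∃ (X : Type) (_ : Group X) (_ : Finite X) (E : Set X), Cfsg.IsThreeTranspositionClass E ∧ Cfsg.IsPrimitiveUnderConj E ∧ Cfsg.IsOfTypeM22 X E) ∧ (∃ (X : Type) (_ : Group X) (_ : Finite X) (E : Set X), Cfsg.IsThreeTranspositionClass E ∧ Cfsg.IsPrimitiveUnderConj E ∧ Cfsg.IsOfTypeM23 X E) ∧ (∃ (X : Type) (_ : Group X) (_ : Finite X) (E : Set X), Cfsg.IsThreeTranspositionClass E ∧ Cfsg.IsPrimitiveUnderConj E ∧ Cfsg.IsOfTypeM24 X E) := by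
  have a := H26.F22.isM
  have b := H26.F23.isM
  have c := H26.F24.isM
  have := a.tg
  have := b.tg
  have := c.tg
  have key : ∀ {G : Type} [Group G] [Finite G] {D : Set G} [H9.TG D], H9.FQ.Prim D →
      Cfsg.IsThreeTranspositionClass D ∧ Cfsg.IsPrimitiveUnderConj D := fun {G} _ _ D _ h =>
    have k := H9.prim_iff.1 h
    ⟨H9.TG.toClass k.1.1 (let ⟨a, ha, _⟩ := k.2; ⟨a, ha⟩), k.1⟩
  have := a.finite
  have := b.finite
  have := c.finite
  exact ⟨⟨_, _, inferInstance, _, (key (H9.m22_of a).1).1, (key (H9.m22_of a).1).2, H9.M22.type (H9.m22_of a) a.center_eq⟩,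
    ⟨_, _, inferInstance, _, (key (H9.m23_of b).1).1, (key (H9.m23_of b).1).2, H9.M23.type (H9.m23_of b) b.center_eq⟩,
    ⟨_, _, inferInstance, _, (key (H9.m24_of c).1).1, (key (H9.m24_of c).1).2, H9.M24.type (H9.m24_of c) c.center_eq⟩⟩

end Cfsg.Agent.S5401
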