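import Cfsg.Statements.S4471
import Cfsg.Agent.H6.LinG4
import Cfsg.Agent.H18.Top

set_option autoImplicit false
open Cfsg

namespace Cfsg.Agent.S4471
open H6 H20 H19

/-- Let p ≥ 7 be a prime and let the finite group G have a faithful irreducible character of degree n with n < 2p and n ≠ p. If the Sylow p-subgroups of G are non-abelian then p² does not divide the index of O_p(G) in G; consequently, in every case G/O_p(G) has abelian Sylow p-subgroups. -/
theorem result {G : Type*} [Group G] [Finite G] (χ : Cfsg.IrrCharacter G) (hfaith : ∀ g : G, (χ : G → ℂ) g = (χ : G → ℂ) 1 → g = 1) (n : ℕ) (hn : Cfsg.charDegree (χ : G → ℂ) = n) (p : ℕ) (hp : p.Prime) (h7 : 7 ≤ p) (hn2 : n < 2 * p) (hnp : n ≠ p) : ((∃ P : Sylow p G, ∃ x ∈ (P : Subgroup G), ∃ y ∈ (P : Subgroup G), x * y ≠ y * x) → ¬ p ^ 2 ∣ (Cfsg.pCore p G).index) ∧ ∀ Q : Sylow p (G ⧸ Cfsg.pCore p G), ∀ x ∈ (Q : Subgroup (G ⧸ Cfsg.pCore p G)), ∀ y ∈ (Q : Subgroup (G ⧸ Cfsg.pCore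 p G)), x * y = y * x := by
  have := Fact.mk hp
  subst hn
  have h : ∀ P : Sylow p G, ¬ Ab (P : Subgroup G) → ¬ p ^ 2 ∣ (Cfsg.pCore p G).index := fun P e => by
    have := lt_two_p hp h7 (coe_mem_Irr_top χ) (le_bot_iff.1 fun g hg => hfaith g (cker_apply hg))
      hn2 hnp (syl_sylow_top P).pi e
    rwa [H18.Oc_top_p hp, Subgroup.relIndex_top_right] at this
  refine ⟨fun ⟨P, x, h1, y, h2, e⟩ => h P fun a => e (mul_comm_of_comm a h1 h2), fun Q x h1 y h2 => ?_⟩
  obtain ⟨P, rfl⟩ := Sylow.mapSurjective_surjective (QuotientGroup.mk'_surjective (pCore p G)) p Q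
  by_cases e : Ab (P : Subgroup G)
  · obtain ⟨x, a, rfl⟩ := h1
    obtain ⟨y, b, rfl⟩ := h2
    rw [← map_mul, mul_comm_of_comm e a b, map_mul]
  obtain ⟨k, a⟩ := (syl_sylow_top (P.mapSurjective (QuotientGroup.mk'_surjective (pCore p G)))
    ).pi.exists_card
  refine mul_comm_of_comm (ab_of_card_sq hp (a ▸ pow_dvd_pow p (not_lt.1 fun b => h P e ?_))) h1 h2
  exact (a ▸ pow_dvd_pow p b.le).trans (Subgroup.card_subgroup_dvd_card _)

end Cfsg.Agent.S4471
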