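import Cfsg.Statements.S1001
import Cfsg.Agent.H21.BT
import Cfsg.Agent.H21.SylowPrime
import Cfsg.Agent.H5.Burnside
import Cfsg.Agent.H7.Prin

set_option autoImplicit false
open Cfsg

namespace Cfsg.Agent.S1001

open H5 H7 H8 H28 H21 Finset
open scoped ComplexConjugate

/-- In a finite simple group whose order has the form p * 3^a * 2^b with p prime, the centralizer of any element of order p is the cyclic group it generates. -/
theorem result {G : Type*} [Group G] [Finite G] [IsSimpleGroup G] (p a b : ℕ) (hp : p.Prime) (hG : Nat.card G = p * 3 ^ a * 2 ^ b) (x : G) (hx : orderOf x = p) : Subgroup.centralizer ({x} : Set G) = Subgroup.zpowers x := by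
  by_cases h : p = 2 ∨ p = 3
  · have h1 := IsSimpleGroup.comm_iff_isSolvable.2 (isSolvable_of_card_dvd_prime_pow_mul (G := G)
      (a := b + 1) (b := a + 1) Nat.prime_two Nat.prime_three
      (by rcases h with rfl | rfl; exacts [⟨3, by rw [hG]; ring⟩, ⟨2, by rw [hG]; ring⟩]))
    let : CommGroup G := { mul_comm := h1 }
    rw [(IsSimpleGroup.eq_bot_or_eq_top_of_normal (Subgroup.zpowers x) inferInstance).resolve_left
      (by simpa using ne_one_of_orderOf_prime hp hx), eq_top_iff]
    exact fun g _ => Subgroup.mem_centralizer_singleton_iff.2 (h1 _ _)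
  · push Not at h
    rw [← Subgroup.centralizer_closure, ← Subgroup.zpowers_eq_closure]
    exact centralizer_sylow_of_three Nat.prime_three Nat.prime_two hp h.2.symm h.1.symm
      (a := a) (b := b) (by rw [hG]; ring) ((Nat.card_zpowers x).trans hx)

end Cfsg.Agent.S1001
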