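import Cfsg.Statements.S4035
import Cfsg.Agent.H23.Syl

set_option autoImplicit false
open Cfsg

namespace Cfsg.Agent.S4035

open Subgroup

/-- Let G be a finite group and p a prime such that p divides the size of no conjugacy class of p-regular elements (elements of order prime to p). Then G is the internal direct product of a Sylow p-subgroup P and a normal subgroup H of order prime to p: P is normal, P ⊓ H = 1 and PH = G. -/
theorem result {G : Type*} [Group G] [Finite G] {p : ℕ} [Fact p.Prime]
    (h : ∀ x : G, (orderOf x).Coprime p → ¬ p ∣ (ConjClasses.mk x).carrier.ncard) (P : Sylow p G) :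
    (P : Subgroup G).Normal ∧ ∃ H : Subgroup G, H.Normal ∧ ¬ p ∣ Nat.card H ∧
      (P : Subgroup G) ⊓ H = ⊥ ∧ (P : Subgroup G) ⊔ H = ⊤ := by
  have h' : ∀ x : G, (orderOf x).Coprime p → ¬ p ∣ H24.cs x := fun x hx => by
    rw [← H24.card_carrier_mk]; exact h x hx
  have h1 : (P : Subgroup G) ⊔ centralizer ((P : Subgroup G) : Set G) = ⊤ := by
    refine H24.eq_top_of_forall_conj_mem fun g => ?_
    obtain ⟨u, hu, v, hv, rfl, hu', hv'⟩ := H23.exists_pPart p Fact.out g
    obtain ⟨Q, hQ⟩ := H24.not_dvd_cs_iff.1 (h' v hv')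
    have huv : u ∈ centralizer ({v} : Set G) :=
      H24.mem_cent_iff_commute.2 (H23.commute_of_mem_zpowers hu hv)
    obtain ⟨c, hc, h2⟩ := H2.exists_conj_mem_of_not_dvd_relIndex (H := (Q : Subgroup G))
      (H23.isPGroup_zpowers hu') (zpowers_le.2 huv)
      (fun hd => Q.not_dvd_index (hd.trans (relIndex_dvd_index_of_le hQ)))
    obtain ⟨a, rfl⟩ := MulAction.exists_smul_eq G P Q
    refine ⟨c * a, ?_⟩
    have e : (c * a)⁻¹ * (u * v) * (c * a) = (a⁻¹ * (c⁻¹ * u * c) * a) * (a⁻¹ * (c⁻¹ * v * c) * a) := by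
      group
    rw [e]
    refine mul_mem_sup (H23.mem_sylow_smul.1 (h2 u (mem_zpowers u))) ?_
    have e2 : c⁻¹ * v * c = v := by rw [mul_assoc, ← H24.mem_cent.1 hc]; group
    rw [e2, ← H1.mem_conj_smul_iff, H1.conj_smul_centralizer]
    intro y hy
    exact H24.mem_cent.1 (hQ hy)
  have hn : (P : Subgroup G).Normal := by
    refine H1.normal_of_top_le_normalizer ?_
    rw [← h1]
    exact sup_le le_normalizer (centralizer_le_normalizer _)
  refine H23.sylow_direct_factor P fun x hx => H23.mem_of_coprime_index ?_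
  have : (centralizer ((P : Subgroup G) : Set G)).index ∣ Nat.card (P : Subgroup G) := by
    rw [← relIndex_top_right, ← h1, relIndex_sup_right]
    exact relIndex_dvd_card _ _
  exact Nat.Coprime.coprime_dvd_right this (H1.coprime_card_of_isPGroup P.isPGroup' hx).symm

end Cfsg.Agent.S4035
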