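import Cfsg.Statements.S4602
import Cfsg.Agent.H8.TI
import Cfsg.Agent.H7.Quot

set_option autoImplicit false
open Cfsg

namespace Cfsg.Agent.S4602

open H8 H28 H5 MonoidAlgebra
open H7 (eB fB VG redG ev fB_mem_VG isPBlock_principalBlock isPBlock_nonempty)

/-- Let G be a finite p-solvable group and q a prime different from p. Some Sylow p-subgroup of G normalizes some Sylow q-subgroup of G if and only if q does not divide the order of G/O_{p'}(G), the quotient by the largest normal subgroup of order prime to p. -/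
theorem result {G : Type*} [Group G] [Finite G] (p q : ℕ) [Fact p.Prime] [Fact q.Prime] (hpq : p ≠ q) (hsolv : Cfsg.IsPSolvable p G) :
    (∃ (P : Sylow p G) (Q : Sylow q G), (P : Subgroup G) ≤ Subgroup.normalizer ((Q : Subgroup G) : Set G)) ↔ ¬ q ∣ (Cfsg.pPrimeCore p G).index := by
  set N := Cfsg.pPrimeCore p G with hN
  have hco : ∀ {X : Type _} [Group X] {A B : Subgroup X}, IsPGroup p A → IsPGroup q B →
      A ⊓ B = ⊥ := fun hA hB =>
    disjoint_iff.1 (IsPGroup.disjoint_of_ne p q hpq _ _ hA hB)
  constructor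
  · rintro ⟨P, Q, hPQ⟩
    have hf := QuotientGroup.mk'_surjective N
    have hC := H1.centralizer_pCore_le_of_isPSolvable (H1.isPSolvable_quotient hsolv N)
      H1.pPrimeCore_quotient_pPrimeCore
    have hO : Cfsg.pCore p (G ⧸ N) ≤ (P : Subgroup G).map (QuotientGroup.mk' N) :=
      (H1.pCore_isPGroup).le_sylow_of_normal (P.mapSurjective hf)
    have hQq : IsPGroup q ((Q : Subgroup G).map (QuotientGroup.mk' N)) := Q.2.map _
    have hn : Cfsg.pCore p (G ⧸ N) ≤ Subgroup.normalizer
        (((Q : Subgroup G).map (QuotientGroup.mk' N) : Subgroup (G ⧸ N)) : Set (G ⧸ N)) :=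
      hO.trans ((Subgroup.map_mono hPQ).trans (Subgroup.le_normalizer_map _))
    have hb := hco (H1.pCore_isPGroup (p := p) (G := G ⧸ N)) hQq
    have hc := H1.le_centralizer_of_commutator_eq_bot
      (H1.commutator_eq_bot_of_inf_eq_bot Subgroup.le_normalizer_of_normal hn
        (by rw [inf_comm]; exact hb))
    have h0 : (Q : Subgroup G).map (QuotientGroup.mk' N) = ⊥ := by
      rw [eq_bot_iff, ← hb]; exact le_inf (hc.trans hC) le_rfl
    rw [H1.map_mk'_eq_bot_iff] at h0
    exact fun hd => Q.not_dvd_index (hd.trans (Subgroup.index_dvd_of_le h0))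
  · intro hq
    obtain ⟨Q⟩ : Nonempty (Sylow q G) := inferInstance
    have hQN : (Q : Subgroup G) ≤ N := by
      rw [← H1.map_mk'_eq_bot_iff]
      obtain ⟨k, hk⟩ := (Q.2.map (QuotientGroup.mk' N)).exists_card_eq
      have hd := Subgroup.card_subgroup_dvd_card ((Q : Subgroup G).map (QuotientGroup.mk' N))
      rw [hk] at hd
      rcases k with _ | k
      · exact Subgroup.eq_bot_of_card_eq _ (by simpa using hk)
      · exact absurd ((dvd_pow_self q (Nat.succ_ne_zero k)).trans hd) hq
    set K := Subgroup.normalizer ((Q : Subgroup G) : Set G) with hK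
    have hF : K ⊔ N = ⊤ := Q.normalizer_sup_eq_top' hQN
    have hidx : K.index ∣ Nat.card N := by
      have h1 := H1.card_sup_mul_card_inf (H := K) (N := N) Subgroup.le_normalizer_of_normal
      rw [hF, Subgroup.card_top, ← K.card_mul_index, mul_assoc] at h1
      exact ⟨_, (Nat.eq_of_mul_eq_mul_left Nat.card_pos h1).symm⟩
    obtain ⟨R⟩ : Nonempty (Sylow p K) := inferInstance
    have hR : ¬ p ∣ ((R : Subgroup K).map K.subtype).index := by
      rw [Subgroup.index_map_subtype]
      intro hd
      rcases (Nat.Prime.dvd_mul Fact.out).1 hd with h | h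
      · exact R.not_dvd_index h
      · exact H7.not_dvd_card_pPrimeCore Fact.out (h.trans hidx)
    exact ⟨(R.2.map K.subtype).toSylow hR, Q, Subgroup.map_subtype_le _⟩

end Cfsg.Agent.S4602
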