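import Cfsg.Statements.S3863
import Cfsg.Agent.H23.Syl

set_option autoImplicit false
open Cfsg

namespace Cfsg.Agent.S3863

open Subgroup

/-- Let x be an element of the finite group G that is conjugate to its inverse. Then some 2-element conjugates x to its inverse; if the conjugacy class of x has odd size then x ^ 2 = 1; and x lies in, and is conjugate to its inverse inside, every normal subgroup of odd index. -/
theorem result {G : Type*} [Group G] [Finite G] (x : G) (hx : IsConj x x⁻¹) : (∃ t : G, (∃ j : ℕ, orderOf t = 2 ^ j) ∧ t * x * t⁻¹ = x⁻¹) ∧ (Odd (Subgroup.centralizer ({x} : Set G)).index → x ^ 2 = 1) ∧ ∀ (N : Subgroup G) [N.Normal], Odd N.index → ∃ hxN : x ∈ N, IsConj (⟨x, hxN⟩ : N) (⟨x, hxN⟩ : N)⁻¹ := by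
  obtain ⟨g, hg⟩ := isConj_iff.1 hx
  obtain ⟨u, hu, v, hv, huv, hu2, hv2⟩ := H23.exists_pPart 2 Nat.prime_two g
  have hgg : Commute (g ^ 2) x := by
    have : g * x⁻¹ * g⁻¹ = x := by
      calc _ = (g * x * g⁻¹)⁻¹ := by group
        _ = x := by rw [hg, inv_inv]
    have h2 : g ^ 2 * x * (g ^ 2)⁻¹ = x := by
      calc _ = g * (g * x * g⁻¹) * g⁻¹ := by rw [pow_two]; group
        _ = x := by rw [hg, this]
    exact mul_inv_eq_iff_eq_mul.1 h2
  have hvx : Commute v x := by
    obtain ⟨k, rfl⟩ := hv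
    obtain ⟨m, hm⟩ := exists_pow_eq_self_of_coprime hv2.symm
    rw [← hm]
    refine Commute.pow_left ?_ m
    rw [← zpow_natCast, ← zpow_mul, mul_comm, zpow_mul, zpow_natCast]
    exact hgg.zpow_left k
  have hux : u * x * u⁻¹ = x⁻¹ := by
    rw [← hg, ← huv, mul_assoc u v, hvx.eq]; group
  refine ⟨⟨u, hu2, hux⟩, fun h => H23.sq_eq_one_of_real hx ?_, fun N _ hN => ?_⟩
  · exact (H1.coprime_iff_not_dvd (p := 2)).1 (H1.coprime_two_iff_odd.2 h)
  · have huN : u ∈ N := by
      refine H23.mem_of_coprime_index ?_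
      obtain ⟨k, hk⟩ := hu2
      rw [hk]
      exact (H1.coprime_two_iff_odd.2 hN).symm.pow_left k
    have hxN : x ∈ N := by
      rw [← QuotientGroup.eq_one_iff, ← orderOf_eq_one_iff]
      have h1 : (x : G ⧸ N) ^ 2 = 1 := by
        rw [← QuotientGroup.mk_pow, QuotientGroup.eq_one_iff]
        have : x ^ 2 = (x * u * x⁻¹) * u⁻¹ := by
          rw [mul_assoc, mul_assoc, pow_two]
          congr 1
          have : x⁻¹ * u⁻¹ = u⁻¹ * x := by
            rw [← inv_inj, mul_inv_rev, mul_inv_rev, inv_inv, inv_inv, ← hux]; group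
          rw [this, mul_inv_cancel_left]
        rw [this]
        exact mul_mem (Normal.conj_mem inferInstance u huN x) (inv_mem huN)
      exact Nat.eq_one_of_dvd_coprimes (H1.coprime_two_iff_odd.2 hN) (orderOf_dvd_natCard _)
        (orderOf_dvd_of_pow_eq_one h1)
    exact ⟨hxN, isConj_iff.2 ⟨⟨u, huN⟩, Subtype.ext hux⟩⟩

end Cfsg.Agent.S3863
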