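import Cfsg.Statements.S0113
import Cfsg.Agent.H10.Taussky

set_option autoImplicit false
open Cfsg

namespace Cfsg.Agent.S0113

/-- A 2-group of maximal class contains a cyclic subgroup of index 2. -/
theorem result {X : Type*} [Group X] [Finite X] (n : ℕ) (hn : 3 ≤ n) (hX : Nat.card X = 2 ^ n) (hc : Group.nilpotencyClass X = n - 1) : ∃ C : Subgroup X, IsCyclic C ∧ C.index = 2 := by
  have h := (H10.index_commutator_of_maxClass hn hX hc).1
  have h8 : 4 < Nat.card X := by
    rw [hX]; exact lt_of_lt_of_le (by norm_num) (Nat.pow_le_pow_right two_pos hn)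
  obtain ⟨m, x, e, hm⟩ := H10.taussky_mc (IsPGroup.of_card hX) (by omega) h8
  exact ⟨Subgroup.zpowers x, inferInstance, by simpa using hm.idx⟩

end Cfsg.Agent.S0113
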