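import Cfsg.Statements.S2665
import Cfsg.Agent.H22.Lang

set_option autoImplicit false
open scoped MatrixGroups
open Cfsg

namespace Cfsg.Agent.S2665

/-- The Lang–Steinberg Theorem for the general linear group. Let `K` be an algebraically closed field of prime characteristic `p`, let `q = p^f` with `f ≥ 1`, and let `σ` be the endomorphism of GL_n(K) raising every matrix entry to the `q`-th power. Then every element `g` of GL_n(K) can be written `g = x · σ(x)⁻¹` for some `x` in GL_n(K): the map `x ↦ x σ(x)⁻¹` is surjective. -/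
theorem result {K : Type*} [Field K] [IsAlgClosed K] (p : ℕ) [Fact p.Prime] [CharP K p]
    (f : ℕ) (hf : 1 ≤ f) (n : ℕ) (g : GL (Fin n) K) :
    ∃ x : GL (Fin n) K, g = x * (Matrix.GeneralLinearGroup.map (iterateFrobenius K p f) x)⁻¹ := by
  let τ : (Fin n → K) →+ (Fin n → K) := (Matrix.mulVecLin g.1).toAddMonoidHom.comp
    ((iterateFrobenius K p f).toAddMonoidHom.compLeft _)
  have h1 := H22.span_fix_eq_top (q := p ^ f) ((Fact.out : p.Prime).two_le.trans (Nat.le_self_pow (by omega) p)) τ
    (fun c v => by
      exact (congrArg g.1.mulVecLin (funext fun i => map_mul (iterateFrobenius K p f) c (v i))).trans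
        (map_smul g.1.mulVecLin (c ^ p ^ f) _))
    ((injective_iff_map_eq_zero _).2 fun v hv => by_contra fun h => H22.gl_mulVec_ne_zero g
      (fun e => h (funext fun i => by simpa using congrFun e i)) hv)
  obtain ⟨s, hs, hsp, hli⟩ := exists_linearIndependent K {v | τ v = v}
  rw [h1] at hsp
  let b₀ : Module.Basis s K (Fin n → K) := Module.Basis.mk hli (by simp [hsp])
  let b := b₀.reindex (b₀.indexEquiv (Pi.basisFun K (Fin n)))
  have hb : ∀ j, τ (b j) = b j := fun j => by
    simp only [b, b₀, Module.Basis.reindex_apply, Module.Basis.mk_apply]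
    exact hs (Subtype.property _)
  obtain ⟨x, hx⟩ := H22.exists_gl_of_basis b
  refine ⟨x, eq_mul_inv_iff_mul_eq.2 (Units.ext (Matrix.ext fun i j => ?_))⟩
  have := congrFun (hb j) i
  rw [← hx] at this
  simpa [τ, Matrix.mul_apply, Matrix.mulVec, dotProduct, Pi.single_apply] using this

end Cfsg.Agent.S2665
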