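import Cfsg.Statements.S3866
import Cfsg.Agent.H1.Fitting

set_option autoImplicit false
open Cfsg

namespace Cfsg.Agent.S3866

open Subgroup
open scoped commutatorElement

/-- Let A be a commutative normal subgroup of the finite group G with G generated by A and an element x. Then a ↦ x a x⁻¹ a⁻¹ is a surjective homomorphism from A onto the commutator subgroup of G whose kernel is the centralizer of x in A; in particular the commutator subgroup has order equal to the index in A of that centralizer. -/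
theorem result {G : Type*} [Group G] [Finite G] (A : Subgroup G) [A.Normal] (hA : IsMulCommutative A) (x : G) (hgen : A ⊔ Subgroup.zpowers x = ⊤) : (∀ a ∈ A, x * a * x⁻¹ * a⁻¹ ∈ commutator G) ∧ (∀ c ∈ commutator G, ∃ a ∈ A, x * a * x⁻¹ * a⁻¹ = c) ∧ (∀ a ∈ A, ∀ b ∈ A, x * (a * b) * x⁻¹ * (a * b)⁻¹ = (x * a * x⁻¹ * a⁻¹) * (x * b * x⁻¹ * b⁻¹)) ∧ Nat.card (commutator G) * Nat.card ↥(A ⊓ Subgroup.centralizer ({x} : Set G)) = Nat.card A := by
  have hc := H1.isMulCommutative_iff.1 hA
  have hn : A.Normal := inferInstance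
  have hmul : ∀ a ∈ A, ∀ b ∈ A, x * (a * b) * x⁻¹ * (a * b)⁻¹ =
      (x * a * x⁻¹ * a⁻¹) * (x * b * x⁻¹ * b⁻¹) := by
    intro a ha b hb
    have := hc a⁻¹ (inv_mem ha) (x * b * x⁻¹ * b⁻¹) (mul_mem (hn.conj_mem b hb x) (inv_mem hb))
    rw [mul_assoc (x * a * x⁻¹), this]; group
  let f : A →* G := MonoidHom.mk' (fun a => x * a * x⁻¹ * (a : G)⁻¹) fun a b => hmul a a.2 b b.2
  have hfA : f.range ≤ A := by
    rintro _ ⟨a, rfl⟩
    exact mul_mem (hn.conj_mem a a.2 x) (inv_mem a.2)
  have hAn : A ≤ normalizer (f.range : Set G) :=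
    ((le_centralizer A).trans (H1.centralizer_anti hfA)).trans (centralizer_le_normalizer _)
  have hxn : zpowers x ≤ normalizer (f.range : Set G) := by
    rw [zpowers_le]
    refine H1.mem_normalizer_of_conj_mem ?_
    rintro _ ⟨a, rfl⟩
    refine ⟨⟨x * a * x⁻¹, hn.conj_mem a a.2 x⟩, ?_⟩
    simp only [f, MonoidHom.mk'_apply]; group
  have h1 : ⁅zpowers x, A⁆ ≤ f.range := by
    rw [zpowers_eq_closure]
    refine H1.commutator_closure_le (by simpa using hxn) ?_
    rintro _ rfl a ha
    exact ⟨⟨a, ha⟩, rfl⟩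
  have heq : f.range = commutator G := by
    apply le_antisymm
    · rintro _ ⟨a, rfl⟩
      exact commutator_mem_commutator (mem_top x) (mem_top (a : G))
    · rw [_root_.commutator_def, ← hgen]
      refine H1.commutator_sup_le hAn hxn (H1.commutator_sup_le' hAn hxn ?_ ?_)
        (H1.commutator_sup_le' hAn hxn h1 ?_)
      · rw [commutator_eq_bot_iff_le_centralizer.2 (le_centralizer A)]; exact bot_le
      · rwa [commutator_comm]
      · rw [commutator_eq_bot_iff_le_centralizer.2 (le_centralizer _)]; exact bot_le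
  refine ⟨fun a _ => commutator_mem_commutator (mem_top x) (mem_top a), fun c h => ?_, hmul, ?_⟩
  · obtain ⟨a, ha⟩ := heq.ge h
    exact ⟨a, a.2, ha⟩
  · have hk : f.ker = (centralizer ({x} : Set G)).subgroupOf A := by
      ext a
      rw [MonoidHom.mem_ker, mem_subgroupOf, mem_centralizer_singleton_iff]
      exact commutatorElement_eq_one_iff_mul_comm.trans eq_comm
    rw [← heq, inf_comm, ← H1.card_subgroupOf, ← hk, ← index_ker, index_mul_card]

end Cfsg.Agent.S3866
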