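import Cfsg.Statements.S4200
import Cfsg.Agent.H24.ClassCount

set_option autoImplicit false
open Cfsg

namespace Cfsg.Agent.S4200

open Finset Subgroup H24 Classical in
theorem aux {X : Type*} [Group X] [Fintype X] (Y : Subgroup X) :
    Nat.card (ConjClasses X) * Nat.card X ≤
      Y.index * ∑ y : Y, Nat.card (centralizer ({(y : X)} : Set X)) := by
  rw [card_classes_mul_card']
  have h1 : ∑ y : Y, Nat.card (centralizer ({(y : X)} : Set X)) =
      ∑ x : X, Nat.card (centralizer ({x} : Set X) ⊓ Y : Subgroup X) := by
    simp only [card_eq_card_filter, card_filter]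
    rw [sum_comm]
    refine sum_congr rfl fun x _ => ?_
    rw [← sum_subtype (univ.filter (· ∈ Y)) (by simp)
      (fun y => if x ∈ centralizer ({y} : Set X) then 1 else 0), sum_filter]
    refine sum_congr rfl fun y _ => ?_
    by_cases h : y ∈ Y <;> simp [h, mem_cent_comm (x := x)]
  rw [h1, mul_sum]
  refine sum_le_sum fun x _ => ?_
  rw [← H1.relIndex_mul_card_inf Y, inf_comm]
  refine Nat.mul_le_mul_right _ ?_
  rw [← relIndex_top_right]
  exact relIndex_le_of_le_right le_top index_ne_zero_of_finite

open Finset Subgroup H24 Classical in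
theorem aux2 {X : Type*} [Group X] [Fintype X] (Y : Subgroup X) (y : Y) :
    Nat.card (centralizer ({(y : X)} : Set X)) =
      Y.relIndex (centralizer ({(y : X)} : Set X)) * Nat.card (centralizer ({y} : Set Y)) := by
  rw [← H1.relIndex_mul_card_inf Y, cent_subgroupOf, H1.card_subgroupOf, inf_comm]


/-- Let Y be a subgroup of the finite group X, of index m. Then the numbers of conjugacy classes satisfy k(Y) ≤ m·k(X) and k(X) ≤ m·k(Y), and the second inequality is strict unless Y is normal in X. -/
theorem result {X : Type*} [Group X] [Finite X] (Y : Subgroup X) : Nat.card (ConjClasses Y) ≤ Y.index * Nat.card (ConjClasses X) ∧ Nat.card (ConjClasses X) ≤ Y.index * Nat.card (ConjClasses Y) ∧ (¬ Y.Normal → Nat.card (ConjClasses X) < Y.index * Nat.card (ConjClasses Y)) := by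
  classical
  have := Fintype.ofFinite X
  have hY : 0 < Nat.card Y := Nat.card_pos
  have hm : 0 < Y.index := Nat.pos_of_ne_zero Subgroup.index_ne_zero_of_finite
  have hle : ∀ C : Subgroup X, Y.relIndex C ≤ Y.index := fun C => by
    rw [← Subgroup.relIndex_top_right]
    exact Subgroup.relIndex_le_of_le_right le_top Subgroup.index_ne_zero_of_finite
  refine ⟨?_, ?_, fun hn => ?_⟩
  · refine Nat.le_of_mul_le_mul_right ?_ hY
    rw [mul_right_comm, Y.index_mul_card, mul_comm (Nat.card X), H24.card_classes_mul_card',
      H24.card_classes_mul_card']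
    calc _ ≤ ∑ y : Y, Nat.card (Subgroup.centralizer ({(y : X)} : Set X)) := by
          refine Finset.sum_le_sum fun y _ => ?_
          rw [H24.cent_subgroupOf, H1.card_subgroupOf]
          exact Subgroup.card_le_of_le inf_le_left
      _ ≤ _ := by
          rw [← Finset.sum_subtype (Finset.univ.filter (· ∈ Y)) (by simp)
            (fun y => Nat.card (Subgroup.centralizer ({y} : Set X)))]
          exact Finset.sum_le_sum_of_subset (Finset.subset_univ _)
  · refine Nat.le_of_mul_le_mul_right ((aux Y).trans ?_) (Nat.card_pos (α := X))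
    rw [← Y.index_mul_card, mul_assoc, mul_left_comm (Nat.card (ConjClasses Y)),
      H24.card_classes_mul_card']
    refine Nat.mul_le_mul_left _ ?_
    rw [Finset.mul_sum]
    refine Finset.sum_le_sum fun y _ => ?_
    rw [aux2]
    exact Nat.mul_le_mul_right _ (hle _)
  · refine Nat.lt_of_mul_lt_mul_right (a := Nat.card X) ((aux Y).trans_lt ?_)
    rw [← Y.index_mul_card, mul_assoc, mul_left_comm (Nat.card (ConjClasses Y)),
      H24.card_classes_mul_card']
    refine (Nat.mul_lt_mul_left hm).2 ?_
    rw [Finset.mul_sum]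
    refine Finset.sum_lt_sum (fun y _ => ?_) ?_
    · rw [aux2]
      exact Nat.mul_le_mul_right _ (hle _)
    · by_contra hcon
      push Not at hcon
      apply hn
      refine ⟨fun y hy g => ?_⟩
      have h1 := hcon ⟨y, hy⟩ (Finset.mem_univ _)
      rw [aux2] at h1
      have h2 := Nat.le_of_mul_le_mul_right h1 Nat.card_pos
      set C := Subgroup.centralizer ({y} : Set X) with hC
      -- the map C/(Y ∩ C) → X/Y is a bijection
      have h3 : Function.Surjective (Subgroup.quotientSubgroupOfEmbeddingOfLE Y (le_top : C ≤ ⊤)) := by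
        refine (Function.Injective.bijective_of_nat_card_le
          (Subgroup.quotientSubgroupOfEmbeddingOfLE Y (le_top : C ≤ ⊤)).injective ?_).2
        rw [← Subgroup.relIndex_top_right] at h2
        exact h2
      obtain ⟨c, hc⟩ := h3 (QuotientGroup.mk ⟨g⁻¹, Subgroup.mem_top _⟩)
      induction c using QuotientGroup.induction_on with
      | H c =>
        rw [Subgroup.quotientSubgroupOfEmbeddingOfLE_apply_mk, QuotientGroup.eq,
          Subgroup.mem_subgroupOf] at hc
        have h4 : (c : X)⁻¹ * g⁻¹ ∈ Y := hc
        have h5 := H24.mem_cent_iff_conj.1 c.2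
        have : g * y * g⁻¹ = ((c : X)⁻¹ * g⁻¹)⁻¹ * y * ((c : X)⁻¹ * g⁻¹) := by
          conv_lhs => rw [← h5]
          group
        rw [this]
        exact mul_mem (mul_mem (inv_mem h4) hy) h4

end Cfsg.Agent.S4200
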