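import Cfsg.Statements.S4713
import Cfsg.Agent.H6.CD3

set_option autoImplicit false
open Cfsg

namespace Cfsg.Agent.S4713
open H6 H20 H19

/-- Let p be a prime and G a finite p-solvable group. Then G has a normal abelian Sylow p-subgroup if and only if the degree of every irreducible character of G is prime to p. -/
theorem result {G : Type*} [Group G] [Finite G] (p : ℕ) [Fact p.Prime] (hsolv : Cfsg.IsPSolvable p G) (P : Sylow p G) : ((P : Subgroup G).Normal ∧ IsMulCommutative P) ↔ ∀ χ : Cfsg.IrrCharacter G, ¬ p ∣ Cfsg.charDegree (χ : G → ℂ) := by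
  have hp : p.Prime := Fact.out
  have hP := syl_sylow_top P
  rw [← dg_top (q := fun d => ¬ p ∣ d)]
  refine ⟨fun ⟨a, b⟩ χ hχ _ e => (hP.idx.dvd (deg_dvd_of_ab normalIn_top hχ
    (comm_iff_der.1 b ▸ bot_le))).not_dvd hp rfl e, fun h => ?_⟩
  obtain ⟨e⟩ := quo_top_equiv (⊥ : Subgroup G)
  have h1 := ito_psol ((H1.isPSolvable_congr (e.trans QuotientGroup.quotientBot)).2 hsolv) h hP
  exact ⟨h1.normal, ab_of_pg hP.pi (h.normal h1 fun a b c d e => d (e.trans c))⟩

end Cfsg.Agent.S4713
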