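import Cfsg.Statements.S3633
import Cfsg.Agent.H5.Three
-- import your own Cfsg.Agent.* helpers here

set_option autoImplicit false
open Cfsg

namespace Cfsg.Agent.S3633
open H5

open H19


/-- Let G be a finite group and ρ a set of at least three prime divisors of the order of G that are pairwise non-adjacent in the prime graph (no element of order rs for distinct r, s ∈ ρ). Then at most one prime of ρ divides the order of any given solvable normal subgroup of G; in particular G is not solvable. -/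
theorem result {G : Type*} [Group G] [Finite G] (ρ : Finset ℕ) (hρ : 3 ≤ ρ.card) (hc : ((∀ r ∈ ρ, r.Prime ∧ r ∣ Nat.card G) ∧ (∀ r ∈ ρ, ∀ s ∈ ρ, r ≠ s → ¬ ∃ x : G, orderOf x = r * s)))
    (K : Subgroup G) [K.Normal] (hK : Group.IsSolvable ↥K) :
    (∀ r ∈ ρ, ∀ s ∈ ρ, r ∣ Nat.card ↥K → s ∣ Nat.card ↥K → r = s) ∧ ¬ Group.IsSolvable G := by
  have k : ∀ K : Subgroup G, K ⊴ ⊤ → Group.IsSolvable K →
      ∀ r ∈ ρ, ∀ s ∈ ρ, r ∣ Nat.card K → s ∣ Nat.card K → r = s := fun K n hK r hr s hs a b => by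
    by_contra e
    obtain ⟨t, ht, h⟩ := Finset.exists_mem_notMem_of_card_lt_card
      (lt_of_le_of_lt (Finset.card_le_two (a := r) (b := s)) hρ)
    simp only [Finset.mem_insert, Finset.mem_singleton, not_or] at h
    rcases three_rad n hK (hc.1 r hr).1 (hc.1 s hs).1 (hc.1 t ht).1 e (Ne.symm h.1) (Ne.symm h.2) a b
      (hc.1 t ht).2 with h' | h' | h'
    exacts [hc.2 r hr s hs e h', hc.2 r hr t ht (Ne.symm h.1) h', hc.2 s hs t ht (Ne.symm h.2) h']
  refine ⟨k K normalIn_top hK, fun h => ?_⟩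
  obtain ⟨r, hr, s, hs, e⟩ := Finset.one_lt_card.1 (lt_of_lt_of_le (by decide) hρ)
  exact e (k ⊤ normalIn_top inferInstance r hr s hs (by simpa using (hc.1 r hr).2)
    (by simpa using (hc.1 s hs).2))

end Cfsg.Agent.S3633
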