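import Cfsg.Statements.S4878
import Cfsg.Agent.H5.TP7
-- import your own Cfsg.Agent.* helpers here

set_option autoImplicit false
open Cfsg

namespace Cfsg.Agent.S4878
open H5

open H5.TP Subgroup


/-- Let p be a prime and G a finite p-solvable group of order divisible by p in which all non-identity p-elements are conjugate. Then G has at least p conjugacy classes of p-regular elements; or G has exactly p − 1 of them and is isomorphic to the one-dimensional affine group over the field with p elements; or p = 11, G has exactly 9 of them, G has order 121·120 and G is a Frobenius group whose complement is isomorphic to SL(2,5). -/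
theorem result {G : Type*} [Group G] [Finite G] (p : ℕ) [Fact p.Prime] (hsolv : Cfsg.IsPSolvable p G) (hdiv : p ∣ Nat.card G) (hconj : ∀ x y : G, x ≠ 1 → y ≠ 1 → (∃ k : ℕ, orderOf x = p ^ k) → (∃ k : ℕ, orderOf y = p ^ k) → IsConj x y) : p ≤ Nat.card {c : ConjClasses G // ∃ g : G, ConjClasses.mk g = c ∧ ¬ p ∣ orderOf g} ∨ (Nat.card {c : ConjClasses G // ∃ g : G, ConjClasses.mk g = c ∧ ¬ p ∣ orderOf g} = p - 1 ∧ Nonempty (G ≃* ↥(Cfsg.affineGroup (ZMod p)))) ∨ (p = 11 ∧ Nat.card {c : ConjClasses G // ∃ g : G, ConjClasses.mk g = c ∧ ¬ p ∣ orderOf g} = 9 ∧ (Nat.card G = 121 * 120 ∧ ∃ H : Subgroup G, Cfsg.IsFrobeniusComplement H ∧ Nonempty (↥H ≃* Matrix.SpecialLinearGroup (Fin 2) (ZMod 5)))) := by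
  have hp : p.Prime := Fact.out
  have c : ∀ {K : Type _} [Group K], K ≃* H24.SL25 → Nat.card K = 120 := fun e =>
    (Nat.card_congr e.toEquiv).trans H24.card_SL25
  by_cases hO : pPrimeCore p G = ⊥
  · obtain ⟨V, K, _, hV, hK, h1, h2⟩ := setup hsolv hO hdiv hconj
    let π : G →* K := hK.symm.QuotientMulEquiv.toMonoidHom.comp (QuotientGroup.mk' V)
    have hs : Function.Surjective π := hK.symm.QuotientMulEquiv.surjective.comp
      (QuotientGroup.mk'_surjective V)
    have hk : π.ker = V := (MonoidHom.ker_mulEquiv_comp _ hK.symm.QuotientMulEquiv).trans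
      (QuotientGroup.ker_mk' V)
    rcases h2 with h2 | ⟨h2, h3⟩
    · exact .inl (h2.trans (rc_zero hs h1))
    have h4 := rc_eq hs h1 (hk ▸ hV.2) (hk ▸ h2)
    rcases h3 with ⟨a, b, d⟩ | ⟨rfl, a, ⟨e⟩⟩
    · exact .inr (.inl ⟨h4.trans d, affine hV hK h2 a b⟩)
    · exact .inr (.inr ⟨rfl, h4.trans ((kc_congr e).trans kc_sl), by rw [← hK.card_mul_card, a, c e],
        K, frob hK h2 (by rintro rfl; simp at a) (by rintro rfl; simpa using c e), ⟨e⟩⟩)
  left
  have hN := hp.coprime_iff_not_dvd.1 (H1.pPrimeCore_coprime (p := p) (G := G)).symm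
  set N := pPrimeCore p G
  obtain ⟨V, K, _, hV, hK, h1, h2⟩ := setup (H1.isPSolvable_quotient hsolv N)
    H1.pPrimeCore_quotient_pPrimeCore ((hp.dvd_mul.1 (N.card_mul_index ▸ hdiv)).resolve_left hN)
    (PCj.map hconj (QuotientGroup.mk'_surjective N))
  let π : G →* K := (hK.symm.QuotientMulEquiv.toMonoidHom.comp (QuotientGroup.mk' V)).comp
    (QuotientGroup.mk' N)
  have hs : Function.Surjective π := (hK.symm.QuotientMulEquiv.surjective.comp
    (QuotientGroup.mk'_surjective V)).comp (QuotientGroup.mk'_surjective N)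
  have hk : ∀ g, π g = 1 ↔ (g : G ⧸ N) ∈ V := fun g =>
    (map_eq_one_iff _ hK.symm.QuotientMulEquiv.injective).trans (QuotientGroup.eq_one_iff _)
  have r : ∀ m ∈ N, ¬ p ∣ orderOf m ∧ π m = 1 := fun m hm => ⟨fun e => hN (e.trans
    (orderOf_dvd_natCard N hm)), (hk m).2 ((QuotientGroup.eq_one_iff m).2 hm ▸ one_mem V)⟩
  obtain ⟨⟨n, hn⟩, h3⟩ := ne_bot_iff_exists_ne_one.1 hO
  replace h3 : n ≠ 1 := fun e => h3 (Subtype.ext e)
  have h4 := rc_one hs h1 (r n hn).1 h3 (r n hn).2
  rcases h2 with h2 | ⟨h2, ⟨-, -, h5⟩ | ⟨rfl, -, ⟨e⟩⟩⟩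
  · exact h2.trans (rc_zero hs h1)
  · exact le_trans (by omega) h4
  by_contra h5
  have two := fun c d a b e1 e2 e3 e4 e5 => h5 (le_trans (by rw [kc_congr e, kc_sl])
    (rc_two (c := c) (d := d) hs h1 (r n hn).1 a b h3 (r n hn).2 e1 e2 e3 e4 e5))
  have r' : ∀ g, π g ≠ 1 → ¬ 11 ∣ orderOf g := fun g a b => by
    have o := orderOf_pow_orderOf_div (orderOf_pos g).ne' b
    have d : g ^ (orderOf g / 11) ∈ centralizer {g} := pow_mem (mem_centralizer_singleton_iff.2 rfl) _
    generalize g ^ (orderOf g / 11) = y at o d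
    refine (r y ((QuotientGroup.eq_one_iff y).1 ((h2 g (mt (hk g).2 a)).le ⟨(hk y).1 ?_,
      mem_centralizer_singleton_iff.2 (congrArg _ (mem_centralizer_singleton_iff.1 d))⟩))).1 o.symm.dvd
    exact orderOf_eq_one_iff.1 (((Nat.dvd_prime hp).1 ((orderOf_map_dvd π y).trans o.dvd)).resolve_right
      fun e => h1 (e.symm.dvd.trans (orderOf_dvd_natCard _)))
  have h6 := camina (π := e.toMonoidHom.comp π) (e.surjective.comp hs) (fun a b e1 e2 => by
    replace e1 : π a ≠ 1 := fun f => e1 (by simp [f])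
    replace e2 : π a = π b := e.injective e2
    exact by_contra fun f => two a b (r' a e1) (r' b (e2 ▸ e1)) (by rintro rfl; simp [e2] at e1) e2
      (fun f => e1 (by simpa [(r n hn).2] using π.map_isConj f)) f
      fun f => e1 (e2.trans (by simpa [(r n hn).2, eq_comm] using π.map_isConj f)))
    (show e (π n) = 1 by rw [(r n hn).2, map_one]) h3
  have h7 := H4.relIndex_centralizer_eq ⊤ n
  rw [show _ '' _ = (N : Set G) \ {n⁻¹} from Set.ext fun m => ⟨by
      rintro ⟨d, -, rfl⟩
      exact ⟨mul_mem (Normal.conj_mem inferInstance n hn d) (inv_mem hn), fun f => h3 (by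
        simpa [commutatorElement_def] using f)⟩, fun hm => by
      have a := mt eq_inv_of_mul_eq_one_left hm.2
      have b := r _ (mul_mem hm.1 hn)
      obtain ⟨d, f⟩ := isConj_iff.1 (by_contra (two 1 _ (by simp) b.1 a ((map_one π).trans b.2.symm)
        (mt isConj_one_right.1 h3) (mt isConj_one_right.1 a)))
      exact ⟨d, trivial, mul_inv_eq_iff_eq_mul.2 f⟩⟩, relIndex_top_right, h6, index_ker,
    MonoidHom.range_eq_top_of_surjective _ (e.surjective.comp hs), card_top, H24.card_SL25,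
    Nat.card_coe_set_eq, Set.ncard_diff_singleton_of_mem (inv_mem hn), ← Nat.card_coe_set_eq,
    SetLike.coe_sort_coe] at h7
  omega

end Cfsg.Agent.S4878
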