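import Cfsg.Statements.S2787
import Cfsg.Agent.H25.R2S
import Cfsg.Agent.H14.Ree8
import Cfsg.Agent.H9.PStable

set_option autoImplicit false
open Cfsg

namespace Cfsg.Agent.S2787

open Subgroup in
/-- every Sylow `2`-subgroup satisfies the dihedral law -/
def T3 (X : Type*) [Group X] : Prop :=
  ∀ S : Sylow 2 X, ∀ x ∈ S, ∀ y ∈ S, x * x = 1 ∨ y * y = 1 ∨ x * y = y * x

theorem T3.equiv {X Y : Type*} [Group X] [Group Y] [Finite X] (h : T3 Y) (e : X ≃* Y) : T3 X := by
  intro S x hx y hy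
  haveI : Fact (Nat.Prime 2) := ⟨Nat.prime_two⟩
  obtain ⟨T, hT⟩ := (S.isPGroup'.map (e : X →* Y)).exists_le_sylow
  have := h T (e x) (hT ⟨x, hx, rfl⟩) (e y) (hT ⟨y, hy, rfl⟩)
  simpa only [← map_mul, EmbeddingLike.map_eq_one_iff, EmbeddingLike.apply_eq_iff_eq] using this

theorem T3.involves {X Y : Type*} [Group X] [Group Y] [Finite X] (h : T3 X)
    (hi : H9.Involves (⊤ : Subgroup X) Y) : T3 Y := by
  haveI : Fact (Nat.Prime 2) := ⟨Nat.prime_two⟩
  obtain ⟨L, -, π, hπ⟩ := hi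
  intro S x hx y hy
  obtain ⟨T, rfl⟩ := Sylow.mapSurjective_surjective hπ 2 S
  obtain ⟨a, ha, rfl⟩ := hx
  obtain ⟨b, hb, rfl⟩ := hy
  obtain ⟨R, hR⟩ := (T.isPGroup'.map L.subtype).exists_le_sylow
  have := h R a (hR ⟨a, ha, rfl⟩) b (hR ⟨b, hb, rfl⟩)
  rcases this with h1 | h1 | h1
  · left; rw [← map_mul, show a * a = 1 from Subtype.ext h1, map_one]
  · right; left; rw [← map_mul, show b * b = 1 from Subtype.ext h1, map_one]
  · right; right; rw [← map_mul, ← map_mul, show a * b = b * a from Subtype.ext h1]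

theorem dih3 {n : ℕ} (x y : DihedralGroup n) : x * x = 1 ∨ y * y = 1 ∨ x * y = y * x := by
  cases x <;> cases y <;> simp [add_comm]

theorem t3_psl {F : Type*} [Field F] [Fintype F] (h : Odd (Fintype.card F)) :
    T3 (Matrix.ProjectiveSpecialLinearGroup (Fin 2) F) := by
  intro S x hx y hy
  obtain ⟨k, -, ⟨e⟩⟩ := H25.psl2_dihedral (Nat.odd_iff.1 h) S
  have := dih3 (e ⟨x, hx⟩) (e ⟨y, hy⟩)
  simp only [← map_mul, EmbeddingLike.map_eq_one_iff, EmbeddingLike.apply_eq_iff_eq] at this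
  simpa [Subtype.ext_iff] using this

theorem not_t3_sl {p : ℕ} [Fact p.Prime] (hp : p ≠ 2) :
    ¬ T3 (Matrix.SpecialLinearGroup (Fin 2) (ZMod p)) := by
  intro h
  haveI : Fact (Nat.Prime 2) := ⟨Nat.prime_two⟩
  obtain ⟨P⟩ : Nonempty (Sylow 2 (Matrix.SpecialLinearGroup (Fin 2) (ZMod p))) := inferInstance
  have h2 : (2 : ZMod p) ≠ 0 := by
    intro h3
    have h3 : ((2 : ℕ) : ZMod p) = 0 := by exact_mod_cast h3
    rw [ZMod.natCast_eq_zero_iff] at h3
    exact hp ((Nat.prime_dvd_prime_iff_eq Fact.out Nat.prime_two).1 h3)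
  obtain ⟨k, hk, ⟨e⟩⟩ := H11.sylow_two_sl2 h2 P
  have := h P (e.symm (QuaternionGroup.xa 0)) (e.symm _).2 (e.symm (QuaternionGroup.a 1)) (e.symm _).2
  have h3 : ∀ u v : QuaternionGroup (2 ^ k), (e.symm u).1 * (e.symm v).1 = (e.symm (u * v)).1 := by
    intro u v; rw [map_mul]; rfl
  have h4 : ∀ u : QuaternionGroup (2 ^ k), (e.symm u).1 = 1 ↔ u = 1 := by
    intro u; rw [OneMemClass.coe_eq_one, EmbeddingLike.map_eq_one_iff]
  have h5 : ∀ u v : QuaternionGroup (2 ^ k), (e.symm u).1 = (e.symm v).1 ↔ u = v := by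
    intro u v; rw [Subtype.coe_inj, EmbeddingLike.apply_eq_iff_eq]
  simp only [h3, h4, h5] at this
  have hk2 : 2 ≤ 2 ^ k := by
    calc 2 = 2 ^ 1 := by norm_num
      _ ≤ 2 ^ k := Nat.pow_le_pow_right (by norm_num) hk
  have h6 : ∀ m : ℕ, 0 < m → m < 2 * 2 ^ k → ((m : ℕ) : ZMod (2 * 2 ^ k)) ≠ 0 := by
    intro m h1 h2 h3
    rw [ZMod.natCast_eq_zero_iff] at h3
    exact absurd (Nat.le_of_dvd h1 h3) (by omega)
  rcases this with h1 | h1 | h1
  · simp only [QuaternionGroup.xa_mul_xa, QuaternionGroup.one_def, QuaternionGroup.a.injEq] at h1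
    apply h6 (2 ^ k) (by omega) (by omega)
    simpa using h1
  · simp only [QuaternionGroup.a_mul_a, QuaternionGroup.one_def, QuaternionGroup.a.injEq] at h1
    apply h6 2 (by omega) (by omega)
    push_cast; linear_combination h1
  · simp only [QuaternionGroup.xa_mul_a, QuaternionGroup.a_mul_xa, QuaternionGroup.xa.injEq] at h1
    apply h6 2 (by omega) (by omega)
    push_cast; linear_combination h1

open Subgroup in
theorem main {G : Type*} [Group G] [Finite G] {p : ℕ} [Fact p.Prime] (hp : p ≠ 2) (V H : Subgroup G) (hV : Cfsg.IsElementaryAbelian p V) (hHV : H ≤ Subgroup.normalizer (V : Set G)) (hirr : ∀ U : Subgroup G, U ≤ V → H ≤ Subgroup.normalizer (U : Set G) → U = ⊥ ∨ U = V) (hnt : ¬ H ≤ Subgroup.centralizer (V : Set G)) [hn : ((Subgroup.centralizer (V : Set G)).subgroupOf H).Normal] (hq : T3 (↥H ⧸ (Subgroup.centralizer (V : Set G)).subgroupOf H)) (A : Subgroup G) (hA : A ≤ H) (hquad : ⁅⁅V, A⁆, A⁆ = ⊥) : ⁅V, A⁆ = ⊥ := by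
  set C := (Subgroup.centralizer (V : Set G)).subgroupOf H with hC
  let f := QuotientGroup.mk' C
  have hf : Function.Surjective f := QuotientGroup.mk'_surjective C
  have hker : f.ker = C := QuotientGroup.ker_mk' C
  have hk' : ∀ x, x ∈ C ↔ f x = 1 := fun x => by rw [← MonoidHom.mem_ker, hker]
  have hV0 : V ≠ ⊥ := by
    rintro rfl
    exact hnt fun x _ => by simp [mem_centralizer_iff]
  -- O_p(H/C) = 1
  have hO : pCore p (↥H ⧸ C) = ⊥ := by
    set K := pCore p (↥H ⧸ C) with hK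
    obtain ⟨P⟩ : Nonempty (Sylow p (K.comap f)) := inferInstance
    let g : K.comap f →* K := f.subgroupComap K
    have hg : Function.Surjective g := f.subgroupComap_surjective_of_surjective K hf
    have hP : (P.mapSurjective hg : Subgroup K) = ⊤ := by
      have hKp : IsPGroup p K := H1.pCore_isPGroup
      exact ((P.mapSurjective hg).is_maximal' (hKp.to_subgroup ⊤) le_top).symm
    let P' : Subgroup G := ((P : Subgroup (K.comap f)).map (K.comap f).subtype).map H.subtype
    have hP' : IsPGroup p P' := (P.isPGroup'.map _).map _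
    have h1 : V ⊓ centralizer (P' : Set G) ≠ ⊥ :=
      H1.inf_centralizer_ne_bot_of_isPGroup hP' (H9.IsElementaryAbelian.isPGroup hV)
        ((map_subtype_le _).trans hHV) hV0
    let Q : Subgroup G := (K.comap f).map H.subtype
    have h2 : V ⊓ centralizer (P' : Set G) ≤ V ⊓ centralizer (Q : Set G) := by
      rintro v ⟨hv, hv2⟩
      refine ⟨hv, ?_⟩
      rintro _ ⟨x, hx, rfl⟩
      have : (⟨f x, hx⟩ : K) ∈ (P.mapSurjective hg : Subgroup K) := hP ▸ mem_top _
      obtain ⟨y, hy, hy2⟩ := this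
      have h3 : f (y : H) = f x := congrArg Subtype.val hy2
      have h4 : (y : H)⁻¹ * x ∈ C := by rw [hk', map_mul, map_inv, h3, inv_mul_cancel]
      have h5 := (mem_centralizer_iff.1 (mem_subgroupOf.1 h4)) v hv
      have h6 := (mem_centralizer_iff.1 hv2) ((y : H) : G) ⟨y, ⟨y, hy, rfl⟩, rfl⟩
      simp only [coe_mul, coe_inv, coe_subtype] at h5 h6 ⊢
      calc (x : G) * v = (y : H) * ((((y : H) : G)⁻¹ * x) * v) := by group
        _ = (y : H) * v * (((y : H) : G)⁻¹ * x) := by rw [← h5]; group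
        _ = v * x := by rw [h6]; group
    have hQn : H ≤ normalizer (Q : Set G) := by
      intro h hh
      apply H1.mem_normalizer_of_conj_smul_le
      rw [H1.conj_smul_eq_map]
      rintro _ ⟨_, ⟨x, hx, rfl⟩, rfl⟩
      haveI : K.Normal := by rw [hK]; infer_instance
      exact ⟨⟨h, hh⟩ * x * ⟨h, hh⟩⁻¹, (inferInstance : (K.comap f).Normal).conj_mem x hx _, rfl⟩
    have h3 : H ≤ normalizer ((V ⊓ centralizer (Q : Set G) : Subgroup G) : Set G) :=
      (le_inf hHV (hQn.trans (H1.normalizer_le_normalizer_centralizer _))).trans inf_normalizer_le_normalizer_inf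
    rcases hirr _ inf_le_left h3 with h4 | h4
    · exact absurd (le_bot_iff.1 (h4 ▸ h2)) h1
    · rw [eq_bot_iff]
      intro x hx
      obtain ⟨y, rfl⟩ := hf x
      rw [mem_bot, ← hk', mem_subgroupOf, mem_centralizer_iff]
      intro v hv
      have : v ∈ V ⊓ centralizer (Q : Set G) := h4.symm ▸ hv
      exact (mem_centralizer_iff.1 this.2 y ⟨y, hx, rfl⟩).symm
  rw [commutator_comm, commutator_eq_bot_iff_le_centralizer]
  intro a ha
  by_contra hna
  have hqa : ⁅⁅V, zpowers a⁆, zpowers a⁆ = ⊥ := by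
    have h1 : zpowers a ≤ A := zpowers_le.2 ha
    exact le_bot_iff.1 (hquad ▸ commutator_mono (commutator_mono le_rfl h1) h1)
  obtain ⟨h, hh, L, hL, π, ι, h1, h2, h3⟩ := H9.natural_of_not_mem_pCore hp hV hHV f hf hker ⟨a, hA ha⟩ hqa
    (by rw [hO, mem_bot, ← hk']; exact hna)
  have hLH : L ≤ H := hL.trans (by
    rw [closure_le]; rintro x (rfl | rfl)
    · exact hA ha
    · exact mul_mem (mul_mem hh (hA ha)) (inv_mem hh))
  apply not_t3_sl hp
  apply hq.involves
  let g : L →* ↥H ⧸ C := f.comp (inclusion hLH)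
  have hle : g.rangeRestrict.ker ≤ π.ker := by
    intro l hl
    rw [MonoidHom.ker_rangeRestrict, MonoidHom.mem_ker] at hl
    have hl2 : (inclusion hLH l) ∈ C := (hk' _).2 hl
    have hl3 := mem_centralizer_iff.1 (mem_subgroupOf.1 hl2)
    rw [MonoidHom.mem_ker]
    have h4 : ∀ v, ((π l : Matrix (Fin 2) (Fin 2) (ZMod p)).mulVec v) = v := by
      intro v
      apply h2
      apply H9.EA.ext
      rw [← h3 l v]
      have := hl3 (ι v).val (ι v).val_mem
      simp only [coe_inclusion] at this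
      rw [← this]; group
    apply Subtype.ext
    ext i j
    have := congrFun (h4 (Pi.single j 1)) i
    simpa [Matrix.one_apply, Pi.single_apply] using this
  refine ⟨g.range, le_top, g.rangeRestrict.liftOfSurjective g.rangeRestrict_surjective ⟨π, hle⟩, fun y => ?_⟩
  obtain ⟨l, rfl⟩ := h1 y
  exact ⟨g.rangeRestrict l, by simp⟩

/-- Let p be a prime and let H act by conjugation on the elementary abelian p-subgroup V of a finite group, irreducibly (no H-invariant subgroups of V other than 1 and V) and nontrivially, and suppose H/C_H(V) is isomorphic to PSL₂(F) for a field F with p^n elements, p^n odd, or p = 3 and H/C_H(V) is isomorphic to a Ree group ²G₂(3^(2m+1)), m ≥ 1. Then no subgroup A of H acting nontrivially on V acts quadratically: [V, A, A] = 1 forces [V, A] = 1. -/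
theorem result {G : Type*} [Group G] [Finite G] {p : ℕ} [Fact p.Prime] (V H : Subgroup G) (hV : Cfsg.IsElementaryAbelian p V) (hHV : H ≤ Subgroup.normalizer (V : Set G)) (hirr : ∀ U : Subgroup G, U ≤ V → H ≤ Subgroup.normalizer (U : Set G) → U = ⊥ ∨ U = V) (hnt : ¬ H ≤ Subgroup.centralizer (V : Set G)) [hn : ((Subgroup.centralizer (V : Set G)).subgroupOf H).Normal] (hq : (∃ (F : Type) (_ : Field F) (_ : Fintype F) (n : ℕ), Fintype.card F = p ^ n ∧ Odd (Fintype.card F) ∧ Nonempty (↥H ⧸ (Subgroup.centralizer (V : Set G)).subgroupOf H ≃* Matrix.ProjectiveSpecialLinearGroup (Fin 2) F)) ∨ (p = 3 ∧ Cfsg.Lie.IsoRee (↥H ⧸ (Subgroup.centralizer (V : Set G)).subgroupOf H))) (A : Subgroup G) (hA : A ≤ H) (hquad : ⁅⁅V, A⁆, A⁆ = ⊥) : ⁅V, A⁆ = ⊥ := by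
  rcases hq with ⟨F, _, _, n, h1, h2, ⟨e⟩⟩ | ⟨rfl, K, _, _, m, -, hK, ⟨e⟩⟩
  · refine main ?_ V H hV hHV hirr hnt ((t3_psl h2).equiv e) A hA hquad
    rintro rfl
    rw [h1] at h2
    have h3 : 1 < Fintype.card F := Fintype.one_lt_card
    rcases n with _ | n
    · simp at h1; omega
    · exact absurd h2 (by simp [pow_succ])
  · refine main (by norm_num) V H hV hHV hirr hnt (T3.equiv ?_ e) A hA hquad
    obtain ⟨R, -, hq, -⟩ := H14.G2.ree hK
    intro S x hx y hy
    exact Or.inl ((R.sylow_two hq S).2 x hx)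

end Cfsg.Agent.S2787
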