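import Cfsg.Statements.S4139
import Cfsg.Agent.H24.ItoQF

set_option autoImplicit false
open Cfsg

namespace Cfsg.Agent.S4139

open H24 H28 Subgroup

theorem ncard_modEq {X : Type*} [Group X] [Finite X] {p : ℕ} [Fact p.Prime] {P : Subgroup X}
    (hP : IsPGroup p P) (T : Set X) (hT : ∀ g ∈ P, ∀ x ∈ T, g * x * g⁻¹ ∈ T) :
    T.ncard ≡ (T ∩ 𝐂 P).ncard [MOD p] := by
  letI : MulAction P T :=
    { smul := fun g x => ⟨g * x * (g : X)⁻¹, hT g g.2 x x.2⟩
      one_smul := fun x => Subtype.ext (by change (1 : P) * (x : X) * ((1 : P) : X)⁻¹ = x; simp)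
      mul_smul := fun g h x => Subtype.ext (by
        change (g * h : P) * (x : X) * ((g * h : P) : X)⁻¹ = g * (h * x * (h : X)⁻¹) * (g : X)⁻¹
        simp [mul_assoc]) }
  suffices h : Nat.card (MulAction.fixedPoints P T) = Nat.card (T ∩ 𝐂 P : Set X) from
    (hP.card_modEq_card_fixedPoints T).trans (by rw [h]; rfl)
  refine Nat.card_congr ⟨fun x => ⟨x.1.1, x.1.2, fun g hg => ?_⟩,
    fun x => ⟨⟨x.1, x.2.1⟩, fun g => Subtype.ext ?_⟩, fun _ => rfl, fun _ => rfl⟩
  · exact mul_inv_eq_iff_eq_mul.1 (congrArg Subtype.val (x.2 ⟨g, hg⟩))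
  · exact mul_inv_eq_iff_eq_mul.2 (x.2.2 g g.2)

def E (p : ℕ) (G : Type*) [Group G] : Set G := {g | ∃ q k : ℕ, q.Prime ∧ q ≠ p ∧ orderOf g = q ^ k}

def S (p : ℕ) (G : Type*) [Group G] : Set G := {x | ∀ q : ℕ, q.Prime → q ∣ cs x → q = p}

variable {G : Type*} [Group G] [Finite G] {p : ℕ}

instance : (centralizer (E p G)).Normal := ⟨fun x hx g y ⟨q, k, h1, h2, h3⟩ => by
  have := congrArg (fun z => g * z * g⁻¹) (hx (g⁻¹ * y * g) ⟨q, k, h1, h2, by rwa [orderOf_conj']⟩)
  simpa [mul_assoc] using this⟩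

theorem sylow_le {q : ℕ} [hq : Fact q.Prime] (h : q ≠ p) (Q : Sylow q G) {c : G}
    (hc : c ∈ centralizer (E p G)) : (Q : Subgroup G) ≤ centralizer {c} := fun y hy =>
  have ⟨k, hk⟩ := orderOf_eq_pow_of_mem Q.isPGroup' hy
  mem_cent.2 (hc y ⟨q, k, hq.out, h, hk⟩)

theorem key [hp : Fact p.Prime] :
    ∃ t, (S p G).ncard = Nat.card (centralizer (E p G)) * t ∧ ¬ p ∣ t := by
  set C := centralizer (E p G)
  have h1 : S p G = QuotientGroup.mk ⁻¹' (QuotientGroup.mk '' S p G : Set (G ⧸ C)) := by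
    refine subset_antisymm (Set.subset_preimage_image _ _) fun y ⟨x, hx, e⟩ q hq hd => ?_
    by_contra h2
    haveI := Fact.mk hq
    obtain ⟨Q, hQ⟩ := not_dvd_cs_iff.1 (mt (hx q hq) h2)
    refine not_dvd_index_of_sylow_le Q ((le_inf hQ (sylow_le h2 Q (QuotientGroup.eq.1 e))).trans
      ((cent_inf_le_cent_mul _ _).trans_eq (by simp))) hd
  refine ⟨(QuotientGroup.mk '' S p G : Set (G ⧸ C)).ncard, ?_, ?_⟩
  · conv_lhs => rw [h1]
    exact QuotientGroup.card_preimage_mk _ _
  obtain ⟨P⟩ : Nonempty (Sylow p (G ⧸ C)) := inferInstance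
  have h2 := ncard_modEq P.isPGroup' (QuotientGroup.mk '' S p G) (by
    rintro g - _ ⟨x, hx, rfl⟩
    obtain ⟨g, rfl⟩ := QuotientGroup.mk_surjective g
    exact ⟨g * x * g⁻¹, fun q hq hd => hx q hq (cs_conj g x ▸ hd), rfl⟩)
  have h3 : (QuotientGroup.mk '' S p G : Set (G ⧸ C)) ∩ 𝐂 (P : Subgroup (G ⧸ C)) = {1} := by
    refine subset_antisymm ?_ (Set.singleton_subset_iff.2 ⟨⟨1, fun q hq hd => absurd
      (cs_one (G := G) ▸ hd) hq.not_dvd_one, rfl⟩, one_mem _⟩)
    rintro _ ⟨⟨x, hx, rfl⟩, h3⟩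
    have h4 : (x : G ⧸ C) ∈ center (G ⧸ C) := by
      rw [← cs_eq_one_iff]
      by_contra h4
      obtain ⟨q, hq, hd⟩ := Nat.exists_prime_and_dvd h4
      obtain rfl := hx q hq (hd.trans (cs_quot_dvd C x))
      exact not_dvd_index_of_sylow_le P (fun y hy => mem_cent.2 (h3 y hy)) hd
    refine (QuotientGroup.eq_one_iff x).2 fun g ⟨q, k, hq, hqp, hk⟩ => ?_
    haveI := Fact.mk hq
    obtain ⟨Q, hQ⟩ := not_dvd_cs_iff.1 (mt (hx q hq) hqp)
    obtain ⟨a, ha⟩ := exists_conj_mem_sylow hk Q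
    have h5 : x⁻¹ * (a * x * a⁻¹) ∈ C := QuotientGroup.eq.1 (by
      rw [QuotientGroup.mk_mul, QuotientGroup.mk_mul, mem_center_iff.1 h4]; simp)
    have h6 := h5 g ⟨q, k, hq, hqp, hk⟩
    have h7 : g * (a * x * a⁻¹) = (a * x * a⁻¹) * g := by
      have := congrArg (fun z => a * z * a⁻¹) (mem_cent.1 (hQ ha))
      simpa [mul_assoc] using this
    have h8 : Commute g x⁻¹ := by
      have := (show Commute g _ from h6).mul_right (show Commute g _ from h7).inv_right
      simpa [mul_assoc] using this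
    exact (Commute.inv_right_iff.1 h8).eq
  rw [h3, Set.ncard_singleton] at h2
  exact fun h => hp.out.not_dvd_one ((Nat.modEq_zero_iff_dvd).1
    (h2.symm.trans ((Nat.modEq_zero_iff_dvd).2 h)))

theorem card_fiber (G : Type*) [Group G] [Finite G] (k : ℕ) : Nat.card {x : G // cs x = k} =
    k * Nat.card {C : ConjClasses G // Nat.card C.carrier = k} := by
  classical
  have := Fintype.ofFinite G
  have h1 := card_classes_mul_card (G := G) fun C => Nat.card C.carrier = k
  simp only [card_carrier_mk] at h1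
  refine Nat.eq_of_mul_eq_mul_right (Nat.card_pos (α := G)) ?_
  rw [mul_assoc, h1, Finset.mul_sum, Finset.sum_congr rfl (g := fun _ => Nat.card G)
    fun x hx => by rw [← (Finset.mem_filter.1 hx).2, cs_mul_card], Finset.sum_const, smul_eq_mul,
    Nat.card_eq_fintype_card, Fintype.card_subtype]


/-- Let G and H be finite groups such that for every natural number k, G and H have the same number of conjugacy classes of size k. If H is nilpotent then G is nilpotent. -/
theorem result {G H : Type*} [Group G] [Finite G] [Group H] [Finite H]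
    (hH : Group.IsNilpotent H)
    (h : ∀ k : ℕ, Nat.card {C : ConjClasses G // Nat.card C.carrier = k} = Nat.card {C : ConjClasses H // Nat.card C.carrier = k}) :
    Group.IsNilpotent G := by
  have e1 : ∀ k, Nonempty ({x : G // cs x = k} ≃ {x : H // cs x = k}) := fun k =>
    Finite.card_eq.1 (by rw [card_fiber, card_fiber, h])
  let e := Equiv.ofFiberEquiv fun k => (e1 k).some
  have he : ∀ x, cs (e x) = cs x := Equiv.ofFiberEquiv_map _
  refine ((Group.isNilpotent_of_finite_tfae (G := G)).out 3 0 rfl rfl).1 fun p hp P => ?_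
  have h1 : (S p G).ncard = (S p H).ncard := by
    rw [← Set.ncard_image_of_injective _ e.injective]
    congr 1
    ext y
    obtain ⟨x, rfl⟩ := e.surjective y
    rw [e.injective.mem_set_image, S, S, Set.mem_setOf_eq, Set.mem_setOf_eq, he]
  obtain ⟨t, h2, h3⟩ := key (G := G) (p := p)
  obtain ⟨u, h4, -⟩ := key (G := H) (p := p)
  obtain ⟨R⟩ : Nonempty (Sylow p H) := inferInstance
  have h5 : (R : Subgroup H) ≤ centralizer (E p H) := fun x hx g ⟨q, k, hq, hqp, hk⟩ => by
    obtain ⟨j, hj⟩ := orderOf_eq_pow_of_mem R.isPGroup' hx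
    refine H1.commute_of_isNilpotent_of_coprime hH ?_
    rw [hk, hj]
    exact Nat.coprime_pow_primes _ _ hq hp.out hqp
  have h6 := (card_dvd_of_le h5).mul_right u
  rw [← h4, ← h1, h2, R.card_eq_multiplicity, ← Nat.card_congr e] at h6
  have h7 := (((Nat.Prime.coprime_iff_not_dvd hp.out).2 h3).pow_left _).dvd_of_dvd_mul_right h6
  have h8 : ¬ p ∣ (centralizer (E p G)).index := fun hd => by
    have := mul_dvd_mul h7 hd
    rw [card_mul_index, ← pow_succ] at this
    exact Nat.pow_succ_factorization_not_dvd Nat.card_pos.ne' hp.out this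
  obtain ⟨Q, hQ⟩ := exists_sylow_le_of_not_dvd_index h8
  haveI : (Q : Subgroup G).Normal := by
    rw [← normalizer_eq_top_iff, ← index_eq_one]
    by_contra h3
    obtain ⟨q, hq, hd⟩ := Nat.exists_prime_and_dvd h3
    haveI := Fact.mk hq
    by_cases e : q = p
    · subst e
      exact not_dvd_index_of_sylow_le Q le_normalizer hd
    obtain ⟨T⟩ : Nonempty (Sylow q G) := inferInstance
    exact not_dvd_index_of_sylow_le T (le_normalizer_of_le_centralizer
      fun y hy c hc => (mem_cent.1 (sylow_le e T (hQ hc) hy)).symm) hd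
  haveI := Sylow.unique_of_normal Q this
  rwa [Subsingleton.elim P Q]

end Cfsg.Agent.S4139
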