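import Cfsg.Statements.S0223
import Cfsg.Agent.H10.StrongEmb

set_option autoImplicit false
open Cfsg

namespace Cfsg.Agent.S0223

/-- Let H be a proper subgroup of even order of the finite group G. Then H is strongly embedded if and only if (i) C_G(t) ≤ H for every involution t of H and (ii) H controls fusion of its involutions: involutions of H conjugate in G are conjugate in H. -/
theorem result {G : Type*} [Group G] [Finite G] (H : Subgroup G) (hH : H ≠ ⊤) (heven : Even (Nat.card H)) : Cfsg.IsStronglyEmbedded H ↔ ((∀ t ∈ H, orderOf t = 2 → Subgroup.centralizer ({t} : Set G) ≤ H) ∧ (∀ t ∈ H, ∀ s ∈ H, orderOf t = 2 → orderOf s = 2 → IsConj t s → ∃ h ∈ H, h * t * h⁻¹ = s)) := by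
  constructor
  · intro h
    exact ⟨fun t ht h2 c hc => H10.SE.mem_of_commute h ht h2 (H10.mem_centralizer_iff_commute.1 hc),
      fun t ht s hs h2 h3 _ => H10.SE.exists_conj_mem h ht hs h2 h3⟩
  · rintro ⟨h1, h2⟩
    rw [H10.isStronglyEmbedded_iff]
    refine ⟨hH, H10.exists_invol_mem_of_even heven, fun t ht h3 g hg => ?_⟩
    obtain ⟨h, hh, he⟩ := h2 t ht _ hg h3 ((H10.orderOf_conj g t).trans h3) (isConj_iff.2 ⟨g, rfl⟩)
    have : h⁻¹ * g ∈ H := h1 t ht h3 (H10.mem_centralizer_singleton'.2 (by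
      calc h⁻¹ * g * t * (h⁻¹ * g)⁻¹ = h⁻¹ * (g * t * g⁻¹) * h := by group
        _ = t := by rw [← he]; group))
    simpa using H.mul_mem hh this

end Cfsg.Agent.S0223
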