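import Cfsg.Statements.S0224
import Cfsg.Agent.H10.StrongEmb

set_option autoImplicit false
open Cfsg

namespace Cfsg.Agent.S0224

/-- Let H be a proper subgroup of even order of the finite group G. Then H is strongly embedded if and only if each involution of H fixes exactly one point (namely the coset H) in the action of G on the cosets of H. -/
theorem result {G : Type*} [Group G] [Finite G] (H : Subgroup G) (hH : H ≠ ⊤) (heven : Even (Nat.card H)) : Cfsg.IsStronglyEmbedded H ↔ ∀ t ∈ H, orderOf t = 2 → Nat.card {c : G ⧸ H // t • c = c} = 1 := by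
  have key : ∀ t g : G, t • (g : G ⧸ H) = g ↔ g⁻¹ * t * g ∈ H := by
    intro t g
    rw [MulAction.Quotient.smul_mk, eq_comm, QuotientGroup.eq, smul_eq_mul, mul_assoc]
  rw [H10.isStronglyEmbedded_iff]
  constructor
  · rintro ⟨-, -, h⟩ t ht h2
    rw [Nat.card_eq_one_iff_exists]
    refine ⟨⟨(1 : G), (key t 1).2 (by simpa using ht)⟩, ?_⟩
    rintro ⟨c, hc⟩
    obtain ⟨g, rfl⟩ := QuotientGroup.mk_surjective c
    refine Subtype.ext (QuotientGroup.eq.2 ?_)
    simpa using h t ht h2 g⁻¹ (by simpa using (key t g).1 hc)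
  · intro h
    refine ⟨hH, H10.exists_invol_mem_of_even heven, fun t ht h2 g hg => ?_⟩
    have := (Nat.card_eq_one_iff_unique.1 (h t ht h2)).1
    have h3 : (⟨((g⁻¹ : G) : G ⧸ H), (key t g⁻¹).2 (by simpa using hg)⟩ : {c : G ⧸ H // t • c = c})
        = ⟨(1 : G), (key t 1).2 (by simpa using ht)⟩ := Subsingleton.elim _ _
    simpa using QuotientGroup.eq.1 (congrArg Subtype.val h3)

end Cfsg.Agent.S0224
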