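import Cfsg.Agent.H16.He24
import Cfsg.Agent.H26.M24
import Cfsg.Agent.H26.GL
import Cfsg.Statements.S0473
-- import your own Cfsg.Agent.* helpers here

set_option autoImplicit false
open Cfsg

namespace Cfsg.Agent.S0473

/-- The largest Fischer 3-transposition group: a group of order 2 · 1255205709190661721292800 generated by a conjugacy class of 306936 3-transpositions, in which a transposition centraliser has order 2 · 4089470473293004800 and contains a simple subgroup of order 4089470473293004800; its subgroup of index 2 is simple and contains simple subgroups of orders 4089470473293004800 and 4030387200. -/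
theorem result : ∃ (G : Type) (_ : Group G) (_ : Finite G), Nat.card G = 2 * 1255205709190661721292800 ∧ ∃ D : Set G, Cfsg.IsThreeTranspositionClass D ∧ Nat.card D = 306936 ∧ (∀ d ∈ D, Nat.card (Subgroup.centralizer ({d} : Set G)) = 2 * 4089470473293004800 ∧ ∃ K : Subgroup G, K ≤ Subgroup.centralizer ({d} : Set G) ∧ Cfsg.IsFi23 K) ∧ ∃ H : Subgroup G, H.index = 2 ∧ Cfsg.IsFi24' H ∧ (∃ K : Subgroup H, Cfsg.IsFi23 K) ∧ (∃ K : Subgroup H, Cfsg.IsHe K) := by
  have h := H26.F24.isM
  have := h.tg
  have k := H16.He24.fi23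
  obtain ⟨K, ⟨f⟩⟩ := H16.He24.he
  have := H16.PHe.simple'
  have l : H26.F24.lab 0 = H26.Fi24.γ 14 := H26.F24.cmm.lab_pt (g := 14) (by decide)
  have c : H26.Fi24.H = Subgroup.centralizer {H26.F24.lab 0} := Subgroup.ext fun x =>
    (H26.Fi24.model.choose_spec.mem x).trans ((H26.F24.cmm.commute_iff H26.F24.cmm.pos).symm.trans
      Subgroup.mem_centralizer_singleton_iff.symm)
  refine ⟨_, _, inferInstance, H26.Fi24.card, _, H9.TG.toClass h.tr ⟨_, 0, by decide, rfl⟩, h.ncard, fun d hd => ?_,
    _, H26.Fi24.index_commutator, ⟨inferInstance, H26.Fi24.card_commutator⟩, ⟨_,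
      have e := Subgroup.subgroupOfEquivOfLe (inf_le_right (a := H26.Fi24.H) (b := commutator Spor.Fi24))
      have := k.1; ⟨e.isSimpleGroup, (Nat.card_congr e.toEquiv).trans k.2⟩⟩,
    K, f.isSimpleGroup, (Nat.card_congr f.toEquiv).trans H16.PHe.card_eq⟩
  obtain ⟨g, rfl⟩ := h.tr _ ⟨0, H26.F24.cmm.pos, rfl⟩ d hd
  have q : H26.Fi24.H.map (MulAut.conj g).toMonoidHom = Subgroup.centralizer {g * H26.F24.lab 0 * g⁻¹} := by
    ext x
    rw [c, Subgroup.mem_map_equiv, Subgroup.mem_centralizer_singleton_iff, Subgroup.mem_centralizer_singleton_iff,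
      ← (MulAut.conj g).apply_eq_iff_eq]
    simp [mul_assoc]
  have e := (MulAut.conj g).subgroupMap (H26.Fi24.H ⊓ commutator Spor.Fi24)
  have := k.1
  exact ⟨q ▸ (Nat.card_congr ((MulAut.conj g).subgroupMap _).toEquiv).symm.trans H26.Fi24.card_H,
    _, q ▸ Subgroup.map_mono inf_le_left, e.symm.isSimpleGroup, (Nat.card_congr e.toEquiv).symm.trans k.2⟩

end Cfsg.Agent.S0473
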