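import Cfsg.Statements.S0649
import Cfsg.Agent.H9.PQuot

set_option autoImplicit false
open Cfsg

namespace Cfsg.Agent.S0649

/-- In the Glauberman replacement situation, if B does not normalize A then some element of B normalizes N_S(A) without normalizing A. -/
theorem result {S : Type*} [Group S] [Finite S] {p : ℕ} [Fact p.Prime] (hS : IsPGroup p S) (B : Subgroup S) [B.Normal] (hB2 : p = 2 → IsMulCommutative B) (A : Subgroup S) (hA : IsMulCommutative A) (hBA : ⁅B, B⁆ ≤ A) (hnot : ¬ B ≤ Subgroup.normalizer (A : Set S)) : ∃ b ∈ B, b ∈ Subgroup.normalizer ((Subgroup.normalizer (A : Set S)) : Set S) ∧ b ∉ Subgroup.normalizer (A : Set S) := by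
  have hT : IsPGroup p (B ⊔ Subgroup.normalizer (A : Set S) : Subgroup S) := hS.to_subgroup _
  have h1 : Subgroup.normalizer (A : Set S) < B ⊔ Subgroup.normalizer (A : Set S) :=
    lt_of_le_of_ne le_sup_right fun h => hnot (h ▸ le_sup_left)
  obtain ⟨x, ⟨hx1, hx2⟩, hx3⟩ := SetLike.exists_of_lt (H28.lt_inf_normalizer hT h1)
  obtain ⟨b, hb, n, hn, rfl⟩ := (H28.mem_sup_of_le_normalizer'
    (fun g _ => H28.mem_normalizer_of_normal B g)).1 hx1
  refine ⟨b, hb, ?_, fun h => hx3 (Subgroup.mul_mem _ h hn)⟩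
  have := Subgroup.mul_mem _ hx2 (Subgroup.inv_mem _ (Subgroup.le_normalizer hn))
  simpa using this

end Cfsg.Agent.S0649
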