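import Cfsg.Statements.S0650
import Cfsg.Agent.H9.GlRep

set_option autoImplicit false
open Cfsg

namespace Cfsg.Agent.S0650

/-- The Glauberman replacement Theorem: from an abelian A ⊇ [B, B] not normalized by the normal subgroup B and a suitable b ∈ B one gets the abelian subgroup A* = (A ∩ b⁻¹Ab)[A, b] of the same order, containing [B, B], meeting B strictly more than A does but not containing B, mutually normalizing with A, with strictly larger normalizer containing b, and (p odd) of no larger exponent. -/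
theorem result {S : Type*} [Group S] [Finite S] {p : ℕ} [Fact p.Prime] (hS : IsPGroup p S) (B : Subgroup S) [B.Normal] (hB2 : p = 2 → IsMulCommutative B) (A : Subgroup S) (hA : IsMulCommutative A) (hBA : ⁅B, B⁆ ≤ A) (hnot : ¬ B ≤ Subgroup.normalizer (A : Set S)) (b : S) (hb : b ∈ B) (hbN : b ∈ Subgroup.normalizer ((Subgroup.normalizer (A : Set S)) : Set S)) (hbA : b ∉ Subgroup.normalizer (A : Set S)) : Nat.card ↥((A ⊓ A.map (MulAut.conj (b⁻¹)).toMonoidHom) ⊔ Subgroup.closure {g : S | ∃ a ∈ A, g = a * b⁻¹ * a⁻¹ * b}) = Nat.card A ∧ IsMulCommutative ↥((A ⊓ A.map (MulAut.conj (b⁻¹)).toMonoidHom) ⊔ Subgroup.closure {g : S | ∃ a ∈ A, g = a * b⁻¹ * a⁻¹ * b}) ∧ ⁅B, B⁆ ≤ ((A ⊓ A.map (MulAut.conj (b⁻¹)).toMonoidHom) ⊔ Subgroup.closure {g : S | ∃ a ∈ A, g = a * b⁻¹ * a⁻¹ * b}) ∧ A ⊓ B < ((A ⊓ A.map (MulAut.conj (b⁻¹)).toMonoidHom) ⊔ Subgroup.closure {g : S | ∃ a ∈ A, g = a * b⁻¹ * a⁻¹ * b}) ⊓ B ∧ ((A ⊓ A.map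 (MulAut.conj (b⁻¹)).toMonoidHom) ⊔ Subgroup.closure {g : S | ∃ a ∈ A, g = a * b⁻¹ * a⁻¹ * b}) ⊓ B < B ∧ A ≤ Subgroup.normalizer (((A ⊓ A.map (MulAut.conj (b⁻¹)).toMonoidHom) ⊔ Subgroup.closure {g : S | ∃ a ∈ A, g = a * b⁻¹ * a⁻¹ * b} : Subgroup S) : Set S) ∧ ((A ⊓ A.map (MulAut.conj (b⁻¹)).toMonoidHom) ⊔ Subgroup.closure {g : S | ∃ a ∈ A, g = a * b⁻¹ * a⁻¹ * b}) ≤ Subgroup.normalizer (A : Set S) ∧ b ∈ Subgroup.normalizer (((A ⊓ A.map (MulAut.conj (b⁻¹)).toMonoidHom) ⊔ Subgroup.closure {g : S | ∃ a ∈ A, g = a * b⁻¹ * a⁻¹ * b} : Subgroup S) : Set S) ∧ Subgroup.normalizer (A : Set S) < Subgroup.normalizer (((A ⊓ A.map (MulAut.conj (b⁻¹)).toMonoidHom) ⊔ Subgroup.closure {g : S | ∃ a ∈ A, g = a * b⁻¹ * a⁻¹ * b} : Subgroup S) : Set S) ∧ (p ≠ 2 → Monoid.exponent ↥((A ⊓ A.map (MulAut.conj (b⁻¹)).toMonoidHom) ⊔ Subgroup.closure {g : S | ∃ a ∈ A, g = a * b⁻¹ * a⁻¹ * b}) ∣ Monoid.exponent A) := by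
  have hT : IsPGroup p (⊤ : Subgroup S) := hS.to_subgroup _
  have h : H9.GlHyp A B b := H9.glHyp_of_mem_normalizer (T := ⊤) le_top
    (H28.normal_iff_top_le.1 inferInstance) (H28.le_centralizer_self_iff.2 hA) hBA hb
    (by rwa [top_inf_eq]) (fun w hw h2 => by
      by_cases hp : p = 2
      · rwa [H28.commutator_eq_bot_iff.2 (H28.le_centralizer_self_iff.2 (hB2 hp))] at hw
      · exact H9.eq_one_of_sq_eq_one hp hT trivial h2)
  refine ⟨h.card_star, H28.le_centralizer_self_iff.1 h.star_comm, h.commutator_le_star,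
    h.inf_lt hbA, lt_of_le_of_ne inf_le_right fun h1 => h.not_le_star hbA (inf_eq_right.1 h1),
    le_sup_left.trans h.sup_le_normalizer_star, h.star_le_normalizer, h.mem_normalizer_star,
    lt_of_le_of_ne (fun n hn => h.mem_normalizer_star_of hn (H28.mem_normalizer_of_normal B n)
      (H28.conj_mem_of_mem_normalizer hbN hn))
      fun h1 => hbA (h1 ▸ h.mem_normalizer_star), fun hp => ?_⟩
  have he : Odd (Monoid.exponent A) := by
    obtain ⟨k, hk⟩ := (IsPGroup.iff_card.1 (hS.to_subgroup A))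
    have h1 : Monoid.exponent A ∣ p ^ k := hk ▸ Group.exponent_dvd_nat_card
    exact (((Fact.out : p.Prime).odd_of_ne_two hp).pow).of_dvd_nat h1
  rw [Monoid.exponent_dvd_iff_forall_pow_eq_one]
  intro x
  refine Subtype.ext (h.pow_eq_one (Or.inl he) (fun a ha => ?_) x x.2)
  exact congrArg Subtype.val (Monoid.pow_exponent_eq_one (⟨a, ha⟩ : A))

end Cfsg.Agent.S0650
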