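import Cfsg.Statements.S0652
import Cfsg.Agent.H9.GlRep

set_option autoImplicit false
open Cfsg

namespace Cfsg.Agent.S0652

/-- For odd p and D normal in the p-group S, the elementary abelian subgroups of D of largest order satisfy the replacement property for class-2 normal subgroups of S. -/
theorem result {S : Type*} [Group S] [Finite S] {p : ℕ} [Fact p.Prime] (hS : IsPGroup p S) (hp : p ≠ 2) (D : Subgroup S) [D.Normal] : ∀ (B : Subgroup S) [B.Normal], ⁅⁅B, B⁆, B⁆ = ⊥ → (∃ U ∈ (Set.image (fun A : Subgroup ↥D => A.map D.subtype) (Cfsg.maxElementaryAbelianSubgroups p ↥D)), ⁅B, B⁆ ≤ U ∧ ¬ B ≤ U) → ∃ A ∈ (Set.image (fun A : Subgroup ↥D => A.map D.subtype) (Cfsg.maxElementaryAbelianSubgroups p ↥D)), ⁅B, B⁆ ≤ A ∧ ¬ B ≤ A ∧ B ≤ Subgroup.normalizer (A : Set S) := by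
  rintro B _ - ⟨_, ⟨U, hU, rfl⟩, h1, h2⟩
  have hT : IsPGroup p (⊤ : Subgroup S) := hS.to_subgroup _
  obtain ⟨A, hA, h3⟩ := (H9.maxAb_map_subtype_iff.2 (H9.mem_maxEA_iff.1 hU)).exists_normalized
    (Or.inl ((Fact.out : p.Prime).odd_of_ne_two hp)) hT le_top le_top
    (H28.normal_iff_top_le.1 inferInstance) (fun g _ => H28.mem_normalizer_of_normal D g)
    (fun w _ h => H9.eq_one_of_sq_eq_one hp hT trivial h) h1 h2
  refine ⟨A, ⟨A.subgroupOf D, H9.mem_maxEA_iff.2 (H9.maxAb_map_subtype_iff.1 ?_),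
    H28.map_subtype_subgroupOf hA.le⟩, h3⟩
  rwa [H28.map_subtype_subgroupOf hA.le]

end Cfsg.Agent.S0652
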