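import Cfsg.Statements.S0725
import Cfsg.Agent.H6.PS1
import Cfsg.Agent.H6.PS2
import Cfsg.Agent.H8.PS1
import Cfsg.Agent.H7.PS1
import Cfsg.Agent.H2.PS1
import Cfsg.Agent.H23.PS2
import Cfsg.Agent.H16.PS1
import Cfsg.Agent.H16.PS2

set_option autoImplicit false
open Cfsg

namespace Cfsg.Agent.S0725

/-- The Praeger–Saxl bound: a primitive permutation group of degree `n` not containing the alternating group has order at most `4 ^ n`. -/
theorem result {α : Type*} [Fintype α] [DecidableEq α] (G : Subgroup (Equiv.Perm α)) (hG : MulAction.IsPreprimitive G α) (hA : ¬ alternatingGroup α ≤ G) : Nat.card G ≤ 4 ^ Fintype.card α := by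
  exact H6.PS.fin H6.PS.sq H8.PS.db H7.PS.un H2.PS.bl H2.PS.al (H23.PR.rd H6.PS.sq) H16.PS.na
    H16.PS.nb G hG hA

end Cfsg.Agent.S0725
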