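import Cfsg.Statements.S1158
import Cfsg.Agent.H14.Ree8

set_option autoImplicit false
open Cfsg

namespace Cfsg.Agent.S1158

/-- In the small Ree group ²G₂(q), q = 3^(2m+1) with m ≥ 1, realised as G¹ inside the Chevalley group G₂ over the field with q elements (θ the 3^m-th power map), with `r = 3^(m+1)` (so `r² = 3q`): for each `k ∈ {(q-1)/2, (q+1)/4, q - r + 1, q + r + 1}` there is a cyclic subgroup `A` of order `k` whose normaliser has order `2(q-1)`, `6(q+1)`, `6(q-r+1)`, `6(q+r+1)` respectively, and `N(A₀) = N(A)` for every non-trivial `A₀ ≤ A`. -/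
theorem result {K : Type*} [Field K] [Fintype K] {m : ℕ} (hm : 1 ≤ m) (hK : Fintype.card K = 3 ^ (2 * m + 1)) :
    ∀ kn ∈ ({((3 ^ (2 * m + 1) - 1) / 2, 2 * (3 ^ (2 * m + 1) - 1)), ((3 ^ (2 * m + 1) + 1) / 4, 6 * (3 ^ (2 * m + 1) + 1)),
        (3 ^ (2 * m + 1) - 3 ^ (m + 1) + 1, 6 * (3 ^ (2 * m + 1) - 3 ^ (m + 1) + 1)),
        (3 ^ (2 * m + 1) + 3 ^ (m + 1) + 1, 6 * (3 ^ (2 * m + 1) + 3 ^ (m + 1) + 1))} : Set (ℕ × ℕ)),
      ∃ A : Subgroup ↥(Cfsg.Lie.twistedG2 K (3 ^ m)), IsCyclic A ∧ Nat.card A = kn.1 ∧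
        Nat.card (Subgroup.normalizer (A : Set ↥(Cfsg.Lie.twistedG2 K (3 ^ m)))) = kn.2 ∧
        ∀ A₀ : Subgroup ↥(Cfsg.Lie.twistedG2 K (3 ^ m)), A₀ ≤ A → A₀ ≠ ⊥ →
          Subgroup.normalizer (A₀ : Set ↥(Cfsg.Lie.twistedG2 K (3 ^ m))) = Subgroup.normalizer (A : Set ↥(Cfsg.Lie.twistedG2 K (3 ^ m))) := by
  obtain ⟨R, e, -, h, -⟩ := H14.G2.ree hK
  have := R.finite
  have h1 := Nat.pow_le_pow_right three_pos (show 3 ≤ 2 * m + 1 by omega)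
  have h2 := Nat.pow_lt_pow_right (show 1 < 3 by decide) (show m + 1 < 2 * m + 1 by omega)
  have h0 := Nat.pow_pos (n := m + 1) three_pos
  intro kn hkn
  obtain ⟨A, C, t, h3, h4⟩ := (h hm).tori kn (e ▸ hkn)
  have h5 : A ≠ ⊥ := fun e => by
    rw [e, Subgroup.card_bot] at h3
    generalize 3 ^ (2 * m + 1) = a at *
    generalize 3 ^ (m + 1) = b at *
    rcases hkn with rfl | rfl | rfl | rfl <;> omega
  exact ⟨A, t.cyc, h3, t.norm_eq le_rfl h5 ▸ h4, fun B h6 h7 => (t.norm_eq h6 h7).trans (t.norm_eq le_rfl h5).symm⟩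

end Cfsg.Agent.S1158
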