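import Cfsg.Statements.S1249
import Cfsg.Agent.H10.Isolated

set_option autoImplicit false
open Cfsg

namespace Cfsg.Agent.S1249

open Subgroup
open scoped Pointwise

/-- Let P and Q be Sylow p-subgroups of the finite group G both containing the subgroup A. If A is strongly closed in P, then A is strongly closed in Q. -/
theorem result {G : Type*} [Group G] [Finite G] {p : ℕ} [Fact p.Prime] (P Q : Sylow p G) (A : Subgroup G) (hAQ : A ≤ Q) (hA : Cfsg.IsStronglyClosed A (P : Subgroup G)) : Cfsg.IsStronglyClosed A (Q : Subgroup G) := by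
  obtain ⟨h, -, hh⟩ := (H10.isSylowIn_top P).exists_conj_eq (H10.isSylowIn_top Q)
  have h1 : ∀ x, x ∈ (Q : Subgroup G) → h * x * h⁻¹ ∈ (P : Subgroup G) := fun x hx =>
    hh ▸ H1.conj_mem_conj_smul hx
  have h2 : h ∈ normalizer (A : Set G) :=
    H1.mem_normalizer_of_conj_mem fun x hx => hA.2 x hx h (h1 x (hAQ hx))
  refine ⟨hAQ, fun x hx g hg => ?_⟩
  refine (mem_normalizer_iff.1 h2 _).2 ?_
  have := hA.2 x hx (h * g) (by convert h1 _ hg using 1; group)
  convert this using 1; group

end Cfsg.Agent.S1249
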