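import Cfsg.Statements.S1251
import Cfsg.Agent.H7.ZStar
import Cfsg.Agent.H10.SylQuot
import Cfsg.Agent.H10.Isolated

set_option autoImplicit false
open Cfsg

namespace Cfsg.Agent.S1251

open Subgroup H28 H10

theorem core {K : Type*} [Group K] [Finite K] (H : Subgroup K) [H.Normal] (hO : oddCore H = ⊥)
    {a : K} {k : ℕ} (hk : a ^ 2 ^ k = 1) (ha2 : a ^ 2 ∈ center K) (hd : zpowers a ⊓ H = ⊥)
    (hiso : ∀ g, IsPGroup 2 (zpowers a ⊔ zpowers (g * a * g⁻¹) : Subgroup K) → g * a * g⁻¹ = a) :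
    a ∈ 𝐂 H := by
  have hZ : zpowers (a ^ 2) ≤ center K := zpowers_le.2 ha2
  haveI : (zpowers (a ^ 2)).Normal := ⟨fun n hn g => by
    rwa [mem_center_iff.1 (hZ hn) g, mul_inv_cancel_right]⟩
  by_cases h1 : a ∈ zpowers (a ^ 2)
  · exact center_le_centralizer _ (hZ h1)
  let f := QuotientGroup.mk' (zpowers (a ^ 2))
  have hker : f.ker = zpowers (a ^ 2) := QuotientGroup.ker_mk' _
  have hp : IsPGroup 2 f.ker := by
    rw [hker]; exact (H28.isPGroup_zpowers hk).to_le (zpowers_le.2 (pow_mem (mem_zpowers a) 2))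
  have ho : orderOf (f a) = 2 := H4.orderOf_mk_eq_prime h1 (mem_zpowers _)
  have hI : IsIsolatedInvolution (f a) := by
    refine ⟨ho, fun g hg => ?_⟩
    obtain ⟨g, rfl⟩ := QuotientGroup.mk'_surjective _ g
    rw [← map_inv, ← map_mul, ← map_mul] at hg ⊢
    rw [hiso g]
    have h2 : IsPGroup 2 (zpowers (f a) ⊔ zpowers (f (g * a * g⁻¹)) : Subgroup _) := by
      refine isPGroup_sup_of_le_normalizer (isPGroup_zpowers_of_orderOf (k := 1) ho)
        (isPGroup_zpowers_of_orderOf (k := 1) ?_) (zpowers_le.2 (centralizer_le_normalizer _ ?_))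
      · rw [map_mul, map_mul, map_inv, H10.orderOf_conj, ho, pow_one]
      · rw [centralizer_zpowers]; exact mem_centralizer_singleton_iff.2 hg
    refine (h2.comap_of_ker_isPGroup f hp).to_le (sup_le (zpowers_le.2 ?_) (zpowers_le.2 ?_))
    · exact mem_sup_left (mem_zpowers _)
    · exact mem_sup_right (mem_zpowers _)
  have hM : ((oddCore _).comap f).subgroupOf H = ⊥ := by
    rw [eq_bot_iff, ← hO]
    refine H1.le_oddCore inferInstance ?_
    rw [← inf_subgroupOf_right, card_subgroupOf inf_le_right,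
      Nat.card_congr (equivMapOfInf f (by
        rw [hker, eq_bot_iff, ← hd]
        exact fun x hx => ⟨zpowers_le.2 (pow_mem (mem_zpowers a) 2) hx.2, hx.1.2⟩)).toEquiv]
    exact Odd.of_dvd_nat H1.odd_card_oddCore (card_dvd_of_le
      (map_le_iff_le_comap.2 inf_le_left))
  refine mem_centralizer'.2 fun h hh => ?_
  have h3 : a * h * a⁻¹ * h⁻¹ ∈ H := H.mul_mem (Normal.conj_mem ‹_› h hh a) (H.inv_mem hh)
  have h4 : (⟨_, h3⟩ : H) ∈ ((oddCore _).comap f).subgroupOf H := by
    have := H7.zstar hI (f h)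
    rwa [← map_inv, ← map_inv, ← map_mul, ← map_mul, ← map_mul] at this
  rw [hM, mem_bot, Subtype.ext_iff] at h4
  have h5 : a * h * a⁻¹ * h⁻¹ = 1 := h4
  rw [mul_inv_eq_one, mul_inv_eq_iff_eq_mul] at h5
  exact h5.symm

/-- Let S be a Sylow 2-subgroup of the finite group G and A ≤ S strongly closed in S. If H is a subgroup normalized by A with no nontrivial normal subgroup of odd order and A ∩ H = 1, then A ≤ C_G(H). -/
theorem result {G : Type*} [Group G] [Finite G] (S : Sylow 2 G) (A : Subgroup G) (hA : Cfsg.IsStronglyClosed A (S : Subgroup G)) (H : Subgroup G) (hAH : A ≤ Subgroup.normalizer (H : Set G)) (hO : Cfsg.oddCore ↥H = ⊥) (hdisj : A ⊓ H = ⊥) : A ≤ Subgroup.centralizer (H : Set G) := by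
  have hAp : IsPGroup 2 A := S.isPGroup'.to_le hA.1
  obtain ⟨T, hT, hAT⟩ := H28.exists_isSylowIn_ge (H := H ⊔ A) hAp le_sup_right
  have hsc : ∀ a ∈ A, ∀ g : G, g * a * g⁻¹ ∈ T → g * a * g⁻¹ ∈ A := by
    obtain ⟨u, -, hu⟩ := (H28.isSylowIn_top S).exists_conj_le hT.isPGroup le_top
    have h1 : u ∈ 𝐍 A := mem_normalizer_of_cj_le (by
      rintro _ ⟨a, ha, rfl⟩
      exact hA.2 a ha u (hu (conj_mem_cj (hAT ha))))
    intro a ha g hg
    have h2 := hA.2 a ha (u * g) (by
      have := hu (conj_mem_cj hg)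
      rwa [show u * (g * a * g⁻¹) * u⁻¹ = u * g * a * (u * g)⁻¹ by group] at this)
    have := conj_mem_of_mem_normalizer' h1 h2
    rwa [show u⁻¹ * (u * g * a * (u * g)⁻¹) * u = g * a * g⁻¹ by group] at this
  have hN : H ⊔ A ≤ 𝐍 H := sup_le le_normalizer hAH
  have key : ∀ k : ℕ, ∀ a ∈ A, a ^ 2 ^ k = 1 → a ∈ 𝐂 H := by
    intro k
    induction k with
    | zero => intro a _ h; rw [pow_zero, pow_one] at h; rw [h]; exact one_mem _
    | succ k ih =>
      intro a ha hk
      have h2 := ih (a ^ 2) (pow_mem ha 2) (by rw [← pow_mul, ← pow_succ', hk])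
      set K := H ⊔ zpowers a with hK
      have hKA : K ≤ H ⊔ A := sup_le_sup_left (zpowers_le.2 ha) _
      have haK : a ∈ K := mem_sup_right (mem_zpowers a)
      haveI : (H.subgroupOf K).Normal :=
        (normal_subgroupOf_iff_le_normalizer le_sup_left).2 (hKA.trans hN)
      have := core (H.subgroupOf K) (a := ⟨a, haK⟩) (k := k + 1) ?_ (Subtype.ext hk) ?_ ?_ ?_
      · rwa [← centralizer_subgroupOf le_sup_left] at this
      · have e := subgroupOfEquivOfLe (le_sup_left : H ≤ K)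
        rw [oddCore, ← H1.map_pPrimeCore_equiv e.symm, show pPrimeCore 2 H = ⊥ from hO,
          Subgroup.map_bot]
      · refine mem_center_iff.2 fun g => Subtype.ext ?_
        have : K ≤ centralizer {a ^ 2} := sup_le (fun h hh => mem_centralizer_singleton_iff.2
          (mem_centralizer'.1 h2 h hh)) (zpowers_le.2 (mem_centralizer_singleton_iff.2
            (Commute.self_pow a 2)))
        exact mem_centralizer_singleton_iff.1 (this g.2)
      · rw [eq_bot_iff]
        rintro _ ⟨⟨i, rfl⟩, hx⟩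
        exact mem_bot.2 (Subtype.ext (mem_bot.1 (hdisj.le ⟨zpow_mem ha i, hx⟩)))
      · intro g hg
        obtain ⟨u, hu, h3⟩ := hT.exists_conj_le (hg.map K.subtype) ((map_subtype_le _).trans hKA)
        have h4 : u * a * u⁻¹ ∈ A :=
          hsc a ha u (h3 (conj_mem_cj ⟨_, mem_sup_left (mem_zpowers _), rfl⟩))
        have h5 : (u * g) * a * (u * g)⁻¹ ∈ A := hsc a ha _ (by
          have := h3 (conj_mem_cj ⟨_, mem_sup_right (mem_zpowers _), rfl⟩)
          rwa [show (u * g) * a * (u * g)⁻¹ = u * (g * a * (g : G)⁻¹) * u⁻¹ by group])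
        obtain ⟨h, hh, _, ⟨i, rfl⟩, h6⟩ :=
          (mem_sup_of_le_normalizer' (zpowers_le.2 (hAH ha))).1 g.2
        have h7 : (g : G) * a * (g : G)⁻¹ * a⁻¹ ∈ H := by
          rw [← h6, show h * a ^ i * a * (h * a ^ i)⁻¹ * a⁻¹ = h * (a * h⁻¹ * a⁻¹) by group]
          exact H.mul_mem hh (conj_mem_of_mem_normalizer (hAH ha) (H.inv_mem hh))
        have h8 := mem_bot.1 (hdisj.le ⟨A.mul_mem h5 (A.inv_mem h4), by
          have := conj_mem_of_mem_normalizer (hN hu) h7
          rwa [show u * ((g : G) * a * (g : G)⁻¹ * a⁻¹) * u⁻¹ =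
            u * g * a * (u * g)⁻¹ * (u * a * u⁻¹)⁻¹ by group] at this⟩)
        apply Subtype.ext
        show (g : G) * a * (g : G)⁻¹ = a
        calc (g : G) * a * (g : G)⁻¹ =
            u⁻¹ * (u * g * a * (u * g)⁻¹ * (u * a * u⁻¹)⁻¹) * u * a := by group
          _ = a := by rw [h8]; group
  intro a ha
  obtain ⟨k, hk⟩ := isPGroup_iff_mem.1 hAp a ha
  exact key k a ha hk

end Cfsg.Agent.S1251
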