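import Cfsg.Statements.S1292
import Cfsg.Agent.H1.CompAct

set_option autoImplicit false
open Cfsg

namespace Cfsg.Agent.S1292

/-- Let G be a finite group such that F*(C_G(t)) = O_2(C_G(t)) for every involution t. Then F*(N_G(T)) = O_2(N_G(T)) for every nontrivial 2-subgroup T of G. -/
theorem result {G : Type*} [Group G] [Finite G] (h : ∀ t : G, orderOf t = 2 → Cfsg.generalizedFittingSubgroup ↥(Subgroup.centralizer ({t} : Set G)) = Cfsg.pCore 2 ↥(Subgroup.centralizer ({t} : Set G))) (T : Subgroup G) (hT : IsPGroup 2 ↥T) (hT1 : T ≠ ⊥) : Cfsg.generalizedFittingSubgroup ↥(Subgroup.normalizer (T : Set G)) = Cfsg.pCore 2 ↥(Subgroup.normalizer (T : Set G)) := by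
  have h1 := H1.inf_centralizer_ne_bot_of_isPGroup hT hT Subgroup.le_normalizer hT1
  have h2 : 2 ∣ Nat.card ↥(T ⊓ Subgroup.centralizer (T : Set G)) := by
    by_contra h2
    exact h1 (H1.eq_bot_of_isPGroup_of_coprime hT.to_inf_left (H1.coprime_iff_not_dvd.2 h2))
  obtain ⟨⟨t, ht⟩, ht2⟩ := exists_prime_orderOf_dvd_card' 2 h2
  rw [Subgroup.orderOf_mk] at ht2
  have h3 : T ≤ Subgroup.centralizer {t} := fun x hx =>
    Subgroup.mem_centralizer_singleton_iff.2 (ht.2 x hx)
  have h4 : Subgroup.centralizer (T : Set G) ≤ Subgroup.centralizer {t} :=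
    Subgroup.centralizer_le (Set.singleton_subset_iff.2 ht.1)
  have h5 := H1.gf_centralizer_eq_pCore (h t ht2) (hT.comap_subtype (K := Subgroup.centralizer {t}))
  rw [H1.gf_normalizer_eq_pCore_iff hT, ← H1.gf_eq_pCore_congr (Subgroup.subgroupOfEquivOfLe h4),
    ← H1.centralizer_subgroupOf h3]
  exact h5

end Cfsg.Agent.S1292
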