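import Cfsg.Statements.S1294
import Cfsg.Agent.H1.SF10

set_option autoImplicit false
open Cfsg

namespace Cfsg.Agent.S1294

/-- Let G be finite with O_{p'}(G) = 1 and p-rank at least 3, whose reduced rank-2 commuting graph for p is connected. Let θ assign to every element a of order p with m_p(C_G(a)) ≥ 3 a solvable subgroup θ a ≤ C_G(a) of order prime to p, so that θ (g a g⁻¹) = g (θ a) g⁻¹ for all g and θ a ∩ C_G(b) ≤ θ b for commuting such a, b. Then θ a = 1 for every such a. -/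
theorem result {G : Type*} [Group G] [Finite G] (p : ℕ) [Fact p.Prime] (hO : Cfsg.pPrimeCore p G = ⊥) (hrk : ¬ Cfsg.PRankLE p 2 G) (hconn : Cfsg.IsRankGraphConnected p 2 G) (θ : G → Subgroup G) (hC : ∀ a : G, (orderOf a = p ∧ ¬ Cfsg.PRankLE p 2 ↥(Subgroup.centralizer ({a} : Set G))) → θ a ≤ Subgroup.centralizer ({a} : Set G) ∧ ¬ p ∣ Nat.card ↥(θ a) ∧ Group.IsSolvable ↥(θ a)) (heq : ∀ a g : G, (orderOf a = p ∧ ¬ Cfsg.PRankLE p 2 ↥(Subgroup.centralizer ({a} : Set G))) → θ (g * a * g⁻¹) = (θ a).map (MulAut.conj g).toMonoidHom) (hbal : ∀ a b : G, (orderOf a = p ∧ ¬ Cfsg.PRankLE p 2 ↥(Subgroup.centralizer ({a} : Set G))) → (orderOf b = p ∧ ¬ Cfsg.PRankLE p 2 ↥(Subgroup.centralizer ({b} : Set G))) → a * b = b * a → θ a ⊓ Subgroup.centralizer {b} ≤ θ b) (a : G) (ha : (orderOf a = p ∧ ¬ Cfsg.PRankLE p 2 ↥(Subgroup.centralizer ({a} : Set G)))) : θ a = ⊥ := by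
  open H19 in
  have hp : p.Prime := Fact.out
  obtain ⟨A, h1, h2, h3⟩ := H1.exists_ge_of_rank hp (ha.1 ▸ pow_orderOf_eq_one a) ha.2
  have a1 : a ≠ 1 := fun e => hp.one_lt.ne (by rw [← ha.1, e, orderOf_one])
  refine le_bot_iff.1 ((H1.le_Clo θ h1 a1).trans (H1.Clo_eq_bot_of_conn hp hO hconn
    (fun A hA h3 => ?_) (fun A hA h3 a ha a1 g => heq a g (H1.rank_of_mem hp hA h3 ha a1)) h2 h3).le)
  have r := fun a (ha : a ∈ A) a1 => H1.rank_of_mem hp hA h3 ha a1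
  exact ⟨hp, hA, H1.lt_of_cube hp h3, fun a ha a1 => (hC a (r a ha a1)).1,
    fun a ha a1 => PiN.of_not_dvd (hC a (r a ha a1)).2.1,
    fun a ha a1 b hb => mem_norm_iff_cj.2 ((heq a b (r a ha a1)).symm.trans
      (by rw [mul_comm_of_comm hA.1 hb ha, mul_inv_cancel_right])),
    fun a ha a1 => (hC a (r a ha a1)).2.2,
    fun a ha a1 b hb b1 => hbal a b (r a ha a1) (r b hb b1) (mul_comm_of_comm hA.1 ha hb)⟩

end Cfsg.Agent.S1294
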