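import Cfsg.Statements.S1295
import Cfsg.Agent.H1.SF10

set_option autoImplicit false
open Cfsg

namespace Cfsg.Agent.S1295

/-- Let G be finite with O_{p'}(G) = 1 and p-rank at least 3, whose reduced rank-2 commuting graph for p is connected. Suppose that for every element a of order p with m_p(C_G(a)) ≥ 3 the p-layer of C_G(a) is trivial and O_{p'}(C_G(a)) is solvable. Then F*(C_G(a)) = O_p(C_G(a)) for every such a. -/
theorem result {G : Type*} [Group G] [Finite G] (p : ℕ) [Fact p.Prime] (hO : Cfsg.pPrimeCore p G = ⊥) (hrk : ¬ Cfsg.PRankLE p 2 G) (hconn : Cfsg.IsRankGraphConnected p 2 G) (hL : ∀ a : G, (orderOf a = p ∧ ¬ Cfsg.PRankLE p 2 ↥(Subgroup.centralizer ({a} : Set G))) → Cfsg.pLayer p ↥(Subgroup.centralizer ({a} : Set G)) = ⊥ ∧ Group.IsSolvable ↥(Cfsg.centralizerPPrimeCore p a)) (a : G) (ha : (orderOf a = p ∧ ¬ Cfsg.PRankLE p 2 ↥(Subgroup.centralizer ({a} : Set G)))) : Cfsg.generalizedFittingSubgroup ↥(Subgroup.centralizer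 ({a} : Set G)) = Cfsg.pCore p ↥(Subgroup.centralizer ({a} : Set G)) := by
  open H19 in
  have hp : p.Prime := Fact.out
  obtain ⟨A, h1, h2, h3⟩ := H1.exists_ge_of_rank hp (ha.1 ▸ pow_orderOf_eq_one a) ha.2
  have a1 : a ≠ 1 := fun e => hp.one_lt.ne (by rw [← ha.1, e, orderOf_one])
  have h := le_bot_iff.1 ((H1.le_Clo (Cfsg.centralizerPPrimeCore p) h1 a1).trans
    (H1.Clo_eq_bot_of_conn hp hO hconn (fun A hA h3 => H1.sf_cpp' hA (H1.lt_of_cube hp h3)
      (fun a ha a1 => (hL a (H1.rank_of_mem hp hA h3 ha a1)).2)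
      fun a ha a1 => H1.isPConstrained_iff_pLayer.2 (hL a (H1.rank_of_mem hp hA h3 ha a1)).1)
    (fun _ _ _ a _ _ g => H1.cj_cpp g a) h2 h3).le)
  exact (H1.isPConstrained_iff_of_pPrimeCore_eq_bot
    ((Subgroup.map_eq_bot_iff_of_injective _ (Subgroup.subtype_injective _)).1 h)).1
    (H1.isPConstrained_iff_pLayer.2 (hL a ha).1)

end Cfsg.Agent.S1295
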