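import Cfsg.Statements.S1322
import Cfsg.Agent.H1.LB7

set_option autoImplicit false
open Cfsg

namespace Cfsg.Agent.S1322

/-- Let G be finite with L_{2'}(G) = E(G), t an involution and L ≤ C_G(t) a component of C_G(t). Then there is a component D of G with: L = D; or L < D and D = ⁅D, ⟨t⟩⁆; or tDt⁻¹ ≠ D and L is the layer of C_{D ⊔ tDt⁻¹}(t). -/
theorem result {G : Type*} [Group G] [Finite G] (hL2 : Cfsg.pLayer 2 G = Cfsg.layer G) (t : G) (ht : orderOf t = 2) (L : Subgroup G) (hLt : L ≤ Subgroup.centralizer ({t} : Set G)) (hL : Cfsg.IsComponent (L.subgroupOf (Subgroup.centralizer ({t} : Set G)))) : ∃ D : Subgroup G, Cfsg.IsComponent D ∧ (L = D ∨ (L < D ∧ D = ⁅D, Subgroup.zpowers t⁆) ∨ (D.map (MulAut.conj t).toMonoidHom ≠ D ∧ L = (Cfsg.layer ↥((D ⊔ D.map (MulAut.conj t).toMonoidHom) ⊓ Subgroup.centralizer ({t} : Set G))).map ((D ⊔ D.map (MulAut.conj t).toMonoidHom) ⊓ Subgroup.centralizer ({t} : Set G)).subtype)) := by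
    open H19 in
    have t2 : t ^ 2 = 1 := ht ▸ pow_orderOf_eq_one t
    have h := H1.pc_of_comp hLt hL
    have q := ((H1.isComponent_subgroupOf_iff hLt).1 hL).2
    have hE : L ≤ Cfsg.layer G := hL2 ▸ H1.pc_le_pLayer t2 h
    obtain ⟨D, hD, hc⟩ := H1.exists_comp_not_cent h.perfect h.q.ne_bot hE
    refine ⟨D, hD, ?_⟩
    by_cases hn : t ∈ N(D)
    · have h1 := H1.pump_vert h hE hD hn hc
      by_cases e : L = D
      · exact .inl e
      refine .inr (.inl ⟨lt_of_le_of_ne h1 e, le_antisymm (H1.quasi_le_of_commg hD.2 (commg_norml _ _) hn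
        (fun h2 => e ?_) le_rfl) (commg_le_left (Subgroup.zpowers_le.2 hn))⟩)
      exact H1.eq_of_subnIn_of_le q hD.2 h.sub (le_cent1_iff.2 h2) h1
    obtain ⟨h1, -, h2, -⟩ := H1.pump_diag h hE hD ht hn hc
    rw [H1.orb_zp2 t2] at h1 h2
    refine .inr (.inr ⟨fun e => hn (mem_norm_iff_cj.2 e), le_antisymm
      (H1.le_layerOf (h.sub.mono (le_inf h1 hLt) inf_le_right) q) ?_⟩)
    exact H1.perfect_le_of_le_sup (H1.layerOf_perfect _) (norms_of_cents (inf_le_right.trans (cent_mono h1)))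
      (sol_of_ab (comm_center _)) ((Subgroup.map_subtype_le _).trans h2)

end Cfsg.Agent.S1322
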