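import Cfsg.Statements.S1323
import Cfsg.Agent.H27.Alt3
-- import your own Cfsg.Agent.* helpers here

set_option autoImplicit false
open Cfsg

namespace Cfsg.Agent.S1323


/-- For n ≥ 9, the subgroup of the alternating group on Fin n fixing each of the points 0, 1, 2, 3 is a standard subgroup. -/
theorem result (n : ℕ) (h4 : 4 ≤ n) (hn : 9 ≤ n) : Cfsg.IsStandardSubgroup (⨅ i : Fin 4, MulAction.stabilizer ↥(alternatingGroup (Fin n)) (Fin.castLE h4 i : Fin n)) := by
  have c : ((Finset.univ.map (Fin.castLEEmb h4))ᶜ).card = n - 4 := by simp [Finset.card_compl]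
  convert H27.A3.std (s := (Finset.univ.map (Fin.castLEEmb h4))ᶜ) (by simp) (by omega)
  ext g
  rw [H27.A3.mem]
  simp [Subgroup.mem_iInf, Subgroup.smul_def]

end Cfsg.Agent.S1323
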