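import Cfsg.Statements.S1339
import Cfsg.Agent.H8.LieBT
import Cfsg.Agent.H28.LocChar
import Cfsg.Agent.H11.SL
import Cfsg.Agent.H11.Congr

set_option autoImplicit false
open Cfsg

namespace Cfsg.Agent.S1339

/-- Let F be a field with 2 elements, n ≥ 3, and t ∈ SL(n, F) a transvection (t = 1 + E_{ij}, i ≠ j). Then the generalized Fitting subgroup of C(t) is O_2(C(t)). -/
theorem result {F : Type*} [Field F] [Fintype F] [DecidableEq F] (hF : Fintype.card F = 2) (n : ℕ) (hn : 3 ≤ n) (i j : Fin n) (hij : i ≠ j) (t : Matrix.SpecialLinearGroup (Fin n) F) (ht : (t : Matrix (Fin n) (Fin n) F) = Matrix.transvection i j 1) : Cfsg.generalizedFittingSubgroup ↥(Subgroup.centralizer ({t} : Set (Matrix.SpecialLinearGroup (Fin n) F))) = Cfsg.pCore 2 ↥(Subgroup.centralizer ({t} : Set (Matrix.SpecialLinearGroup (Fin n) F))) := by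
  haveI : Fact (Nat.Prime 2) := ⟨Nat.prime_two⟩
  obtain ⟨e⟩ : Nonempty (F ≃+* ZMod 2) := ⟨FiniteField.ringEquivOfCardEq (by simpa using hF)⟩
  haveI : Nonempty (Fin n) := ⟨i⟩
  have hZ : Subgroup.center (Matrix.SpecialLinearGroup (Fin n) (ZMod 2)) = ⊥ := by
    rw [← Subgroup.card_eq_one, H11.card_center_sl]; simp
  have hG : IsLieTypeChar 2 (Matrix.SpecialLinearGroup (Fin n) F) :=
    .inl ⟨ZMod 2, inferInstance, inferInstance, inferInstance, n, by omega, by omega,
      ⟨(H11.slCongr (Equiv.refl _) e).trans (H11.quotCenterEquivOfBot hZ).symm⟩⟩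
  have h2 : (1 + 1 : F) = 0 := e.injective (by rw [map_add, map_one, map_zero]; rfl)
  have h1 : orderOf t = 2 := orderOf_eq_prime (Subtype.ext (by
    rw [sq, Matrix.SpecialLinearGroup.coe_mul, ht, Matrix.transvection_mul_transvection_same _ _ hij,
      h2, Matrix.transvection_zero]; rfl)) fun h => by
    have := congrFun (congrFun ht i) j
    simp [h, Matrix.transvection, hij] at this
  rw [H28.gf_eq_iff]
  convert H8.isCharP_of_lieType hG (X := Subgroup.zpowers t) (IsPGroup.of_card (n := 1)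
    (by rw [Nat.card_zpowers, h1]; rfl)) (by rw [ne_eq, Subgroup.zpowers_eq_bot]; rintro rfl; simp at h1)
  ext g
  rw [Subgroup.mem_centralizer_singleton_iff]
  refine ⟨fun h => Subgroup.centralizer_le_normalizer _ ?_, fun h => ?_⟩
  · rintro _ ⟨k, rfl⟩
    exact (Commute.zpow_left h.symm k).eq
  have h3 := (Subgroup.mem_normalizer_iff.1 h t).1 (Subgroup.mem_zpowers t)
  rw [mem_zpowers_iff_mem_range_orderOf, h1] at h3
  simp only [Finset.range_add_one, Finset.range_zero, Finset.image_insert, pow_one, pow_zero,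
    Finset.image_empty, Finset.mem_insert, Finset.notMem_empty, or_false, conj_eq_one_iff] at h3
  rcases h3 with h3 | rfl
  · exact mul_inv_eq_iff_eq_mul.1 h3
  · simp

end Cfsg.Agent.S1339
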