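import Cfsg.Statements.S1340
import Cfsg.Agent.H10.BlkSL
import Cfsg.Agent.H11.LowDim
import Cfsg.Agent.H1.Core

set_option autoImplicit false
open Cfsg

namespace Cfsg.Agent.S1340

open Subgroup H10.Blk in

/-- Let F be a finite field of odd order and n ≥ 3 with (n, |F|) ≠ (3, 3). Then GL(n, F) has a non-central involution t such that C(t) / O(C(t)) has a component. -/
theorem result {F : Type*} [Field F] [Fintype F] [DecidableEq F] (hF : Odd (Fintype.card F)) (n : ℕ) (hn : 3 ≤ n) (h33 : ¬ (n = 3 ∧ Fintype.card F = 3)) : ∃ t : Matrix.GeneralLinearGroup (Fin n) F, orderOf t = 2 ∧ t ∉ Subgroup.center (Matrix.GeneralLinearGroup (Fin n) F) ∧ Cfsg.HasComponent (↥(Subgroup.centralizer ({t} : Set (Matrix.GeneralLinearGroup (Fin n) F))) ⧸ Cfsg.oddCore ↥(Subgroup.centralizer ({t} : Set (Matrix.GeneralLinearGroup (Fin n) F)))) := by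
  classical
  let l : Fin n := ⟨n - 1, by omega⟩
  have h2 : (2 : F) ≠ 0 := fun h => by
    have : CharP F 2 := (CharP.charP_iff_prime_eq_zero Nat.prime_two).2 (by exact_mod_cast h)
    have := FiniteField.even_card_iff_char_two.1 (ringChar.eq F 2)
    have := Nat.odd_iff.1 hF
    omega
  have hm : (-1 : F) ≠ 1 := fun h => h2 (by linear_combination -h)
  let t : Matrix.GeneralLinearGroup (Fin n) F := ⟨tm F l, tm F l, tm_mul_tm l, tm_mul_tm l⟩
  let i0 : Fin n := ⟨0, by omega⟩
  let i1 : Fin n := ⟨1, by omega⟩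
  have hi0 : i0 ≠ l := fun h => by have := congrArg Fin.val h; simp [i0, l] at this; omega
  have hi1 : i1 ≠ l := fun h => by have := congrArg Fin.val h; simp [i1, l] at this; omega
  have hi01 : i0 ≠ i1 := fun h => by have := congrArg Fin.val h; simp [i0, i1] at this
  have hC : ∀ g : Matrix.GeneralLinearGroup (Fin n) F,
      g ∈ centralizer {t} ↔ ∀ i, i ≠ l → g.1 i l = 0 ∧ g.1 l i = 0 := fun g => by
    rw [mem_centralizer_singleton_iff, ← comm_tm l h2]
    exact ⟨fun h => congrArg Units.val h, fun h => Units.ext h⟩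
  have htc : t ∉ center (Matrix.GeneralLinearGroup (Fin n) F) := fun h => by
    have := (hC (Matrix.SpecialLinearGroup.toGL (Matrix.SpecialLinearGroup.transvection hi0 1))).1
      (mem_centralizer_singleton_iff.2 (mem_center_iff.1 h _)) i0 hi0
    have h1 : (1 + Matrix.single i0 l (1 : F)) i0 l = 0 := this.1
    simp [hi0] at h1
  refine ⟨t, orderOf_eq_prime (Units.ext (by rw [pow_two]; exact tm_mul_tm l))
    (fun h => htc (h ▸ one_mem _)), htc, ?_⟩
  set C := centralizer ({t} : Set (Matrix.GeneralLinearGroup (Fin n) F)) with hCdef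
  let χ : C →* F :=
    { toFun := fun g => g.1.1 l l
      map_one' := by simp
      map_mul' := fun g h => mul_ll l ((hC _).1 g.2) }
  let φ := Matrix.SpecialLinearGroup.toGL.comp (emb (F := F) l)
  have hφ : Function.Injective φ :=
    Matrix.SpecialLinearGroup.toGL_injective.comp (emb_injective l)
  have hcard : Fintype.card {i // i ≠ l} = n - 1 := by simp
  have : Nontrivial {i // i ≠ l} := Fintype.one_lt_card_iff_nontrivial.1 (by omega)
  have hperf : commutator (Matrix.SpecialLinearGroup {i // i ≠ l} F) = ⊤ := by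
    by_cases h3 : n = 3
    · have h4 : 4 ≤ Fintype.card F := by
        have := Fintype.one_lt_card (α := F)
        have := Nat.odd_iff.1 hF
        omega
      have e := H11.slCongr (Fintype.equivFinOfCardEq (α := {i // i ≠ l}) (n := 2) (by omega)).symm
        (RingEquiv.refl F)
      rw [← H11.map_commutator_equiv e, H11.sl2_perfect h4, map_top_of_surjective _ e.surjective]
    · exact H11.sl_commutator_eq_top (by omega)
  have hq : IsQuasisimple φ.range := H1.isQuasisimple_of_equiv (quasi_of hperf)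
    (MonoidHom.ofInjective hφ)
  have hLC : φ.range ≤ C := by
    rintro _ ⟨A, rfl⟩
    exact (hC _).2 ((mem_range l).1 ⟨A, rfl⟩).2
  have hker : φ.range.subgroupOf C =
      χ.ker ⊓ (Matrix.GeneralLinearGroup.det.comp C.subtype).ker := by
    ext g
    constructor
    · rintro ⟨A, hA⟩
      have h1 := ((mem_range l).1 ⟨A, rfl⟩).1
      refine ⟨?_, ?_⟩
      · show (C.subtype g).1 l l = 1
        rw [← hA]; exact h1
      · show Matrix.GeneralLinearGroup.det (C.subtype g) = 1
        rw [← hA]; simp [φ]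
    · rintro ⟨h1, h2⟩
      obtain ⟨B, hB⟩ : g.1 ∈ (Matrix.SpecialLinearGroup.toGL :
        Matrix.SpecialLinearGroup (Fin n) F →* _).range := by rw [H11.range_toGL]; exact h2
      have hB' : B.1 = g.1.1 := congrArg Units.val hB
      obtain ⟨A, rfl⟩ := (mem_range l (g := B)).2 (by rw [hB']; exact ⟨h1, (hC _).1 g.2⟩)
      exact ⟨A, hB⟩
  have hnorm : (φ.range.subgroupOf C).Normal := hker ▸ inferInstance
  have hcomp : IsComponent (φ.range.subgroupOf C) :=
    ⟨hnorm.isSubnormal, (H1.isQuasisimple_subgroupOf_iff hLC).2 hq⟩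
  refine ⟨_, H1.isComponent_map_of_surjective hcomp (QuotientGroup.mk'_surjective _) fun h => ?_⟩
  rw [Subgroup.map_eq_bot_iff, QuotientGroup.ker_mk'] at h
  have h01 : (⟨i0, hi0⟩ : {i // i ≠ l}) ≠ ⟨i1, hi1⟩ := fun h => hi01 (congrArg Subtype.val h)
  let x := Matrix.SpecialLinearGroup.diag2n h01 (-1 : F) (by simp)
  have hx : orderOf x = 2 := by
    refine orderOf_eq_prime (Subtype.ext ?_) fun h => ?_
    · rw [pow_two, Matrix.SpecialLinearGroup.coe_mul, Matrix.SpecialLinearGroup.diag2n_coe,
        Matrix.diagonal_mul_diagonal, Matrix.SpecialLinearGroup.coe_one, ← Matrix.diagonal_one]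
      congr 1
      ext i
      split_ifs <;> simp
    · have := congrFun (congrFun (congrArg Subtype.val h) ⟨i0, hi0⟩) ⟨i0, hi0⟩
      simp [x, Matrix.SpecialLinearGroup.diag2n] at this
      exact hm this
  have h1 := orderOf_dvd_natCard (⟨⟨φ x, hLC ⟨x, rfl⟩⟩, h ⟨x, rfl⟩⟩ : oddCore C)
  rw [← orderOf_coe, ← orderOf_coe, orderOf_injective φ hφ, hx] at h1
  exact (Nat.not_even_iff_odd.2 H1.odd_card_oddCore) (even_iff_two_dvd.2 h1)

end Cfsg.Agent.S1340
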