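import Cfsg.Statements.S1686
import Cfsg.Agent.H26.RL
import Cfsg.Agent.H26.T22
import Cfsg.Agent.H26.Fi22O
import Cfsg.Agent.H16.L.O73

set_option autoImplicit false
open Cfsg

namespace Cfsg.Agent.S1686

/-- In the presented Fischer group Fi₂₂, the subgroup generated by the images of b, …, i is isomorphic to PΩ(7, 3), the commutator subgroup of the isometry group of the quadratic form x₀² + x₁y₁ + x₂y₂ + x₃y₃ over the integers mod 3, modulo its centre. -/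
theorem result : Nonempty ((((Subgroup.closure ({Cfsg.Spor.Fi22.b, Cfsg.Spor.Fi22.c, Cfsg.Spor.Fi22.d, Cfsg.Spor.Fi22.e, Cfsg.Spor.Fi22.f, Cfsg.Spor.Fi22.g, Cfsg.Spor.Fi22.h, Cfsg.Spor.Fi22.i} : Set (FreeGroup Cfsg.Spor.Fi22.Gen))).map (PresentedGroup.mk (Cfsg.Spor.coxRelators Cfsg.Spor.Fi22.edges ∪ {r | r ∈ Cfsg.Spor.Fi22.extra})))) ≃* Cfsg.POmega (ZMod 3) (Cfsg.quadFormOdd 3 (ZMod 3))) := by
  rw [H26.Fi22.HB_eq]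
  have hb := H26.Fi22.cardLeB H26.Fi22.inv (H26.Fi22.R0_of_R2 H26.Fi22.rel)
  have := H16.O73.simple
  obtain ⟨-, ⟨e⟩⟩ := H26.ident H16.O73.bound H16.O73.rels H16.O73.card
    (H26.F22.cm1.rels H26.F22.hE (σ := [[1,2,3,8,7,8,2,1,2,4,3,7,6,5,4,3,2,1,3,2,4,3,7,3,4,2,4,5,6,3,7,8,1,3,4,7,3,2,1], [6,4,5,6,7,1,2,1,3,4,7,8,3,4,5,6,7,2,1,2,3,2,7,3,4,5,6,3,7,8,2,4,5,6,1,3,7,8,3,2,7,3,4,5,6,7,3,4,2,8], [1,2,3,7,5,4,3,2,1,3,2,4,3,7,3,4,2,3,2,7,5,6,1,2,3,7,8,2,1,3,2,7,1,3,4,5,3,7,2,3,1,2,8,7,4,5,6,3,7,8,3,4,5,7,1,2,1,3,2,4,3,4,7,8,3,4,2,4,5,6,3,7,8,1,3,4,5,7,3,2,4,6,5,4], [1], [7,1,8,6,5,6,4,5,7,1,2,3,4,7,3,2,1,3,4,5,6,1,3,7,8,3,2,7,3,4,5,6], [6,5,4,1,2,3,7,8,2,1,3,2,7,3,4,5,3,7,2,3,1,2,8,7,3,2,1,4,5,4,6,3,2,7,8,3,7,4,3,7,5,4,3,8,7,2,3,2,1,2,4,3,7,6,5,4,3,2,1,3,4,7,8,4,7], [5,2,3,6,8,6,4,7,1,2,3,4,5,7,8,2,1,3,2]])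 (by decide +kernel)) (j := 3) (by decide)
    (H26.F22.cm1.ev_ne_one (w := [1]) 0 820 (by decide +kernel))
    (H26.subG_mem fun w hw => H26.ev_mem_gen _ (H26.Tab.subL_spec
      (H26.allL_spec (f := H26.Tab.subL [1, 2, 3, 4, 5, 6, 7, 8]) (by decide +kernel) w hw))) hb.2
  exact ⟨e.trans H16.LO73.equiv.some⟩

end Cfsg.Agent.S1686
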