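import Cfsg.Statements.S1778
import Cfsg.Agent.H27.W12
import Cfsg.Agent.H27.W13
import Cfsg.Agent.H18.U58
import Cfsg.Agent.H8.U57
import Cfsg.Agent.H8.U59
import Cfsg.Agent.H18.S4L
import Cfsg.Agent.H8.S46
-- import your own Cfsg.Agent.* helpers here

set_option autoImplicit false
open Cfsg

namespace Cfsg.Agent.S1778


/-- Let G be a finite group with no nontrivial normal subgroup of odd order in which every section has the B-property; let A be a standard subgroup of G which is not normal in G, whose centre has odd order and whose centralizer has cyclic Sylow 2-subgroups, and let t be an involution centralizing A. Suppose A modulo its centre is isomorphic to one of: the projective special linear group of dimension 3, the projective symplectic group of dimension 4, or the projective special unitary group of dimension 4 or 5, over (for the unitary groups: with parameter) a field with 2^a elements, a ≥ 2; the projective special unitary group of dimension 5 with parameter 2; the Chevalley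 group of type G₂ over a field with 2^a elements, a ≥ 2; or a triality-twisted group of type D₄ in characteristic 2. Then either the layer E(G) is isomorphic to A × A, or E(G) is a group of Lie type in characteristic 2 (here including the Tits group) on which t induces an outer automorphism. -/
theorem result {G : Type*} [Group G] [Finite G] (hO : Cfsg.oddCore G = ⊥) (hB : Cfsg.HasStrongBProperty G)
    (A : Subgroup G) (hA : Cfsg.IsStandardSubgroup A) (hnA : ¬ A.Normal) (hZ : Odd (Nat.card ↥(Subgroup.center ↥A)))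
    (hR : ∀ R : Sylow 2 ↥(Subgroup.centralizer (A : Set G)), IsCyclic ↥(R : Subgroup ↥(Subgroup.centralizer (A : Set G))))
    (t : G) (ht : orderOf t = 2) (htA : t ∈ Subgroup.centralizer (A : Set G))
    (hAX : (∃ (F : Type) (_ : Field F) (_ : Fintype F) (a : ℕ), 2 ≤ a ∧ Fintype.card F = 2 ^ a ∧
        (Nonempty (↥A ⧸ Subgroup.center ↥A ≃* Matrix.ProjectiveSpecialLinearGroup (Fin 3) F) ∨ Nonempty (↥A ⧸ Subgroup.center ↥A ≃* Cfsg.PSp 2 F) ∨
          Nonempty (↥A ⧸ Subgroup.center ↥A ≃* ↥(Cfsg.Lie.chevG2.group F)))) ∨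
      (∃ (F : Type) (_ : Field F) (_ : Fintype F) (a : ℕ), 2 ≤ a ∧ Fintype.card F = 4 ^ a ∧
        (Nonempty (↥A ⧸ Subgroup.center ↥A ≃* Cfsg.PSU 4 F (2 ^ a)) ∨ Nonempty (↥A ⧸ Subgroup.center ↥A ≃* Cfsg.PSU 5 F (2 ^ a)))) ∨
      (∃ (F : Type) (_ : Field F) (_ : Fintype F), Fintype.card F = 4 ∧ Nonempty (↥A ⧸ Subgroup.center ↥A ≃* Cfsg.PSU 5 F 2)) ∨
      (∃ (K : Type) (_ : Field K) (_ : Fintype K) (a : ℕ), 1 ≤ a ∧ Fintype.card K = 8 ^ a ∧ Nonempty (↥A ⧸ Subgroup.center ↥A ≃* ↥(Cfsg.Lie.twistedD4 K (2 ^ a))))) :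
    Nonempty (↥(Cfsg.layer G) ≃* ↥A × ↥A) ∨ ((Cfsg.IsLieTypeChar 2 ↥(Cfsg.layer G) ∨ Cfsg.Lie.IsoTits ↥(Cfsg.layer G)) ∧ ¬ (∃ e : G, e ∈ Cfsg.layer G ∧ ∀ x ∈ Cfsg.layer G, t * x * t⁻¹ = e * x * e⁻¹)) := by
  exact H27.R2.glue (H27.S4.main H18.S4.rl4 H18.S4.rl5 H8.S4.lu) (H18.U5.red H8.U5.fus H8.U5.es5) hO hB hA hnA hZ hR ht htA hAX

end Cfsg.Agent.S1778
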