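import Cfsg.Statements.S1786
import Cfsg.Agent.H29.TI1
import Cfsg.Agent.H1.GFitting

set_option autoImplicit false
open Cfsg

namespace Cfsg.Agent.S1786

open H28 H29 H29.TI Subgroup

/-- Let G be a finite group, V an elementary abelian 2-subgroup of G and M the normalizer of V; write Q for the largest normal 2-subgroup of M. Suppose (1) the generalized Fitting subgroup of M equals Q; (2) V is a maximal abelian normal subgroup of M; (3) every conjugate of V equals V or meets V trivially, and for some g ∈ G the conjugate V' = g V g⁻¹ is different from V and contained in Q. Let P be the centralizer of V in Q, W the subgroup generated by V and V', and H the subgroup generated by P and g P g⁻¹. Then: (a) V is contained in g Q g⁻¹; (b) every non-identity element of W lies in exactly one conjugate of V contained in W, H normalizes W, and H modulo the centralizer of W in H is isomorphic to the special linear group of dimension 2 over the field with |V| elements; (c) P = Q, and V equals the Frattini subgroup,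 the centre and the commutator subgroup of Q. -/
theorem result {G : Type*} [Group G] [Finite G] (V : Subgroup G)
    (hV : Cfsg.IsElementaryAbelian 2 V)
    (h1 : (Cfsg.generalizedFittingSubgroup ↥(Subgroup.normalizer (V : Set G))).map (Subgroup.normalizer (V : Set G)).subtype =
      (Cfsg.pCore 2 ↥(Subgroup.normalizer (V : Set G))).map (Subgroup.normalizer (V : Set G)).subtype)
    (h2 : ∀ A : Subgroup G, V ≤ A → A ≤ Subgroup.normalizer (V : Set G) → IsMulCommutative ↥A →
      (∀ m ∈ Subgroup.normalizer (V : Set G), ∀ a ∈ A, m * a * m⁻¹ ∈ A) → A = V)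
    (hti : ∀ x : G, V.map (MulAut.conj x).toMonoidHom = V ∨ V.map (MulAut.conj x).toMonoidHom ⊓ V = ⊥)
    (g : G) (hg : V.map (MulAut.conj g).toMonoidHom ≠ V)
    (hgQ : V.map (MulAut.conj g).toMonoidHom ≤ (Cfsg.pCore 2 ↥(Subgroup.normalizer (V : Set G))).map (Subgroup.normalizer (V : Set G)).subtype) :
    let Q : Subgroup G := (Cfsg.pCore 2 ↥(Subgroup.normalizer (V : Set G))).map (Subgroup.normalizer (V : Set G)).subtype
    let P : Subgroup G := Q ⊓ Subgroup.centralizer (V : Set G)
    let W : Subgroup G := V ⊔ V.map (MulAut.conj g).toMonoidHom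
    let H : Subgroup G := P ⊔ P.map (MulAut.conj g).toMonoidHom
    V ≤ Q.map (MulAut.conj g).toMonoidHom ∧
      (∀ w ∈ W, w ≠ 1 → ∃! U : Subgroup G, (∃ x : G, U = V.map (MulAut.conj x).toMonoidHom) ∧ U ≤ W ∧ w ∈ U) ∧
      H ≤ Subgroup.normalizer (W : Set G) ∧
      (∀ hN : ((Subgroup.centralizer (W : Set G)).subgroupOf H).Normal, ∃ (F : Type) (_ : Field F) (_ : Fintype F), Fintype.card F = Nat.card ↥V ∧
        Nonempty (↥H ⧸ (Subgroup.centralizer (W : Set G)).subgroupOf H ≃* Matrix.SpecialLinearGroup (Fin 2) F)) ∧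
      P = Q ∧ (frattini ↥Q).map Q.subtype = V ∧ (Subgroup.center ↥Q).map Q.subtype = V ∧ (commutator ↥Q).map Q.subtype = V := by
  haveI : Fact (Nat.Prime 2) := ⟨Nat.prime_two⟩
  have hy : Hy V := ⟨hV, isCharP_iff.2 (H1.gf_eq_pCore_iff.1 (map_injective (subtype_injective _) h1)),
    fun A a b c d => h2 A a b (le_centralizer_self_iff.1 c) fun m hm x hx =>
      conj_mem_of_mem_normalizer (d hm) hx, hti⟩
  have h : Pr V (cj g V) := ⟨hy, ⟨g, rfl⟩, hg, le_inf hgQ (hy.comm ⟨g, rfl⟩ (hgQ.trans (pCoreOf_le 2 _)))⟩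
  intro Q P W H
  have eP : P = Pf V := rfl
  have eQ : Pf V = Q := h.PQ
  have eH : Pf V ⊔ Pf (cj g V) = H := by rw [← cj_Pf]; rfl
  refine ⟨?_, fun w hw h0 => h.part hw h0, eH ▸ h.nH, fun hN => h.sl2 eH, eQ, eQ ▸ h.frat, ?_, ?_⟩
  · rw [← eQ, cj_Pf]; exact h.symm.le
  · rw [← eQ]
    refine le_antisymm ?_ fun v hv => ⟨⟨v, hy.le hv⟩, mem_center_iff.2 fun x =>
      Subtype.ext (mem_centralizer'.1 (Pf_c x.2) v hv).symm, rfl⟩
    rintro _ ⟨z, hz, rfl⟩
    exact hy.cen z.2 (mem_centralizer'.2 fun x hx => congrArg Subtype.val (mem_center_iff.1 hz ⟨x, hx⟩))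
  · rw [← eQ, commutator_def, map_commutator, ← MonoidHom.range_eq_map, range_subtype, h.der]

end Cfsg.Agent.S1786
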