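import Cfsg.Statements.S1823
import Cfsg.Agent.H28.SP2
import Cfsg.Agent.H28.PT7

set_option autoImplicit false
open Cfsg

namespace Cfsg.Agent.S1823

/-- A common nontrivial normal 2-subgroup for a pair of 2-local-type subgroups over a Sylow 2-subgroup of a simple QTKE-group. Let G be a non-abelian finite simple QTKE-group and T a Sylow 2-subgroup of G. Let M₀ and H be subgroups of G containing T with O₂(M₀) ≠ 1 and O₂(H) ≠ 1, such that T lies in a unique maximal subgroup of H. Let R be a nontrivial subgroup of T that is a Sylow 2-subgroup of O²(H)R and is normalized by M₀. Then some nontrivial subgroup R₀ of R is normalized by both M₀ and H (that is, R₀ is normal in ⟨M₀, H⟩). -/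
theorem result {G : Type*} [Group G] [Finite G] [IsSimpleGroup G]
    (hG : ¬ IsMulCommutative G) (hQ : Cfsg.IsQTKE G) (T : Sylow 2 G) (M₀ H : Subgroup G)
    (hM₀ : M₀ ∈ Cfsg.calHOver (T : Subgroup G)) (hH : H ∈ Cfsg.calHOver (T : Subgroup G))
    (hU : ∃! K : Subgroup ↥H, IsCoatom K ∧ (T : Subgroup G).subgroupOf H ≤ K)
    (R : Subgroup G) (hR : R ≠ ⊥) (hRT : R ≤ (T : Subgroup G))
    (hRS : ∃ P : Sylow 2 ↥(Cfsg.oddGenerated H ⊔ R),
      (P : Subgroup ↥(Cfsg.oddGenerated H ⊔ R)) = R.subgroupOf (Cfsg.oddGenerated H ⊔ R))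
    (hRM : M₀ ≤ Subgroup.normalizer (R : Set G)) :
    ∃ R₀ : Subgroup G, R₀ ≠ ⊥ ∧ R₀ ≤ R ∧ M₀ ⊔ H ≤ Subgroup.normalizer (R₀ : Set G) := by
  rw [H28.GC.odd_eq] at hRS
  obtain ⟨M, u⟩ := H28.existsUnique_coatom_iff.1 hU
  replace u := u.map_of_injective H.subtype_injective
  rw [H28.map_subtype_subgroupOf hH.2, H28.map_subtype_top] at u
  obtain ⟨P, e⟩ := hRS
  have s := H28.isSylowIn_map_subtype P
  rw [e, H28.map_subtype_subgroupOf le_sup_right] at s
  exact H28.GC.common (fun D a b c => H28.isCharP_iff.2 (hQ.2.2 _ ⟨D, a, b, rfl⟩ ⟨T, c⟩)) (H28.isSylowIn_top T)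
    (mt H28.pCoreOf_eq_bot_iff.1 hH.1) u hM₀.2 s hR hRT hRM

end Cfsg.Agent.S1823
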