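import Cfsg.Statements.S1910
import Cfsg.Agent.H29.Tight

set_option autoImplicit false
open Cfsg

namespace Cfsg.Agent.S1910

open H28 H29 Subgroup


/-- Let Q be a tightly embedded subgroup of a finite group G, g an element outside N_G(Q), T a nontrivial Sylow 2-subgroup of Q^g ∩ N_G(Q), and S a Sylow 2-subgroup of QT containing T. Then T ∩ Q = 1, and N_S(T) is the direct product of T and N_S(T) ∩ Q, with N_S(T) ∩ Q isomorphic to T. -/
theorem result {G : Type*} [Group G] [Finite G] (Q : Subgroup G) (hQ : Cfsg.IsTightlyEmbedded Q)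
    (g : G) (hg : g ∉ Subgroup.normalizer (Q : Set G))
    (T : Subgroup G) (hT1 : T ≠ ⊥) (hT : T ≤ Q.map (MulAut.conj g).toMonoidHom ⊓ Subgroup.normalizer (Q : Set G))
    (hTsyl : IsPGroup 2 T ∧ ¬ 2 ∣ T.relIndex (Q.map (MulAut.conj g).toMonoidHom ⊓ Subgroup.normalizer (Q : Set G)))
    (S : Subgroup G) (hTS : T ≤ S) (hS : S ≤ Q ⊔ T) (hSsyl : IsPGroup 2 S ∧ ¬ 2 ∣ S.relIndex (Q ⊔ T)) :
    T ⊓ Q = ⊥ ∧
      T ⊓ (S ⊓ Subgroup.normalizer (T : Set G) ⊓ Q) = ⊥ ∧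
      ⁅T, S ⊓ Subgroup.normalizer (T : Set G) ⊓ Q⁆ = ⊥ ∧
      T ⊔ (S ⊓ Subgroup.normalizer (T : Set G) ⊓ Q) = S ⊓ Subgroup.normalizer (T : Set G) ∧
      Nonempty (↥(S ⊓ Subgroup.normalizer (T : Set G) ⊓ Q) ≃* T) := by
  haveI : Fact (Nat.Prime 2) := ⟨Nat.prime_two⟩
  have h1 := tight_inf hQ hg hTsyl.1 (hT.trans inf_le_left)
  refine ⟨h1, ?_, ?_, tight_sup (hT.trans inf_le_right) hTS hS, tight_equiv hQ hg hT1
    (isSylowIn_of_not_dvd_relIndex hT hTsyl.1 hTsyl.2) hTS (isSylowIn_of_not_dvd_relIndex hS hSsyl.1 hSsyl.2)⟩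
  · exact le_bot_iff.1 ((inf_le_inf_left _ inf_le_right).trans h1.le)
  · refine le_bot_iff.1 (le_trans (le_inf (commutator_le_of_le_normalizer (inf_le_left.trans inf_le_right)) ?_) h1.le)
    exact (Subgroup.commutator_mono le_rfl inf_le_right).trans
      (commutator_le_of_le_normalizer' (hT.trans inf_le_right))

end Cfsg.Agent.S1910
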