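import Cfsg.Statements.S1913
import Cfsg.Agent.H3.ZDApp

set_option autoImplicit false
open Cfsg

namespace Cfsg.Agent.S1913

/-- Let z be an involution in the centre of a Sylow 2-subgroup of a finite group G and H a proper subgroup such that z ∈ gHg⁻¹ exactly when g ∈ H, and such that for every involution u commuting with z whose centralizer is not contained in H, the subgroup H ∩ L is strongly embedded in L = ⟨G-conjugates of z commuting with u⟩. Then, with K the normal closure of z in G, H ∩ K is strongly embedded in K. -/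
theorem result {G : Type*} [Group G] [Finite G] (P : Sylow 2 G) (z : G) (hz2 : orderOf z = 2)
    (hzP : z ∈ (Subgroup.center ↥(P : Subgroup G)).map (P : Subgroup G).subtype)
    (H : Subgroup G) (hH : H ≠ ⊤) (hi : ∀ g : G, z ∈ H.map (MulAut.conj g).toMonoidHom ↔ g ∈ H)
    (hii : ∀ u : G, orderOf u = 2 → u * z = z * u → ¬ Subgroup.centralizer ({u} : Set G) ≤ H →
      Cfsg.IsStronglyEmbedded (H.subgroupOf (Subgroup.closure {x : G | IsConj z x ∧ x * u = u * x}))) :
    Cfsg.IsStronglyEmbedded (H.subgroupOf (Subgroup.normalClosure ({z} : Set G))) := by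
  have hS := H19.syl_sylow_top P
  have h1 : (P : Subgroup G) ≤ Subgroup.centralizer {z} := fun s hs => by
    obtain ⟨y, h, rfl⟩ := hzP
    exact H19.mem_cent1.2 (congrArg Subtype.val (Subgroup.mem_center_iff.1 h ⟨s, hs⟩))
  have h := H3.ZD.zs_cent (H := H) hz2 (by simpa using (hi 1).2 (one_mem _)) hS h1
    (fun g e => inv_mem_iff.1 ((hi g⁻¹).1 (H19.mem_cj_inv.2 e))) fun u hu e1 e2 v hv e3 => by_contra fun e4 => by
      obtain ⟨g, rfl⟩ := H3.ZD.mem_cl.1 hu
      have z2 := (H18.Be.of_ord2 hz2).2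
      have u2 := H18.Be.ord2 (fun e => e2 (H3.ZD.eq_of_mul_eq_one (H18.Be.cj_sq z2 g) e).symm)
        (H3.ZD.sq_mul_comm z2 (H18.Be.cj_sq z2 g) e1)
      have zH : z ∈ H := by simpa using (hi 1).2 (one_mem _)
      have e5 : z * (g * z * g⁻¹) ∈ H := mul_mem zH (inv_mem_iff.1 ((hi _).1 (H19.mem_cj_inv.2 (by
        rwa [← e1, mul_inv_cancel_right]))))
      refine e4 (H10.SE.mem (hii _ u2 (by rw [mul_assoc, ← e1]) fun e => e4 (e e3))
        (t := ⟨_, mul_mem (Subgroup.subset_closure ⟨IsConj.refl z, by rw [mul_assoc z, ← e1]⟩)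
          (Subgroup.subset_closure ⟨hu, by rw [← mul_assoc, ← e1]⟩)⟩)
        (g := ⟨v, Subgroup.subset_closure ⟨hv, H19.mem_cent1.1 e3⟩⟩) e5 ((Subgroup.orderOf_mk _ _).trans u2) ?_)
      change v * _ * v⁻¹ ∈ H
      rwa [H19.mem_cent1.1 e3, mul_inv_cancel_right]
  rw [H3.ZD.cl_eq]
  refine h.se' hH (IsConj.refl z) fun x h2 h3 h4 => ?_
  obtain ⟨g, -, e⟩ := hS.scj_le (le_top : Subgroup.zpowers x ≤ ⊤) (H18.Be.pg_two (H18.Be.of_ord2 h3).2)
  have e1 := (H19.orderOf_conj' g x).trans h3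
  exact ⟨_, H3.ZD.cl_eq z ▸ Subgroup.normalClosure_normal.conj_mem x (H3.ZD.cl_eq z ▸ h2) g, e1,
    (H.normalCore_normal).conj_mem x h4 g, hii _ e1 (H19.mem_cent1.1 (h1 (e (H19.conj_mem_cj.2 (Subgroup.mem_zpowers x)))))⟩

end Cfsg.Agent.S1913
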