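import Cfsg.Statements.S1921
import Cfsg.Agent.H29.CMod
import Cfsg.Agent.H1.Layer

set_option autoImplicit false
open Cfsg

namespace Cfsg.Agent.S1921

open H28 H29 Subgroup


/-- Let a be an involution of a finite group H and L a component of H with a L a⁻¹ ≠ L; put M = ⟨L, aLa⁻¹⟩ and let J be the subgroup generated by the elements x · a x a⁻¹ with x ∈ L (the diagonal). Then every element of M outside J·Z(M) generates M together with J. -/
theorem result {H : Type*} [Group H] [Finite H] (a : H) (ha : orderOf a = 2) (L : Subgroup H) (hL : Cfsg.IsComponent L)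
    (hLa : L.map (MulAut.conj a).toMonoidHom ≠ L) (x : H) (hxM : x ∈ L ⊔ L.map (MulAut.conj a).toMonoidHom)
    (hxJ : x ∉ Subgroup.closure {y : H | ∃ l ∈ L, y = l * (a * l * a⁻¹)} ⊔
      ((L ⊔ L.map (MulAut.conj a).toMonoidHom) ⊓ Subgroup.centralizer ((L ⊔ L.map (MulAut.conj a).toMonoidHom : Subgroup H) : Set H))) :
    Subgroup.closure {y : H | ∃ l ∈ L, y = l * (a * l * a⁻¹)} ⊔ Subgroup.zpowers x = L ⊔ L.map (MulAut.conj a).toMonoidHom := by
  set J := Subgroup.closure {y : H | ∃ l ∈ L, y = l * (a * l * a⁻¹)} with hJ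
  have hc : L ≤ 𝐂 (cj a L) := H28.commutator_eq_bot_iff.1
    (H1.commutator_eq_bot_of_component_ne hL (H1.isComponent_conj hL a) hLa.symm)
  have hJm : ∀ l ∈ L, l * (a * l * a⁻¹) ∈ J := fun l hl => subset_closure ⟨l, hl, rfl⟩
  have hJM : J ≤ L ⊔ cj a L := (closure_le _).2 (by
    rintro _ ⟨l, hl, rfl⟩; exact mul_mem (mem_sup_left hl) (mem_sup_right (conj_mem_cj hl)))
  refine le_antisymm (sup_le hJM (zpowers_le.2 hxM)) ?_
  obtain ⟨l, hl, _, ⟨m, hm, rfl⟩, rfl⟩ := (mem_sup_of_le_normalizer (le_normalizer_of_le_centralizer hc)).1 hxM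
  simp only [MulEquiv.coe_toMonoidHom, MulAut.conj_apply] at hxJ ⊢
  set K := J ⊔ zpowers (l * (a * m * a⁻¹)) with hK
  have e : l * (a * m * a⁻¹) = l * m⁻¹ * (m * (a * m * a⁻¹)) := by group
  have h1 : l * m⁻¹ ∈ K ⊓ L := ⟨by
    have := K.mul_mem (mem_sup_right (mem_zpowers _)) (K.inv_mem (mem_sup_left (hJm m hm)))
    rwa [e, mul_inv_cancel_right] at this, L.mul_mem hl (L.inv_mem hm)⟩
  have h2 : L ≤ 𝐍 (K ⊓ L) := by
    refine le_normalizer_of_cj_le fun g hg => ?_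
    rintro _ ⟨y, hy, rfl⟩
    refine ⟨?_, L.mul_mem (L.mul_mem hg hy.2) (L.inv_mem hg)⟩
    have h3 := K.mul_mem (K.mul_mem (mem_sup_left (hJm g hg)) hy.1) (K.inv_mem (mem_sup_left (hJm g hg)))
    have h4 := mem_centralizer'.1 (hc hy.2) _ (conj_mem_cj (g := a) hg)
    have : g * (a * g * a⁻¹) * y * (g * (a * g * a⁻¹))⁻¹ = g * y * g⁻¹ := by
      rw [mul_assoc g, h4]; group
    rwa [this] at h3
  rcases H1.Quasisimple.eq_or_le_centralizer hL.2 inf_le_right h2 with h | h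
  · have h3 : L ≤ K := inf_eq_right.1 h
    refine sup_le h3 ?_
    rintro _ ⟨y, hy, rfl⟩
    have := K.mul_mem (K.inv_mem (h3 hy)) (mem_sup_left (hJm y hy))
    simpa using this
  · refine (hxJ ?_).elim
    rw [e]
    refine mul_mem (mem_sup_right ⟨mem_sup_left h1.2, ?_⟩) (mem_sup_left (hJm m hm))
    rw [centralizer_sup]
    exact ⟨h h1, hc h1.2⟩

end Cfsg.Agent.S1921
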