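import Cfsg.Statements.S1922
import Cfsg.Agent.H10.Count
import Cfsg.Agent.H29.Sm1
import Cfsg.Agent.H28.Sylow

set_option autoImplicit false
open Cfsg

namespace Cfsg.Agent.S1922

open H28 H29 Subgroup

theorem isConj_mul_zpow {G : Type*} [Group G] {v w : G} (hv : v * v = 1) (hw : w * w = 1) (h : IsConj v w)
    (k : ℤ) : IsConj v (v * (v * w) ^ k) := by
  have h1 := H10.inverts_left hv hw
  obtain ⟨j, rfl | rfl⟩ := Int.even_or_odd' k
  · refine isConj_iff.2 ⟨(v * w) ^ (-j), ?_⟩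
    rw [H10.zpow_conj_of_inverts h1]; congr 2; ring
  · refine h.trans (isConj_iff.2 ⟨(v * w) ^ (-j), ?_⟩)
    have e : w = v * (v * w) := by rw [← mul_assoc, hv, one_mul]
    have e2 := H10.zpow_conj_of_inverts h1 (-j)
    generalize v * w = a at e e2
    calc a ^ (-j) * w * (a ^ (-j))⁻¹ = (a ^ (-j) * v * (a ^ (-j))⁻¹) * a := by rw [e]; group
      _ = _ := by rw [e2]; group

/-- Let z be an involution of a finite group G and H a proper subgroup such that z lies in gHg⁻¹ exactly when g ∈ H. Then the following are equivalent: (1) for every conjugate t ≠ z of z commuting with z, the product zt lies in gHg⁻¹ exactly when g ∈ H; (2) z lies in the centre of some Sylow 2-subgroup of G, and for every conjugate t ≠ z of z commuting with z, the centralizer of zt is contained in H. -/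
theorem result {G : Type*} [Group G] [Finite G] (z : G) (hz : orderOf z = 2) (H : Subgroup G) (hH : H ≠ ⊤)
    (h0 : ∀ g : G, z ∈ H.map (MulAut.conj g).toMonoidHom ↔ g ∈ H) :
    (∀ t : G, IsConj z t → t ≠ z → t * z = z * t → ∀ g : G, z * t ∈ H.map (MulAut.conj g).toMonoidHom ↔ g ∈ H) ↔
      ((∃ P : Sylow 2 G, z ∈ (Subgroup.center ↥(P : Subgroup G)).map (P : Subgroup G).subtype) ∧
        ∀ t : G, IsConj z t → t ≠ z → t * z = z * t → Subgroup.centralizer ({z * t} : Set G) ≤ H) := by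
  haveI : Fact (Nat.Prime 2) := ⟨Nat.prime_two⟩
  have hzH : z ∈ H := by simpa [cj_one] using (h0 1).2 H.one_mem
  have hC : centralizer {z} ≤ H := fun c hc => (h0 c).1 (by
    rw [← H10.mem_centralizer_singleton'.1 hc]; exact conj_mem_cj hzH)
  have o2 : ∀ v, IsConj z v → orderOf v = 2 := fun v h => (H10.orderOf_eq_of_isConj h).symm.trans hz
  have sq : ∀ v, IsConj z v → v * v = 1 := fun v h => H10.mul_self_of_orderOf_two (o2 v h)
  have hin : ∀ a : G, a * z * a⁻¹ ∈ H → a ∈ H := fun a ha =>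
    H.inv_mem_iff.1 ((h0 a⁻¹).1 (mem_cj.2 (by rwa [inv_inv])))
  constructor
  · intro h1
    refine ⟨?_, fun t ht hne hc c hc' => (h1 t ht hne hc c).1 ?_⟩
    swap
    · rw [← H10.mem_centralizer_singleton'.1 hc']
      exact conj_mem_cj (by simpa [cj_one] using (h1 t ht hne hc 1).2 H.one_mem)
    have uq : ∀ v t, IsConj z v → IsConj z t → t ≠ v → t * v = v * t → ∀ g g', v * t ∈ cj g H →
        v * t ∈ cj g' H → g⁻¹ * g' ∈ H := by
      intro v t hv ht hne hc
      obtain ⟨a, rfl⟩ := isConj_iff.1 hv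
      have := h1 (a⁻¹ * t * a) (ht.trans (isConj_iff.2 ⟨a⁻¹, by group⟩)) (fun e => hne (by rw [← e]; group))
        (by calc a⁻¹ * t * a * z = a⁻¹ * (t * (a * z * a⁻¹)) * a := by group
          _ = _ := by rw [hc]; group)
      have k : ∀ g, a * z * a⁻¹ * t ∈ cj g H → a⁻¹ * g ∈ H := fun g hg => (this _).1 (by
        rw [mem_cj] at hg ⊢
        convert hg using 1; group)
      intro g g' hg hg'
      simpa using H.mul_mem (H.inv_mem (k g hg)) (k g' hg')
    have fx : ∀ a c : G, Commute c (a * z * a⁻¹) → c ∈ cj a H := fun a c hc => by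
      refine cj_mono a hC ?_
      rw [cj_centralizer_singleton]
      exact H10.mem_centralizer_iff_commute.2 hc
    have odd : ∀ a b : G, a⁻¹ * b ∉ H → Odd (orderOf ((a * z * a⁻¹) * (b * z * b⁻¹))) := by
      intro a b hab
      have ha : IsConj z (a * z * a⁻¹) := isConj_iff.2 ⟨a, rfl⟩
      have hb : IsConj z (b * z * b⁻¹) := isConj_iff.2 ⟨b, rfl⟩
      by_contra ho
      obtain ⟨c1, c2, c3⟩ := H10.exists_central_invol_of_even (sq _ ha) (sq _ hb) (orderOf_pos _).ne'
        (Nat.not_odd_iff_even.1 ho)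
      have h4 := isConj_mul_zpow (sq _ ha) (sq _ hb) (ha.symm.trans hb)
        ((orderOf ((a * z * a⁻¹) * (b * z * b⁻¹)) / 2 : ℕ) : ℤ)
      rw [zpow_natCast] at h4
      have f1 := fx a _ c2
      have f2 := fx b _ c3
      generalize ((a * z * a⁻¹) * (b * z * b⁻¹)) ^ (orderOf ((a * z * a⁻¹) * (b * z * b⁻¹)) / 2) = c
        at c1 c2 h4 f1 f2
      have e : a * z * a⁻¹ * (a * z * a⁻¹ * c) = c := by rw [← mul_assoc, sq _ ha, one_mul]
      refine hab (uq _ _ ha (ha.trans h4) (fun e => H10.ne_one_of_orderOf_two c1 (by simpa using e)) ?_ a b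
        (by rwa [e]) (by rwa [e]))
      rw [e, mul_assoc, c2.eq, e]
    obtain ⟨b, hb⟩ : ∃ b, b ∉ H := by
      by_contra hn
      push Not at hn
      exact hH ((eq_top_iff' _).2 hn)
    have hw : IsConj z (b * z * b⁻¹) := isConj_iff.2 ⟨b, rfl⟩
    have hin' : ∀ a : G, a * z * a⁻¹ ∈ cj b H → b⁻¹ * a ∈ H := fun a ha => hin _ (by
      rw [mem_cj] at ha
      convert ha using 1; group)
    have hX : Set.BijOn (fun v => v * (b * z * b⁻¹) * v⁻¹) {v | IsConj z v ∧ v ∉ cj b H}
        {v | IsConj z v ∧ v ∉ cj b H} := by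
      refine ((Set.toFinite _).surjOn_iff_bijOn_of_mapsTo ?_).1 ?_
      · rintro v ⟨hv, hv'⟩
        refine ⟨hw.trans (isConj_iff.2 ⟨v, rfl⟩), fun h => hv' (mem_cj.2 ?_)⟩
        have := hin' (v * b) (by convert h using 1; group)
        rwa [← mul_assoc] at this
      · rintro x ⟨hx, hx'⟩
        obtain ⟨a, rfl⟩ := isConj_iff.1 hx
        have ho := odd b a (fun h => hx' (mem_cj.2 (by
          convert H.mul_mem (H.mul_mem h hzH) (H.inv_mem h) using 1; group)))
        obtain ⟨k, hk⟩ := H10.exists_zpow_conj_of_odd (sq _ hw) (sq _ hx) ho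
        have h4 := isConj_mul_zpow (sq _ hw) (sq _ hx) (hw.symm.trans hx) (-k)
        rw [← H10.zpow_mul_of_inverts (H10.inverts_left (sq _ hw) (sq _ hx))] at h4
        have e : (b * z * b⁻¹ * (a * z * a⁻¹)) ^ k * (b * z * b⁻¹) * (b * z * b⁻¹) *
            ((b * z * b⁻¹ * (a * z * a⁻¹)) ^ k * (b * z * b⁻¹))⁻¹ = a * z * a⁻¹ := by
          refine Eq.trans ?_ hk
          generalize (b * z * b⁻¹ * (a * z * a⁻¹)) ^ k = y
          group
        refine ⟨_, ⟨hw.trans h4, fun h => hx' ?_⟩, e⟩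
        rw [← e]
        exact mul_mem (mul_mem h (conj_mem_cj hzH)) (inv_mem h)
    have hVX : {v | IsConj z v ∧ v * b ∈ H} ⊆ {v | IsConj z v ∧ v ∉ cj b H} := by
      rintro v ⟨hv, hv'⟩
      refine ⟨hv, fun h => hb ?_⟩
      simpa [mul_assoc] using H.mul_mem hv' (H.inv_mem (mem_cj.1 h))
    have hV : Set.BijOn (fun v => v * (b * z * b⁻¹) * v⁻¹) {v | IsConj z v ∧ v * b ∈ H}
        {v | IsConj z v ∧ v ∈ H} := by
      refine ⟨?_, hX.injOn.mono hVX, ?_⟩
      · rintro v ⟨hv, hv'⟩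
        refine ⟨hw.trans (isConj_iff.2 ⟨v, rfl⟩), ?_⟩
        convert H.mul_mem (H.mul_mem hv' hzH) (H.inv_mem hv') using 1; group
      · rintro x ⟨hx, hx'⟩
        obtain ⟨v, hv, e⟩ := hX.surjOn (show x ∈ {v | IsConj z v ∧ v ∉ cj b H} from ⟨hx, fun h => by
          obtain ⟨a, rfl⟩ := isConj_iff.1 hx
          exact hb (by simpa using H.mul_mem (hin a hx') (H.inv_mem (hin' a h)))⟩)
        exact ⟨v, ⟨hv.1, hin _ (by convert hx' using 1; rw [← e]; group)⟩, e⟩
    obtain ⟨v, hv, -⟩ := hV.surjOn (show z ∈ {v | IsConj z v ∧ v ∈ H} from ⟨IsConj.refl z, hzH⟩)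
    have iv : ∀ v, IsConj z v → ∀ x : G, v * (v * x * v⁻¹) * v⁻¹ = x := fun v hv x => by
      calc v * (v * x * v⁻¹) * v⁻¹ = (v * v) * x * (v * v)⁻¹ := by group
        _ = x := by rw [sq v hv]; group
    have m1 := ncard_modEq_of_involutive (X := {v | IsConj z v ∧ v * b ∈ H}) (f := fun x => v * x * v⁻¹)
      (fun x hx => ⟨hx.1.trans (isConj_iff.2 ⟨v, rfl⟩), by
        have e1 : v⁻¹ = v := inv_eq_of_mul_eq_one_right (sq v hv.1)
        have e2 : x⁻¹ = x := inv_eq_of_mul_eq_one_right (sq x hx.1)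
        have := H.mul_mem (H.mul_mem hv.2 (H.inv_mem hx.2)) hv.2
        rw [mul_inv_rev, e2] at this
        rw [e1]
        convert this using 1; group⟩) (fun x _ => iv v hv.1 x)
    have e1 : {x ∈ {v | IsConj z v ∧ v * b ∈ H} | v * x * v⁻¹ = x} = {v} := by
      refine Set.eq_singleton_iff_unique_mem.2 ⟨⟨hv, by group⟩, fun x ⟨hx, hx'⟩ => ?_⟩
      by_contra hne
      have e2 : x⁻¹ = x := inv_eq_of_mul_eq_one_right (sq x hx.1)
      have e3 : v⁻¹ = v := inv_eq_of_mul_eq_one_right (sq v hv.1)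
      refine hb (by
        simpa using uq v x hv.1 hx.1 hne (by rw [← mul_inv_eq_iff_eq_mul.1 hx']) 1 b (by
          have := H.mul_mem hv.2 (H.inv_mem hx.2)
          rw [mul_inv_rev, e2] at this
          rw [cj_one]
          convert this using 1; group) (by
          have := H.mul_mem (H.inv_mem hv.2) hx.2
          rw [mul_inv_rev, e3] at this
          rw [mem_cj]
          convert this using 1; group))
    rw [e1, Set.ncard_singleton, hV.ncard_eq] at m1
    have m2 := ncard_modEq_of_involutive (X := {v | IsConj z v ∧ v ∈ H}) (f := fun x => z * x * z⁻¹)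
      (fun x hx => ⟨hx.1.trans (isConj_iff.2 ⟨z, rfl⟩), H.mul_mem (H.mul_mem hzH hx.2) (H.inv_mem hzH)⟩)
      (fun x _ => iv z (IsConj.refl z) x)
    have m3 := ncard_modEq_of_involutive (X := {v | IsConj z v}) (f := fun x => z * x * z⁻¹)
      (fun x hx => IsConj.trans hx (isConj_iff.2 ⟨z, rfl⟩)) (fun x _ => iv z (IsConj.refl z) x)
    have e2 : {x ∈ {v | IsConj z v ∧ v ∈ H} | z * x * z⁻¹ = x} = {x ∈ {v | IsConj z v} | z * x * z⁻¹ = x} := by
      ext x
      exact ⟨fun h => ⟨h.1.1, h.2⟩, fun h => ⟨⟨h.1, hC (mem_centralizer_singleton_iff.2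
        (mul_inv_eq_iff_eq_mul.1 h.2).symm)⟩, h.2⟩⟩
    rw [e2] at m2
    have m4 := (m3.trans m2.symm).trans m1
    rw [← Nat.card_coe_set_eq] at m4
    have m5 : ¬ 2 ∣ (centralizer {z}).index := by
      rw [← H10.card_isConj_eq_index]
      intro hd
      exact absurd (((Nat.modEq_zero_iff_dvd.2 hd).symm).trans m4) (by decide)
    obtain ⟨T, hT, hzT⟩ := exists_isSylowIn_ge (p := 2) (isPGroup_zpowers (k := 1) (x := z) (by
      rw [← hz]; simp)) (zpowers_le.2 (H10.self_mem_centralizer z))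
    obtain ⟨P, hP⟩ := (hT.trans le_top (by rwa [relIndex_top_right])).exists_sylow_top
    refine ⟨P, ⟨z, hP ▸ hzT (mem_zpowers z)⟩, Subgroup.mem_center_iff.2 fun y => Subtype.ext ?_, rfl⟩
    exact mem_centralizer_singleton_iff.1 (hT.le (hP ▸ y.2))
  · rintro ⟨⟨P, z', hz', rfl⟩, h2⟩ t ht hne hc g
    have hu : (z' : G) * t ∈ H := H.mul_mem hzH (hC (mem_centralizer_singleton_iff.2 hc))
    refine ⟨fun h => ?_, fun h => by rwa [cj_eq_self_of_mem h]⟩
    have hPC : (P : Subgroup G) ≤ centralizer {(z' : G)} := fun y hy =>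
      mem_centralizer_singleton_iff.2 (congrArg Subtype.val (Subgroup.mem_center_iff.1 hz' ⟨y, hy⟩))
    have hS := (isSylowIn_of_sylow_le P (hPC.trans hC)).conj g
    obtain ⟨k, hk, hle⟩ := hS.exists_le_conj (isPGroup_zpowers (k := 1) (x := (z' : G) * t) (by
      have e : (z' : G) * t * (z' * t) = (z' * z') * (t * t) := by
        calc (z' : G) * t * (z' * t) = z' * (t * z') * t := by group
          _ = _ := by rw [show t * (z' : G) = z' * t from hc]; group
      rw [pow_one, pow_two, e, sq t ht, show (z' : G) * z' = 1 from sq _ (IsConj.refl _), one_mul]))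
      (zpowers_le.2 h)
    rw [cj_cj] at hle
    have h3 := cj_mono (k * g) hPC (hle (mem_zpowers _))
    rw [cj_centralizer_singleton] at h3
    have h4 := hin _ (h2 t ht hne hc (mem_centralizer_singleton_iff.2 (mem_centralizer_singleton_iff.1 h3).symm))
    simpa [mul_assoc] using H.mul_mem h4 (H.inv_mem (mem_cj.1 hk))

end Cfsg.Agent.S1922
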