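import Cfsg.Statements.S1930
import Cfsg.Agent.H4.QA9
import Cfsg.Agent.H1.GFitting

set_option autoImplicit false
open Cfsg

namespace Cfsg.Agent.S1930

/-- Inside a finite group let G be a nontrivial subgroup and R an r-subgroup (r a prime) normalizing G, with the order of G prime to r. Let p > 3 be a prime with F*(G) = O_p(G), and let P be the intersection of all R-invariant Sylow p-subgroups of G. Then P has a nontrivial characteristic subgroup that is normalized by G. -/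
theorem result {X : Type*} [Group X] [Finite X] (G R : Subgroup X) (r : ℕ) [Fact r.Prime] (hR : IsPGroup r ↥R) (hcop : (Nat.card ↥G).Coprime r) (hnorm : R ≤ Subgroup.normalizer (G : Set X)) (hG : G ≠ ⊥) (p : ℕ) [Fact p.Prime] (hp : 3 < p) (hF : Cfsg.generalizedFittingSubgroup ↥G = Cfsg.pCore p ↥G) (P : Subgroup X) (hP : P = ⨅ S : {S : Sylow p ↥G // ∀ a ∈ R, ((S : Subgroup ↥G).map G.subtype).map (MulAut.conj a).toMonoidHom = (S : Subgroup ↥G).map G.subtype}, ((S : Sylow p ↥G) : Subgroup ↥G).map G.subtype) : ∃ C : Subgroup ↥P, C.Characteristic ∧ C ≠ ⊥ ∧ G ≤ Subgroup.normalizer ((C.map P.subtype : Subgroup X) : Set X) := by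
  have hp' : p.Prime := Fact.out
  have h5 : 5 ≤ p := by
    by_contra h
    obtain rfl : p = 4 := by omega
    exact absurd hp' (by decide)
  have hc : (Nat.card R).Coprime (Nat.card G) := (H2.coprime_card_of_isPGroup hR hcop).symm
  have hK : H28.IsCharP p G := H28.isCharP_iff.2 (H1.gf_eq_pCore_iff.1 hF)
  have h1 : ∀ T ≤ G, R ≤ Subgroup.normalizer (T : Set X) → IsPGroup p T →
      ∃ Q, T ≤ Q ∧ P ≤ Q ∧ Q ≤ G ∧ IsPGroup p Q := fun T k1 k2 k3 => by
    obtain ⟨Q, a1, a2, a3, a4, a5⟩ := H2.exists_invariant_sylow_ge hnorm hc (H4.QA.sol_or hc) k1 k3 k2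
    obtain ⟨S, rfl⟩ := H2.exists_sylow_map_eq a2 a3 a4
    exact ⟨_, a1, hP ▸ iInf_le_of_le ⟨S, fun a ha => H2.conj_smul_eq_iff.2 (a5 ha)⟩ le_rfl, a2, a3⟩
  obtain ⟨Q, -, h2, h3, h4⟩ := h1 ⊥ bot_le Subgroup.le_normalizer_of_normal IsPGroup.of_bot
  have hPG := h2.trans h3
  have hPΓ : P ≤ G ⊔ R := hPG.trans le_sup_left
  haveI hn : (G.subgroupOf (G ⊔ R)).Normal :=
    (Subgroup.normal_subgroupOf_iff_le_normalizer le_sup_left).2 (sup_le Subgroup.le_normalizer hnorm)
  have h6 : pCoreOf p G ≤ P := hP ▸ le_iInf fun S => (H28.isSylowIn_map_subtype S.1).pCoreOf_le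
  have h7 := hK.pCoreOf_ne_bot hG
  have hi : ¬ p ∣ (G.subgroupOf (G ⊔ R)).index := fun h => by
    have e : G.subgroupOf (G ⊔ R) ⊔ R.subgroupOf (G ⊔ R) = ⊤ := by
      rw [← Subgroup.subgroupOf_sup le_sup_left le_sup_right, Subgroup.subgroupOf_self]
    rw [← Subgroup.relIndex_top_right, ← e, Subgroup.relIndex_sup_left] at h
    exact hp'.one_lt.ne' (Nat.eq_one_of_dvd_coprimes hc ((h.trans (Subgroup.relIndex_dvd_card _ _)).trans
      (H2.card_subgroupOf_dvd _ _)) (H28.dvd_card_of_isPGroup_ne_bot (H28.isPGroup_pCoreOf p G) (H28.pCoreOf_le p G) h7))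
  have h8 := H4.QA.kinf_coprime (K := G.subgroupOf (G ⊔ R)) (A := R.subgroupOf (G ⊔ R)) h5
    (by rwa [H2.card_subgroupOf_of_le le_sup_left, H2.card_subgroupOf_of_le le_sup_right])
    ((H28.isCharP_subgroupOf le_sup_left).2 hK) (S := P.subgroupOf (G ⊔ R))
    (Subgroup.map_le_iff_le_comap.1 (le_trans (H28.le_pCoreOf (H28.isPGroup_pCoreOf p _)
      (Subgroup.map_le_iff_le_comap.2 (H4.QA.le_of_pg hi (H28.isPGroup_pCore p _)))
      (le_sup_left.trans (H28.le_normalizer_pCoreOf p _))) h6))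
    (Subgroup.comap_mono hPG) fun g hg => H4.QA.Hyp.subgroupOf le_sup_right fun T k1 k2 k3 => by
      obtain ⟨Q, a1, a2, -, a3⟩ := h1 T k1 k2 k3
      exact a3.to_le (sup_le a1 (Subgroup.zpowers_le.2 (a2 hg)))
  refine ⟨kInfLower P, H4.characteristic_iff_mem.2 fun φ x hx =>
    H29.map_kInfLower_equiv φ ▸ Subgroup.mem_map_of_mem _ hx, H29.isCharPFunctor_kInfLower.1 _ (h4.to_le h2)
    ((Subgroup.nontrivial_iff_ne_bot _).2 fun e => h7 (eq_bot_iff.2 (h6.trans e.le))), ?_⟩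
  have e : (kInfLower P).map P.subtype = (inducedFunctor kInfLower (P.subgroupOf (G ⊔ R))).map (G ⊔ R).subtype := by
    rw [← H29.map_kInfLower_equiv (Subgroup.subgroupOfEquivOfLe hPΓ), inducedFunctor, Subgroup.map_map,
      Subgroup.map_map]
    rfl
  rw [e]
  refine le_trans ?_ (Subgroup.le_normalizer_map _)
  rw [Subgroup.normalizer_eq_top, ← MonoidHom.range_eq_map, Subgroup.range_subtype]
  exact le_sup_left

end Cfsg.Agent.S1930
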