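import Cfsg.Statements.S1935
import Cfsg.Agent.H4.Lim2
import Cfsg.Agent.H9.EAMod
import Cfsg.Agent.H9.Replace

set_option autoImplicit false
open Cfsg

namespace Cfsg.Agent.S1935

/-- Let p ≥ 5 be a prime and, inside an ambient finite group, let G be a p-subgroup acting faithfully by conjugation on an elementary abelian p-subgroup V that it normalizes (only the identity of G centralizes V). Suppose V is an F-module for G: some nontrivial elementary abelian subgroup E of G satisfies #E · #C_V(E) ≥ #V. Then G contains such an offender A that moreover acts quadratically on V ([V, A, A] = 1) and is normal in its normal closure in G. -/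
theorem result {Ω : Type*} [Group Ω] [Finite Ω] (p : ℕ) [Fact p.Prime] (hp : 5 ≤ p) (V G : Subgroup Ω) (hV : Cfsg.IsElementaryAbelian p V) (hG : IsPGroup p ↥G) (hGV : G ≤ Subgroup.normalizer (V : Set Ω)) (hfaith : G ⊓ Subgroup.centralizer (V : Set Ω) = ⊥) (hF : ∃ E : Subgroup Ω, E ≤ G ∧ E ≠ ⊥ ∧ Cfsg.IsElementaryAbelian p E ∧ Nat.card ↥V ≤ Nat.card ↥E * Nat.card ↥(V ⊓ Subgroup.centralizer (E : Set Ω))) : ∃ A : Subgroup Ω, A ≤ G ∧ A ≠ ⊥ ∧ Cfsg.IsElementaryAbelian p A ∧ Nat.card ↥V ≤ Nat.card ↥A * Nat.card ↥(V ⊓ Subgroup.centralizer (A : Set Ω)) ∧ ⁅⁅V, A⁆, A⁆ = ⊥ ∧ ∀ g ∈ Subgroup.closure {x : Ω | ∃ h ∈ G, ∃ a ∈ A, x = h * a * h⁻¹}, ∀ a ∈ A, g * a * g⁻¹ ∈ A := by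
  obtain ⟨E, hEG, hE0, hE, hc⟩ := hF
  have p1 := (Fact.out : p.Prime).one_lt
  have nt : ∀ B ≤ G, B ≠ ⊥ → ⁅V, B⁆ ≠ ⊥ := fun B h1 h2 h3 => h2 (eq_bot_iff.2 (hfaith ▸ le_inf h1
    (Subgroup.le_centralizer_iff.1 (Subgroup.commutator_eq_bot_iff_le_centralizer.1 h3))))
  have bt : ∀ B, Cfsg.IsBestOffenderOn p V B →
      Nat.card V ≤ Nat.card B * Nat.card ↥(V ⊓ Subgroup.centralizer (B : Set Ω)) := fun B h => by
    have := h.1 ⊥ bot_le
    rwa [Subgroup.card_bot, one_mul, inf_eq_left.2 fun x _ => by simp [Subgroup.mem_centralizer_iff]] at this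
  obtain ⟨B, mx⟩ := Set.Finite.exists_maximalFor
    (fun B : Subgroup Ω => Nat.card B * Nat.card ↥(V ⊓ Subgroup.centralizer (B : Set Ω)))
    {B | B ≤ E ∧ B ≠ ⊥} (Set.toFinite _) ⟨E, le_rfl, hE0⟩
  obtain ⟨hB, hB0⟩ := mx.1
  have eB := H9.IsElementaryAbelian.of_le hE hB
  have best : Cfsg.IsBestOffenderOn p V B := ⟨fun B' h => by
      by_cases e : B' = ⊥
      · subst e
        rw [Subgroup.card_bot, one_mul]
        exact (Subgroup.card_le_of_le inf_le_left).trans (hc.trans (mx.le ⟨le_rfl, hE0⟩))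
      · exact mx.le ⟨h.trans hB, e⟩,
    (Subgroup.commutator_eq_bot_iff_le_centralizer.2 (H9.IsElementaryAbelian.le_centralizer eB)).le.trans bot_le,
    fun a ha => eB.2 a ha ▸ one_mem _⟩
  have BG := hB.trans hEG
  obtain ⟨h1, -, h2, -⟩ := H9.timmesfeld hV (BG.trans hGV) best le_rfl
  set A₀ := B ⊓ Subgroup.centralizer ((⁅V, B⁆ : Subgroup Ω) : Set Ω) with hA₀
  have AG : A₀ ≤ G := inf_le_left.trans BG
  let ρ := H9.EA.rep hV hGV
  have inj : Function.Injective ρ := (injective_iff_map_eq_one ρ).2 fun g hg =>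
    Subtype.ext (hfaith.le ⟨g.2, (H9.EA.rep_eq_one_iff hV hGV g).1 hg⟩)
  have cv : ∀ (g : G) (x : H9.EA hV), ((ρ g - 1) x).val = _ := H9.EA.val_rep_sub_one hV hGV
  obtain ⟨U, q, hU, hU'⟩ := H4.Lim.exists_QS (ρ := ρ) (p := p) (A := A₀.subgroupOf G) fun a ha b hb =>
    LinearMap.ext fun x => H9.EA.val_eq_one.1 (by
      rw [Module.End.mul_apply, cv, cv, commutatorElement_eq_one_iff_mul_comm]
      exact (ha.2 _ (Subgroup.commutator_comm B V ▸ Subgroup.commutator_mem_commutator hb.1 x.val_mem)).symm)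
  have hS : IsPGroup p (V ⊔ G : Subgroup Ω) :=
    (H9.IsElementaryAbelian.isPGroup hV).to_sup_of_normal_left' hG hGV
  obtain ⟨n, hn⟩ := (Subgroup.isNilpotent_iff_lowerCentralSeries _).1 hS.isNilpotent
  obtain ⟨A, qA, r1, r2, nA⟩ := H4.Lim.exists_two_subnormal' (n := n) hG
    (fun h => by
      have := (ZMod.natCast_eq_zero_iff 2 p).1 (by exact_mod_cast h)
      exact absurd (Nat.le_of_dvd two_pos this) (by omega))
    (fun i => H9.EA.sub hV ((V ⊔ G).lowerCentralSeries i))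
    (fun i x hx => (V ⊔ G).lowerCentralSeries_antitone (Nat.le_succ i) hx)
    (eq_top_iff.2 fun x _ => Subgroup.mem_sup_left x.val_mem)
    (eq_bot_iff.2 fun x hx => H9.EA.val_eq_one.1 (by simpa [hn] using hx))
    (fun g i v hv => by
      rw [H9.EA.mem_sub, cv, Subgroup.lowerCentralSeries_succ, Subgroup.commutator_comm]
      exact Subgroup.commutator_mem_commutator (Subgroup.mem_sup_right g.2) hv) q
  have cd : ∀ {M : Type _} [AddCommGroup M] [Module (ZMod p) M] [Finite M] {X Y : Submodule (ZMod p) M},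
      Module.finrank (ZMod p) X ≤ Module.finrank (ZMod p) Y → Nat.card X ≤ Nat.card Y := fun {_ _ _ _ X Y} h => by
    rw [Module.natCard_eq_pow_finrank (K := ZMod p) (V := X), Module.natCard_eq_pow_finrank (K := ZMod p) (V := Y)]
    exact Nat.pow_le_pow_right Nat.card_pos h
  haveI : Finite (Module.End (ZMod p) (H9.EA hV)) := .of_injective _ DFunLike.coe_injective
  have fx : ∀ X, H4.Lim.QS ρ X → H4.Lim.fx X =
      H9.EA.sub hV (Subgroup.centralizer ((H4.Lim.gp ρ X).map G.subtype : Set Ω)) := fun X qX => by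
    ext v
    rw [H4.Lim.mem_fx, H9.EA.mem_sub]
    refine ⟨fun h => ?_, fun h u hu => ?_⟩
    · rintro _ ⟨g, hg, rfl⟩
      exact commutatorElement_eq_one_iff_mul_comm.1 ((cv g v).symm.trans
        (H9.EA.val_eq_one.2 (h _ (qX.mem_gp.1 hg))))
    · obtain ⟨g, e⟩ := qX.mem u hu
      obtain rfl : u = ρ g - 1 := by simp [e]
      exact H9.EA.val_eq_one.1 ((cv g v).trans (commutatorElement_eq_one_iff_mul_comm.2
        (h _ ⟨g, qX.mem_gp.2 hu, rfl⟩)))
  have c1 : Nat.card A₀ ≤ Nat.card ((H4.Lim.gp ρ A).map G.subtype) := by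
    rw [Subgroup.card_subtype, qA.card_gp inj,
      ← Nat.card_congr (Subgroup.subgroupOfEquivOfLe AG).toEquiv]
    exact (Subgroup.card_le_of_le hU).trans ((q.card_gp inj).le.trans (cd r1))
  have qq : ∀ a ∈ H4.Lim.gp ρ A, ∀ b ∈ H4.Lim.gp ρ A, (ρ a - 1) * (ρ b - 1) = 0 := fun a ha b hb =>
    qA.mul _ (qA.mem_gp.1 ha) _ (qA.mem_gp.1 hb)
  refine ⟨(H4.Lim.gp ρ A).map G.subtype, Subgroup.map_subtype_le _, fun e => ?_, ⟨⟨⟨?_⟩⟩, ?_⟩,
    (bt _ h1).trans (Nat.mul_le_mul c1 ?_), ?_, fun g hg => ?_⟩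
  · rw [e, Subgroup.card_bot] at c1
    exact h2 (nt B BG hB0) (by rw [Subgroup.eq_bot_of_card_le _ c1]; simp)
  · rintro ⟨_, a, ha, rfl⟩ ⟨_, b, hb, rfl⟩
    refine Subtype.ext (congrArg (Subtype.val : G → Ω) (inj (a₁ := a * b) (a₂ := b * a) ?_))
    rw [map_mul, map_mul]
    linear_combination (norm := noncomm_ring) qq a ha b hb - qq b hb a ha
  · rintro _ ⟨a, ha, rfl⟩
    refine congrArg Subtype.val (inj (a₁ := a ^ p) (a₂ := 1) ?_)
    have : ∀ k : ℕ, ρ a ^ k = 1 + k • (ρ a - 1) := fun k => by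
      induction k with
      | zero => simp
      | succ k ih =>
        rw [pow_succ, ih, add_smul, one_smul]
        have := congrArg (k • ·) (qq a ha a ha)
        simp only [smul_zero, ← smul_mul_assoc] at this
        linear_combination (norm := noncomm_ring) this
    rw [map_pow, this, ← Nat.cast_smul_eq_nsmul (ZMod p)]; simp
  · rw [← H9.EA.card_sub hV, ← H9.EA.card_sub hV, ← fx A qA]
    refine cd ((Submodule.finrank_mono fun v hv => H4.Lim.mem_fx.2 fun u hu => ?_).trans r2)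
    obtain ⟨a, ha, rfl⟩ := hU' u hu
    exact H9.EA.val_eq_one.1 ((cv a v).trans (commutatorElement_eq_one_iff_mul_comm.2 (hv _ ha)))
  · rw [Subgroup.commutator_eq_bot_iff_le_centralizer, Subgroup.commutator_comm, Subgroup.commutator_le]
    rintro _ ⟨a, ha, rfl⟩ v hv _ ⟨b, hb, rfl⟩
    have := congrArg (fun f => (f (H9.EA.mk hV v hv)).val) (qq b hb a ha)
    simp only [Module.End.mul_apply, cv] at this
    exact commutatorElement_eq_one_iff_mul_comm.1 this
  · refine fun a ha => H25.conj_mem_of_mem_nz ((Subgroup.closure_le (K := H25.nz _)).2 ?_ hg) ha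
    rintro _ ⟨h, hh, _, ⟨b, hb, rfl⟩, rfl⟩
    refine H25.mem_nz_of_conj_mem ?_
    rintro _ ⟨c, hc, rfl⟩
    exact ⟨_, H25.conj_mem_of_mem_nz (nA ⟨h, hh⟩ (H25.conj_mem_cj _ hb)) hc, rfl⟩

end Cfsg.Agent.S1935
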