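import Cfsg.Statements.S1936
import Cfsg.Agent.H1.MinS

set_option autoImplicit false
open Cfsg

namespace Cfsg.Agent.S1936

/-- Let p be a prime and G a finite group in which every subgroup of order prime to p is abelian of exponent dividing p − 1. Then G is solvable. -/
theorem result {G : Type*} [Group G] [Finite G] (p : ℕ) [Fact p.Prime] (h : ∀ H : Subgroup G, (Nat.card ↥H).Coprime p → IsMulCommutative ↥H ∧ ∀ x ∈ H, x ^ (p - 1) = 1) : Group.IsSolvable G := by
    have hp : p.Prime := Fact.out
    by_cases h3 : 3 < p
    · refine H1.sol_of_p'_nil hp h3 fun H hH => ?_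
      have := (h H (hH.coprime_prime hp)).1
      exact H19.nil_of_ab this
    · refine H1.sol_top_iff.1 (H1.sol_of_two_primes hp Nat.prime_two fun r hr r1 r2 hd => ?_)
      obtain ⟨x, -, ox⟩ := H19.exists_orderOf_eq_prime hr hd
      have := (h (Subgroup.zpowers x) (by
        rw [Nat.card_zpowers, ox]; exact (Nat.coprime_primes hr hp).2 r1)).2 x (Subgroup.mem_zpowers x)
      rw [← orderOf_dvd_iff_pow_eq_one, ox] at this
      have := Nat.le_of_dvd (by have := hp.two_le; omega) this
      have := hr.two_le
      omega

end Cfsg.Agent.S1936
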