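import Cfsg.Statements.S2799
import Cfsg.Agent.H25.KL4

set_option autoImplicit false
open Cfsg

namespace Cfsg.Agent.S2799
open H25 Subgroup

/-- Let S be a Sylow p-subgroup of the finite group G, J(S) the subgroup generated by the abelian subgroups of S of largest order, and x an element of S lying in the centre of N_G(J(S)). Assume that p is odd, or that x is a p-th power of an element of Z(S), or that the symmetric group of degree 4 is not involved in G. Then x is weakly closed in S with respect to G: every G-conjugate of x that lies in S equals x. -/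
theorem result {G : Type*} [Group G] [Finite G] {p : ℕ} [Fact p.Prime] (S : Sylow p G) (x : G) (hxS : x ∈ (S : Subgroup G)) (hxZ : x ∈ (Subgroup.center ↥(Subgroup.normalizer ((Cfsg.thompsonSubgroupAOf (S : Subgroup G)) : Set G))).map (Subgroup.normalizer ((Cfsg.thompsonSubgroupAOf (S : Subgroup G)) : Set G)).subtype) (h : p ≠ 2 ∨ (∃ z ∈ (S : Subgroup G) ⊓ Subgroup.centralizer ((S : Subgroup G) : Set G), z ^ p = x) ∨ ¬ Cfsg.Involves (Equiv.Perm (Fin 4)) G) : ∀ g : G, g * x * g⁻¹ ∈ (S : Subgroup G) → g * x * g⁻¹ = x := by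
  obtain ⟨M, j, -, hj, hB⟩ := exists_big_embed G 1 one_pos
  have h1 : IsPGroup p ((S : Subgroup G).map j) := S.isPGroup'.map j
  have h2 : Syl p ((S : Subgroup G).map j) j.range := by
    have := (syl_sylow S).im (top j) le_rfl
    rwa [im_self, range_top, im_top] at this
  have hs := FS.sat_ofSub h1 h2
  have h3 : ((FS.ofSub j.range ((S : Subgroup G).map j)).NF
      (H9.JJ 0 ((S : Subgroup G).map j))).Cen (zpowers (j x)) := by
    obtain ⟨⟨x, hx⟩, hx', rfl⟩ := hxZ
    have e : H9.JJ 0 ((S : Subgroup G).map j) = (thompsonSubgroupAOf (S : Subgroup G)).map j := by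
      rw [H9.thompsonSubgroupAOf_eq, ← im_top, ← im_top, im_JJ (top_inj hj) le_top]
    rw [FS.NF, FS.NK_ofSub h2.le (H9.JJ_le 0 _) (cz_le_nz _) le_rfl, e, ← map_nz hj]
    refine FS.cen_ofSub (le_inf (inf_le_left.trans ?_) inf_le_right |>.trans (map_nz hj _).ge)
      (zpowers_le.2 ⟨mem_map_of_mem j hxS, ((map_nz hj _).le (mem_map_of_mem j hx)).2⟩) ?_
    · exact h2.le
    · rintro _ ⟨y, hy, rfl⟩
      rw [mem_cz_zpowers, mul_inv_eq_iff_eq_mul, ← map_mul, ← map_mul]
      exact congrArg j (congrArg Subtype.val (mem_center_iff.1 hx' ⟨y, hy⟩))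
  have h4 : (FS.ofSub j.range ((S : Subgroup G).map j)).Cen (zpowers (j x)) := by
    rcases h with h | ⟨z, hz, rfl⟩ | h
    · exact FS.TC.cen_JJ ⟨hs, hB.mono h2.le, Or.inl h⟩ h3
    · refine hs.cen_of_qfun FS.fun_JJ qfun_JJ (hB.mono h2.le) (zpowers_le.2 ?_) h3
      rw [map_pow]
      have := pow_mem_pc (p := p) (n := 1) (mem_inf.2 ⟨mem_map_of_mem j hz.1,
        ((map_cz hj _).le (mem_map_of_mem j hz.2)).2⟩)
      rwa [pow_one] at this
    · exact FS.TC.cen_JJ ⟨hs, hB.mono h2.le, Or.inr (FS.free_ofSub h1 h2 hB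
        fun h' => h ((involves_range hj).1 h'))⟩ h3
  intro g hg
  have := h4.conj_eq (FS.ofSub_T_of_mem h4.le (g := j g) ⟨g, rfl⟩ (by
    rw [cj_zpowers, zpowers_le, ← map_inv, ← map_mul, ← map_mul]; exact mem_map_of_mem j hg))
    (mem_zpowers _) (mem_zpowers _)
  exact hj (by simpa using this)

end Cfsg.Agent.S2799
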