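import Cfsg.Statements.S1945
import Cfsg.Agent.S2799
import Cfsg.Agent.H1.PSolv
import Cfsg.Agent.H9.Thompson

set_option autoImplicit false
open Cfsg

namespace Cfsg.Agent.S1945

open Subgroup

theorem tr {H : Type*} [Group H] [Finite H] (S A : Subgroup H) [hA : A.Normal]
    (hc : ∀ a ∈ A, ∀ b ∈ A, a * b = b * a) (hZ : S ⊓ centralizer (S : Set H) ≤ A) :
    ∃ t : ↥(S ⊓ centralizer (S : Set H)) →* H, (∀ z, t z ∈ A ⊓ center H) ∧
      ∀ z : ↥(S ⊓ centralizer (S : Set H)), (z : H) ∈ center H → t z = (z : H) ^ S.index := by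
  classical
  letI : CommGroup A := { (inferInstance : Group A) with
    mul_comm := fun a b => Subtype.ext (hc _ a.2 _ b.2) }
  haveI : Fintype (H ⧸ S) := Fintype.ofFinite _
  let f : H → (↥(S ⊓ centralizer (S : Set H)) →* A) := fun g =>
    { toFun := fun z => ⟨g * z * g⁻¹, hA.conj_mem _ (hZ z.2) g⟩
      map_one' := by ext; simp
      map_mul' := fun x y => by ext; simp [mul_assoc] }
  have hf : ∀ g z, ((f g z : A) : H) = g * z * g⁻¹ := fun _ _ => rfl
  have hfs : ∀ g s, s ∈ S → f (g * s) = f g := by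
    intro g s hs
    ext z
    have := z.2.2 s hs
    rw [hf, hf, mul_inv_rev, show g * s * (z : H) * (s⁻¹ * g⁻¹) = g * (s * z) * s⁻¹ * g⁻¹ by group,
      this]
    group
  let t0 : ↥(S ⊓ centralizer (S : Set H)) →* A := ∏ q : H ⧸ S, f q.out
  have ht0 : ∀ z, t0 z = ∏ q : H ⧸ S, f q.out z := fun z => by
    simp only [t0]; exact MonoidHom.finsetProd_apply _ _ _
  refine ⟨A.subtype.comp t0, fun z => ⟨(t0 z).2, ?_⟩, fun z hz => ?_⟩
  · refine mem_center_iff.2 fun h => ?_
    let c : A →* A := (MulAut.conjNormal h).toMonoidHom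
    have key : c (t0 z) = t0 z := by
      rw [ht0, map_prod]
      refine Fintype.prod_equiv (MulAction.toPerm h) _ _ fun q => ?_
      obtain ⟨s, hs⟩ := QuotientGroup.mk_out_eq_mul S (h * q.out)
      have e : (MulAction.toPerm h q : H ⧸ S) = QuotientGroup.mk (h * q.out) := by
        conv_lhs => rw [← QuotientGroup.out_eq' q]
        rfl
      rw [e, hs, hfs _ _ s.2]
      ext
      simp [c, hf, mul_assoc]
    have k2 : h * (t0 z : H) * h⁻¹ = t0 z := by
      have := congrArg Subtype.val key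
      simpa [c] using this
    show h * (t0 z : H) = (t0 z : H) * h
    exact mul_inv_eq_iff_eq_mul.1 k2
  · have : t0 z = (⟨z, hZ z.2⟩ : A) ^ S.index := by
      rw [ht0, Finset.prod_congr rfl (g := fun _ => (⟨z, hZ z.2⟩ : A)), Finset.prod_const,
        Finset.card_univ, index, Nat.card_eq_fintype_card]
      intro q _
      ext
      rw [hf, mem_center_iff.1 hz]; simp
    show ((t0 z : A) : H) = _
    rw [this]; rfl

theorem core {G X : Type*} [Group G] [Finite G] [Group X] [Finite X] {p : ℕ} [hp : Fact p.Prime]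
    (S : Subgroup G) (hS : IsPGroup p S) (φ : S →* X) (hφ : Function.Injective φ)
    (hi : φ.range.index.Coprime p) (A : Subgroup X) [A.Normal] (hAS : A ≤ φ.range)
    (hc : ∀ a ∈ A, ∀ b ∈ A, a * b = b * a)
    (hZ : φ.range ⊓ centralizer (φ.range : Set X) ≤ A) :
    ∃ W K : Subgroup G, (∀ x : G, x ∈ W ↔ ∃ hx : x ∈ S, φ ⟨x, hx⟩ ∈ center X) ∧
      K ≤ S ⊓ centralizer (S : Set G) ∧ W ⊓ K = ⊥ ∧ W ⊔ K = S ⊓ centralizer (S : Set G) := by
  obtain ⟨t, ht1, ht2⟩ := tr φ.range A hc hZ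
  have hmem : ∀ x : ↥(S ⊓ centralizer (S : Set G)),
      φ ⟨x, x.2.1⟩ ∈ φ.range ⊓ centralizer (φ.range : Set X) := by
    intro x
    refine ⟨⟨_, rfl⟩, ?_⟩
    rintro _ ⟨s, rfl⟩
    rw [← map_mul, ← map_mul]
    congr 1
    exact Subtype.ext (x.2.2 s s.2)
  let ψ : ↥(S ⊓ centralizer (S : Set G)) →* ↥(φ.range ⊓ centralizer (φ.range : Set X)) :=
    { toFun := fun x => ⟨φ ⟨x, x.2.1⟩, hmem x⟩
      map_one' := by ext; exact map_one φ
      map_mul' := fun x y => by ext; exact map_mul φ ⟨x, x.2.1⟩ ⟨y, y.2.1⟩ }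
  let W : Subgroup G := ((center X).comap φ).map S.subtype
  have hW : ∀ x : G, x ∈ W ↔ ∃ hx : x ∈ S, φ ⟨x, hx⟩ ∈ center X := by
    intro x
    constructor
    · rintro ⟨y, hy, rfl⟩; exact ⟨y.2, hy⟩
    · rintro ⟨hx, h⟩; exact ⟨⟨x, hx⟩, h, rfl⟩
  have hWZ : W ≤ S ⊓ centralizer (S : Set G) := by
    intro x hx
    obtain ⟨hx, h⟩ := (hW x).1 hx
    refine ⟨hx, fun s hs => ?_⟩
    have := mem_center_iff.1 h (φ ⟨s, hs⟩)
    rw [← map_mul, ← map_mul] at this
    exact congrArg Subtype.val (hφ this)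
  have hcop : ∀ s : S, (orderOf s).Coprime φ.range.index := by
    intro s
    obtain ⟨k, hk⟩ := (IsPGroup.iff_orderOf.1 hS) s
    rw [hk]; exact (Nat.Coprime.pow_right k hi).symm
  refine ⟨W, (t.comp ψ).ker.map (Subgroup.subtype _), hW, map_subtype_le _, ?_, ?_⟩
  · rw [eq_bot_iff]
    rintro x ⟨hx, ⟨y, hy, rfl⟩⟩
    obtain ⟨hx, h⟩ := (hW _).1 hx
    have h1 : t (ψ y) = 1 := hy
    rw [ht2 _ h] at h1
    have h2 : (⟨y, y.2.1⟩ : S) ^ φ.range.index = 1 := hφ (by rw [map_pow, map_one]; exact h1)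
    have h3 := (hcop ⟨y, y.2.1⟩).eq_one_of_dvd (orderOf_dvd_of_pow_eq_one h2)
    rw [orderOf_eq_one_iff] at h3
    exact congrArg Subtype.val h3
  · refine le_antisymm (sup_le hWZ (map_subtype_le _)) fun z hz => ?_
    obtain ⟨h1, h2⟩ := ht1 (ψ ⟨z, hz⟩)
    obtain ⟨w, hw⟩ := hAS h1
    obtain ⟨m, hm⟩ := exists_pow_eq_self_of_coprime (hcop w).symm
    have hwc : φ (w ^ m) ∈ center X := by rw [map_pow, hw]; exact pow_mem h2 m
    have hwW : ((w ^ m : S) : G) ∈ W := (hW _).2 ⟨(w ^ m).2, hwc⟩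
    have : z = ((w ^ m : S) : G) * (((w ^ m : S) : G)⁻¹ * z) := by group
    rw [this]
    refine mul_mem_sup hwW ⟨(⟨_, hWZ hwW⟩ : ↥(S ⊓ centralizer (S : Set G)))⁻¹ * ⟨z, hz⟩, ?_, rfl⟩
    show t (ψ _) = 1
    rw [map_mul, map_mul, map_inv, map_inv, ← hw, ht2 _ hwc, inv_mul_eq_one]
    show φ (w ^ m) ^ _ = _
    rw [← map_pow, ← pow_mul, mul_comm, pow_mul, hm]

/-- Let S be a Sylow p-subgroup of the finite group G, and assume that p is odd or that G is solvable. The elements of S each of which is its only G-conjugate in S form a subgroup W of Z(S); W is then a direct factor of Z(S): there is a subgroup K of Z(S) with W ∩ K = 1 and WK = Z(S). (For p = 2 and G not solvable this can fail.) -/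
theorem result {G : Type*} [Group G] [Finite G] {p : ℕ} [Fact p.Prime] (S : Sylow p G) (h : p ≠ 2 ∨ Group.IsSolvable G) :
    ∃ W K : Subgroup G, (∀ x : G, x ∈ W ↔ (x ∈ (S : Subgroup G) ∧ ∀ g : G, g * x * g⁻¹ ∈ (S : Subgroup G) → g * x * g⁻¹ = x)) ∧
      K ≤ ((S : Subgroup G) ⊓ Subgroup.centralizer ((S : Subgroup G) : Set G)) ∧ W ⊓ K = ⊥ ∧ W ⊔ K = ((S : Subgroup G) ⊓ Subgroup.centralizer ((S : Subgroup G) : Set G)) := by
  by_cases hp2 : p = 2
  · have hsol := h.resolve_left (by simp [hp2])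
    let π := QuotientGroup.mk' (pPrimeCore p G)
    have hπ : Function.Surjective π := QuotientGroup.mk'_surjective _
    have hinj : Function.Injective (π.comp (S : Subgroup G).subtype) := by
      rw [injective_iff_map_eq_one]
      intro s hs
      have h1 : (s : G) ∈ pPrimeCore p G := (QuotientGroup.eq_one_iff _).1 hs
      obtain ⟨k, hk⟩ := (IsPGroup.iff_orderOf.1 S.2) s
      have h2 : orderOf s ∣ Nat.card (pPrimeCore p G) := by
        rw [← Subgroup.orderOf_coe]; exact Subgroup.orderOf_dvd_natCard _ h1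
      have h3 : (orderOf s).Coprime (Nat.card (pPrimeCore p G)) := by
        rw [hk]; exact (Nat.Coprime.pow_right k H1.pPrimeCore_coprime).symm
      exact orderOf_eq_one_iff.1 (h3.eq_one_of_dvd h2)
    have hr : (π.comp (S : Subgroup G).subtype).range = (S.mapSurjective hπ : Subgroup _) := by
      rw [MonoidHom.range_comp, range_subtype]; rfl
    set Q := pCore p (G ⧸ pPrimeCore p G) with hQ
    have hC : centralizer (Q : Set (G ⧸ pPrimeCore p G)) ≤ Q :=
      H1.centralizer_pCore_le_of_isPSolvable (H1.isPSolvable_of_isSolvable inferInstance)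
        H1.pPrimeCore_quotient_pPrimeCore
    have hQS : Q ≤ (π.comp (S : Subgroup G).subtype).range := by
      rw [hr]; exact H1.pCore_le_sylow _
    have hZ : (π.comp (S : Subgroup G).subtype).range ⊓
        centralizer ((π.comp (S : Subgroup G).subtype).range : Set _) ≤
        Q ⊓ centralizer (Q : Set (G ⧸ pPrimeCore p G)) :=
      le_inf (inf_le_right.trans ((centralizer_le hQS).trans hC))
        (inf_le_right.trans (centralizer_le hQS))
    obtain ⟨W, K, hW, hK⟩ := core (p := p) (S : Subgroup G) S.2 _ hinj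
      (by rw [hr]; exact ((Nat.Prime.coprime_iff_not_dvd Fact.out).2 (Sylow.not_dvd_index _)).symm)
      (Q ⊓ centralizer (Q : Set (G ⧸ pPrimeCore p G))) (inf_le_left.trans hQS)
      (fun a ha b hb => hb.2 a ha.1) hZ
    refine ⟨W, K, fun x => ?_, hK⟩
    rw [hW]
    constructor
    · rintro ⟨hx, hc⟩
      refine ⟨hx, fun g hg => ?_⟩
      have : (π.comp (S : Subgroup G).subtype) ⟨_, hg⟩ = (π.comp (S : Subgroup G).subtype) ⟨x, hx⟩ := by
        show π (g * x * g⁻¹) = π x
        have h1 : π g * π x = π x * π g := mem_center_iff.1 hc _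
        rw [map_mul, map_mul, h1, map_inv]; simp
      exact congrArg Subtype.val (hinj this)
    · rintro ⟨hx, hw⟩
      refine ⟨hx, mem_center_iff.2 fun y => ?_⟩
      obtain ⟨g, rfl⟩ := hπ y
      have hxs : ∀ s ∈ (S : Subgroup G), s * x * s⁻¹ = x := fun s hs =>
        hw s (mul_mem (mul_mem hs hx) (inv_mem hs))
      have hxQ : π x ∈ Q := by
        refine (hZ ⟨⟨⟨x, hx⟩, rfl⟩, ?_⟩).1
        rintro _ ⟨s, rfl⟩
        show π s * π x = π x * π s
        rw [← map_mul, ← map_mul, mul_inv_eq_iff_eq_mul.1 (hxs s s.2)]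
      obtain ⟨s, hs⟩ := hQS ((inferInstance : Q.Normal).conj_mem _ hxQ (π g))
      -- g x g⁻¹ ∈ S O
      let L : Subgroup G := (S : Subgroup G) ⊔ pPrimeCore p G
      have hyL : g * x * g⁻¹ ∈ L := by
        have : π (g * x * g⁻¹) = π s := by rw [map_mul, map_mul, map_inv]; exact hs.symm
        obtain ⟨n, hn, e⟩ := (QuotientGroup.mk'_eq_mk' _).1 this.symm
        rw [← e]; exact mul_mem_sup s.2 hn
      have hpy : IsPGroup p ((zpowers (g * x * g⁻¹)).subgroupOf L) := by
        refine IsPGroup.comap_subtype ?_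
        obtain ⟨k, hk⟩ := S.2 ⟨x, hx⟩
        have hk' : x ^ p ^ k = 1 := congrArg Subtype.val hk
        rintro ⟨_, n, rfl⟩
        refine ⟨k, Subtype.ext ?_⟩
        show ((g * x * g⁻¹) ^ n) ^ p ^ k = 1
        rw [← zpow_natCast, ← zpow_mul, mul_comm n, zpow_mul, zpow_natCast, conj_pow, hk']; simp
      obtain ⟨T, hT⟩ := hpy.exists_le_sylow
      obtain ⟨l, hl⟩ := MulAction.exists_smul_eq L T (S.subtype (le_sup_left : _ ≤ L))
      have h1 : (l : G) * (g * x * g⁻¹) * (l : G)⁻¹ ∈ (S : Subgroup G) := by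
        have h2 : (⟨_, hyL⟩ : L) ∈ (T : Subgroup L) := hT (mem_zpowers _)
        have h3 : l * ⟨_, hyL⟩ * l⁻¹ ∈ ((l • T : Sylow p L) : Subgroup L) :=
          Subgroup.smul_mem_pointwise_smul _ (MulAut.conj l) _ h2
        rw [hl] at h3
        exact h3
      have h4 := hw (l * g) (by simpa [mul_assoc] using h1)
      obtain ⟨s', hs', n, hn, e⟩ := (mem_sup_of_normal_right).1 l.2
      have h5 : π l = π s' := by
        rw [← e, map_mul, show π n = 1 from (QuotientGroup.eq_one_iff n).2 hn, mul_one]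
      have h6 : π s' * π g * π x = π x * (π s' * π g) := by
        rw [← h5, ← map_mul, ← map_mul, ← map_mul, mul_inv_eq_iff_eq_mul.1 h4]
      have h7 : π s' * π x = π x * π s' := by
        rw [← map_mul, ← map_mul, mul_inv_eq_iff_eq_mul.1 (hxs s' hs')]
      show π g * π x = π x * π g
      rw [← mul_assoc, ← h7, mul_assoc, mul_assoc] at h6
      exact mul_left_cancel h6
  · set J := thompsonSubgroupAOf (S : Subgroup G) with hJ
    have hJe : J = H9.JJ 0 (S : Subgroup G) := H9.thompsonSubgroupAOf_eq _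
    have hSN : (S : Subgroup G) ≤ normalizer (J : Set G) := by
      rw [hJe]; exact H9.le_normalizer_JJ _ _
    have hJS : J ≤ S := by rw [hJe]; exact H9.JJ_le _ _
    have hr : (inclusion hSN).range = (S.subtype hSN : Subgroup _) := by
      rw [inclusion_range]; rfl
    have hr' : ∀ y, y ∈ (inclusion hSN).range ↔ (y : G) ∈ (S : Subgroup G) := by
      intro y; rw [hr]; rfl
    haveI : (J.subgroupOf (normalizer (J : Set G))).Normal := normal_in_normalizer
    obtain ⟨W, K, hW, hK⟩ := core (p := p) (S : Subgroup G) S.2 _ (inclusion_injective hSN)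
      (by rw [hr]; exact ((Nat.Prime.coprime_iff_not_dvd Fact.out).2 (Sylow.not_dvd_index _)).symm)
      (J.subgroupOf (normalizer (J : Set G)) ⊓
        centralizer (J.subgroupOf (normalizer (J : Set G)) : Set _))
      (fun y hy => (hr' y).2 (hJS hy.1)) (fun a ha b hb => hb.2 a ha.1) (by
        intro y hy
        have h1 : (y : G) ∈ (S : Subgroup G) := (hr' y).1 hy.1
        have h2 : ∀ s ∈ (S : Subgroup G), s * y = y * s := fun s hs =>
          congrArg Subtype.val (hy.2 ⟨s, hSN hs⟩ ((hr' _).2 hs))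
        refine ⟨?_, fun a ha => Subtype.ext (h2 _ (hJS ha))⟩
        exact hJe.ge
          (H9.mem_JJ_of_mem_centralizer h1 (pow_zero _) fun a ha => h2 a (H9.JJ_le _ _ ha)))
    refine ⟨W, K, fun x => ?_, hK⟩
    rw [hW]
    constructor
    · rintro ⟨hx, hc⟩
      exact ⟨hx, S2799.result S x hx ⟨_, hc, rfl⟩ (Or.inl hp2)⟩
    · rintro ⟨hx, hw⟩
      refine ⟨hx, mem_center_iff.2 fun y => Subtype.ext ?_⟩
      have hxJ : x ∈ J := by
        rw [hJe]
        refine H9.mem_JJ_of_mem_centralizer hx (pow_zero _) fun a ha => ?_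
        have ha' := H9.JJ_le _ _ ha
        exact mul_inv_eq_iff_eq_mul.1 (hw a (mul_mem (mul_mem ha' hx) (inv_mem ha')))
      exact mul_inv_eq_iff_eq_mul.1 (hw y (hJS ((mem_normalizer_iff.1 y.2 x).1 hxJ)))

end Cfsg.Agent.S1945
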