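import Cfsg.Statements.S2200
import Cfsg.Agent.H21.T27

set_option autoImplicit false
open Cfsg

namespace Cfsg.Agent.S2200

/-- Doubly transitive groups of even degree whose two-point stabilizer has cyclic, generalized quaternion or dihedral Sylow 2-subgroups. Let a finite group G act faithfully and 2-transitively on a finite set Ω with an even number of points, and suppose every Sylow 2-subgroup of the stabilizer of two points is cyclic, generalized quaternion or dihedral (the four-group counting as dihedral). Then either G has a normal subgroup acting regularly on Ω, or G has a normal subgroup L with trivial centralizer (so that G embeds in Aut(L)) such that one of the following holds: L ≅ PSL₂(F) and |Ω| = |F| + 1; L ≅ PSU₃(q) and |Ω| = q³ + 1; L acts on Ω as a group of Ree type — L is 2-transitive on Ω, the two-point stabilizer in L has exactly one non-identity element fixing more than two points, all involutions of L are conjugate, and some involution of L has centralizer in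 L isomorphic to PSL₂(K) × C₂ with |K| odd and |Ω| = |K|³ + 1; L ≅ A₆ and |Ω| = 6; L ≅ A₈ and |Ω| = 8; or L is the Mathieu group M₁₁ and |Ω| = 12. -/
theorem result {G Ω : Type*} [Group G] [Finite G] [Fintype Ω] [MulAction G Ω] [FaithfulSMul G Ω]
    (heven : Even (Fintype.card Ω)) (h2 : MulAction.IsMultiplyPretransitive G Ω 2) (a b : Ω) (hab : a ≠ b)
    (hS : ∀ S : Sylow 2 ↥(MulAction.stabilizer G a ⊓ MulAction.stabilizer G b), IsCyclic ↥(S : Subgroup ↥(MulAction.stabilizer G a ⊓ MulAction.stabilizer G b)) ∨ (∃ n : ℕ, Nonempty (↥(S : Subgroup ↥(MulAction.stabilizer G a ⊓ MulAction.stabilizer G b)) ≃* QuaternionGroup (2 ^ (n + 1)))) ∨ (∃ n : ℕ, 1 ≤ n ∧ Nonempty (↥(S : Subgroup ↥(MulAction.stabilizer G a ⊓ MulAction.stabilizer G b)) ≃* DihedralGroup (2 ^ n)))) :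
    (∃ N : Subgroup G, N.Normal ∧ (∀ x y : Ω, ∃ n ∈ N, n • x = y) ∧ ∀ x : Ω, ∀ n ∈ N, n • x = x → n = 1) ∨
    (∃ L : Subgroup G, L.Normal ∧ Subgroup.centralizer (L : Set G) = ⊥ ∧
      ((∃ (F : Type) (_ : Field F) (_ : Fintype F), Fintype.card Ω = Fintype.card F + 1 ∧ Nonempty (↥L ≃* Matrix.ProjectiveSpecialLinearGroup (Fin 2) F)) ∨
       (∃ (F : Type) (_ : Field F) (_ : Fintype F) (q : ℕ), Fintype.card F = q ^ 2 ∧ Fintype.card Ω = q ^ 3 + 1 ∧ Nonempty (↥L ≃* Cfsg.PSU 3 F q)) ∨
       (MulAction.IsMultiplyPretransitive ↥L Ω 2 ∧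
         (∃! t : G, t ∈ L ⊓ MulAction.stabilizer G a ⊓ MulAction.stabilizer G b ∧ t ≠ 1 ∧ 2 < Nat.card {x : Ω // t • x = x}) ∧
         (∀ s t : ↥L, orderOf s = 2 → orderOf t = 2 → IsConj s t) ∧
         (∃ (t : ↥L) (K : Type) (_ : Field K) (_ : Fintype K), orderOf t = 2 ∧ Odd (Fintype.card K) ∧ Fintype.card Ω = Fintype.card K ^ 3 + 1 ∧
            Nonempty (↥(Subgroup.centralizer ({t} : Set ↥L)) ≃* Matrix.ProjectiveSpecialLinearGroup (Fin 2) K × Multiplicative (ZMod 2)))) ∨
       (Fintype.card Ω = 6 ∧ Nonempty (↥L ≃* ↥(alternatingGroup (Fin 6)))) ∨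
       (Fintype.card Ω = 8 ∧ Nonempty (↥L ≃* ↥(alternatingGroup (Fin 8)))) ∨
       (Fintype.card Ω = 12 ∧ Cfsg.Spor.IsoM11 ↥L))) := by
  have := H21.T2.out H21.T2.all H26.T2.fin (by rwa [Nat.card_eq_fintype_card]) h2 hab hS
  simp only [H21.T2.Concl, Nat.card_eq_fintype_card (α := Ω)] at this
  exact this

end Cfsg.Agent.S2200
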