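import Cfsg.Statements.S2221
import Cfsg.Agent.H21.SymSyl6

set_option autoImplicit false
open Cfsg

namespace Cfsg.Agent.S2221

/-- Direct decomposability of the Sylow 2-subgroups of the alternating groups. Let n ≥ 4 and let P be a Sylow 2-subgroup of the alternating group of degree n. Then P is the internal direct product of two nontrivial subgroups if and only if n = 4, n = 5, or n ≡ 2, 3 (mod 4) with 4⌊n/4⌋ not a power of 2. In the remaining cases (n ≡ 0, 1 (mod 4) with n ≥ 8, or n ≡ 2, 3 (mod 4) with 4⌊n/4⌋ a power of 2) P is directly indecomposable. -/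
theorem result (n : ℕ) (hn : 4 ≤ n)
    (P : Sylow 2 (alternatingGroup (Fin n))) :
    (∃ S₁ S₂ : Subgroup (alternatingGroup (Fin n)), S₁ ≠ ⊥ ∧ S₂ ≠ ⊥ ∧
        Cfsg.IsInternalDirectProduct S₁ S₂ (P : Subgroup (alternatingGroup (Fin n)))) ↔
      (n = 4 ∨ n = 5 ∨ ((n % 4 = 2 ∨ n % 4 = 3) ∧ ∀ r : ℕ, 4 * (n / 4) ≠ 2 ^ r)) := by
  change H21.DS.Dec _ ↔ _
  have hk : IsKleinFour P.1 → H21.DS.Dec P.1 := fun h => by
    have := (H21.DS.dec_map P.1.subtype_injective).2 (H21.DS.dec_klein (G := P.1))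
    rwa [← MonoidHom.range_eq_map, Subgroup.range_subtype] at this
  by_cases h4 : n = 4
  · refine iff_of_true (hk ?_) (Or.inl h4)
    have h5 : Nat.card (Fin n) = 4 := by simpa using h4
    rw [alternatingGroup.two_sylow_eq_kleinFour_of_card_eq_four h5]
    exact alternatingGroup.kleinFour_isKleinFour h5
  by_cases h5 : n = 5
  · subst h5
    exact iff_of_true (hk (H21.a5_klein P).1) (Or.inr (Or.inl rfl))
  obtain ⟨Q, hQ⟩ := H21.exists_sylow_alt P
  rw [← H21.DS.dec_map (alternatingGroup (Fin n)).subtype_injective, hQ,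
    H21.DS.main (by simp; omega) Q, Fintype.card_fin, Nat.odd_iff]
  simp only [h4, h5, false_or]
  refine ⟨fun ⟨h1, h2⟩ => ⟨by omega, fun r hr => ?_⟩, fun ⟨h1, h2⟩ => ⟨by omega, fun r hr => ?_⟩⟩
  · rcases r with _ | r
    · omega
    · exact h2 r (by rw [pow_succ] at hr; omega)
  · exact h2 (r + 1) (by rw [pow_succ]; omega)

end Cfsg.Agent.S2221
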