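import Cfsg.Statements.S3074
import Cfsg.Agent.H9.Qd2

set_option autoImplicit false
open Cfsg

namespace Cfsg.Agent.S3074

/-- Let p be an odd prime. A Sylow p-subgroup of Qd(p), the split extension of an elementary abelian group of order p² by SL₂(p) acting naturally, is extraspecial of order p³ and exponent p. -/
theorem result (p : ℕ) [Fact p.Prime] (hp : p ≠ 2) (P : Sylow p ↥(Cfsg.qd p)) :
    Cfsg.IsExtraspecial p ↥P ∧ Nat.card P = p ^ 3 ∧ Monoid.exponent ↥P = p := by
  open H9 H9.Qd in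
  change Sylow p (Cfsg.qdOver (ZMod p)) at P
  obtain ⟨x, hx⟩ := sylow_eq (F := ZMod p) p P
  obtain ⟨g, hg⟩ := exists_cj_syl x
  have hc : Nat.card (P : Subgroup (Cfsg.qdOver (ZMod p))) = p ^ 3 := by
    rw [hx, card_syl, ZMod.card]
  have hnc : ¬ IsMulCommutative (P : Subgroup (Cfsg.qdOver (ZMod p))) := by
    rw [hx, ← hg, H4.isMulCommutative_iff]
    intro h
    have := h _ (H28.conj_mem_cj (heis_mem 1 0 0)) _ (H28.conj_mem_cj (heis_mem 0 1 0))
    simp only [conj_mul, mul_left_inj, mul_right_inj, heis_mul] at this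
    simpa using (heis_inj this).2.2
  refine ⟨isExtraspecial_of_card_cube hc hnc, hc, ?_⟩
  haveI : Nontrivial (P : Subgroup (Cfsg.qdOver (ZMod p))) := by
    rw [← Finite.one_lt_card_iff_nontrivial, hc]
    exact Nat.one_lt_pow (by norm_num) (Fact.out : p.Prime).one_lt
  refine (Monoid.exponent_eq_prime_iff (G := (P : Subgroup (Cfsg.qdOver (ZMod p))))
    Fact.out).2 fun y hy => ?_
  refine orderOf_eq_prime (Subtype.ext ?_) hy
  have hy' : (y : Cfsg.qdOver (ZMod p)) ∈ (syl (H11.pt0 (ZMod p))).map (MulAut.conj g).toMonoidHom := by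
    rw [hg, ← hx]; exact y.2
  obtain ⟨z, hz, e⟩ := hy'
  obtain ⟨a, b, c, rfl⟩ := mem_syl_pt0.1 hz
  change (y : Cfsg.qdOver (ZMod p)) ^ p = 1
  rw [← e, ← map_pow, heis_pow]
  have h2 : ((p.choose 2 : ℕ) : ZMod p) = 0 := (ZMod.natCast_eq_zero_iff _ _).2
    ((Fact.out : p.Prime).dvd_choose_self two_ne_zero
      (lt_of_le_of_ne (Fact.out : p.Prime).two_le (Ne.symm hp)))
  simp [h2, heis_zero]

end Cfsg.Agent.S3074
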