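import Cfsg.Statements.S2231
import Cfsg.Agent.H13.SL2Syl
import Cfsg.Agent.S3074

set_option autoImplicit false
open Cfsg

namespace Cfsg.Agent.S2231

open H13.GL2 Subgroup

/-- Let p be an odd prime and K a finite field of characteristic p. Then Qd(p) (the natural semidirect product of an elementary abelian group of order p² by SL₂(p)) is not involved in the projective special linear group PSL₂(K). -/
theorem result {p : ℕ} [Fact p.Prime] (hp : p ≠ 2) {K : Type*} [Field K] [Fintype K] [CharP K p] : ¬ Cfsg.Involves ↥(Cfsg.qd p) (Matrix.ProjectiveSpecialLinearGroup (Fin 2) K) := by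
  classical
  rintro ⟨L, R, hR, ⟨e⟩⟩
  obtain ⟨P⟩ : Nonempty (Sylow p L) := inferInstance
  have hf : Function.Surjective (e.toMonoidHom.comp (QuotientGroup.mk' _)) :=
    e.surjective.comp (QuotientGroup.mk'_surjective _)
  obtain ⟨⟨-, h1⟩, h2, -⟩ := S3074.result p hp (P.mapSurjective hf)
  obtain ⟨Q, hQ⟩ := (P.isPGroup'.map L.subtype).exists_le_sylow
  obtain ⟨Q, rfl⟩ := Sylow.mapSurjective_surjective pr_surjective p Q
  erw [(center_eq_top_iff (G := P.mapSurjective hf)).2 ⟨⟨?_⟩⟩, card_top, h2] at h1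
  · have := (Fact.out : p.Prime).one_lt
    simpa using (Nat.pow_right_injective this (h1.trans (pow_one p).symm))
  rintro ⟨_, x, hx, rfl⟩ ⟨_, y, hy, rfl⟩
  obtain ⟨a, ha, e1⟩ := hQ (mem_map_of_mem L.subtype hx)
  obtain ⟨b, hb, e2⟩ := hQ (mem_map_of_mem L.subtype hy)
  have : x * y = y * x := L.subtype_injective (by
    rw [map_mul, map_mul, ← e1, ← e2, ← map_mul, ← map_mul,
      comm_of_isPGroup (fun e => absurd e hp) Q.isPGroup' ha hb])
  exact Subtype.ext (by simp only [coe_mul, ← map_mul, this])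

end Cfsg.Agent.S2231
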