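import Cfsg.Statements.S2245
import Cfsg.Agent.H21.SymSyl3

set_option autoImplicit false
open Cfsg

namespace Cfsg.Agent.S2245

open H21 Subgroup Equiv Equiv.Perm
open scoped Pointwise Nat commutatorElement

/-- For n ≥ 5 with n ≠ 6, a Sylow 2-subgroup of the alternating group A_n lies in exactly one maximal subgroup of A_n if and only if n = 2^k + 1 for some k ≥ 2; the same holds for the symmetric group S_n. -/
theorem result (n : ℕ) (hn : 5 ≤ n) (h6 : n ≠ 6) :
    ((∀ R : Sylow 2 ↥(alternatingGroup (Fin n)), (∃! M : Subgroup ↥(alternatingGroup (Fin n)), IsCoatom M ∧ (R : Subgroup ↥(alternatingGroup (Fin n))) ≤ M) ↔ ∃ k : ℕ, 2 ≤ k ∧ n = 2 ^ k + 1) ∧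
    (∀ R : Sylow 2 (Equiv.Perm (Fin n)), (∃! M : Subgroup (Equiv.Perm (Fin n)), IsCoatom M ∧ (R : Subgroup (Equiv.Perm (Fin n))) ≤ M) ↔ ∃ k : ℕ, 2 ≤ k ∧ n = 2 ^ k + 1)) := by
  have h5 : 5 ≤ Fintype.card (Fin n) := by simpa using hn
  have hk : ∀ k, n = 2 ^ k + 1 → 2 ≤ k := fun k e => by
    by_contra h
    have : k ≤ 1 := by omega
    interval_cases k <;> omega
  refine ⟨fun R => ⟨fun h => ?_, fun ⟨k, _, e⟩ => ?_⟩, fun P => ⟨fun h => ?_, fun ⟨k, _, e⟩ => ?_⟩⟩
  · obtain ⟨k, e⟩ := (cases_of_unique_alt h5 R h).resolve_right (by omega)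
    rw [Fintype.card_fin] at e
    exact ⟨k, hk k e, e⟩
  · obtain ⟨P, hP⟩ := exists_sylow_alt R
    obtain ⟨x, h1, h2⟩ := alt_le_of_move (k := k) (by omega) (by simpa using e) P
    obtain ⟨y, hy⟩ := Fintype.exists_ne_of_one_lt_card (by omega) x
    refine unique_coatom_iff.2 ⟨(MulAction.stabilizer _ ({x} : Set (Fin n))).subgroupOf _,
      mt subgroupOf_eq_top.1 (not_alt_le_stabilizer (by omega) rfl hy), fun g hg => ?_,
      fun Y hY k g hg => by_contra fun k' => k ?_⟩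
    · simpa [mem_subgroupOf] using h1 g (hP.le ⟨g, hg, rfl⟩).1
    · exact H1.map_subtype_eq_self_iff.1 (le_antisymm (map_subtype_le _) (h2 _ (hP ▸ map_mono hY)
        (map_subtype_le _) g ⟨g, hg, rfl⟩ (by simpa [mem_subgroupOf] using k')))
  · by_contra k
    obtain ⟨M, h1, h2, h3⟩ := unique_coatom_iff.1 h
    obtain ⟨e, Q, hP⟩ := exists_wr P
    have ht := hP.ge (tau_mem e Q ⟨0, by omega⟩)
    refine h1 (eq_top_of_alt_le (alt_le_of_overgroups h5 P (fun Y hY k => inf_le_left.trans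
      (h3 Y hY fun e => k (e ▸ le_top))) (fun j e => k ?_) (by omega) (by omega) (by omega))
      (h2 ht) (sign_tau _ _))
    rw [Fintype.card_fin] at e
    exact ⟨j, hk j e, e⟩
  · obtain ⟨x, h1, h2⟩ := eq_top_of_move (k := k) (by omega) (by simpa using e) P
    obtain ⟨y, hy⟩ := Fintype.exists_ne_of_one_lt_card (by omega) x
    exact unique_coatom_iff.2 ⟨MulAction.stabilizer _ ({x} : Set (Fin n)),
      fun e => not_alt_le_stabilizer (s := {x}) (by omega) rfl hy (e ▸ le_top), fun g hg => by simpa using h1 g hg,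
      fun Y hY k g hg => by_contra fun k' => k (h2 Y hY g hg (by simpa using k'))⟩

end Cfsg.Agent.S2245
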