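import Cfsg.Statements.S2269
import Cfsg.Agent.H21.SymSyl2

set_option autoImplicit false
open Cfsg

namespace Cfsg.Agent.S2269

open H21 Subgroup Equiv Equiv.Perm
open scoped Pointwise Nat commutatorElement

/-- Let n ≥ 5 and let P be an abelian Sylow p-subgroup of the alternating group A_n. Then N(P)/C(P) (taken in A_n) has even order, or P is cyclic, except when n = 5 and p = 2, where P is a four-group and N(P)/C(P) has order 3. -/
theorem result (n : ℕ) (hn : 5 ≤ n) {p : ℕ} [Fact p.Prime]
    (P : Sylow p (alternatingGroup (Fin n))) (hP : IsMulCommutative (P : Subgroup (alternatingGroup (Fin n)))) :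
    (¬ (n = 5 ∧ p = 2) → 2 ∣ ((Subgroup.centralizer ((P : Subgroup (alternatingGroup (Fin n))) : Set (alternatingGroup (Fin n)))).subgroupOf (Subgroup.normalizer ((P : Subgroup (alternatingGroup (Fin n))) : Set (alternatingGroup (Fin n))))).index ∨ IsCyclic (P : Subgroup (alternatingGroup (Fin n)))) ∧
    ((n = 5 ∧ p = 2) → ((Subgroup.centralizer ((P : Subgroup (alternatingGroup (Fin n))) : Set (alternatingGroup (Fin n)))).subgroupOf (Subgroup.normalizer ((P : Subgroup (alternatingGroup (Fin n))) : Set (alternatingGroup (Fin n))))).index = 3 ∧ IsKleinFour (P : Subgroup (alternatingGroup (Fin n)))) := by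
  have hp : p.Prime := Fact.out
  refine ⟨fun h => ?_, ?_⟩
  swap
  · rintro ⟨rfl, rfl⟩
    exact (a5_klein P).symm
  have h2 : p ≠ 2 := by
    rintro rfl
    exact sylow_two_alt_noncomm (by rw [Fintype.card_fin]; omega) P hP
  by_cases h3 : p + 2 ≤ n
  · obtain ⟨x, hx, h4, -⟩ := exists_prime_cycle (α := Fin n) hp (by simp; omega)
    have h5 := mem_alt_of_odd (hx ▸ hp.odd_of_ne_two h2)
    exact .inl (two_dvd_automizer h2 P hP (x := ⟨x, h5⟩) (by rw [Subgroup.orderOf_mk, hx])
      (alternatingGroup.isConj_of (isConj_iff_cycleType_eq.2 (cycleType_inv x).symm)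
        (by simpa [h4] using h3)))
  right
  have h4 : (Nat.card (alternatingGroup (Fin n))).factorization p ≤ 1 := by
    have k1 := card_alt_two_mul (α := Fin n) (by simp; omega)
    have k2 : n / p ≤ 1 := Nat.lt_succ_iff.1 ((Nat.div_lt_iff_lt_mul hp.pos).2 (by omega))
    have k3 := H8.fact_factorial hp n
    rw [Fintype.card_fin] at k1
    rw [← k1, Nat.factorization_mul two_ne_zero Nat.card_pos.ne'] at k3
    interval_cases n / p <;> simp at k3 ⊢ <;> omega
  have h5 := P.card_eq_multiplicity
  interval_cases (Nat.card (alternatingGroup (Fin n))).factorization p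
  · rw [card_eq_one.1 h5]; infer_instance
  · exact isCyclic_of_prime_card (h5.trans (pow_one p))

end Cfsg.Agent.S2269
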