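import Cfsg.Statements.S2271

set_option autoImplicit false
open Cfsg

namespace Cfsg.Agent.S2271

open Equiv Equiv.Perm Finset

section
variable {n : ℕ}

/-- number of agreements -/
def F (a b : Perm (Fin n)) : ℕ := #{x | a x = b x}

theorem F_conj (u a b : Perm (Fin n)) : F (u * a * u⁻¹) (u * b * u⁻¹) = F a b := by
  refine (card_bij (fun x _ => u x) ?_ ?_ ?_).symm
  · simp
  · simp
  · intro y hy
    exact ⟨u⁻¹ y, by simpa using hy, by simp⟩

theorem card_fix (a b : Perm (Fin n)) : Nat.card (Function.fixedPoints ⇑(a * b)) = F a b⁻¹ := by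
  rw [F, ← Fintype.card_subtype, ← Nat.card_eq_fintype_card]
  refine Nat.card_congr (Equiv.subtypeEquiv b fun x => ?_)
  simp [Function.IsFixedPt]

theorem avoid (hn : 5 ≤ n) (p q r s : Fin n) : ∃ k, k ≠ p ∧ k ≠ q ∧ k ≠ r ∧ k ≠ s := by
  have : #({p, q, r, s} : Finset (Fin n)) < #(univ : Finset (Fin n)) := by
    have := card_le_four (a := p) (b := q) (c := r) (d := s)
    rw [card_univ, Fintype.card_fin]; omega
  obtain ⟨k, -, hk⟩ := exists_mem_notMem_of_card_lt_card this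
  exact ⟨k, by simpa using hk⟩

theorem tri (hn : 5 ≤ n) {x₁ x₂ x₃ y₁ y₂ y₃ : Fin n} (h12 : x₁ ≠ x₂) (h13 : x₁ ≠ x₃) (h23 : x₂ ≠ x₃)
    (k12 : y₁ ≠ y₂) (k13 : y₁ ≠ y₃) (k23 : y₂ ≠ y₃) :
    ∃ g ∈ alternatingGroup (Fin n), g x₁ = y₁ ∧ g x₂ = y₂ ∧ g x₃ = y₃ := by
  haveI := alternatingGroup.isMultiplyPretransitive (Fin n)
  have h : MulAction.IsMultiplyPretransitive (alternatingGroup (Fin n)) (Fin n) 3 :=
    MulAction.isMultiplyPretransitive_of_le (n := Nat.card (Fin n) - 2) (by simp; omega) (by omega)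
  have inj : ∀ {a b c : Fin n}, a ≠ b → a ≠ c → b ≠ c → Function.Injective ![a, b, c] := by
    intro a b c h1 h2 h3 i j
    fin_cases i <;> fin_cases j <;> simp [h1, h2, h3, h1.symm, h2.symm, h3.symm]
  obtain ⟨g, hg⟩ := MulAction.isMultiplyPretransitive_iff.1 h ⟨_, inj h12 h13 h23⟩ ⟨_, inj k12 k13 k23⟩
  exact ⟨g, g.2, DFunLike.congr_fun hg 0, DFunLike.congr_fun hg 1, DFunLike.congr_fun hg 2⟩

theorem two (hn : 5 ≤ n) {x₁ x₂ y₁ y₂ : Fin n} (h12 : x₁ ≠ x₂) (k12 : y₁ ≠ y₂) :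
    ∃ g ∈ alternatingGroup (Fin n), g x₁ = y₁ ∧ g x₂ = y₂ := by
  obtain ⟨x, h1, h2, -⟩ := avoid hn x₁ x₂ x₁ x₁
  obtain ⟨y, k1, k2, -⟩ := avoid hn y₁ y₂ y₁ y₁
  obtain ⟨g, hg, a1, a2, -⟩ := tri hn h12 h1.symm h2.symm k12 k1.symm k2.symm
  exact ⟨g, hg, a1, a2⟩

theorem step (hn : 5 ≤ n) {a b : Perm (Fin n)} {i : Fin n} (h1 : a i = b i) (h2 : a i ≠ i) :
    ∃ t : Perm (Fin n), F (t * a * t⁻¹) b < F a b := by
  obtain ⟨k, k1, k2, k3, k4⟩ := avoid hn i (a i) (b (a⁻¹ i)) (a (b⁻¹ i))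
  refine ⟨swap i k, card_lt_card ⟨fun x hx => ?_, fun h => ?_⟩⟩
  all_goals
    have hi : ¬ (swap i k * a * (swap i k)⁻¹) i = b i := by
      rw [swap_inv, Perm.mul_apply, Perm.mul_apply, swap_apply_left, ← h1, swap_apply_eq_iff,
        swap_apply_of_ne_of_ne h2 k2.symm]
      simpa using k1
  · simp only [mem_filter, mem_univ, true_and] at hx ⊢
    by_cases e1 : x = i
    · exact absurd (e1 ▸ hx) hi
    rw [swap_inv, Perm.mul_apply, Perm.mul_apply] at hx
    by_cases e2 : x = k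
    · rw [e2, swap_apply_right, swap_apply_of_ne_of_ne h2 k2.symm, h1] at hx
      exact absurd (b.injective hx).symm k1
    rw [swap_apply_of_ne_of_ne e1 e2] at hx
    by_cases e3 : a x = i
    · rw [e3, swap_apply_left] at hx
      exact absurd (by rw [hx, ← e3]; simp) k3
    by_cases e4 : a x = k
    · rw [e4, swap_apply_right] at hx
      exact absurd (by rw [hx, ← e4]; simp) k4
    rwa [swap_apply_of_ne_of_ne e3 e4] at hx
  · have : i ∈ ({x | a x = b x} : Finset (Fin n)) := by simpa using h1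
    exact hi (Finset.mem_filter.1 (h this)).2

theorem avg (hn : 5 ≤ n) {a b : Perm (Fin n)} (ha : a ≠ 1) (hb : ∀ x y, b x = x → b y = y → x = y) :
    ∃ g ∈ alternatingGroup (Fin n), F (g * a * g⁻¹) b < 2 := by
  by_contra hc
  push Not at hc
  let N : Fin n → Fin n → ℕ := fun x y =>
    #{g : alternatingGroup (Fin n) | ((g : Perm (Fin n)) * a * (g : Perm (Fin n))⁻¹) x = y}
  set M := Fintype.card (alternatingGroup (Fin n)) with hM
  have h1 : ∀ x, ∑ y, N x y = M := fun x =>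
    (card_eq_sum_card_fiberwise (s := univ) (t := univ) (fun _ _ => mem_univ _)).symm
  have h2 : ∀ x y y', x ≠ y → x ≠ y' → N x y ≤ N x y' := by
    intro x y y' e1 e2
    obtain ⟨h, hh, a1, a2⟩ := two hn e1 e2
    refine card_le_card_of_injOn (fun g => ⟨h, hh⟩ * g) (fun g hg => ?_) (mul_right_injective _).injOn
    have hg := (Finset.mem_filter.1 (mem_coe.1 hg)).2
    refine mem_coe.2 (Finset.mem_filter.2 ⟨mem_univ _, ?_⟩)
    simp only [Subgroup.coe_mul, mul_inv_rev, Perm.mul_apply] at hg ⊢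
    rw [show h⁻¹ x = x from Perm.inv_eq_iff_eq.2 a1.symm, hg, a2]
  have h3 : ∀ x y, x ≠ y → (n - 1) * N x y ≤ M := by
    intro x y e
    calc (n - 1) * N x y = ∑ _y' ∈ univ.erase x, N x y := by simp
      _ ≤ ∑ y' ∈ univ.erase x, N x y' := sum_le_sum fun y' hy => h2 x y y' e (ne_of_mem_erase hy).symm
      _ ≤ ∑ y', N x y' := sum_le_sum_of_subset (erase_subset _ _)
      _ = M := h1 x
  have h4 : M * 2 ≤ ∑ x, N x (b x) := by
    calc M * 2 = ∑ _g : alternatingGroup (Fin n), 2 := by simp [hM]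
      _ ≤ ∑ g : alternatingGroup (Fin n), F ((g : Perm (Fin n)) * a * (g : Perm (Fin n))⁻¹) b := sum_le_sum fun g _ => hc g g.2
      _ = _ := by
        simp only [F, N, card_filter]
        exact sum_comm
  have hM0 : 0 < M := Fintype.card_pos
  obtain ⟨x₀, hx₀, hN⟩ : ∃ x₀, (∀ x, x ≠ x₀ → x ≠ b x) ∧ N x₀ (b x₀) < M := by
    by_cases h : ∃ x, b x = x
    · obtain ⟨x₀, h⟩ := h
      refine ⟨x₀, fun x e e' => e (hb _ _ e'.symm h), ?_⟩
      obtain ⟨y, hy⟩ : ∃ y, a y ≠ y := by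
        by_contra h; push Not at h; exact ha (Equiv.ext h)
      obtain ⟨z, hz, -⟩ := avoid hn x₀ x₀ x₀ x₀
      obtain ⟨g, hg, a1, a2⟩ := two hn hy.symm hz.symm
      refine card_lt_card ⟨subset_univ _, fun hs => ?_⟩
      have := (Finset.mem_filter.1 (hs (mem_univ ⟨g, hg⟩))).2
      simp only [Perm.mul_apply] at this
      rw [show g⁻¹ x₀ = y from Perm.inv_eq_iff_eq.2 a1.symm, a2, h] at this
      exact hz this
    · push Not at h
      refine ⟨⟨0, by omega⟩, fun x _ => (h x).symm, ?_⟩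
      have := h3 _ _ (h ⟨0, by omega⟩).symm
      have h5 : 4 ≤ n - 1 := by omega
      nlinarith
  have h5 : (n - 1) * ∑ x ∈ univ.erase x₀, N x (b x) ≤ (n - 1) * M := by
    rw [mul_sum]
    calc _ ≤ ∑ _x ∈ univ.erase x₀, M := sum_le_sum fun x hx => h3 x _ (hx₀ x (ne_of_mem_erase hx))
      _ = _ := by simp
  have h6 := Nat.le_of_mul_le_mul_left h5 (by omega)
  rw [← add_sum_erase _ _ (mem_univ x₀)] at h4
  omega

theorem main (hn : 5 ≤ n) {a b : Perm (Fin n)} (ha : a ≠ 1) (hb : b ≠ 1) :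
    ∃ g ∈ alternatingGroup (Fin n), F (g * a * g⁻¹) b ≠ F a b := by
  by_contra hc
  push Not at hc
  obtain ⟨x, hx⟩ : ∃ y, a y ≠ y := by
    by_contra h; push Not at h; exact ha (Equiv.ext h)
  obtain ⟨y, hy⟩ : ∃ y, b y ≠ y := by
    by_contra h; push Not at h; exact hb (Equiv.ext h)
  have odd : ∀ c : Perm (Fin n), sign c = -1 → (c * a = a * c ∨ c * b = b * c) → False := by
    intro c hs hcc
    have hall : ∀ g : Perm (Fin n), F (g * a * g⁻¹) b = F a b := by
      intro g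
      rcases Int.units_eq_one_or (sign g) with h | h
      · exact hc g (mem_alternatingGroup.2 h)
      rcases hcc with e | e
      · rw [← hc (g * c) (by simp [mem_alternatingGroup, h, hs])]
        congr 1
        rw [mul_assoc g c a, e]; group
      · rw [← hc (c * g) (by simp [mem_alternatingGroup, h, hs]), ← F_conj c, e]
        congr 1 <;> group
    obtain ⟨g, -, a1, a2⟩ := two hn hx.symm hy.symm
    have e : (g * a * g⁻¹) y = b y := by
      rw [Perm.mul_apply, Perm.mul_apply, show g⁻¹ y = x from Perm.inv_eq_iff_eq.2 a1.symm, a2]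
    obtain ⟨t, ht⟩ := step hn e (e ▸ hy)
    rw [hall g, show t * (g * a * g⁻¹) * t⁻¹ = (t * g) * a * (t * g)⁻¹ by group, hall] at ht
    exact lt_irrefl _ ht
  have nx : a (a x) ≠ x := fun h =>
    odd (swap x (a x)) (sign_swap hx.symm) (Or.inl (by rw [mul_swap_eq_swap_mul, h, swap_comm]))
  have ny : b (b y) ≠ y := fun h =>
    odd (swap y (b y)) (sign_swap hy.symm) (Or.inr (by rw [mul_swap_eq_swap_mul, h, swap_comm]))
  have fb : ∀ x y, b x = x → b y = y → x = y := fun x y h1 h2 => by_contra fun h =>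
    odd (swap x y) (sign_swap h) (Or.inr (by rw [mul_swap_eq_swap_mul, h1, h2]))
  obtain ⟨g, hg, a1, a2, a3⟩ := tri hn hx.symm nx.symm (a.injective.ne hx).symm hy.symm ny.symm
    (b.injective.ne hy).symm
  obtain ⟨g', hg', h⟩ := avg hn ha fb
  rw [hc g' hg', ← hc g hg] at h
  have : #({y, b y} : Finset (Fin n)) ≤ F (g * a * g⁻¹) b := by
    refine card_le_card fun z hz => Finset.mem_filter.2 ⟨mem_univ _, ?_⟩
    simp only [mem_insert, mem_singleton, Perm.mul_apply] at hz ⊢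
    rcases hz with rfl | rfl
    · rw [show g⁻¹ z = x from Perm.inv_eq_iff_eq.2 a1.symm, a2]
    · rw [show g⁻¹ (b y) = a x from Perm.inv_eq_iff_eq.2 a2.symm, a3]
  rw [card_pair hy.symm] at this
  omega

end

/-- Let n ≥ 5 and let a, b be non-identity permutations in the symmetric group S_n. Then the number of fixed points is not constant on the set of products a′b′ with a′ conjugate to a and b′ conjugate to b under the alternating group: there are even permutations g₁, h₁, g₂, h₂ such that (g₁ a g₁⁻¹)(h₁ b h₁⁻¹) and (g₂ a g₂⁻¹)(h₂ b h₂⁻¹) have different numbers of fixed points. -/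
theorem result (n : ℕ) (hn : 5 ≤ n) (a b : Equiv.Perm (Fin n)) (ha : a ≠ 1) (hb : b ≠ 1) :
    ∃ g₁ h₁ g₂ h₂ : Equiv.Perm (Fin n), g₁ ∈ alternatingGroup (Fin n) ∧ h₁ ∈ alternatingGroup (Fin n) ∧ g₂ ∈ alternatingGroup (Fin n) ∧ h₂ ∈ alternatingGroup (Fin n) ∧
      Nat.card (Function.fixedPoints ⇑(g₁ * a * g₁⁻¹ * (h₁ * b * h₁⁻¹))) ≠
        Nat.card (Function.fixedPoints ⇑(g₂ * a * g₂⁻¹ * (h₂ * b * h₂⁻¹))) := by
  obtain ⟨g, hg, h⟩ := main hn ha (inv_ne_one.2 hb)
  refine ⟨g, 1, 1, 1, hg, one_mem _, one_mem _, one_mem _, ?_⟩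
  rw [card_fix, card_fix]
  simpa using h

end Cfsg.Agent.S2271
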