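import Cfsg.Statements.S2272
import Cfsg.Agent.H22.AH

set_option autoImplicit false
open Cfsg

namespace Cfsg.Agent.S2272

/-- Let F be a finite field and d ≥ 3, and let a, b be non-identity elements of PSL_d(F). Then the product of the conjugacy classes of a and b is not a single conjugacy class: there are conjugates a′ of a and b′ of b such that a′b′ is not conjugate to ab. -/
theorem result {F : Type*} [Field F] [Fintype F] (d : ℕ) (hd : 3 ≤ d)
    (a b : Matrix.ProjectiveSpecialLinearGroup (Fin d) F) (ha : a ≠ 1) (hb : b ≠ 1) :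
    ∃ g h : Matrix.ProjectiveSpecialLinearGroup (Fin d) F, ¬ IsConj (a * b) (g * a * g⁻¹ * (h * b * h⁻¹)) := by
  obtain ⟨a, rfl⟩ := QuotientGroup.mk_surjective a
  obtain ⟨b, rfl⟩ := QuotientGroup.mk_surjective b
  have key : ∀ {a : Matrix.SpecialLinearGroup (Fin d) F}, (a : Matrix.ProjectiveSpecialLinearGroup (Fin d) F) ≠ 1 →
      ¬ ∃ c : F, a.1 = c • 1 := fun ha ⟨c, hc⟩ => ha ((QuotientGroup.eq_one_iff _).2
    (Subgroup.mem_center_iff.2 fun y => Subtype.ext (by simp [hc])))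
  by_contra! H
  have h1 : ∀ τ : F, ∃ c : F, c ≠ 0 ∧ τ = c * (a * b).1.trace := fun τ => by
    obtain ⟨g, hg⟩ := H22.AH.trace_surj (by simpa) (key ha) (key hb) τ
    obtain ⟨x, hx⟩ := isConj_iff.1 (H 1 g)
    obtain ⟨x, rfl⟩ := QuotientGroup.mk_surjective x
    obtain ⟨c, h1, h2⟩ := Matrix.SpecialLinearGroup.mem_center_iff.1 (QuotientGroup.eq.1
      (show ((x * (a * b) * x⁻¹ : Matrix.SpecialLinearGroup (Fin d) F) : Matrix.ProjectiveSpecialLinearGroup (Fin d) F) =
        (a * (g * b * g⁻¹) : Matrix.SpecialLinearGroup (Fin d) F) by simpa using hx))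
    refine ⟨c, by rintro rfl; simp [show d ≠ 0 by omega] at h1, ?_⟩
    rw [← hg, ← mul_inv_cancel_left (x * (a * b) * x⁻¹) (a * (g * b * g⁻¹)), Matrix.SpecialLinearGroup.coe_mul, ← h2,
      Matrix.scalar_apply, ← Matrix.smul_one_eq_diagonal, Matrix.mul_smul, Matrix.mul_one, Matrix.trace_smul,
      Matrix.SpecialLinearGroup.coe_mul, Matrix.trace_mul_comm, ← Matrix.SpecialLinearGroup.coe_mul,
      inv_mul_cancel_left, smul_eq_mul]
  obtain ⟨c, h2, h3⟩ := h1 0
  obtain ⟨c', -, h4⟩ := h1 1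
  rw [(mul_eq_zero.1 h3.symm).resolve_left h2] at h4
  simp at h4

end Cfsg.Agent.S2272
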