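import Cfsg.Statements.S2277
import Cfsg.Agent.H3.NPC
import Cfsg.Agent.H2.CoprimeAbelian
import Cfsg.Agent.H1.Fitting
import Cfsg.Agent.H28.Sylow

set_option autoImplicit false
open Cfsg

namespace Cfsg.Agent.S2277

open Subgroup
open scoped IsMulCommutative

/-- fixed points of an automorphism -/
def Fx {V : Type*} [Group V] (c : MulAut V) : Subgroup V := (c : V →* V).eqLocus (MonoidHom.id V)

theorem cube {V : Type*} [CommGroup V] [Finite V] {b c w : MulAut V} (h1 : c * b = w * b * c)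
    (h2 : w * c = c * w) (h3 : w * b = b * w) (h4 : ∀ v, w v = v → v = 1)
    (h5 : ∀ v, w (w v) = v → v = 1) : Nat.card (Fx c) ^ 3 ≤ Nat.card V := by
  let f : Fx c × Fx c × Fx c →* V := MonoidHom.mk' (fun u => u.1.1 * b u.2.1.1 * b (b u.2.2.1))
    fun u v => by simp only [Prod.fst_mul, Prod.snd_mul, coe_mul, map_mul]; ac_rfl
  have e1 : ∀ v, c (b v) = w (b (c v)) := fun v => DFunLike.congr_fun h1 v
  have e2 : ∀ v, c (w v) = w (c v) := fun v => (DFunLike.congr_fun h2 v).symm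
  have e3 : ∀ v, b (w v) = w (b v) := fun v => (DFunLike.congr_fun h3 v).symm
  have hf : Function.Injective f := (injective_iff_map_eq_one f).2 fun ⟨x, y, z⟩ h => by
    have hx : c x.1 = x.1 := x.2
    have hy : c (b y.1) = w (b y.1) := by rw [e1, show c y.1 = y.1 from y.2]
    have hz : c (b (b z.1)) = w (w (b (b z.1))) := by
      rw [e1, e1, show c z.1 = z.1 from z.2, e3]
    change x.1 * b y.1 * b (b z.1) = 1 at h
    set u := b (b z.1) with hu
    have a1 := congrArg c h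
    have a2 := congrArg w h
    rw [map_mul, map_mul, map_one] at a1 a2
    rw [hx, hy, hz] at a1
    have a3 : x.1 / w x.1 * (w (w u) / w u) = 1 := by
      rw [div_mul_div_comm, div_eq_one]
      refine mul_right_cancel (b := w (b y.1)) ?_
      rw [mul_right_comm, a1, mul_right_comm, a2]
    have a4 := congrArg c a3
    rw [map_mul, map_div, map_div, e2, e2, e2, hx, hz, map_one, ← a3, mul_right_inj,
      ← map_div w (w (w (w u))), ← map_div w (w (w u)) (w u)] at a4
    have a5 := h5 _ a4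
    rw [a5, mul_one, div_eq_one] at a3
    rw [div_eq_one] at a5
    have a6 : u = 1 := by simpa using h4 _ a5
    have a7 := h4 _ a3.symm
    rw [a6, a7, one_mul, mul_one] at h
    exact Prod.ext (Subtype.ext a7) (Prod.ext (Subtype.ext (by simpa using h))
      (Subtype.ext (by simpa using hu.symm.trans a6)))
  have := Nat.card_le_card_of_injective f hf
  rwa [Nat.card_prod, Nat.card_prod, ← sq, ← pow_succ'] at this

theorem core {V Γ : Type*} [CommGroup V] [Finite V] [Group Γ] [Finite Γ] {p : ℕ} [hp : Fact p.Prime]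
    (hp3 : 3 ≤ p) (hΓ : IsPGroup p Γ) (φ : Γ →* MulAut V)
    (hi : ∀ W : Subgroup V, (∀ g, ∀ v ∈ W, φ g v ∈ W) → W = ⊥ ∨ W = ⊤) (C D : Set Γ)
    (hC : ∀ A : Subgroup Γ, A ≠ ⊤ → ∃ c ∈ C, c ∉ A) (hD : ∀ A : Subgroup Γ, A ≠ ⊤ → ∃ c ∈ D, c ∉ A)
    (h : ∀ c ∈ C, ∀ d ∈ D, ∀ v, ∃ a b, φ d a = a ∧ φ c b = b ∧ v = a * b) : φ.ker = ⊤ := by
  by_contra h0
  have hQ : IsPGroup p φ.range := hΓ.of_surjective _ φ.rangeRestrict_surjective
  have fp : ∀ z ∈ center φ.range, z ≠ 1 → ∀ v, z.1 v = v → v = 1 := fun z hz hz1 v hv => by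
    rcases hi (Fx z.1) (fun g v hv => by
      have e := DFunLike.congr_fun (congrArg Subtype.val (mem_center_iff.1 hz ⟨_, g, rfl⟩)) v
      exact e.symm.trans (congrArg (φ g) hv)) with e | e
    · exact mem_bot.1 (e ▸ hv : v ∈ (⊥ : Subgroup V))
    · refine absurd (Subtype.ext (MulEquiv.ext fun u => ?_)) hz1
      exact e.ge (mem_top u)
  obtain ⟨A, hA, hs⟩ : ∃ A : Subgroup Γ, A ≠ ⊤ ∧
      ∀ c ∉ A, Nat.card (Fx (φ c)) ^ 3 ≤ Nat.card V := by
    by_cases hz : center φ.range = ⊤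
    · refine ⟨φ.ker, h0, fun c hc => ?_⟩
      rw [show Fx (φ c) = ⊥ from (eq_bot_iff_forall _).2 fun v hv => fp ⟨_, c, rfl⟩ (hz ▸ mem_top _)
        (fun e => hc (congrArg Subtype.val e)) v hv, card_bot, one_pow]
      exact Nat.card_pos
    have : Nontrivial (φ.range ⧸ center φ.range) := QuotientGroup.nontrivial_iff.2 hz
    have := (hQ.to_quotient (center φ.range)).center_nontrivial
    obtain ⟨⟨b', hb⟩, hb1⟩ := exists_ne (1 : center (φ.range ⧸ center φ.range))
    obtain ⟨b, rfl⟩ := QuotientGroup.mk'_surjective _ b'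
    refine ⟨(centralizer {b}).comap φ.rangeRestrict, fun e => hb1 (Subtype.ext
      ((QuotientGroup.eq_one_iff b).2 (mem_center_iff.2 fun g => ?_))), fun c hc => ?_⟩
    · obtain ⟨g, rfl⟩ := φ.rangeRestrict_surjective g
      exact mem_centralizer_singleton_iff.1 (e ▸ mem_top g : g ∈ (centralizer {b}).comap _)
    set c' := φ.rangeRestrict c
    have w1 : c' * b * c'⁻¹ * b⁻¹ ∈ center φ.range := by
      rw [← QuotientGroup.eq_one_iff, ← QuotientGroup.mk'_apply, map_mul, map_mul, map_mul,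
        mem_center_iff.1 hb]
      simp
    set w := c' * b * c'⁻¹ * b⁻¹ with hw
    have w2 : w ≠ 1 := fun e => hc (mem_centralizer_singleton_iff.2 (by
      rwa [hw, mul_inv_eq_one, mul_inv_eq_iff_eq_mul] at e))
    refine cube (b := b.1) (w := w.1) (congrArg Subtype.val (show c' * b = w * b * c' by
      rw [hw]; group)) (congrArg Subtype.val (mem_center_iff.1 w1 c').symm)
      (congrArg Subtype.val (mem_center_iff.1 w1 b).symm) (fp w w1 w2)
      (fp (w * w) (mul_mem w1 w1) fun e => w2 ?_)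
    refine H3.eq_one_of_coprime_of_isPGroup hQ (Nat.Coprime.coprime_dvd_left
      (orderOf_dvd_of_pow_eq_one (n := 2) (by rwa [sq])) ?_)
    exact (Nat.coprime_primes Nat.prime_two hp.out).2 (by omega)
  obtain ⟨c, c1, c2⟩ := hC A hA
  obtain ⟨d, d1, d2⟩ := hD A hA
  have h1 : Nat.card V ≤ Nat.card (Fx (φ d)) * Nat.card (Fx (φ c)) := by
    rw [← Nat.card_prod]
    refine Nat.card_le_card_of_surjective (fun u => u.1.1 * u.2.1) fun v => ?_
    obtain ⟨a, b, ha, hb, rfl⟩ := h c c1 d d1 v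
    exact ⟨(⟨a, ha⟩, ⟨b, hb⟩), rfl⟩
  have h2 := Nat.pow_le_pow_left h1 3
  rw [mul_pow] at h2
  have h3 := h2.trans (Nat.mul_le_mul (hs d d2) (hs c c2))
  have h4 : Nat.card V ≤ 1 := by
    by_contra! h5
    nlinarith [Nat.mul_pos (zero_lt_one.trans h5) (zero_lt_one.trans h5)]
  have := Finite.card_le_one_iff_subsingleton.1 h4
  exact h0 (eq_top_iff.2 fun g _ => MulEquiv.ext fun _ => Subsingleton.elim _ _)


/-- Let p ≥ 3 be prime and G a finite group with a Sylow p-subgroup P and a normal p-complement N (N normal, of order prime to p, with NP = G). Suppose P is generated by a subset C and also by a subset D, and that ⟨x c x⁻¹, d⟩ is a p-group for all x ∈ N, c ∈ C, d ∈ D. Then P centralizes N, so that G = N × P. -/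
theorem result {G : Type*} [Group G] [Finite G] (p : ℕ) [Fact p.Prime] (hp3 : 3 ≤ p) (P : Sylow p G)
    (N : Subgroup G) [N.Normal] (hN : (Nat.card N).Coprime p) (hNP : N ⊔ (P : Subgroup G) = ⊤)
    (C D : Set G) (hC : Subgroup.closure C = (P : Subgroup G)) (hD : Subgroup.closure D = (P : Subgroup G))
    (h : ∀ x ∈ N, ∀ c ∈ C, ∀ d ∈ D, IsPGroup p ↥(Subgroup.closure ({x * c * x⁻¹, d} : Set G))) :
    ⁅(P : Subgroup G), N⁆ = ⊥ := by
  have hP := P.isPGroup'
  have hcop : ∀ M ≤ N, (Nat.card P).Coprime (Nat.card M) := fun M hM =>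
    (H2.coprime_card_of_isPGroup hP (hN.coprime_dvd_left (card_dvd_of_le hM))).symm
  have h1 : ∀ x ∈ N, ∀ g ∈ (P : Subgroup G), x⁻¹ * g * x ∈ (P : Subgroup G) → g * x * g⁻¹ = x :=
    fun x hx g hg hxg => by
    have : x⁻¹ * (g * x * g⁻¹) = 1 := H28.eq_one_of_coprime_of_mem hP
      (hN.coprime_dvd_left (orderOf_dvd_natCard N
        (N.mul_mem (N.inv_mem hx) (Normal.conj_mem inferInstance x hx g))))
      (by simpa only [mul_assoc] using P.1.mul_mem hxg (P.1.inv_mem hg))
    exact (inv_mul_eq_one.1 this).symm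
  have h2 : ∀ M ≤ N, (P : Subgroup G) ≤ normalizer M → ∀ c ∈ C, ∀ d ∈ D, ∀ x ∈ M,
      ∃ a ∈ M, ∃ b ∈ M, d * a * d⁻¹ = a ∧ c * b * c⁻¹ = b ∧ x = a * b := by
    intro M hM hn c hc d hd x hx
    have c1 : c ∈ (P : Subgroup G) := hC ▸ subset_closure hc
    have d1 : d ∈ (P : Subgroup G) := hD ▸ subset_closure hd
    obtain ⟨g, hg, e⟩ := (H28.isSylowIn_of_sylow_le P (le_sup_left (b := M))).exists_conj_le
      (h x (hM hx) c hc d hd) ((closure_le _).2 (by
        rintro _ (rfl | rfl)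
        · exact mul_mem (mul_mem (mem_sup_right hx) (mem_sup_left c1)) (inv_mem (mem_sup_right hx))
        · exact mem_sup_left d1))
    obtain ⟨u, hu, m, hm, rfl⟩ := (H28.mem_sup_of_le_normalizer hn).1 hg
    have e2 : ∀ y ∈ closure {x * c * x⁻¹, d}, m * y * m⁻¹ ∈ (P : Subgroup G) := fun y hy => by
      have := P.1.mul_mem (P.1.mul_mem (P.1.inv_mem hu) (e (H28.conj_mem_cj hy))) hu
      simpa [mul_assoc] using this
    refine ⟨m⁻¹, M.inv_mem hm, m * x, M.mul_mem hm hx, h1 _ (hM (M.inv_mem hm)) d d1 ?_, ?_, by simp⟩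
    · simpa using e2 d (subset_closure (by simp))
    · have := h1 _ (hM (M.inv_mem (M.mul_mem hm hx))) c c1 (by
        simpa [mul_assoc] using e2 _ (subset_closure (Set.mem_insert _ _)))
      rw [← inv_inj, ← this]; group
  have h3 : ∀ (r : ℕ) [Fact r.Prime] (M : Subgroup G), M ≤ N → IsPGroup r M →
      (P : Subgroup G) ≤ normalizer M → (P : Subgroup G) ≤ centralizer M := by
    intro r _ M
    induction M using WellFoundedLT.induction with | ind M ih => ?_
    intro hM hr hn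
    by_cases h0 : M = ⊥
    · rw [h0, H28.centralizer_bot]; exact le_top
    obtain ⟨L, ⟨l1, l2⟩, l3⟩ := exists_maximal_of_wellFoundedGT
      (fun L : Subgroup G => L < M ∧ (P : Subgroup G) ≤ normalizer L)
      ⟨⊥, bot_lt_iff_ne_bot.2 h0, by rw [H28.normalizer_bot]; exact le_top⟩
    have l4 : ∀ X : Subgroup G, L ≤ X → X ≤ M → (P : Subgroup G) ≤ normalizer X → X = L ∨ X = M :=
      fun X x1 x2 x3 => (x2.eq_or_lt.imp_right fun x4 => le_antisymm (l3 ⟨x4, x3⟩ x1) x1).symm
    have l5 : M ≤ normalizer L := by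
      have := H1.lt_normalizer_inf_of_isPGroup hr l1
      exact inf_eq_right.1 ((l4 _ this.le inf_le_right (H28.le_normalizer_inf
        (H28.le_normalizer_normalizer l2) hn)).resolve_left this.ne')
    have := (normal_subgroupOf_iff_le_normalizer l1.le).2 l5
    let φ := H2.quotAut (H2.conjAut hn) (L.subgroupOf M) fun a n hn' =>
      H28.conj_mem_of_mem_normalizer (l2 a.2) hn'
    have hi : ∀ W : Subgroup (M ⧸ L.subgroupOf M), (∀ g, ∀ v ∈ W, φ g v ∈ W) → W = ⊥ ∨ W = ⊤ := by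
      intro W hW
      rcases l4 ((W.comap (QuotientGroup.mk' _)).map M.subtype) (fun x hx => ⟨⟨x, l1.le hx⟩, by
        change _ ∈ W
        rw [QuotientGroup.mk'_apply,
          (QuotientGroup.eq_one_iff (N := L.subgroupOf M) ⟨x, l1.le hx⟩).2 hx]
        exact W.one_mem, rfl⟩) (map_subtype_le _) (H28.le_normalizer_of_cj_le fun g hg => by
          rintro _ ⟨_, ⟨y, hy, rfl⟩, rfl⟩
          exact ⟨H2.conjAut hn ⟨g, hg⟩ y, hW ⟨g, hg⟩ _ hy, rfl⟩) with e | e
      · refine Or.inl ((eq_bot_iff_forall _).2 fun v hv => ?_)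
        obtain ⟨y, rfl⟩ := QuotientGroup.mk'_surjective _ v
        exact (QuotientGroup.eq_one_iff _).2 (e.le ⟨y, hv, rfl⟩)
      · refine Or.inr (eq_top_iff.2 fun v _ => ?_)
        obtain ⟨y, rfl⟩ := QuotientGroup.mk'_surjective _ v
        obtain ⟨z, hz, e'⟩ := e.ge y.2
        exact (Subtype.ext e' : z = y) ▸ hz
    have : Nontrivial (M ⧸ L.subgroupOf M) :=
      QuotientGroup.nontrivial_iff.2 fun e => l1.not_ge (subgroupOf_eq_top.1 e)
    have : IsMulCommutative (M ⧸ L.subgroupOf M) := by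
      have e := (hi (center _) fun g v hv => H2.map_mem_of_characteristic _ _ hv).resolve_left
        ((nontrivial_iff_ne_bot _).1 (hr.to_quotient _).center_nontrivial)
      exact ⟨⟨fun a b => mem_center_iff.1 (e ▸ mem_top b) a⟩⟩
    have g1 : ∀ S : Set G, closure S = P → ∀ A : Subgroup (P : Subgroup G), A ≠ ⊤ →
        ∃ c ∈ Subtype.val ⁻¹' S, c ∉ A := fun S hS A hA => by
      by_contra! h4
      refine hA (eq_top_iff.2 fun y _ => ?_)
      have h5 : closure S ≤ A.map (P : Subgroup G).subtype := (closure_le _).2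
        fun s hs => ⟨⟨s, hS.le (subset_closure hs)⟩, h4 _ hs, rfl⟩
      obtain ⟨z, hz, e⟩ := h5 (hS.ge y.2)
      exact (Subtype.ext e : z = y) ▸ hz
    have k := core hp3 hP φ hi _ _ (g1 C hC) (g1 D hD) fun c hc d hd v => by
      obtain ⟨y, rfl⟩ := QuotientGroup.mk'_surjective _ v
      obtain ⟨a, ha, b, hb, e1, e2, e3⟩ := h2 M hM hn c hc d hd y y.2
      exact ⟨(⟨a, ha⟩ : M), (⟨b, hb⟩ : M), congrArg QuotientGroup.mk (Subtype.ext e1),
        congrArg QuotientGroup.mk (Subtype.ext e2), congrArg QuotientGroup.mk (Subtype.ext e3)⟩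
    refine H2.le_centralizer_of_stable (hcop L (l1.le.trans hM))
      (ih L l1 (l1.le.trans hM) (hr.to_le l1.le) l2) (commutator_le.2 fun m hm g hg => ?_)
    have e : φ ⟨g, hg⟩ = 1 := (k ▸ mem_top _ : (⟨g, hg⟩ : (P : Subgroup G)) ∈ φ.ker)
    have := QuotientGroup.eq.1 (DFunLike.congr_fun e ((⟨m⁻¹, M.inv_mem hm⟩ : M) : M ⧸ _)).symm
    simpa [commutatorElement_def, mul_assoc, mem_subgroupOf] using this
  rw [commutator_eq_bot_iff_le_centralizer, H28.le_centralizer_comm]
  refine H2.le_of_forall_prime_relIndex fun r hr => ?_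
  have := Fact.mk hr
  obtain ⟨R, r1, r2, r3, r4⟩ := H2.exists_invariant_sylow (A := (P : Subgroup G)) (K := N)
    le_normalizer_of_normal (hcop N le_rfl) (Or.inl (H2.isSolvable_of_isPGroup hP)) r
  exact ⟨R, H28.le_centralizer_comm.1 (h3 r R r1 r2 r4), r3⟩

end Cfsg.Agent.S2277
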