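import Cfsg.Statements.S2405
import Cfsg.Agent.H11.Gen4

set_option autoImplicit false
open Cfsg

namespace Cfsg.Agent.S2405

open H14 H11.G3
set_option maxRecDepth 100000

/-- Each Chevalley group of type G₂, B₂, D₄, F₄, E₆, E₇ or E₈ over a finite field is generated by two of its elements (types B₂ and G₂ over the field with two elements, where the group is not simple, excepted). -/
theorem result {F : Type*} [Field F] [Finite F] (D : Cfsg.Lie.ChevalleyDatum) (hD : D ∈ [Cfsg.Lie.chevG2, Cfsg.Lie.chevB2, Cfsg.Lie.chevD4, Cfsg.Lie.chevF4, Cfsg.Lie.chevE6, Cfsg.Lie.chevE7, Cfsg.Lie.chevE8])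
    (hF : D ∈ [Cfsg.Lie.chevB2, Cfsg.Lie.chevG2] → ∃ x : F, x ≠ 0 ∧ x ≠ 1) :
    ∃ a b : ↥(D.group F), Subgroup.closure ({a, b} : Set ↥(D.group F)) = ⊤ := by
  have key : (∀ t : F, t = 0 ∨ t = 1) ∨ ∃ x : F, x ≠ 0 ∧ x ≠ 1 := by
    by_contra! h
    obtain ⟨⟨t, h1, h2⟩, h3⟩ := h
    exact h2 (h3 t h1)
  simp only [List.mem_cons, List.not_mem_nil, or_false] at hD
  rcases hD with rfl | rfl | rfl | rfl | rfl | rfl | rfl
  · by_cases h3 : (3 : F) = 0
    · exact goodA1 goodG2 (hF (by simp)) [5, 10] 0 5 3 3 (by simp [h3])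
        [(0, 0, 0, 5)]
        [(0, 5, 5, 10), (0, 10, 10, 11), (0, 11, 11, 6), (0, 6, 6, 1)]
        [(0, 5, 5, 10), (0, 3, 3, 7), (0, 10, 10, 11), (0, 7, 7, 9), (0, 11, 11, 6), (0, 9, 9, 8), (0, 8, 8, 4)] (by decide +kernel)
    · exact goodA0 goodG2 [5] 2 3 (P := [1, 3]) (by simpa using h3)
        [(0, 2, 2, 3)]
        [(0, 3, 3, 7), (0, 7, 7, 9), (0, 9, 9, 8), (0, 8, 8, 4), (2, 3, 7, 5), (0, 5, 5, 10), (0, 10, 10, 11), (0, 11, 11, 6)] (by decide +kernel)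
  · exact goodA1 goodB2 (hF (by simp)) [3] 0 3 1 2 (by simp)
        [(0, 0, 0, 3)]
        [(0, 3, 3, 7), (0, 7, 7, 4)]
        [(0, 3, 3, 7), (0, 1, 1, 5), (0, 7, 7, 4), (0, 5, 5, 6), (0, 6, 6, 2)] (by decide +kernel)
  · rcases key with h | h
    · exact goodB1s goodD4 h 7 15 11 14
        [(0, 7, 7, 11)]
        [(0, 7, 7, 11), (0, 14, 14, 22), (0, 11, 11, 20), (0, 22, 22, 5), (0, 20, 20, 16), (0, 5, 5, 9), (0, 16, 16, 12), (0, 9, 9, 1), (0, 1, 1, 18), (1, 7, 14, 10), (0, 10, 10, 21), (0, 21, 21, 15), (0, 15, 15, 13)] (by decide +kernel)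
    · exact goodA1 goodD4 h [19] 1 18 10 1 (by simp)
        [(0, 1, 1, 18)]
        [(0, 18, 18, 14), (0, 14, 14, 22), (0, 22, 22, 5), (1, 18, 14, 19), (0, 19, 19, 23), (0, 23, 23, 17), (0, 17, 17, 4)]
        [(0, 18, 18, 14), (0, 10, 10, 21), (0, 14, 14, 22), (0, 21, 21, 15), (0, 22, 22, 5), (0, 15, 15, 13), (0, 5, 5, 9), (1, 18, 21, 16), (0, 16, 16, 12), (0, 12, 12, 3), (0, 3, 3, 7), (0, 7, 7, 11)] (by decide +kernel)
  · rcases key with h | h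
    · exact goodB1l goodF4 (by decide +kernel) h 3 15 40 45 34
        [(0, 3, 3, 7), (0, 7, 7, 8), (0, 8, 8, 18), (0, 18, 18, 34), (0, 34, 34, 37), (0, 37, 37, 44), (0, 44, 44, 40)]
        [(0, 3, 3, 7), (0, 7, 7, 8), (0, 8, 8, 18), (0, 18, 18, 34), (0, 34, 34, 37), (0, 37, 37, 44), (1, 3, 45, 4), (0, 4, 4, 16), (0, 16, 16, 22), (0, 22, 22, 23), (0, 23, 23, 42), (0, 42, 42, 30), (0, 30, 30, 43), (0, 43, 43, 31), (0, 31, 31, 25), (0, 25, 25, 24), (1, 3, 7, 33), (0, 33, 33, 27), (0, 27, 27, 35), (0, 35, 35, 38), (0, 38, 38, 28), (0, 28, 28, 36), (0, 36, 36, 14), (0, 14, 14, 20)] (by decide +kernel)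
    · exact goodA1 goodF4 h [23] 4 16 11 1 (by simp)
        [(0, 4, 4, 16)]
        [(0, 16, 16, 22), (0, 22, 22, 23), (0, 23, 23, 42), (0, 42, 42, 30), (0, 30, 30, 43), (0, 43, 43, 31), (0, 31, 31, 25), (0, 25, 25, 24)]
        [(0, 16, 16, 22), (0, 11, 11, 33), (0, 22, 22, 23), (0, 33, 33, 27), (0, 23, 23, 42), (0, 27, 27, 35), (0, 42, 42, 30), (0, 35, 35, 38), (0, 30, 30, 43), (0, 38, 38, 28), (0, 43, 43, 31), (0, 28, 28, 36), (0, 31, 31, 25), (0, 36, 36, 14), (0, 25, 25, 24), (0, 14, 14, 20)] (by decide +kernel)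
  · exact goodA0 goodE6 [0] 12 19 (P := [1]) (by simp)
        [(0, 12, 12, 19)]
        [(0, 19, 19, 32), (0, 32, 32, 34), (0, 34, 34, 35), (0, 35, 35, 63), (0, 63, 63, 43), (0, 43, 43, 48), (0, 48, 48, 60), (0, 60, 60, 15), (0, 15, 15, 29), (2, 19, 63, 56), (0, 56, 56, 42), (0, 42, 42, 47), (0, 47, 47, 59), (0, 59, 59, 52), (0, 52, 52, 39), (0, 39, 39, 37), (0, 37, 37, 36), (1, 19, 35, 51), (0, 51, 51, 65), (0, 65, 65, 44), (0, 44, 44, 49), (0, 49, 49, 25), (0, 25, 25, 13), (0, 13, 13, 20), (0, 20, 20, 6), (0, 6, 6, 27), (0, 27, 27, 22), (0, 22, 22, 46)] (by decide +kernel)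
  · exact goodA0 goodE7 [2] 12 37 (P := [1]) (by simp)
        [(0, 12, 12, 37)]
        [(0, 37, 37, 18), (0, 18, 18, 49), (0, 49, 49, 43), (0, 43, 43, 78), (0, 78, 78, 95), (0, 95, 95, 84), (0, 84, 84, 104), (0, 104, 104, 113), (0, 113, 113, 88), (0, 88, 88, 107), (0, 107, 107, 76), (0, 76, 76, 82), (0, 82, 82, 47), (1, 37, 49, 79), (0, 79, 79, 96), (0, 96, 96, 85), (0, 85, 85, 105), (0, 105, 105, 75), (0, 75, 75, 81), (0, 81, 81, 98), (0, 98, 98, 32), (0, 32, 32, 52), (0, 52, 52, 46), (0, 46, 46, 29), (0, 29, 29, 40), (0, 40, 40, 20), (0, 20, 20, 50), (0, 50, 50, 44), (0, 44, 44, 27), (0, 27, 27, 93), (0, 93, 93, 73), (1, 37, 85, 56), (0, 56, 56, 59), (0, 59, 59, 61), (0, 61, 61, 62), (0, 62, 62, 102), (0, 102, 102, 74), (0, 74, 74, 80), (0, 80, 80, 97), (0, 97, 97, 86), (0, 86, 86, 69), (0, 69, 69, 66), (0, 66, 66, 64), (0, 64, 64, 63)] (by decide +kernel)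
  · exact goodA0 goodE8 [1] 12 6 (P := [1]) (by simp)
        [(0, 12, 12, 20), (0, 20, 20, 6)]
        [(0, 6, 6, 7), (0, 7, 7, 14), (0, 14, 14, 8), (0, 8, 8, 16), (0, 16, 16, 22), (0, 22, 22, 37), (0, 37, 37, 79), (0, 79, 79, 106), (0, 106, 106, 110), (0, 110, 110, 170), (0, 170, 170, 185), (0, 185, 185, 205), (0, 205, 205, 227), (0, 227, 227, 219), (0, 219, 219, 233), (1, 6, 14, 162), (0, 162, 162, 135), (0, 135, 135, 142), (0, 142, 142, 165), (0, 165, 165, 149), (0, 149, 149, 176), (0, 176, 176, 190), (0, 190, 190, 153), (0, 153, 153, 179), (0, 179, 179, 192), (0, 192, 192, 154), (0, 154, 154, 180), (0, 180, 180, 138), (0, 138, 138, 145), (0, 145, 145, 168), (0, 168, 168, 77), (0, 77, 77, 104), (1, 6, 8, 141), (0, 141, 141, 164), (0, 164, 164, 148), (0, 148, 148, 175), (0, 175, 175, 189), (0, 189, 189, 208), (0, 208, 208, 195), (0, 195, 195, 211), (0, 211, 211, 197), (0, 197, 197, 212),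 (0, 212, 212, 198), (0, 198, 198, 157), (0, 157, 157, 182), (0, 182, 182, 139), (0, 139, 139, 146), (0, 146, 146, 98), (1, 6, 135, 234), (0, 234, 234, 235), (1, 6, 235, 136), (0, 136, 136, 143), (0, 143, 143, 166), (0, 166, 166, 150), (0, 150, 150, 177), (0, 177, 177, 137), (0, 137, 137, 144), (0, 144, 144, 167), (0, 167, 167, 151), (0, 151, 151, 130), (0, 130, 130, 126), (0, 126, 126, 123), (0, 123, 123, 121), (0, 121, 121, 120), (0, 120, 120, 66), (0, 66, 66, 103), (0, 103, 103, 96), (0, 96, 96, 73), (0, 73, 73, 89), (0, 89, 89, 62), (0, 62, 62, 102), (0, 102, 102, 95), (0, 95, 95, 72), (0, 72, 72, 88), (0, 88, 88, 109), (0, 109, 109, 113), (0, 113, 113, 116), (0, 116, 116, 118), (0, 118, 118, 119)] (by decide +kernel)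

end Cfsg.Agent.S2405
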