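import Cfsg.Statements.S2470
import Cfsg.Agent.H27.Spec7
-- import your own Cfsg.Agent.* helpers here

set_option autoImplicit false
open Cfsg

namespace Cfsg.Agent.S2470


/-- Adjacency of an odd prime and the characteristic in the prime graph of PSL(n,q): let F be a finite field of characteristic p with q elements, n ≥ 2 with PSL(n,F) simple, and let r ≠ p be an odd prime dividing the order of PSL(n,F), with k the multiplicative order of q modulo r. Then PSL(n,F) has NO element of order r·p if and only if either k > n − 2, or n = 3, r = 3 and 3 divides q − 1 exactly once. -/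
theorem result {F : Type*} [Field F] [Fintype F] (p : ℕ) [Fact p.Prime] [CharP F p] (n : ℕ) (hn : 2 ≤ n) (hsmall : n = 2 → 4 ≤ Fintype.card F)
    (r : ℕ) (hr : r.Prime) (hr2 : r ≠ 2) (hrp : r ≠ p) (hrG : r ∣ Nat.card (Matrix.ProjectiveSpecialLinearGroup (Fin n) F))
    (k : ℕ) (hk : k = orderOf ((Fintype.card F : ℕ) : ZMod r)) :
    (r * p ∉ Set.range (orderOf : Matrix.ProjectiveSpecialLinearGroup (Fin n) F → ℕ)) ↔
      (n - 2 < k ∨ (n = 3 ∧ r = 3 ∧ 3 ∣ Fintype.card F - 1 ∧ ¬ 9 ∣ Fintype.card F - 1)) := by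
  have hQ := H27.Sp.qp_nat (F := F) (p := p)
  have hS := H27.Sp.psl_spec (p := p) F (AlgebraicClosure F) n
  have hp := (Fact.out : p.Prime)
  have hk' : ∀ d, (r : ℤ) ∣ ((Nat.card F : ℕ) : ℤ) ^ d - 1 ↔ k ∣ d := fun d => by
    rw [H27.Sp.dvd_iff_ord]; simp [hk]
  have h1 := Fintype.one_lt_card (α := F)
  have h3 := H27.Sp.spec_three hQ (H27.Sp.psl_spec F (AlgebraicClosure F) 3)
  have e1 : (((Nat.card F : ℕ) : ℤ) - 1).natAbs = Fintype.card F - 1 := by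
    rw [Nat.card_eq_fintype_card]; omega
  rw [e1, Nat.mul_div_assoc _ (Nat.gcd_dvd_right _ _)] at h3
  have k0 : 0 < k := by
    have := Fact.mk hr
    obtain ⟨a, -, ha⟩ := FiniteField.card F p
    rw [hk, ha, orderOf_pos_iff]
    refine isOfFinOrder_iff_isUnit.2 (Ne.isUnit ?_)
    rw [Ne, ZMod.natCast_eq_zero_iff]
    exact fun h => hrp ((Nat.prime_dvd_prime_iff_eq hr hp).1 (hr.dvd_of_dvd_pow h))
  refine ⟨fun H => ?_, fun H h => H.elim (fun H => ?_) ?_⟩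
  · by_contra! H'
    by_cases h4 : 4 ≤ n
    · exact H (H27.Sp.rp_mem_of hQ hS hr hrp k0 (by omega) h4 ((hk' k).2 dvd_rfl))
    obtain rfl : n = 3 := by omega
    obtain rfl : k = 1 := by omega
    have h5 : r ∣ Fintype.card F - 1 := e1 ▸ Int.natCast_dvd.1 (by simpa using (hk' 1).2 dvd_rfl)
    refine H (h3.ge (.inr (.inr (.inr (.inl ?_)))))
    rw [mul_comm]
    refine Nat.mul_dvd_mul_left p ((Nat.dvd_div_iff_mul_dvd (Nat.gcd_dvd_right _ _)).2 ?_)
    rcases eq_or_ne r 3 with rfl | h6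
    · exact (Nat.mul_dvd_mul_right (Nat.gcd_dvd_left _ _) 3).trans (H'.2 rfl rfl h5)
    · exact (((Nat.coprime_primes Nat.prime_three hr).2 h6.symm).coprime_dvd_left
        (Nat.gcd_dvd_left _ _)).mul_dvd_of_dvd_of_dvd (Nat.gcd_dvd_right _ _) h5
  · obtain ⟨d, d1, d2, d3⟩ := H27.Sp.rp_mem hQ hS hr hrp h
    have := Nat.le_of_dvd d1 ((hk' d).1 d3)
    omega
  rintro ⟨rfl, rfl, h5, h6⟩
  have key : ∀ (z : ℤ) (d g : ℕ), 0 < d → z ∣ ((Nat.card F : ℕ) : ℤ) ^ d - 1 → g ∣ z.natAbs →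
      ¬ 3 * p ∣ z.natAbs / g := fun z d g hd hz hg h =>
    hQ.not_dvd hd hz (((dvd_mul_left _ _).trans h).trans (Nat.div_dvd_of_dvd hg))
  have g1 : Nat.gcd 3 (Fintype.card F - 1) = 3 := Nat.gcd_eq_left h5
  obtain ⟨c, hc⟩ : (3 : ℤ) ∣ (Nat.card F : ℕ) - 1 := Int.natCast_dvd.2 (e1 ▸ h5)
  rw [sub_eq_iff_eq_add] at hc
  change _ ∈ H27.Sp.om _ at h
  rw [h3, g1] at h
  rcases h with h | h | h | h | ⟨rfl, h⟩
  · exact key _ 3 3 three_pos ⟨(Nat.card F : ℕ) - 1, by ring⟩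
      (Int.natCast_dvd.1 ⟨3 * c ^ 2 + 3 * c + 1, by rw [hc]; push_cast; ring⟩) h
  · exact key _ 2 3 two_pos dvd_rfl (Int.natCast_dvd.1 ⟨3 * c ^ 2 + 2 * c, by rw [hc]; push_cast; ring⟩) h
  · exact key ((Nat.card F : ℕ) - 1) 1 1 one_pos (by simp) (by simp) (by rwa [e1, Nat.div_one])
  · rw [mul_comm] at h
    exact h6 ((Nat.dvd_div_iff_mul_dvd h5).1 (Nat.dvd_of_mul_dvd_mul_left hp.pos h))
  · omega

end Cfsg.Agent.S2470
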