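import Cfsg.Statements.S2649
import Cfsg.Agent.H15.T.H2A

set_option autoImplicit false
open Cfsg

namespace Cfsg.Agent.S2649

/-- Extensions of the Mathieu group M₂₃ by its code module split. Let E be a finite group with a normal subgroup N, an isomorphism φ from E/N onto M₂₃ = `Spor.M23` (the stabiliser of the extra point `none` in M₂₄ acting on the 24 points `GolayPt`), and an injective additive homomorphism ψ from N onto the set of words of the binary Golay code `golayCode` that vanish at `none` (an 11-dimensional space over the field with two elements), such that conjugation by g ∈ E on N corresponds under ψ to the coordinate permutation w ↦ w ∘ σ⁻¹, σ the permutation φ(gN). Then N has a complement in E: some subgroup H meets N trivially and generates E together with N. (Equivalently, the second cohomology group of M₂₃ with coefficients in this module vanishes.) -/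
theorem result
    {E : Type*} [Group E] [Finite E] (N : Subgroup E) [hN : N.Normal]
    (φ : E ⧸ N ≃* ↥Cfsg.Spor.M23)
    (ψ : Additive ↥N →+ (Cfsg.GolayPt → ZMod 2)) (hinj : Function.Injective ψ)
    (hrange : ∀ w : Cfsg.GolayPt → ZMod 2, w ∈ Set.range ψ ↔ (w ∈ Cfsg.golayCode ∧ w none = 0))
    (hψ : ∀ (g : E) (n : ↥N),
      ψ (Additive.ofMul ⟨g * n * g⁻¹, hN.conj_mem n n.2 g⟩)
        = ψ (Additive.ofMul n) ∘ ⇑(((φ (QuotientGroup.mk g) : ↥Cfsg.Spor.M23) : Equiv.Perm Cfsg.GolayPt)⁻¹)) :
    ∃ H : Subgroup E, H ⊓ N = ⊥ ∧ H ⊔ N = ⊤ := by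
  obtain ⟨_, g, -, L⟩ := H15.H2.lets
  let π := φ.toMonoidHom.comp (QuotientGroup.mk' N)
  have e : ∀ a, a ∈ π.ker ↔ a ∈ N := fun a => by simp [π]
  classical
  let ω : E → H15.H2.Wd := fun a => if h : a ∈ N then ψ (.ofMul ⟨a, h⟩) else 0
  have hω : ∀ a (h : a ∈ π.ker), ω a = ψ (.ofMul ⟨a, (e a).1 h⟩) := fun a h => dif_pos _
  obtain ⟨H, hH⟩ := H15.H2.code_split (π := π) (φ.surjective.comp (QuotientGroup.mk'_surjective N))
    (ω := ω) (fun a h => (hrange _).1 ⟨_, (hω a h).symm⟩)
    (fun a h b h' => by rw [hω _ (mul_mem h h'), hω a h, hω b h', ← map_add]; rfl)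
    (fun u a h => by
      have := hψ u⁻¹ ⟨a, (e a).1 h⟩
      rw [hω _ (π.normal_ker.conj_mem' a h u), hω a h]
      simpa [π] using this)
    (fun w h => by
      obtain ⟨a, rfl⟩ := (hrange w).2 h
      exact ⟨_, (e _).2 a.toMul.2, hω _ ((e _).2 a.toMul.2)⟩)
    (fun a h b h' k => congrArg (fun c : Additive N => (c.toMul : E))
      (hinj ((hω a h).symm.trans (k.trans (hω b h'))))) (L H15.XTH2A.lt).2 H15.XTH2A.en H15.XTH2A.cert
  rw [show π.ker = N from Subgroup.ext e] at hH
  exact ⟨H, hH.symm.disjoint.eq_bot, hH.symm.sup_eq_top⟩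

end Cfsg.Agent.S2649
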