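import Cfsg.Statements.S2652
import Cfsg.Agent.H9.JT

set_option autoImplicit false
open Cfsg

namespace Cfsg.Agent.S2652

/-- Let T be a Sylow 2-subgroup of the Fischer group Fi₂₃ (the finitely presented group `Spor.Fi23`; T has order 2¹⁸). Then every elementary abelian subgroup of Fi₂₃ contained in T and normal in T has order at most 2¹¹, and there is exactly one such subgroup of order 2¹¹. -/
theorem result
    (T : Sylow 2 Cfsg.Spor.Fi23) :
    (∀ A : Subgroup Cfsg.Spor.Fi23, A ≤ T → (A.subgroupOf T).Normal → Cfsg.IsElementaryAbelian 2 A →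
        Nat.card A ≤ 2 ^ 11) ∧
    ∃! A : Subgroup Cfsg.Spor.Fi23, A ≤ T ∧ (A.subgroupOf T).Normal ∧ Cfsg.IsElementaryAbelian 2 A ∧
        Nat.card A = 2 ^ 11 := by
  have h := H26.F23.isM
  have := h.tg
  have := h.finite
  have b := H9.base_sylow (D := H26.F23.D) T
  have j := H9.jb23 h b
  have k := fun A h1 h2 => j.bound' b T.isPGroup' (fun _ h => h.2) (B := A) h1 h2
  have le := (Subgroup.closure_le (T : Subgroup Spor.Fi23)).2 fun _ (h : _ ∈ {d | d ∈ H26.F23.D ∧ d ∈ T}) => h.2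
  refine ⟨fun A h1 _ h3 => ?_, _, ⟨le, (Subgroup.normal_subgroupOf_iff_le_normalizer le).2 fun t ht =>
    H9.conj_mem_normalizer (fun x hx => ⟨H9.TG.conj_mem t hx.1, mul_mem (mul_mem ht hx.2) (inv_mem ht)⟩)
      fun x hx => ⟨by simpa using H9.TG.conj_mem t⁻¹ hx.1, mul_mem (mul_mem (inv_mem ht) hx.2) ht⟩,
    b.isEA, j.card⟩, fun A ⟨h1, _, h3, h4⟩ => Subgroup.eq_of_le_of_card_ge
      (by_contra fun n => absurd (h4 ▸ k A h1 h3.2 n) (by decide)) (h4 ▸ j.card.le)⟩
  by_contra n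
  exact n ((k A h1 h3.2 fun h => n (j.card ▸ Subgroup.card_le_of_le h)).trans (by decide))

end Cfsg.Agent.S2652
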