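import Cfsg.Statements.S2764
import Cfsg.Agent.H29.PU9

set_option autoImplicit false
open Cfsg

namespace Cfsg.Agent.S2764

open H28 H29 H29.PU Subgroup
open scoped commutatorElement


/-- Pushing up for a rank-one quotient: let G be a finite group and p a prime with C_G(O_p(G)) ≤ O_p(G), suppose G/K ≅ PSL₂(p^n) for some normal subgroup K and some n ≥ 1, that a Sylow p-subgroup S of G lies in exactly one maximal subgroup of G, and that no nontrivial characteristic subgroup of S is normal in G. Then G/O_p(G) ≅ SL₂(p^n), and every noncentral chief factor U/W of G inside O_p(G) is a natural SL₂-module over the field with p^n elements for the action of G/W. -/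
theorem result {G : Type*} [Group G] [Finite G] {p : ℕ} [Fact p.Prime] (S : Sylow p G) (hE₁ : Subgroup.centralizer (Cfsg.pCore p G : Set G) ≤ Cfsg.pCore p G) (hE₂ : ∃! M : Subgroup G, IsCoatom M ∧ (S : Subgroup G) ≤ M) (K : Subgroup G) [K.Normal] (F : Type) [Field F] [Fintype F] (n : ℕ) (hn : 1 ≤ n) (hF : Fintype.card F = p ^ n) (hE₃ : Nonempty (G ⧸ K ≃* Matrix.ProjectiveSpecialLinearGroup (Fin 2) F)) (hd : ∀ T : Subgroup ↥(S : Subgroup G), T ≠ ⊥ → T.Characteristic → ¬ (T.map (S : Subgroup G).subtype).Normal) : Nonempty (G ⧸ Cfsg.pCore p G ≃* Matrix.SpecialLinearGroup (Fin 2) F) ∧ ∀ (U W : Subgroup G) [W.Normal], U ≤ Cfsg.pCore p G → Cfsg.IsChiefFactor U W → ¬ ⁅U, (⊤ : Subgroup G)⁆ ≤ W → Cfsg.IsNaturalSL2Module F (U.map (QuotientGroup.mk' W)) (⊤ : Subgroup (G ⧸ W)) := by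
  have hR := rk1_of_E0 S hE₁ hE₂ K hF hE₃
  have hS := isSylowIn_top S
  have h : NC ⊤ (S : Subgroup G) := fun D h1 h2 => by_contra fun e => hd D e h1 (normal_iff_top_le.2 h2)
  have hV := h.vx hR hS
  obtain ⟨e⟩ := hE₃
  haveI := charP_of_card hF
  have hc := card_of_psl hR (e.toMonoidHom.comp (QuotientGroup.mk' K))
    (e.surjective.comp (QuotientGroup.mk'_surjective K)) hS
  obtain ⟨S', -, -, F', _, _, c, ⟨N⟩⟩ := hV.ns' hS
  obtain ⟨N, -⟩ := N.cast (F' := F) Nat.card_pos (c.symm.trans hc)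
  have k := (pushing_up hR hS h).imp_left fun k => k.p0 hR hS
  refine ⟨N.quot ((pCoreOf_top p).symm.trans (le_antisymm hR.Q_le_C ((le_inf le_top le_rfl).trans
    (k.elim (fun k => k.cen_le hR) fun ⟨_, _, _, _, _, k⟩ => k.cen)))), fun U W _ hU hc' hn => ?_⟩
  rw [← pCoreOf_top] at hU
  by_cases h1 : U ⊓ 𝐙 ⊤ ≤ W
  swap
  · exact N.natural hc' hn h1 (inf_le_right.trans bot_le)
  have hp := (isPGroup_pCoreOf p ⊤).to_le hU
  haveI := hc'.2.1
  rcases k with ⟨a, -, -, k⟩ | ⟨T, a, b, d, D, k⟩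
  · exact (hn (chief_res hc' hp ((le_inf (commutator_le_left _ _) ((commutator_mono hU le_rfl).trans k)).trans h1))).elim
  obtain ⟨F', _, _, c, N, -⟩ := k.ns
  obtain ⟨N, -⟩ := N.cast (F' := F) Nat.card_pos (c.symm.trans hc)
  haveI : D.Normal := normal_iff_top_le.2 k.nD
  refine N.natural hc' hn (fun e => hc'.1.not_ge ((le_inf le_rfl hU).trans e)) (by_contra fun e => hn ?_)
  refine chief_res hc' hp ?_
  rw [← (hc'.2.2.2 (U ⊓ D ⊔ W) inferInstance le_sup_right (sup_le inf_le_left hc'.1.le)).resolve_left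
    fun k => e (le_sup_left.trans k.le)]
  exact commutator_sup_le (le_normalizer_of_normal' _ _) (le_normalizer_of_normal' _ _)
    ((le_inf ((commutator_mono inf_le_left le_rfl).trans (commutator_le_left _ _))
      ((commutator_mono inf_le_right le_rfl).trans k.DE)).trans h1) (commutator_le_left _ _)

end Cfsg.Agent.S2764
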