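import Cfsg.Statements.S2765
import Cfsg.Agent.H29.PU9

set_option autoImplicit false
open Cfsg

namespace Cfsg.Agent.S2765

open H28 H29 H29.PU Subgroup
open scoped commutatorElement


/-- In the same pushing-up situation (G finite, C_G(O_p(G)) ≤ O_p(G), G/K ≅ PSL₂(p^n) with n ≥ 1, a Sylow p-subgroup S in exactly one maximal subgroup, no nontrivial characteristic subgroup of S normal in G), one of the following holds: (I) S has nilpotency class 2, exponent 4 if p = 2 and exponent p otherwise, and G has exactly one noncentral chief factor inside O_p(G); or (II) p = 3, S has class 3 and exponent 9, and G has exactly two noncentral chief factors inside O_p(G). 'Exactly one' is phrased as: some noncentral chief factor U/W inside O_p(G) with G acting hypercentrally on W and on O_p(G)/U; 'exactly two' analogously with a chain. -/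
theorem result {G : Type*} [Group G] [Finite G] {p : ℕ} [Fact p.Prime] (S : Sylow p G) (hE₁ : Subgroup.centralizer (Cfsg.pCore p G : Set G) ≤ Cfsg.pCore p G) (hE₂ : ∃! M : Subgroup G, IsCoatom M ∧ (S : Subgroup G) ≤ M) (K : Subgroup G) [K.Normal] (F : Type) [Field F] [Fintype F] (n : ℕ) (hn : 1 ≤ n) (hF : Fintype.card F = p ^ n) (hE₃ : Nonempty (G ⧸ K ≃* Matrix.ProjectiveSpecialLinearGroup (Fin 2) F)) (hd : ∀ T : Subgroup ↥(S : Subgroup G), T ≠ ⊥ → T.Characteristic → ¬ (T.map (S : Subgroup G).subtype).Normal) : ((S : Subgroup G).lowerCentralSeries 2 = ⊥ ∧ (S : Subgroup G).lowerCentralSeries 1 ≠ ⊥ ∧ (p = 2 → Monoid.exponent ↥(S : Subgroup G) = 4) ∧ (p ≠ 2 → Monoid.exponent ↥(S : Subgroup G) = p) ∧ (∃ U W : Subgroup G, W ≤ U ∧ U ≤ (Cfsg.pCore p G) ∧ Cfsg.IsChiefFactor U W ∧ ¬ ⁅U, (⊤ : Subgroup G)⁆ ≤ W ∧ (∃ k : ℕ, Cfsg.iterCommutator W ⊤ k = ⊥) ∧ (∃ k : ℕ, Cfsg.iterCommutator (Cfsg.pCore p G) ⊤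 k ≤ U))) ∨ (p = 3 ∧ (S : Subgroup G).lowerCentralSeries 3 = ⊥ ∧ (S : Subgroup G).lowerCentralSeries 2 ≠ ⊥ ∧ Monoid.exponent ↥(S : Subgroup G) = 9 ∧ (∃ U₁ W₁ U₂ W₂ : Subgroup G, W₁ ≤ U₁ ∧ U₁ ≤ W₂ ∧ W₂ ≤ U₂ ∧ U₂ ≤ (Cfsg.pCore p G) ∧ Cfsg.IsChiefFactor U₁ W₁ ∧ Cfsg.IsChiefFactor U₂ W₂ ∧ ¬ ⁅U₁, (⊤ : Subgroup G)⁆ ≤ W₁ ∧ ¬ ⁅U₂, (⊤ : Subgroup G)⁆ ≤ W₂ ∧ (∃ k : ℕ, Cfsg.iterCommutator W₁ ⊤ k = ⊥) ∧ (∃ k : ℕ, Cfsg.iterCommutator W₂ ⊤ k ≤ U₁) ∧ (∃ k : ℕ, Cfsg.iterCommutator (Cfsg.pCore p G) ⊤ k ≤ U₂))) := by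
  have hR := rk1_of_E0 S hE₁ hE₂ K hF hE₃
  have hS := isSylowIn_top S
  have h : NC ⊤ (S : Subgroup G) := fun D h1 h2 => by_contra fun e => hd D e h1 (normal_iff_top_le.2 h2)
  have hV := h.vx hR hS
  have hp : p.Prime := Fact.out
  rw [← pCoreOf_top]
  have hC : ∃ k, iterCommutator (𝐙 ⊤ ⊓ 𝐂 (⊤ : Subgroup G)) ⊤ k = ⊥ := ⟨1, comm_Ω inf_le_right⟩
  have hQ := isPGroup_pCoreOf p (⊤ : Subgroup G)
  refine (pushing_up hR hS h).imp (fun k => ⟨k.class2 hV hS h, hV.not_comm hS, ?_, fun h2 => ?_, _, _, inf_le_left,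
    hV.Z_le_Q, hV.chief.1, hV.chief.2, hC, ?_⟩) fun ⟨U, a, b, d, D, k⟩ => ?_
  · rintro rfl
    refine exponent_eq (k := 1) (fun x hx => k.pow hV hS h two_ne_zero (by decide) hx) fun e => hV.not_comm hS ?_
    refine commutator_eq_bot_iff.2 fun x hx y hy => ?_
    have := fun z hz => inv_eq_of_mul_eq_one_right ((pow_two z).symm.trans (e z hz))
    rw [← this _ (mul_mem hy hx), mul_inv_rev, this x hx, this y hy]
  · refine (exponent_eq (k := 0) (fun x hx => k.pow hV hS h one_ne_zero ?_ hx) fun e => hV.ne hS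
      fun x hx => ?_).trans (pow_one p)
    · rw [pow_one]; exact hp.dvd_choose_self two_ne_zero (hp.two_le.lt_of_ne' h2)
    · rw [show x = 1 by simpa using e x hx]; exact one_mem _
  · obtain ⟨_, -, -, k⟩ := k.p0 hR hS
    exact iter_le hS hQ le_top hV.Z_le_Q (le_normalizer_Z p _) (le_normalizer_pCoreOf p _) k
  obtain ⟨x, hx, u, hu, e⟩ := k.exists_cub hV hS
  obtain ⟨F', _, _, c, N, hN⟩ := k.ns
  haveI : D.Normal := normal_iff_top_le.2 k.nD
  have c := N.chief hN k.D_le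
  obtain rfl := k.three
  refine ⟨rfl, k.class3 hV hS h, fun e' => e ?_, exponent_eq (k := 1) (fun x hx => k.pow hV hS h hx) fun e' => e ?_,
    _, _, _, _, inf_le_left, k.Z_le, k.D_le, le_rfl, hV.chief.1, c, hV.chief.2, fun e' => ?_, hC,
    iter_le hS (hQ.to_le k.D_le) le_top k.Z_le (le_normalizer_Z _ _) k.nD k.DE, 0, le_rfl⟩
  · rw [commutatorElement_mem_comm, mem_bot.1 (e'.le (commutator_mem_commutator (commutator_mem_commutator
      hx (k.Q_le hu)) hx))]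
    exact one_mem _
  · rw [engel_of_cube (e' u (k.Q_le hu)) (e' _ (mul_mem hx (k.Q_le hu))) (e' _ (mul_mem hx (inv_mem (k.Q_le hu))))]
    exact one_mem _
  · obtain ⟨v, hv, e⟩ := N.onto 1
    exact one_ne_zero (e.symm.trans ((N.ker v hv).2 fun g hg => commutatorElement_mem_comm.1
      (e' (commutator_mem_commutator hv hg))))

end Cfsg.Agent.S2765
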