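import Cfsg.Statements.S2766
import Cfsg.Agent.H29.PU10

set_option autoImplicit false
open Cfsg

namespace Cfsg.Agent.S2766

open H28 H29 H29.PU Subgroup
open scoped commutatorElement


/-- Let p ≥ 5 be prime and G a maximal p-local subgroup of a finite group H (G is the normalizer of a nontrivial p-subgroup and lies in no other such normalizer). Suppose C_G(O_p(G)) ≤ O_p(G), G/K ≅ PSL₂(p^n) for some normal K and n ≥ 1, a Sylow p-subgroup S of G lies in exactly one maximal subgroup of G, and N_H(S) is not contained in G. Then G = G₀ × E for subgroups G₀ ≅ Qd(p^n) (the natural semidirect product of the plane over the field with p^n elements by SL₂) and E an elementary abelian p-group. -/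
theorem result {H : Type*} [Group H] [Finite H] {p : ℕ} [Fact p.Prime] (hp : 5 ≤ p) (G : Subgroup H) (hloc : ∃ R : Subgroup H, IsPGroup p ↥R ∧ R ≠ ⊥ ∧ G = Subgroup.normalizer (R : Set H)) (hmax : ∀ R : Subgroup H, IsPGroup p ↥R → R ≠ ⊥ → G ≤ Subgroup.normalizer (R : Set H) → Subgroup.normalizer (R : Set H) = G) (S : Sylow p ↥G) (hE₁ : Subgroup.centralizer (Cfsg.pCore p ↥G : Set ↥G) ≤ Cfsg.pCore p ↥G) (hE₂ : ∃! M : Subgroup ↥G, IsCoatom M ∧ (S : Subgroup ↥G) ≤ M) (K : Subgroup ↥G) [K.Normal] (F : Type) [Field F] [Fintype F] (n : ℕ) (hn : 1 ≤ n) (hF : Fintype.card F = p ^ n) (hE₃ : Nonempty (↥G ⧸ K ≃* Matrix.ProjectiveSpecialLinearGroup (Fin 2) F)) (hN : ¬ Subgroup.normalizer (((S : Subgroup ↥G).map G.subtype : Subgroup H) : Set H) ≤ G) : ∃ G₀ E : Subgroup H, Cfsg.IsInternalDirectProduct G₀ E G ∧ Cfsg.IsElementaryAbelian p E ∧ Nonempty (↥G₀ ≃* ↥(Cfsg.qdOver F)) := by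
  have hR := (rk1_of_E0 S hE₁ hE₂ K hF hE₃).map G.subtype_injective
  rw [← MonoidHom.range_eq_map, range_subtype] at hR
  have hS := isSylowIn_map_subtype S
  obtain ⟨e⟩ := hE₃
  haveI := charP_of_card hF
  have hc := card_of_psl (rk1_of_E0 S hE₁ hE₂ K hF ⟨e⟩) (e.toMonoidHom.comp (QuotientGroup.mk' K))
    (e.surjective.comp (QuotientGroup.mk'_surjective K)) (isSylowIn_top S)
  rw [← card_map' G.subtype_injective, ← card_map' G.subtype_injective (pCoreOf p ⊤), map_pCoreOf G.subtype_injective,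
    ← MonoidHom.range_eq_map, range_subtype] at hc
  generalize (S : Subgroup G).map G.subtype = T at *
  have hm : ∀ D ≤ T, G ≤ 𝐍 D → D ≠ ⊥ → 𝐍 D = G := fun D h1 h2 h3 => hmax D (hS.isPGroup.to_le h1) h3 h2
  have h : Fu G T := fun D h1 h2 h3 => by_contra fun e => hN (h2.trans (hm D h1 h3 e).le)
  have hV := h.nc.vx hR hS
  have h2 : p ≠ 2 := by omega
  have k := (pushing_up hR hS h.nc).resolve_right fun ⟨_, _, _, _, _, k⟩ => by have := k.three; omega
  have k0 := k.p0 hR hS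
  have hcen := k0.cen_le hR
  obtain ⟨_, -, -, h0⟩ := k0
  obtain ⟨g, hg, c⟩ := h.exists_crit hV hS h0
  have hS' : IsSylowIn p T (cj g G) := by simpa only [cj_eq_self hg] using hS.conj g
  have hQ : ⁅𝐐 G, 𝐐 G⁆ = ⊥ := by_contra fun e => by
    have n := le_normalizer_pCoreOf p G
    have n' := le_normalizer_pCoreOf p (cj g G)
    have := hm _ ((commutator_le_of_le_normalizer le_normalizer).trans hS.pCoreOf_le) (le_normalizer_commutator n n) e
    rw [le_antisymm (c.comm_Q (hV.conj g) hV hS' hS) (c.symm.comm_Q hV (hV.conj g) hS hS')] at this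
    have e := eq_of_le_of_card_le ((le_normalizer_commutator n' n').trans this.le)
      (card_map' (conj_injective' g) G).ge
    exact c.symm.not_le hV hS (e.symm ▸ hV.Z_le_Q)
  have l := hV.le_sup_cen h2 hcen le_rfl hV.Z_le_Q h0 (hQ.le.trans bot_le)
  have l1 := k.res_inf hV hS
  have l2 : ⁅𝐙 G, 𝐄 G⁆ ≤ ⁅G, 𝐙 G⁆ := (comm_comm _ _).le.trans (commutator_mono (pResidualOf_le p G) le_rfl)
  obtain ⟨S', -, -, F', _, _, c, ⟨N⟩⟩ := hV.ns' hS
  obtain ⟨N, -⟩ := N.cast (F' := F) Nat.card_pos (c.symm.trans hc)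
  have h4 : 4 ≤ # F := by
    rw [Nat.card_eq_fintype_card, hF]; exact le_trans (by omega) (Nat.le_self_pow (by omega) p)
  have lZ := hV.Z_le_Q.trans (pCoreOf_le p G)
  refine ⟨𝐄 G, 𝐐 G ⊓ 𝐂 (𝐄 G), ⟨pResidualOf_le p G, inf_le_left.trans (pCoreOf_le p G),
    fun a ha b hb => mem_centralizer'.1 hb.2 a ha, le_bot_iff.1 fun x hx => ?_, le_antisymm
      (sup_le (pResidualOf_le p G) (inf_le_left.trans (pCoreOf_le p G))) ?_⟩, isElementaryAbelian_iff.2
      ⟨inf_le_left.trans ((commutator_eq_bot_iff.1 hQ).trans (centralizer_anti inf_le_left)), fun x hx => ?_⟩,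
    N.qd lZ hV.Z_comm h2 (CharP.cast_eq_zero F p) h4 (((le_inf inf_le_left ((inf_le_inf_right _
      (pResidualOf_le p G)).trans hcen)).trans l1).trans l2)⟩
  · have := l2 (l1 ⟨hx.1, hx.2.1⟩)
    exact (hV.comm_inf h2).le ⟨this, hV.cen_res
      ⟨commutator_le_of_le_normalizer' (le_normalizer_Z p G) this, hx.2.2⟩⟩
  · refine (N.res_sup h4).trans (sup_le le_sup_left (hcen.trans (l.trans (sup_le (hV.Z_le.trans (sup_le_sup
      (commutator_le_of_le_normalizer' (lZ.trans (le_normalizer_pResidualOf p G)))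
      (inf_le_inf hV.Z_le_Q (centralizer_anti (pResidualOf_le p G))))) le_sup_right))))
  · have := k.pow hV hS h.nc one_ne_zero (by
      rw [pow_one]; exact (Fact.out : p.Prime).dvd_choose_self two_ne_zero (by omega)) (hS.pCoreOf_le hx.1)
    rwa [pow_one] at this

end Cfsg.Agent.S2766
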