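import Cfsg.Statements.S2768
import Cfsg.Agent.H29.PU12

set_option autoImplicit false
open Cfsg

namespace Cfsg.Agent.S2768

open H28 H29 H29.PU Subgroup


/-- Let G be a finite group and p a prime with C_G(O_p(G)) ≤ O_p(G), such that a Sylow p-subgroup S lies in exactly one maximal subgroup of G and G/K ≅ PSL₂(p^n) for some normal K and n ≥ 1. Put J̃(S) = C_S(Z(J(S))), where J(S) is generated by the abelian subgroups of S of largest order. If Z(S) is not normal in G, then J̃(S) is a Sylow p-subgroup of its normal closure ⟨J̃(S)^G⟩. -/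
theorem result {G : Type*} [Group G] [Finite G] {p : ℕ} [Fact p.Prime] (S : Sylow p G) (hE₁ : Subgroup.centralizer (Cfsg.pCore p G : Set G) ≤ Cfsg.pCore p G) (hE₂ : ∃! M : Subgroup G, IsCoatom M ∧ (S : Subgroup G) ≤ M) (K : Subgroup G) [K.Normal] (F : Type) [Field F] [Fintype F] (n : ℕ) (hn : 1 ≤ n) (hF : Fintype.card F = p ^ n) (hE₃ : Nonempty (G ⧸ K ≃* Matrix.ProjectiveSpecialLinearGroup (Fin 2) F)) (hZ : ¬ ((S : Subgroup G) ⊓ Subgroup.centralizer ((S : Subgroup G) : Set G)).Normal) : ∃ P : Sylow p ↥(Subgroup.normalClosure (((S : Subgroup G) ⊓ Subgroup.centralizer (Cfsg.centerThompsonAOf (S : Subgroup G) : Set G)) : Set G)), (P : Subgroup ↥(Subgroup.normalClosure (((S : Subgroup G) ⊓ Subgroup.centralizer (Cfsg.centerThompsonAOf (S : Subgroup G) : Set G)) : Set G))) = (((S : Subgroup G) ⊓ Subgroup.centralizer (Cfsg.centerThompsonAOf (S : Subgroup G) : Set G))).subgroupOf (Subgroup.normalClosure (((S : Subgroup G) ⊓ Subgroup.centralizer (Cfsg.centerThompsonAOf (S : Subgroup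 G) : Set G)) : Set G)) := by
  have hR := rk1_of_E0 S hE₁ hE₂ K hF hE₃
  have hS := isSylowIn_top S
  rw [← zj_zero]
  have : (S : Subgroup G) ⊓ nclIn (bm 0 S) ⊤ ≤ bm 0 S := by
    rcases hR.cases hS with h | h | ⟨h, A, h1, h2⟩
    · exact (hZ (normal_iff_top_le.2 (le_normalizer_of_le_centralizer (le_centralizer_comm.1 h)))).elim
    · rw [nclIn_eq_self h]; exact inf_le_right
    · exact h.baumann hS (dvd_zero p) h1 h2
  have h := hS.inf_normal' le_top (le_normalizer_nclIn (bm 0 S) ⊤)
  rw [le_antisymm this (le_inf bm_le (le_nclIn _ _)), nclIn_top] at h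
  exact h.exists_sylow'

end Cfsg.Agent.S2768
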