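import Cfsg.Statements.S2774
import Cfsg.Agent.H28.TF1

set_option autoImplicit false
open Cfsg

namespace Cfsg.Agent.S2774

/-- Let p be an odd prime and S a nontrivial Sylow p-subgroup of a finite group G. Then S ∩ G' is generated by the subgroups S ∩ (N_G(K))' as K ranges over the nontrivial characteristic subgroups of S (derived subgroups of the normalizers). -/
theorem result {G : Type*} [Group G] [Finite G] {p : ℕ} [Fact p.Prime] (hp : p ≠ 2) (S : Sylow p G) (hS : (S : Subgroup G) ≠ ⊥) : (S : Subgroup G) ⊓ commutator G = ⨆ K : {K : Subgroup ↥(S : Subgroup G) // K ≠ ⊥ ∧ K.Characteristic}, (S : Subgroup G) ⊓ ⁅Subgroup.normalizer ((((K : Subgroup ↥(S : Subgroup G))).map (S : Subgroup G).subtype : Subgroup G) : Set G), Subgroup.normalizer ((((K : Subgroup ↥(S : Subgroup G))).map (S : Subgroup G).subtype : Subgroup G) : Set G)⁆ := by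
  have hT := H28.isSylowIn_top S
  haveI := (Subgroup.nontrivial_iff_ne_bot _).2 hS
  have k : ∀ W, IsCharPFunctor p W → ∃ K : {K : Subgroup ↥(S : Subgroup G) // K ≠ ⊥ ∧ K.Characteristic},
      K.1.map (S : Subgroup G).subtype = inducedFunctor W (S : Subgroup G) := fun W c =>
    ⟨⟨W _, c.1 _ S.2 ‹_›, Subgroup.characteristic_iff_map_eq.2 fun φ => c.2 _ _ S.2 φ⟩, rfl⟩
  refine le_antisymm ((H28.TF.main hp hT).trans (sup_le ?_ ?_))
    (iSup_le fun K => inf_le_inf_left _ (Subgroup.commutator_mono le_top le_top))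
  · obtain ⟨K, e⟩ := k _ H28.TF.char_zf
    rw [H28.TF.ind_zf] at e
    refine le_iSup_of_le K ?_
    rw [e]
    exact inf_le_inf_left _ (Subgroup.commutator_mono (H28.le_normalizer_of_le_centralizer le_rfl)
      (H28.le_normalizer_of_le_centralizer le_rfl))
  · obtain ⟨K, e⟩ := k _ (H28.TF.char_kf hp)
    exact le_iSup_of_le K (by rw [e])

end Cfsg.Agent.S2774
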