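import Cfsg.Statements.S2788
import Cfsg.Agent.H10.SL2Bd

set_option autoImplicit false
open Cfsg

namespace Cfsg.Agent.S2788

open Subgroup Matrix MatrixGroups H29.Rp H10.SL2Nat H9.EA H13.SL2 in

/-- Let H act faithfully by conjugation on the elementary abelian p-subgroup V of a finite group with H ≅ SL₂(F), F a field with p^n elements, S a Sylow p-subgroup of H, and A ≤ S a subgroup of order at least 3 acting quadratically on V ([V, A, A] = 1). Then |V/C_V(a)| ≥ p^n for every nonidentity a ∈ A. -/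
theorem result {G : Type*} [Group G] [Finite G] {p : ℕ} [Fact p.Prime] (V H : Subgroup G) (hV : Cfsg.IsElementaryAbelian p V) (hHV : H ≤ Subgroup.normalizer (V : Set G)) (hf : H ⊓ Subgroup.centralizer (V : Set G) = ⊥) {F : Type*} [Field F] [Fintype F] (n : ℕ) (hF : Fintype.card F = p ^ n) (hiso : Nonempty (↥H ≃* Matrix.SpecialLinearGroup (Fin 2) F)) (S : Sylow p ↥H) (T : Subgroup G) (hT : T = ((S : Subgroup ↥H).map H.subtype)) (A : Subgroup G) (hA : A ≤ T) (hA3 : 3 ≤ Nat.card A) (hquad : ⁅⁅V, A⁆, A⁆ = ⊥) : ∀ a ∈ A, a ≠ 1 → p ^ n ≤ ((V ⊓ Subgroup.centralizer ({a} : Set G))).relIndex V := by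
  haveI := H28.charP_of_card hF
  obtain ⟨e0⟩ := hiso
  obtain ⟨e, he⟩ := exists_iso_upper e0 S
  let σ : Representation (ZMod p) SL(2, F) (H9.EA hV) := (rep hV hHV).comp e.symm.toMonoidHom
  have ha : ∀ g : H, Act σ (e g) (g : G) := fun g v => by
    change (rep hV hHV (e.symm (e g)) v).val = _
    rw [e.symm_apply_apply, val_rep]
  intro a haA ha1
  obtain ⟨g, hg, rfl⟩ := hT ▸ hA haA
  obtain ⟨s, hs⟩ := mem_upper.1 ((he g).1 hg)
  have hs0 : s ≠ 0 := fun h => ha1 (by
    rw [h, x_zero, map_eq_one_iff _ e.injective] at hs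
    rw [hs, map_one])
  have h := bound hF σ (fun c hc => e.symm.injective
    ((rep_faithful hHV hf _ hc).trans (map_one _).symm)) hs0
  have h1 : fix σ (zpowers (x s)) = sub hV (centralizer {(g : G)}) := by
    ext u
    rw [mem_fix_zpowers, ← hs, (ha g).fix_iff, mem_sub, mem_centralizer_singleton_iff, eq_comm]
  rw [h1, card_sub, H9.EA.card] at h
  exact Nat.le_of_mul_le_mul_right (h.trans_eq (H1.relIndex_mul_card inf_le_left).symm)
    Nat.card_pos

end Cfsg.Agent.S2788
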