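import Cfsg.Statements.S2804
import Cfsg.Agent.H28.PRed
-- import your own Cfsg.Agent.* helpers here

set_option autoImplicit false
open Cfsg

namespace Cfsg.Agent.S2804

open H28 Subgroup
open scoped Pointwise commutatorElement

/-- Let L be a finite group and p a prime with C_L(O_p(L)) ≤ O_p(L), V a p-reduced normal subgroup of L and K a subnormal subgroup of L. Then [V, O^p(K)] is contained in K and is a p-reduced normal subgroup of K, where O^p(K) is the subgroup of K generated by its elements of order prime to p. -/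
theorem result {L : Type*} [Group L] [Finite L] {p : ℕ} [Fact p.Prime] (hchar : Subgroup.centralizer (Cfsg.pCore p L : Set L) ≤ Cfsg.pCore p L) (V : Subgroup L) (hV : Cfsg.IsPReducedNormal p V) (K : Subgroup L) (hK : K.IsSubnormal) : ⁅V, (Cfsg.pResidual p ↥K).map K.subtype⁆ ≤ K ∧ Cfsg.IsPReducedNormal p ((⁅V, (Cfsg.pResidual p ↥K).map K.subtype⁆).subgroupOf K) := by
  have h := isPRed_top.2 hV
  have hK' := subnIn_top hK
  rw [pResidualOf_def]
  have h1 : ⁅V, pResidualOf p K⁆ ≤ K :=
    (commutator_le_of_le_normalizer' (h.le_pCoreOf.trans hK'.pCoreOf_le_normalizer)).trans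
      (pResidualOf_le p K)
  have h2 : ⁅V, pResidualOf p K⁆ ≤ V := commutator_le_of_le_normalizer (le_top.trans h.norm)
  refine ⟨h1, (isPReducedNormal_subgroupOf h1).2 ⟨h1, le_normalizer_commutator
    (le_top.trans h.norm) (le_normalizer_pResidualOf p K), ea_of_le h.ea h2, fun D h3 h4 h5 => ?_⟩⟩
  refine le_trans ?_ (centralizer_anti h2)
  exact h.red.le_of_subnIn h.norm_centralizer ((SubnIn.of_normal h3 h4).trans hK')
    (pMod_of_pResidualOf_le (pResidualOf_le_centralizer_of_commutator_le (h.isPGroup.to_le h2)
      (commutator_mono le_rfl (pResidualOf_mono h3)) h5.pResidualOf_le))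

end Cfsg.Agent.S2804
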