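import Cfsg.Statements.S2806
import Cfsg.Agent.H28.Join
-- import your own Cfsg.Agent.* helpers here

set_option autoImplicit false
open Cfsg

namespace Cfsg.Agent.S2806

open H28 Subgroup
open scoped Pointwise commutatorElement

/-- Let H be a finite group of local characteristic p, T a Sylow p-subgroup, and L₁, L₂ subnormal subgroups of H generating the subgroup L. Then the point stabilizer of L with respect to T ∩ L is generated by the point stabilizers of L₁ and L₂ with respect to T ∩ L₁ and T ∩ L₂ (point stabilizer of X w.r.t. R: the subgroup generated by the p-elements of X centralizing Ω₁(Z(R))). -/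
theorem result {H : Type*} [Group H] [Finite H] {p : ℕ} [Fact p.Prime] (hH : Cfsg.IsOfLocalCharacteristic p H) (T : Sylow p H) (L₁ L₂ : Subgroup H) (h₁ : L₁.IsSubnormal) (h₂ : L₂.IsSubnormal) : Cfsg.pointStabilizer p (L₁ ⊔ L₂) ((T : Subgroup H) ⊓ (L₁ ⊔ L₂)) = Cfsg.pointStabilizer p L₁ ((T : Subgroup H) ⊓ L₁) ⊔ Cfsg.pointStabilizer p L₂ ((T : Subgroup H) ⊓ L₂) := by
  have hT := isSylowIn_top T
  have key : ∀ X : Subgroup H, SubnIn X ⊤ → pointStabilizer p X ((T : Subgroup H) ⊓ X) =
      pElementClosure p (X ⊓ 𝐂 (omegaOneCenter p (T : Subgroup H))) := fun X hX => by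
    show pElementClosure p (X ⊓ 𝐂 (omegaOneCenter p ((T : Subgroup H) ⊓ X))) = _
    by_cases h0 : (T : Subgroup H) ⊓ X = ⊥
    · have h1 := hX.isSylowIn_inf hT
      rw [h0] at h1
      have h2 : pElementClosure p X = ⊥ :=
        eq_bot_iff.2 (h1.pElementClosure_le le_rfl (le_top.trans normalizer_bot.ge))
      rw [eq_bot_iff.2 ((pElementClosure_mono inf_le_left).trans h2.le),
        eq_bot_iff.2 ((pElementClosure_mono inf_le_left).trans h2.le)]
    · rw [kieler_local (locP_top hH) hT hX h0]
  have a := subnIn_top h₁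
  have b := subnIn_top h₂
  rw [key _ a, key _ b, key _ (a.sup b)]
  refine le_antisymm (pElementClosure_le_iff_sylow.2 fun R hR => ?_) (sup_le
    (pElementClosure_mono (inf_le_inf_right _ le_sup_left))
    (pElementClosure_mono (inf_le_inf_right _ le_sup_right)))
  have h1 : IsSylowIn p R (L₁ ⊔ L₂) := ((a.sup b).isSylowIn_inf hT).of_sylow_le
    (le_inf inf_le_right (inf_le_left.trans (le_centralizer_omegaOneCenter p _))) inf_le_left hR
  have h2 := h1.inf_sup (a.mono le_sup_left le_top) (b.mono le_sup_right le_top)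
  rw [inf_eq_left.2 h1.le] at h2
  rw [h2]
  exact sup_le_sup (le_pElementClosure (hR.isPGroup.to_le inf_le_left)
    (le_inf inf_le_right (inf_le_left.trans (hR.le.trans inf_le_right))))
    (le_pElementClosure (hR.isPGroup.to_le inf_le_left)
    (le_inf inf_le_right (inf_le_left.trans (hR.le.trans inf_le_right))))

end Cfsg.Agent.S2806
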