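import Cfsg.Statements.S2810
import Cfsg.Agent.H28.CharP
-- import your own Cfsg.Agent.* helpers here

set_option autoImplicit false
open Cfsg

namespace Cfsg.Agent.S2810

open H28 Subgroup
open scoped Pointwise commutatorElement

/-- Let H be a finite group of characteristic p and L a subgroup of H centralizing every factor of some H-invariant chain 1 = A₀ ≤ A₁ ≤ … ≤ Aₙ = O_p(H) of normal subgroups (that is, [A_{i+1}, L] ≤ Aᵢ for each i). Then L ≤ O_p(H). -/
theorem result {H : Type*} [Group H] [Finite H] {p : ℕ} [Fact p.Prime] (hchar : Subgroup.centralizer (Cfsg.pCore p H : Set H) ≤ Cfsg.pCore p H) (L : Subgroup H) (n : ℕ) (A : Fin (n + 1) → Subgroup H) (h0 : A 0 = ⊥) (hn : A (Fin.last n) = Cfsg.pCore p H) (hmono : Monotone A) (hnorm : ∀ i, (A i).Normal) (hcent : ∀ i : Fin n, ⁅A i.succ, L⁆ ≤ A i.castSucc) : L ≤ Cfsg.pCore p H := by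
  have hc := isCharP_top.2 hchar
  have hN : ∀ i : Fin n, ⁅A i.succ, nclIn L ⊤⁆ ≤ A i.castSucc := fun i => by
    haveI := hnorm i.succ
    haveI := hnorm i.castSucc
    rw [comm_comm]
    exact commutator_nclIn_le (by rw [comm_comm]; exact hcent i) le_normalizer_of_normal
      le_normalizer_of_normal le_normalizer_of_normal
  have key : ∀ k (hk : k ≤ n), iterCommutator (pCoreOf p ⊤) (nclIn L ⊤) k ≤ A ⟨n - k, by omega⟩ := by
    intro k
    induction k with
    | zero => intro _; rw [pCoreOf_top, ← hn]; exact le_rfl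
    | succ k ih =>
      intro hk
      have h1 := hN ⟨n - (k + 1), by omega⟩
      have e : (⟨n - (k + 1), by omega⟩ : Fin n).succ = ⟨n - k, by omega⟩ := by
        ext; simp; omega
      rw [e] at h1
      exact (commutator_mono (ih (by omega)) le_rfl).trans h1
  have h2 : iterCommutator (pCoreOf p ⊤) (nclIn L ⊤) n = ⊥ := by
    have := key n le_rfl
    simp only [Nat.sub_self, Fin.zero_eta, h0] at this
    exact le_bot_iff.1 this
  have h3 := isPGroup_of_pResidualOf_eq_bot (hc.pResidualOf_eq_bot_of_iter le_top h2)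
  rw [← pCoreOf_top]
  exact (le_nclIn L ⊤).trans (le_pCoreOf h3 le_top (le_normalizer_nclIn L ⊤))

end Cfsg.Agent.S2810
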