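import Cfsg.Statements.S2813
import Cfsg.Agent.H28.CharP
-- import your own Cfsg.Agent.* helpers here

set_option autoImplicit false
open Cfsg

namespace Cfsg.Agent.S2813

open H28 Subgroup
open scoped Pointwise commutatorElement

/-- Let K be a subgroup of the finite group H with O_p(K) = 1 and Y a p-subgroup of N_H(K) with [K, Y, Y] = 1. Then [K, Y] = 1. -/
theorem result {H : Type*} [Group H] [Finite H] {p : ℕ} [Fact p.Prime] (K : Subgroup H) (hO : Cfsg.pCore p ↥K = ⊥) (Y : Subgroup H) (hY : IsPGroup p ↥Y) (hYK : Y ≤ Subgroup.normalizer (K : Set H)) (hq : ⁅⁅K, Y⁆, Y⁆ = ⊥) : ⁅K, Y⁆ = ⊥ := by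
  have hDK : ⁅K, Y⁆ ≤ K := commutator_le_of_le_normalizer hYK
  have h1 : ⁅K, Y⁆ ≤ 𝐂 ⁅K, Y⁆ := by
    have : ⁅K, Y⁆ ≤ nclIn Y K := comm_comm K Y ▸ commutator_le_nclIn Y K
    refine this.trans (le_centralizer_comm.1 (le_centralizer_nclIn
      (commutator_eq_bot_iff.1 hq) (le_normalizer_commutator_left K Y)))
  obtain ⟨T, hT⟩ := exists_isSylowIn p ⁅K, Y⁆
  have h2 : T = ⊥ := by
    have := hT.eq_pCoreOf (le_normalizer_of_le_centralizer (h1.trans (centralizer_anti hT.le)))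
    rw [eq_bot_iff, this, ← pCoreOf_eq_bot_iff.2 hO]
    exact pCoreOf_le_of_normal hDK (le_normalizer_commutator_left K Y)
  subst h2
  rw [eq_bot_iff]
  refine commutator_le_of_isPGroup hY (normalizer_bot (G := H) ▸ le_top) (fun c hc => ?_) hq.le
  refine ⟨Nat.card ↥⁅K, Y⁆, ((Nat.Prime.coprime_iff_not_dvd Fact.out).2
    hT.not_dvd_card_of_eq_bot).symm, ?_⟩
  rw [mem_bot, ← orderOf_dvd_iff_pow_eq_one]
  exact Subgroup.orderOf_dvd_natCard _ hc

end Cfsg.Agent.S2813
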