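import Cfsg.Statements.S2814
import Cfsg.Agent.H28.GFAct
-- import your own Cfsg.Agent.* helpers here

set_option autoImplicit false
open Cfsg

namespace Cfsg.Agent.S2814

open H28 Subgroup
open scoped Pointwise commutatorElement

/-- Let A be a subgroup of the finite group H and K the subnormal closure of A (intersection of the subnormal subgroups containing A). Then K is the normal closure of A inside K and N_H(A) ≤ N_H(K); K = A·O^p(K), O^p(K) being generated by the elements of K of order prime to p; and if A is a p-group, O^p(K) = [O^p(K), A]. -/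
theorem result {H : Type*} [Group H] [Finite H] {p : ℕ} [Fact p.Prime] (A : Subgroup H) (K : Subgroup H) (hK : K = Cfsg.subnormalClosure A) : (Subgroup.normalClosure ((A.subgroupOf K : Subgroup ↥K) : Set ↥K)).map K.subtype = K ∧ Subgroup.normalizer (A : Set H) ≤ Subgroup.normalizer (K : Set H) ∧ A ⊔ (Cfsg.pResidual p ↥K).map K.subtype = K ∧ (IsPGroup p ↥A → ⁅(Cfsg.pResidual p ↥K).map K.subtype, A⁆ = (Cfsg.pResidual p ↥K).map K.subtype) := by
  have hA : A ≤ K := hK ▸ le_sInf fun X hX => hX.1
  have hmin : ∀ X, A ≤ X → SubnIn X ⊤ → K ≤ X := fun X a b => hK ▸ sInf_le ⟨a, b.isSubnormal⟩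
  have hs : SubnIn K ⊤ := by
    obtain ⟨B, -, ⟨a, b⟩, c⟩ := H1.exists_minimal_le (P := fun X => A ≤ X ∧ SubnIn X ⊤)
      ⟨le_top, SubnIn.refl ⊤⟩
    have : K = B := le_antisymm (hmin B a b) (hK ▸ le_sInf fun X hX =>
      (c _ ⟨le_inf a hX.1, b.inf_subnIn (subnIn_top hX.2)⟩ inf_le_left).ge.trans inf_le_right)
    rwa [this]
  have h3 : A ⊔ pResidualOf p K = K := le_antisymm (sup_le hA (pResidualOf_le p K))
    (hmin _ le_sup_left ((subnIn_of_pResidualOf_le le_sup_right
      (sup_le hA (pResidualOf_le p K))).trans hs))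
  refine ⟨?_, le_normalizer_of_cj_le fun g hg => cj_le_iff.2 (hmin _ ?_ ?_), h3, fun h => ?_⟩
  · rw [map_normalClosure_subgroupOf hA]
    exact le_antisymm (nclIn_le_self hA) (hmin _ (le_nclIn _ _)
      ((SubnIn.of_normal (nclIn_le_self hA) (le_normalizer_nclIn _ _)).trans hs))
  · rw [← cj_eq_self (inv_mem hg)]; exact cj_mono _ hA
  · exact hs.conj_of_mem (mem_normalizer_of_normal _ _)
  · rw [pResidualOf_def]
    have hn : A ≤ 𝐍 (pResidualOf p K) := hA.trans (le_normalizer_pResidualOf p K)
    have h1 : A ⊔ ⁅pResidualOf p K, A⁆ ≤ K :=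
      sup_le hA ((commutator_le_of_le_normalizer hn).trans (pResidualOf_le p K))
    have h2 := hmin _ le_sup_left ((SubnIn.of_normal h1 (h3.ge.trans (sup_le
      (le_normalizer_of_le le_sup_left) (comm_comm A _ ▸ le_normalizer_sup_commutator A _)))).trans hs)
    exact le_antisymm (commutator_le_of_le_normalizer hn) ((pResidualOf_mono h2).trans
      (pResidualOf_sup_le h (le_normalizer_commutator_right _ _)))

end Cfsg.Agent.S2814
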