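import Cfsg.Statements.S2815
import Cfsg.Agent.H28.GFAct
-- import your own Cfsg.Agent.* helpers here

set_option autoImplicit false
open Cfsg

namespace Cfsg.Agent.S2815

open H28 Subgroup
open scoped Pointwise commutatorElement

/-- Let H be a finite group and p a prime dividing its order with O_p(H) = 1, and suppose K = O^p(H) (generated by the elements of order prime to p) is quasisimple. Then K = F*(H); for every nontrivial p-subgroup Y of H, K = [K, Y] and K lies in the subgroup generated by the K-conjugates of Y; every normal subgroup of H not containing K has order prime to p; and H is p-irreducible. -/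
theorem result {H : Type*} [Group H] [Finite H] {p : ℕ} [Fact p.Prime] (hp : p ∣ Nat.card H) (hO : Cfsg.pCore p H = ⊥) (hq : Cfsg.IsQuasisimple ↥(Cfsg.pResidual p H)) : Cfsg.pResidual p H = Cfsg.generalizedFittingSubgroup H ∧ (∀ Y : Subgroup H, IsPGroup p ↥Y → Y ≠ ⊥ → ⁅Cfsg.pResidual p H, Y⁆ = Cfsg.pResidual p H ∧ Cfsg.pResidual p H ≤ ⨆ k : ↥(Cfsg.pResidual p H), Y.map (MulAut.conj (k : H)).toMonoidHom) ∧ (∀ C : Subgroup H, C.Normal → ¬ Cfsg.pResidual p H ≤ C → (Nat.card ↥C).Coprime p) ∧ Cfsg.IsPIrreducible p H := by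
  have hF := coprime_card_fitting hO
  have hc : IsComponent (pResidual p H) := ⟨Normal.isSubnormal inferInstance, hq⟩
  have h1 : pResidual p H = generalizedFittingSubgroup H := by
    refine le_antisymm ((H1.le_layer hc).trans H1.layer_le_gf) (sup_le ?_ fun x hx => ?_)
    · rw [← pResidualOf_top, ← pResidualOf_eq_of_perfect (p := p) H1.layer_perfect]
      exact pResidualOf_mono le_top
    · rw [← pResidualOf_top]
      exact mem_pResidualOf (mem_top x) (hF.coprime_dvd_left (orderOf_dvd_natCard _ hx))
  have h3 : ∀ C : Subgroup H, C.Normal → ¬ pResidual p H ≤ C → (Nat.card C).Coprime p :=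
    fun C a b => hF.coprime_dvd_left (card_dvd_of_le ((comm_eq_bot'.1
      ((H1.component_le_or_commutator_eq_bot hc a.isSubnormal).resolve_left b)).trans
        (h1 ▸ H1.centralizer_gf_le_fitting)))
  refine ⟨h1, fun Y a b => ?_, h3, fun h => ?_, fun N a b => ?_⟩
  · have := (H1.commutator_eq_self_or_eq_bot hq (U := Y) le_normalizer_of_normal).resolve_right
      fun e => b (eq_bot_of_le_centralizer_gf hO a (h1 ▸ comm_eq_bot'.1 e))
    exact ⟨this, this.ge.trans ((comm_comm _ _).le.trans (commutator_le_nclIn _ _))⟩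
  · have := isPClosed_iff_sylow_pCoreOf.1 (isPClosed_top.2 h)
    rw [pCoreOf_top, hO] at this
    exact this.not_dvd_card_of_eq_bot (card_top (G := H) ▸ hp)
  · by_contra e
    exact b (isPClosed_of_not_dvd ((Nat.Prime.coprime_iff_not_dvd Fact.out).1 (h3 N a e).symm))

end Cfsg.Agent.S2815
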