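import Cfsg.Statements.S2816
import Cfsg.Agent.H28.GFAct
-- import your own Cfsg.Agent.* helpers here

set_option autoImplicit false
open Cfsg

namespace Cfsg.Agent.S2816

open H28 Subgroup
open scoped Pointwise commutatorElement

/-- Let H be a finite group and p a prime with O_p(H) = 1, and Y a p-subgroup of H. Then for every subnormal subgroup K of H containing Y, [F*(H), Y] = [F*(K), Y] = [F*(K), Y, Y]; and if Y₀ ≤ Y with [F*(H), Y, Y₀] = 1 then Y₀ = 1 (in particular [F*(H), Y] = 1 forces Y = 1). -/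
theorem result {H : Type*} [Group H] [Finite H] {p : ℕ} [Fact p.Prime] (hO : Cfsg.pCore p H = ⊥) (Y : Subgroup H) (hY : IsPGroup p ↥Y) : (∀ K : Subgroup H, K.IsSubnormal → Y ≤ K → ⁅Cfsg.generalizedFittingSubgroup H, Y⁆ = ⁅(Cfsg.generalizedFittingSubgroup ↥K).map K.subtype, Y⁆ ∧ ⁅(Cfsg.generalizedFittingSubgroup ↥K).map K.subtype, Y⁆ = ⁅⁅(Cfsg.generalizedFittingSubgroup ↥K).map K.subtype, Y⁆, Y⁆) ∧ (∀ Y₀ : Subgroup H, Y₀ ≤ Y → ⁅⁅Cfsg.generalizedFittingSubgroup H, Y⁆, Y₀⁆ = ⊥ → Y₀ = ⊥) := by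
  have hs : SubnIn (generalizedFittingSubgroup H) ⊤ := SubnIn.of_normal le_top le_normalizer_of_normal
  have h1 := gfOf_eq_self_top hs le_rfl
  have h2 := hs.pCoreOf_eq_bot (p := p) (by rw [pCoreOf_top, hO])
  have h3 := gf_commutator hY le_normalizer_of_normal h1 h2
  refine ⟨fun K a b => ?_, fun Y₀ a b => eq_bot_of_le_centralizer_gf hO (hY.to_le a) ?_⟩
  · have h4 : ⁅generalizedFittingSubgroup H, Y⁆ ≤ K := (subnIn_top a).induction_down
      (P := fun A => Y ≤ A → ⁅generalizedFittingSubgroup H, Y⁆ ≤ A) (fun _ => le_top)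
      (fun A B c d _ ih e => h3.ge.trans ((commutator_mono (ih (e.trans c)) e).trans
        (commutator_le_of_le_normalizer' d))) b
    have h5 : ⁅generalizedFittingSubgroup H, Y⁆ = ⁅gfOf K, Y⁆ := by
      rw [gfOf, H1.gfOf_eq_inf_of_subnormal a]
      exact le_antisymm (h3.ge.trans (commutator_mono (le_inf (commutator_le_left _ _) h4) le_rfl))
        (commutator_mono inf_le_left le_rfl)
    exact ⟨h5, by rw [← h5, h3]⟩
  · rw [le_centralizer_comm, ← gf_split hY le_normalizer_of_normal h1 h2]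
    exact sup_le (comm_eq_bot.1 b) (inf_le_right.trans (centralizer_anti a))

end Cfsg.Agent.S2816
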