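import Cfsg.Statements.S2817
import Cfsg.Agent.H28.GFAct
-- import your own Cfsg.Agent.* helpers here

set_option autoImplicit false
open Cfsg

namespace Cfsg.Agent.S2817

open H28 Subgroup
open scoped Pointwise commutatorElement

/-- Let H be a finite group and p a prime with O_p(H) = 1, Q a p-subgroup of H, L = [F*(H), Q], and F the largest normal subgroup of F*(H) centralized by Q (a normal subgroup of F*(H) centralized by Q and containing every such). Then F = C_{F*(H)}(LQ); L = [L, Q]; L ∩ F ≤ Φ(L); every p-subgroup B of N_H(Q) with [L, B] ≤ F satisfies [L, B] = 1; and C_H(FL) has order prime to p. -/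
theorem result {H : Type*} [Group H] [Finite H] {p : ℕ} [Fact p.Prime] (hO : Cfsg.pCore p H = ⊥) (Q : Subgroup H) (hQ : IsPGroup p ↥Q) (L : Subgroup H) (hL : L = ⁅Cfsg.generalizedFittingSubgroup H, Q⁆) (F : Subgroup H) (hF : F ≤ Cfsg.generalizedFittingSubgroup H ∧ Cfsg.generalizedFittingSubgroup H ≤ Subgroup.normalizer (F : Set H) ∧ Q ≤ Subgroup.centralizer (F : Set H) ∧ ∀ N : Subgroup H, N ≤ Cfsg.generalizedFittingSubgroup H → Cfsg.generalizedFittingSubgroup H ≤ Subgroup.normalizer (N : Set H) → Q ≤ Subgroup.centralizer (N : Set H) → N ≤ F) : F = Cfsg.generalizedFittingSubgroup H ⊓ Subgroup.centralizer ((L ⊔ Q : Subgroup H) : Set H) ∧ ⁅L, Q⁆ = L ∧ L ⊓ F ≤ (frattini ↥L).map L.subtype ∧ (∀ B : Subgroup H, IsPGroup p ↥B → B ≤ Subgroup.normalizer (Q : Set H) → ⁅L, B⁆ ≤ F → ⁅L, B⁆ = ⊥) ∧ (Nat.card ↥(Subgroup.centralizer ((F ⊔ L : Subgroup H) : Set H))).Coprime p := by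
  obtain ⟨f1, f2, f3, f4⟩ := hF
  set X := generalizedFittingSubgroup H with hX
  have hs : SubnIn X ⊤ := SubnIn.of_normal le_top le_normalizer_of_normal
  have h1 := gfOf_eq_self_top hs le_rfl
  have h0 : pCoreOf p (⊤ : Subgroup H) = ⊥ := by rw [pCoreOf_top, hO]
  have h2 := hs.pCoreOf_eq_bot h0
  have h3 : ⁅L, Q⁆ = L := by rw [hL]; exact gf_commutator hQ le_normalizer_of_normal h1 h2
  have hLX : L ≤ X := hL ▸ commutator_le_left _ _
  have hXL : X ≤ 𝐍 L := hL ▸ le_normalizer_commutator_left _ _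
  have hQL : Q ≤ 𝐍 L := hL ▸ le_normalizer_commutator_right _ _
  have hLs : SubnIn L ⊤ := (SubnIn.of_normal hLX hXL).trans hs
  have l1 := gfOf_eq_self_top hLs hLX
  have l2 := hLs.pCoreOf_eq_bot h0
  have hFL : F ≤ 𝐂 L := by
    rw [← comm_eq_bot', hL]
    refine commutator_commutator_eq_bot_of_rotate ?_ ?_
    · rw [comm_eq_bot.2 f3, commutator_bot_left]
    · exact comm_eq_bot'.2 (f3.trans (centralizer_anti (commutator_le_of_le_normalizer f2)))
  have e1 : F = X ⊓ 𝐂 (L ⊔ Q) := by
    refine le_antisymm (le_inf f1 ?_) (f4 _ inf_le_left (le_normalizer_inf le_normalizer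
      (le_normalizer_centralizer ?_)) (le_centralizer_comm.1 (inf_le_right.trans
        (centralizer_anti le_sup_right))))
    · rw [centralizer_sup]; exact le_inf hFL (le_centralizer_comm.1 f3)
    · rw [sup_comm, hL, comm_comm]; exact le_normalizer_sup_commutator _ _
  have e3 : L ⊓ F ≤ frOf L := (le_inf ((inf_le_inf_left _ (le_centralizer_comm.1 f3)).trans
    (inf_centralizer_le_commutator hQ hQL l1 l2 h3)) (inf_le_right.trans hFL)).trans
      center_inf_commutator_le_frOf
  refine ⟨e1, h3, e3, fun B a b c => ?_, ?_⟩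
  · have hBL : B ≤ 𝐍 L := hL ▸ le_normalizer_commutator le_normalizer_of_normal b
    have := H1.eq_of_sup_of_le_frattiniOf (H := L ⊓ 𝐂 B) inf_le_left
      ((le_inf (commutator_le_of_le_normalizer hBL) c).trans e3)
      ((gf_split a hBL l1 l2).ge.trans (sup_comm _ _).le)
    exact comm_eq_bot.2 (this.ge.trans inf_le_right)
  · rw [Nat.coprime_comm, (Fact.out : p.Prime).coprime_iff_not_dvd]
    intro hd
    set C := 𝐂 (F ⊔ L)
    have hQC : Q ≤ 𝐍 C := le_normalizer_centralizer (le_normalizer_sup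
      (le_normalizer_of_le_centralizer f3) hQL)
    obtain ⟨T, hT, hQT⟩ := exists_isSylowIn_ge hQ (le_sup_left : Q ≤ Q ⊔ C)
    have hS := hT.inf_normal' le_sup_right (sup_le hQC le_normalizer)
    have hB := inf_centralizer_ne_bot hQ hS.isPGroup (le_normalizer_inf (le_normalizer_of_le hQT) hQC)
      (hS.ne_bot hd)
    set B := T ⊓ C ⊓ 𝐂 Q
    have hBp : IsPGroup p B := hS.isPGroup.to_le inf_le_left
    have hBC : B ≤ 𝐂 (F ⊔ L) := inf_le_left.trans inf_le_right
    have b1 : ⁅X, B⁆ ≤ 𝐂 Q := by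
      have := gf_split hQ le_normalizer_of_normal h1 h2
      rw [← hL] at this
      refine commutator_le.2 fun x hx y hy => ?_
      obtain ⟨c, hc, l, hl, rfl⟩ := (mem_sup_of_le_normalizer (inf_le_left.trans hXL)).1
        ((this.ge.trans (sup_comm _ _).le) hx)
      have e := mem_centralizer'.1 (centralizer_anti le_sup_right (hBC hy)) l hl
      have : ⁅c * l, y⁆ = ⁅c, y⁆ := by
        simp only [commutatorElement_def, mul_inv_rev]
        calc c * l * y * (l⁻¹ * c⁻¹) * y⁻¹ = c * (l * y) * l⁻¹ * c⁻¹ * y⁻¹ := by group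
          _ = c * y * c⁻¹ * y⁻¹ := by rw [e]; group
      rw [this, commutatorElement_def]
      exact mul_mem (mul_mem (mul_mem hc.2 hy.2) (inv_mem hc.2)) (inv_mem hy.2)
    have b2 := f4 _ (commutator_le_left _ _) (le_normalizer_commutator_left _ _)
      (le_centralizer_comm.1 b1)
    refine hB (eq_bot_of_le_centralizer_gf hO hBp (comm_eq_bot'.1 ?_))
    rw [← gf_commutator hBp le_normalizer_of_normal h1 h2]
    exact comm_eq_bot'.2 (hBC.trans (centralizer_anti (b2.trans le_sup_left)))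

end Cfsg.Agent.S2817
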