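import Cfsg.Statements.S2818
import Cfsg.Agent.H28.CharP
import Cfsg.Agent.H4.Basic
-- import your own Cfsg.Agent.* helpers here

set_option autoImplicit false
open Cfsg

namespace Cfsg.Agent.S2818

open H28 Subgroup
open scoped Pointwise commutatorElement

/-- Let P be a finite p-subgroup of a group G and H a subgroup of N_G(P) with [P, H] ≤ Ω₁(Z(P)) (the elements of order dividing p in the centre of P). Then H centralizes the Frattini subgroup of P. -/
theorem result {G : Type*} [Group G] [Finite G] {p : ℕ} [Fact p.Prime] (P : Subgroup G) (hP : IsPGroup p ↥P) (H : Subgroup G) (hH : H ≤ Subgroup.normalizer (P : Set G)) (h : ⁅P, H⁆ ≤ Cfsg.omegaOne p (P ⊓ Subgroup.centralizer (P : Set G))) : ⁅(frattini ↥P).map P.subtype, H⁆ = ⊥ := by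
  rw [omegaOneCenter_def] at h
  rw [H28.commutator_eq_bot_iff, map_subtype_le_iff]
  have h1 : ⁅⁅P, H⁆, P⁆ = ⊥ := commutator_eq_bot_iff.2 (h.trans (omegaOneCenter_le_centralizer p P))
  apply H4.frattini_le (p := p)
  · rw [_root_.commutator, ← map_subtype_le_iff, map_commutator, map_subtype_top, ← H28.commutator_eq_bot_iff]
    exact commutator_commutator_eq_bot_of_rotate h1 (comm_comm H P ▸ h1)
  · intro x
    rw [mem_subgroupOf, mem_centralizer']
    intro u hu
    have hc : ⁅(x : G), u⁆ ∈ omegaOneCenter p P := h (commutator_mem_commutator x.2 hu)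
    have := commutatorElement_pow_mul_inv_mem (N := ⊥) (normalizer_bot (G := G) ▸ mem_top _) hc
      (fun d hd => mem_bot.2 (commutatorElement_eq_one_iff_mul_comm.2
        ((mem_omegaOneCenter.1 hd).2.1 x x.2))) p
    rw [(mem_omegaOneCenter.1 hc).2.2, inv_one, mul_one, mem_bot,
      commutatorElement_eq_one_iff_mul_comm] at this
    exact this.symm

end Cfsg.Agent.S2818
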