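import Cfsg.Statements.S2819
import Cfsg.Agent.H28.GFAct
import Cfsg.Agent.H4.Critical
-- import your own Cfsg.Agent.* helpers here

set_option autoImplicit false
open Cfsg

namespace Cfsg.Agent.S2819

open H28 Subgroup
open scoped Pointwise commutatorElement

/-- Let P be a finite p-subgroup of a group G, H a subgroup of N_G(P), and Y a subgroup of H centralizing the derived subgroup P' such that [P, Y] is elementary abelian. Then O^p(⟨Y^H⟩), the subgroup of the normal closure of Y in H generated by its elements of order prime to p, centralizes the Frattini subgroup of P. -/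
theorem result {G : Type*} [Group G] [Finite G] {p : ℕ} [Fact p.Prime] (P : Subgroup G) (hP : IsPGroup p ↥P) (H : Subgroup G) (hH : H ≤ Subgroup.normalizer (P : Set G)) (Y : Subgroup G) (hYH : Y ≤ H) (hYc : Y ≤ Subgroup.centralizer ((⁅P, P⁆ : Subgroup G) : Set G)) (hel : Cfsg.IsElementaryAbelian p ⁅P, Y⁆) (NY : Subgroup G) (hNY : NY = (Subgroup.normalClosure ((Y.subgroupOf H : Subgroup ↥H) : Set ↥H)).map H.subtype) : (Cfsg.pResidual p ↥NY).map NY.subtype ≤ Subgroup.centralizer (((frattini ↥P).map P.subtype : Subgroup G) : Set G) := by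
  rw [map_normalClosure_subgroupOf hYH] at hNY
  rw [pResidualOf_def, hNY]
  have hPD : P ≤ 𝐍 ⁅P, P⁆ := le_normalizer_commutator_left _ _
  have hHD : H ≤ 𝐍 ⁅P, P⁆ := le_normalizer_commutator hH hH
  have hD : ⁅P, P⁆ ≤ P := commutator_le_of_le_normalizer le_normalizer
  have h1 : ⁅Y, frOf P⁆ ≤ ⁅P, P⁆ := by
    refine commutator_le.2 fun y hy x hx => ?_
    let K : Subgroup G :=
      { carrier := {x | x ∈ P ∧ ⁅x, y⁆ ∈ ⁅P, P⁆}
        one_mem' := ⟨one_mem _, by simp⟩
        mul_mem' := fun {a b} ha hb => ⟨mul_mem ha.1 hb.1, by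
          rw [show ⁅a * b, y⁆ = a * ⁅b, y⁆ * a⁻¹ * ⁅a, y⁆ by simp only [commutatorElement_def]; group]
          exact mul_mem (conj_mem_of_mem_normalizer (hPD ha.1) hb.2) ha.2⟩
        inv_mem' := fun {a} ha => ⟨inv_mem ha.1, by
          rw [show ⁅a⁻¹, y⁆ = a⁻¹ * ⁅a, y⁆⁻¹ * a by simp only [commutatorElement_def]; group]
          exact conj_mem_of_mem_normalizer' (hPD ha.1) (inv_mem ha.2)⟩ }
    refine commutatorElement_mem_comm.1 (H4.map_frattini_le (p := p) (N := K) (fun a ha b hb =>
      ⟨hD (commutator_mem_commutator ha hb), ?_⟩) (fun a ha => ⟨pow_mem ha p, ?_⟩) hx).2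
    · rw [commutatorElement_eq_one_iff_mul_comm.2
        (mem_centralizer'.1 (hYc hy) _ (commutator_mem_commutator ha hb))]
      exact one_mem _
    · have := commutatorElement_pow_mul_inv_mem (hPD ha) (commutator_le_of_le_normalizer
        (hYH.trans hH) (commutator_mem_commutator ha hy))
        (fun d hd => commutator_mem_commutator ha hd) p
      rwa [(isElementaryAbelian_iff.1 hel).2 _ (commutator_mem_commutator ha hy), inv_one,
        mul_one] at this
  refine pResidualOf_le_centralizer_of_commutator_le (hP.to_le hD) ?_ ((pResidualOf_le _ _).trans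
    (le_centralizer_comm.1 (le_centralizer_nclIn (le_centralizer_comm.1 hYc) hHD)))
  rw [comm_comm]
  exact (commutator_mono (pResidualOf_le _ _) le_rfl).trans (commutator_nclIn_le h1
    (hH.trans (H1.normalizer_le_normalizer_map_subtype _)) hHD (hYH.trans hHD))

end Cfsg.Agent.S2819
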