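import Cfsg.Statements.S2823
import Cfsg.Agent.H28.PRed
-- import your own Cfsg.Agent.* helpers here

set_option autoImplicit false
open Cfsg

namespace Cfsg.Agent.S2823

open H28 Subgroup
open scoped Pointwise commutatorElement

/-- Let H be a finite group, p a prime, T a Sylow p-subgroup and L a subgroup of characteristic p containing T; let Z_L be the subgroup generated by the Ω₁(Z(S)) over the Sylow p-subgroups S of L and O^p(L) the subgroup generated by the elements of L of order prime to p. Then Z_L = Ω₁(Z(L))·[Z_L, O^p(L)] and [Z_L, L] = [Z_L, O^p(L)]. -/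
theorem result {H : Type*} [Group H] [Finite H] {p : ℕ} [Fact p.Prime] (T : Sylow p H) (L : Subgroup H) (hTL : (T : Subgroup H) ≤ L) (hL : Subgroup.centralizer (Cfsg.pCore p ↥L : Set ↥L) ≤ Cfsg.pCore p ↥L) : Cfsg.sylowCenterClosure p L = (Cfsg.omegaOne p (L ⊓ Subgroup.centralizer ((L : Subgroup H) : Set H))) ⊔ ⁅Cfsg.sylowCenterClosure p L, (Cfsg.pResidual p ↥L).map L.subtype⁆ ∧ ⁅Cfsg.sylowCenterClosure p L, L⁆ = ⁅Cfsg.sylowCenterClosure p L, (Cfsg.pResidual p ↥L).map L.subtype⁆ := by
  have hc := isCharP_iff.2 hL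
  have hT := isSylowIn_of_sylow_le T hTL
  have hZ := hc.isPRed_Z
  rw [pResidualOf_def, omegaOneCenter_def]
  have hn : L ≤ 𝐍 ⁅sylowCenterClosure p L, pResidualOf p L⁆ :=
    le_normalizer_commutator hZ.norm (le_normalizer_pResidualOf p L)
  have h1 : sylowCenterClosure p L = omegaOneCenter p L ⊔ ⁅sylowCenterClosure p L, pResidualOf p L⁆ := by
    apply le_antisymm
    · conv_lhs => rw [hT.Z_eq]
      refine nclIn_le ?_ (le_normalizer_sup (le_normalizer_omegaOneCenter le_normalizer) hn)
      refine (le_inf hT.omegaOneCenter_le_Z (omegaOneCenter_le_centralizer p _)).trans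
        ((inf_centralizer_le_of_sylow (ea_le_centralizer hZ.ea) hZ.isPGroup hZ.norm hT).trans ?_)
      rw [sup_comm]
      exact sup_le_sup (le_omegaOneCenter (inf_le_left.trans hZ.le) inf_le_right
        fun a ha => hZ.ea.2 a ha.1) (commutator_mono inf_le_left le_rfl)
    · refine sup_le (le_trans ?_ hT.omegaOneCenter_le_Z)
        (commutator_le_of_le_normalizer ((pResidualOf_le p L).trans hZ.norm))
      refine le_omegaOneCenter ((isPRed_omegaOneCenter p L).le_pCoreOf.trans hT.pCoreOf_le)
        ((omegaOneCenter_le_centralizer p L).trans (centralizer_anti hTL))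
        (ea_omegaOneCenter p L).2
  refine ⟨h1, le_antisymm ?_ (commutator_mono le_rfl (pResidualOf_le p L))⟩
  conv_lhs => rw [h1]
  refine H1.commutator_sup_le ((omegaOneCenter_le p L).trans hn) le_normalizer ?_
    (commutator_le_of_le_normalizer hn)
  rw [comm_eq_bot.2 (omegaOneCenter_le_centralizer p L)]; exact bot_le

end Cfsg.Agent.S2823
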