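import Cfsg.Statements.S2825
import Cfsg.Agent.H28.PRed
-- import your own Cfsg.Agent.* helpers here

set_option autoImplicit false
open Cfsg

namespace Cfsg.Agent.S2825

open H28 Subgroup
open scoped Pointwise commutatorElement

/-- Let L be a subnormal subgroup of the finite group H, p a prime, Y_H and Y_L the largest p-reduced normal subgroups. Then Y_H ∩ L = Y_H ∩ Y_L and this subgroup is a p-reduced normal subgroup of L; C_L(Y_L) = C_L(Y_H) = C_L(Y_H ∩ L); and if O^p(H) ≤ L, then [Y_L, L] = 1 if and only if [Y_H, H] = 1. -/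
theorem result {H : Type*} [Group H] [Finite H] {p : ℕ} [Fact p.Prime] (L : Subgroup H) (hL : L.IsSubnormal) : Cfsg.largestPReduced p H ⊓ L = Cfsg.largestPReduced p H ⊓ (Cfsg.largestPReducedOf p L) ∧ Cfsg.IsPReducedNormal p ((Cfsg.largestPReduced p H ⊓ L).subgroupOf L) ∧ L ⊓ Subgroup.centralizer ((Cfsg.largestPReducedOf p L : Subgroup H) : Set H) = L ⊓ Subgroup.centralizer (Cfsg.largestPReduced p H : Set H) ∧ L ⊓ Subgroup.centralizer (Cfsg.largestPReduced p H : Set H) = L ⊓ Subgroup.centralizer ((Cfsg.largestPReduced p H ⊓ L : Subgroup H) : Set H) ∧ (Cfsg.pResidual p H ≤ L → (⁅(Cfsg.largestPReducedOf p L), L⁆ = ⊥ ↔ ⁅Cfsg.largestPReduced p H, (⊤ : Subgroup H)⁆ = ⊥)) := by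
  have hL' := subnIn_top hL
  rw [← Y_top]
  have hY := isPRed_Y p (⊤ : Subgroup H)
  obtain ⟨h1, h2⟩ := hL'.isPRed_inf hY
  have h3 := hL'.inf_centralizer_Y (p := p)
  refine ⟨le_antisymm (le_inf inf_le_left h1.le_Y) (inf_le_inf_left _ (isPRed_Y p L).le),
    (isPReducedNormal_subgroupOf inf_le_right).2 h1, h3, h2.symm, fun hR => ?_⟩
  rw [comm_eq_bot', comm_eq_bot', ← inf_eq_left, h3, inf_eq_left]
  refine ⟨fun h => hY.red _ le_rfl le_normalizer (pMod_of_pResidualOf_le ?_), le_top.trans⟩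
  rw [pResidualOf_top]; exact hR.trans h

end Cfsg.Agent.S2825
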