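import Cfsg.Statements.S2826
import Cfsg.Agent.H28.PRed
-- import your own Cfsg.Agent.* helpers here

set_option autoImplicit false
open Cfsg

namespace Cfsg.Agent.S2826

open H28 Subgroup
open scoped Pointwise commutatorElement

/-- Let H be a finite group of characteristic p, T a Sylow p-subgroup, and V a normal elementary abelian p-subgroup of H containing Ω₁(Z(T)). Then C_H(Ω₁(Z(T))) = C_H([V, O^p(H)] ∩ Ω₁(Z(T))), O^p(H) being generated by the elements of order prime to p. -/
theorem result {H : Type*} [Group H] [Finite H] {p : ℕ} [Fact p.Prime] (hH : Subgroup.centralizer (Cfsg.pCore p H : Set H) ≤ Cfsg.pCore p H) (T : Sylow p H) (V : Subgroup H) [V.Normal] (hV : Cfsg.IsElementaryAbelian p V) (hZV : (Cfsg.omegaOne p ((T : Subgroup H) ⊓ Subgroup.centralizer (((T : Subgroup H) : Subgroup H) : Set H))) ≤ V) : Subgroup.centralizer ((Cfsg.omegaOne p ((T : Subgroup H) ⊓ Subgroup.centralizer (((T : Subgroup H) : Subgroup H) : Set H))) : Set H) = Subgroup.centralizer (((⁅V, Cfsg.pResidual p H⁆ ⊓ (Cfsg.omegaOne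 p ((T : Subgroup H) ⊓ Subgroup.centralizer (((T : Subgroup H) : Subgroup H) : Set H)))) : Subgroup H) : Set H) := by
  rw [omegaOneCenter_def] at hZV ⊢
  apply le_antisymm (centralizer_anti inf_le_right)
  have h1 := inf_centralizer_le_of_sylow (ea_le_centralizer hV) (ea_isPGroup hV)
    (le_normalizer_of_normal (K := ⊤)) (isSylowIn_top T)
  rw [pResidualOf_top] at h1
  have h2 : V ⊓ 𝐂 (⊤ : Subgroup H) ≤ omegaOneCenter p T :=
    le_omegaOneCenter (inf_le_left.trans ((le_pCore (ea_isPGroup hV)).trans (pCore_le_sylow T)))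
      (inf_le_right.trans (centralizer_anti le_top)) fun a ha => hV.2 a ha.1
  have h3 := sup_inf_of_le_normalizer (B := ⁅V, pResidual p H⁆) (Or.inl le_normalizer_of_normal) h2
  have h4 : omegaOneCenter p T ≤ V ⊓ 𝐂 (⊤ : Subgroup H) ⊔ ⁅V, pResidual p H⁆ ⊓ omegaOneCenter p T := by
    rw [← h3, sup_comm]
    exact le_inf ((le_inf hZV (omegaOneCenter_le_centralizer p _)).trans (h1.trans
      (sup_le_sup_right (commutator_mono inf_le_left le_rfl) _))) le_rfl
  refine le_trans ?_ (centralizer_anti h4)
  rw [centralizer_sup]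
  exact le_inf (le_top.trans (le_centralizer_comm.1 inf_le_right)) le_rfl

end Cfsg.Agent.S2826
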