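import Cfsg.Statements.S2827
import Cfsg.Agent.H28.MinOver
-- import your own Cfsg.Agent.* helpers here

set_option autoImplicit false
open Cfsg

namespace Cfsg.Agent.S2827

open H28 Subgroup
open scoped Pointwise commutatorElement

/-- Let H be a finite p-irreducible group (not p-closed, and O^p(H) lies in every normal subgroup that is not p-closed) and T a Sylow p-subgroup. Then H is generated by the conjugates of T and H = H'·T; O^p(H) ≤ H'; and for every normal subgroup Y of T not contained in O_p(H), O^p(H) = [O^p(H), Y] and O^p(H) is contained in the normal closure of Y in H. -/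
theorem result {H : Type*} [Group H] [Finite H] {p : ℕ} [Fact p.Prime] (hH : Cfsg.IsPIrreducible p H) (T : Sylow p H) : Subgroup.normalClosure ((T : Subgroup H) : Set H) = ⊤ ∧ commutator H ⊔ (T : Subgroup H) = ⊤ ∧ Cfsg.pResidual p H ≤ commutator H ∧ ∀ Y : Subgroup H, Y ≤ (T : Subgroup H) → (T : Subgroup H) ≤ Subgroup.normalizer (Y : Set H) → ¬ Y ≤ Cfsg.pCore p H → ⁅Cfsg.pResidual p H, Y⁆ = Cfsg.pResidual p H ∧ Cfsg.pResidual p H ≤ Subgroup.normalClosure (Y : Set H) := by
  have h := pIrr_top.2 hH
  have hT := isSylowIn_top T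
  have h1 : pResidual p H ≤ _root_.commutator H := by
    by_contra h'
    have h2 : IsPClosed p (_root_.commutator H) :=
      h.isPClosed le_top le_normalizer_of_normal (by rwa [pResidualOf_top])
    have h3 := h.commutator_eq hT le_rfl le_normalizer (hT.not_le_pCoreOf h.1)
    rw [pResidualOf_top] at h3
    exact h' (h3.ge.trans (commutator_mono le_top le_top))
  refine ⟨by rw [← nclIn_top]; exact h.nclIn_sylow hT, ?_, h1, fun Y h2 h3 h4 => ?_⟩
  · exact eq_top_iff.2 ((pResidual_sup_sylow T).ge.trans (sup_le_sup_right h1 _))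
  · rw [← pCoreOf_top] at h4
    have h5 := h.commutator_eq hT h2 h3 h4
    have h6 := h.le_nclIn (hT.isPGroup.to_le h2) le_top h4
    rw [pResidualOf_top] at h5 h6
    rw [nclIn_top] at h6
    exact ⟨h5, h6⟩

end Cfsg.Agent.S2827
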