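import Cfsg.Statements.S2828
import Cfsg.Agent.H28.MinOver
-- import your own Cfsg.Agent.* helpers here

set_option autoImplicit false
open Cfsg

namespace Cfsg.Agent.S2828

open H28 Subgroup
open scoped Pointwise commutatorElement

/-- Let H be a finite group, p a prime and D a normal p-subgroup of H. Then H is p-irreducible if and only if H/D is p-irreducible, and H is strongly p-irreducible if and only if H/D is strongly p-irreducible. -/
theorem result {H : Type*} [Group H] [Finite H] {p : ℕ} [Fact p.Prime] (D : Subgroup H) [D.Normal] (hD : IsPGroup p ↥D) : (Cfsg.IsPIrreducible p H ↔ Cfsg.IsPIrreducible p (H ⧸ D)) ∧ (Cfsg.IsStronglyPIrreducible p H ↔ Cfsg.IsStronglyPIrreducible p (H ⧸ D)) := by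
  have hk : IsPGroup p ((⊤ : Subgroup H) ⊓ (QuotientGroup.mk' D).ker : Subgroup H) := by
    rwa [top_inf_eq, QuotientGroup.ker_mk']
  have ht : (⊤ : Subgroup H).map (QuotientGroup.mk' D) = ⊤ :=
    map_top_of_surjective _ (QuotientGroup.mk'_surjective D)
  have h1 := pIrr_map (QuotientGroup.mk' D) hk
  rw [ht, pIrr_top, pIrr_top] at h1
  refine ⟨h1.symm, ?_⟩
  rw [← sPIrr_top, ← sPIrr_top, ← ht]
  set f := QuotientGroup.mk' D
  have hO := map_pCoreOf_of_ker f ⊤ hk
  have hkO : f.ker ≤ pCoreOf p ⊤ := le_pCoreOf (by rwa [top_inf_eq] at hk) le_top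
    le_normalizer_of_normal
  have hc : ∀ N : Subgroup H, ⁅N.map f, (⊤ : Subgroup H).map f⁆ ≤ pCoreOf p ((⊤ : Subgroup H).map f) ↔
      ⁅N, (⊤ : Subgroup H)⁆ ≤ pCoreOf p ⊤ := fun N => by
    rw [← hO, ← map_commutator, Subgroup.map_le_map_iff, sup_eq_left.2 hkO]
  refine and_congr ⟨fun h h' => h (isPClosed_of_map f hk h'), fun h h' => h (isPClosed_map f h')⟩
    ⟨fun h N h1 h2 h3 => ?_, fun h N h1 h2 h3 => ?_⟩
  · have e : ((⊤ : Subgroup H) ⊓ N.comap f).map f = N := map_inf_comap_eq f h1
    rw [← map_pResidualOf, ← e]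
    exact map_mono (h _ inf_le_left (le_normalizer_inf le_normalizer
      (((le_comap_map f ⊤).trans (comap_mono h2)).trans (le_normalizer_comap f)))
      (by rwa [← hc, e]))
  · have := h _ (map_mono h1) ((map_mono h2).trans (le_normalizer_map f)) (by rwa [hc])
    rw [← map_pResidualOf, Subgroup.map_le_map_iff, sup_comm] at this
    rw [← pResidualOf_pResidualOf]
    exact (pResidualOf_mono this).trans
      (pResidualOf_sup_le (by rwa [top_inf_eq] at hk) (le_top.trans h2))

end Cfsg.Agent.S2828
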