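import Cfsg.Statements.S2832
import Cfsg.Agent.H28.MinOver
-- import your own Cfsg.Agent.* helpers here

set_option autoImplicit false
open Cfsg

namespace Cfsg.Agent.S2832

open H28 Subgroup
open scoped Pointwise commutatorElement

/-- Let H be a finite group with Sylow p-subgroup T such that H is T-minimal (generated by the conjugates of T, with T in exactly one maximal subgroup), and let N be a normal subgroup of H. Then either H/N is a p-group or H/N is minimal over the image of T in the same sense. -/
theorem result {H : Type*} [Group H] [Finite H] {p : ℕ} [Fact p.Prime] (T : Sylow p H) (hmin : Cfsg.IsMinimalOver (T : Subgroup H)) (N : Subgroup H) [N.Normal] : IsPGroup p (H ⧸ N) ∨ Cfsg.IsMinimalOver ((T : Subgroup H).map (QuotientGroup.mk' N)) := by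
  obtain ⟨h1, M, hM⟩ := isMinimalOver_iff.1 hmin
  have ht : (⊤ : Subgroup H).map (QuotientGroup.mk' N) = ⊤ :=
    map_top_of_surjective _ (QuotientGroup.mk'_surjective N)
  by_cases h : N ≤ M
  · right
    have h2 := hM.map (QuotientGroup.mk' N) (by rwa [top_inf_eq, QuotientGroup.ker_mk'])
    rw [ht] at h2
    refine isMinimalOver_iff.2 ⟨?_, _, h2⟩
    rw [← ht, ← map_nclIn, h1]
  · left
    have h2 := hM.pResidualOf_le T.isPGroup' le_top h le_normalizer_of_normal
    rw [← isPGroup_top_iff, ← ht, ← pMod_iff_map_mk]
    exact pMod_of_pResidualOf_le h2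

end Cfsg.Agent.S2832
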