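import Cfsg.Statements.S2833
import Cfsg.Agent.H28.CharP
-- import your own Cfsg.Agent.* helpers here

set_option autoImplicit false
open Cfsg

namespace Cfsg.Agent.S2833

open H28 Subgroup
open scoped Pointwise commutatorElement

/-- Let V be a subgroup of a finite group G normalized by the subgroup L, let X ≤ L and g ∈ L with [V, X, X] = 1 and L generated by X and gXg⁻¹. Put W = [V, L]. Then W = [V, X]·[V, gXg⁻¹], C_W(X) = [V, X], and C_W(L) = [V, X] ∩ [V, gXg⁻¹]. -/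
theorem result {G : Type*} [Group G] [Finite G] (V L : Subgroup G) (hLV : L ≤ Subgroup.normalizer (V : Set G)) (X : Subgroup G) (hX : X ≤ L) (g : G) (hg : g ∈ L) (hq : ⁅⁅V, X⁆, X⁆ = ⊥) (hgen : X ⊔ X.map (MulAut.conj g).toMonoidHom = L) (W : Subgroup G) (hW : W = ⁅V, L⁆) : ⁅V, X⁆ ⊔ ⁅V, X.map (MulAut.conj g).toMonoidHom⁆ = W ∧ W ⊓ Subgroup.centralizer (X : Set G) = ⁅V, X⁆ ∧ W ⊓ Subgroup.centralizer (L : Set G) = ⁅V, X⁆ ⊓ ⁅V, X.map (MulAut.conj g).toMonoidHom⁆ := by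
  subst hW
  have hXg : cj g X ≤ L := cj_le_of_mem hX hg
  have h1 : ⁅V, X⁆ ⊔ ⁅V, cj g X⁆ = ⁅V, L⁆ := by
    apply le_antisymm (sup_le (commutator_mono le_rfl hX) (commutator_mono le_rfl hXg))
    have hU : ⁅V, X⁆ ⊔ ⁅V, cj g X⁆ ≤ V := sup_le (commutator_le_of_le_normalizer (hX.trans hLV))
      (commutator_le_of_le_normalizer (hXg.trans hLV))
    conv_lhs => rw [← hgen]
    exact H1.commutator_sup_le' (le_normalizer_of_commutator_le le_sup_left hU)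
      (le_normalizer_of_commutator_le le_sup_right hU) le_sup_left le_sup_right
  have hc : ⁅V, X⁆ ≤ 𝐂 X := commutator_eq_bot_iff.1 hq
  have e1 : cj g ⁅V, X⁆ = ⁅V, cj g X⁆ := by rw [cj_commutator, cj_eq_self (hLV hg)]
  have hc' : ⁅V, cj g X⁆ ≤ 𝐂 (cj g X) := by
    rw [← e1, ← cj_centralizer]; exact cj_mono g hc
  have h2 : ⁅V, L⁆ ⊓ 𝐂 X = ⁅V, X⁆ := by
    rw [← h1, sup_inf_of_le_normalizer (Or.inl ((commutator_le_of_le_normalizer
      (hX.trans hLV)).trans (le_normalizer_commutator_left _ _))) hc]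
    refine sup_eq_left.2 fun x hx => ?_
    have h3 : x ∈ 𝐂 L := by rw [← hgen, centralizer_sup]; exact ⟨hx.2, hc' hx.1⟩
    have h4 : x ∈ ⁅V, cj g X⁆ := hx.1
    rw [← e1, mem_cj, mul_assoc, ← h3 g hg, inv_mul_cancel_left] at h4
    exact h4
  refine ⟨h1, h2, ?_⟩
  have h3 : ⁅V, L⁆ ⊓ 𝐂 (cj g X) = ⁅V, cj g X⁆ := by
    rw [← e1, ← h2, cj_inf, cj_centralizer, cj_eq_self (le_normalizer_commutator_right V L hg)]
  rw [← h2, ← h3]
  conv_lhs => rw [← hgen, centralizer_sup, hgen]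
  exact inf_inf_distrib_left _ _ _

end Cfsg.Agent.S2833
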