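import Cfsg.Statements.S2835
import Cfsg.Agent.H28.MinOver
-- import your own Cfsg.Agent.* helpers here

set_option autoImplicit false
open Cfsg

namespace Cfsg.Agent.S2835

open H28 Subgroup
open scoped Pointwise commutatorElement

/-- Let L be a finite group, L₀ a maximal subgroup, T a Sylow p-subgroup of L₀ and Y ≤ T, and suppose L is Y-minimal (generated by the conjugates of Y, with Y in exactly one maximal subgroup, necessarily L₀). Then N_L(T) ≤ L₀, O_p(L) ≤ L₀ and T is a Sylow p-subgroup of L; N_L(L₀) = L₀; L = ⟨Y, gYg⁻¹⟩ for each g ∈ L outside L₀; and if Y is abelian then Y ∩ gYg⁻¹ = C_Y(L) for each such g. -/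
theorem result {L : Type*} [Group L] [Finite L] {p : ℕ} [Fact p.Prime] (L₀ : Subgroup L) (hL₀ : IsCoatom L₀) (T : Sylow p ↥L₀) (Y : Subgroup L) (hYT : Y ≤ (T : Subgroup ↥L₀).map L₀.subtype) (hmin : Cfsg.IsMinimalOver Y) : Subgroup.normalizer (((T : Subgroup ↥L₀).map L₀.subtype : Subgroup L) : Set L) ≤ L₀ ∧ Cfsg.pCore p L ≤ L₀ ∧ (∃ P : Sylow p L, (P : Subgroup L) = (T : Subgroup ↥L₀).map L₀.subtype) ∧ Subgroup.normalizer (L₀ : Set L) = L₀ ∧ (∀ g : L, g ∉ L₀ → Y ⊔ Y.map (MulAut.conj g).toMonoidHom = ⊤) ∧ (IsMulCommutative ↥Y → ∀ g : L, g ∉ L₀ → Y ⊓ Y.map (MulAut.conj g).toMonoidHom = Y ⊓ Subgroup.center L) := by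
  obtain ⟨h1, M, hM⟩ := isMinimalOver_iff.1 hmin
  have hT := isSylowIn_map_subtype T
  have hML : M = L₀ := ((uniqMax_top_iff.1 hM).2.2 L₀ hL₀ (hYT.trans hT.le)).symm
  subst hML
  have h2 := hM.isSylowIn h1 hT hYT
  have h3 := hM.inf_normalizer_le h1 hYT hT.le
  have h4 := hM.inf_normalizer_le h1 hM.le le_rfl
  rw [top_inf_eq] at h3 h4
  refine ⟨h3, ?_, h2.exists_sylow_top, le_antisymm h4 le_normalizer,
    fun g hg => hM.sup_cj h1 (mem_top g) hg, fun hc g hg => ?_⟩
  · rw [← pCoreOf_top]; exact h2.pCoreOf_le.trans hT.le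
  · have h5 := hM.sup_cj h1 (mem_top g) hg
    have h6 : Y ≤ 𝐂 Y := le_centralizer_self_iff.2 hc
    rw [← centralizer_top, ← h5, centralizer_sup]
    apply le_antisymm
    · refine le_inf inf_le_left (le_inf (inf_le_left.trans h6) (inf_le_right.trans ?_))
      rw [← cj_centralizer]; exact cj_mono g h6
    · refine le_inf inf_le_left fun y hy => ?_
      have h7 : y ∈ 𝐂 (⊤ : Subgroup L) := by rw [← h5, centralizer_sup]; exact hy.2
      rw [mem_cj, mul_assoc, ← mem_centralizer'.1 h7 g (mem_top g), inv_mul_cancel_left]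
      exact hy.1

end Cfsg.Agent.S2835
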