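import Cfsg.Statements.S2836
import Cfsg.Agent.H28.GFAct
-- import your own Cfsg.Agent.* helpers here

set_option autoImplicit false
open Cfsg

namespace Cfsg.Agent.S2836

open H28 Subgroup
open scoped Pointwise commutatorElement

/-- Let L be a finite group, L₀ a maximal subgroup, T a Sylow p-subgroup of L₀, Y ≤ T, and suppose L is Y-minimal. Let D be the intersection of the conjugates of L₀ (the core of L₀). Then D contains O_p(L) and D/O_p(L) is the Frattini subgroup of L/O_p(L), so D is p-closed; and every normal subgroup N of L contained in L₀ is p-closed with N/O_p(N) a nilpotent group of order prime to p. -/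
theorem result {L : Type*} [Group L] [Finite L] {p : ℕ} [Fact p.Prime] (L₀ : Subgroup L) (hL₀ : IsCoatom L₀) (T : Sylow p ↥L₀) (Y : Subgroup L) (hYT : Y ≤ (T : Subgroup ↥L₀).map L₀.subtype) (hmin : Cfsg.IsMinimalOver Y) : (Cfsg.pCore p L ≤ L₀.normalCore ∧ (L₀.normalCore).map (QuotientGroup.mk' (Cfsg.pCore p L)) = frattini (L ⧸ Cfsg.pCore p L) ∧ Cfsg.IsPClosed p ↥(L₀.normalCore)) ∧ ∀ (N : Subgroup L) [N.Normal], N ≤ L₀ → Cfsg.IsPClosed p ↥N ∧ Group.IsNilpotent (↥N ⧸ Cfsg.pCore p ↥N) ∧ (Nat.card (↥N ⧸ Cfsg.pCore p ↥N)).Coprime p := by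
  have hg := (isMinimalOver_iff.1 hmin).1
  have hu := uniqMax_of_existsUnique hmin.2 hL₀ (hYT.trans (map_subtype_le _))
  have hT := hu.isSylowIn hg (isSylowIn_map_subtype T) hYT
  replace hu := hu.mono hYT (map_subtype_le _)
  have hO : pCore p L ≤ L₀ := (pCoreOf_top p).ge.trans (hT.pCoreOf_le.trans hu.le)
  have hc : ∀ (N : Subgroup L) [N.Normal], N ≤ L₀ → IsPClosed p N := fun N _ h =>
    hu.isPClosed hT h le_normalizer_of_normal
  have hf := QuotientGroup.mk'_surjective (pCore p L)
  have hk := QuotientGroup.ker_mk' (pCore p L)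
  have h1 : ∀ (N : Subgroup L) [N.Normal], N ≤ L₀ →
      N.map (QuotientGroup.mk' (pCore p L)) ≤ frattini (L ⧸ pCore p L) := fun N _ h => by
    refine H1.le_frattini_iff.2 fun M hM => map_le_iff_le_comap.2 ?_
    have hK := isCoatom_comap_of_surjective hf hM
    by_contra e
    have h2 := H1.sup_eq_top_of_coatom hK e
    obtain ⟨g, -, h3⟩ := hu.exists_le_cj hT hK.lt_top (not_dvd_relIndex_of_sup le_top
      le_normalizer_of_normal h2.ge le_top (isPClosed_iff_sylow_pCoreOf.1 (hc N h))
      ((pCoreOf_le_of_normal le_top le_normalizer_of_normal).trans ((pCoreOf_top p).le.trans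
        (hk.ge.trans (ker_le_comap _ _)))))
    refine hL₀.1 (cj_eq_top.1 (eq_top_iff.2 (h2.ge.trans (sup_le h3 ?_))) : L₀ = ⊤)
    rw [← cj_eq_self_of_normal g N]; exact cj_mono g h
  refine ⟨⟨normal_le_normalCore.2 hO, le_antisymm (h1 _ L₀.normalCore_le) ?_, hc _ L₀.normalCore_le⟩,
    fun N _ h => ⟨hc N h, ?_, ?_⟩⟩
  · rw [← map_comap_eq_self_of_surjective hf (frattini _)]
    refine map_mono (normal_le_normalCore.2 ((comap_mono (frattini_le_coatom
      (H1.isCoatom_map_of_ker_le hf hL₀ (hk.le.trans hO)))).trans ?_))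
    rw [H1.comap_map_mk', sup_eq_left.2 hO]
  · let φ := (QuotientGroup.mk' (pCore p L)).comp N.subtype
    have e : φ.ker = pCore p N := by
      rw [← MonoidHom.comap_ker, hk, ← pCoreOf_subgroupOf,
        pCoreOf_eq_inf_of_normal le_top le_normalizer_of_normal, pCoreOf_top, inf_subgroupOf_left]
      rfl
    haveI : Group.IsNilpotent φ.range := by
      rw [MonoidHom.range_comp, range_subtype]
      exact H1.isNilpotent_of_le (h1 N h) frattini_nilpotent
    exact nilpotent_of_mulEquiv ((QuotientGroup.quotientMulEquivOfEq e.symm).trans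
      (QuotientGroup.quotientKerEquivRange φ)).symm
  · rw [← index_eq_card, Nat.coprime_comm, (Fact.out : p.Prime).coprime_iff_not_dvd,
      ← pCoreOf_subgroupOf]
    exact (isPClosed_iff_sylow_pCoreOf.1 (hc N h)).not_dvd_relIndex

end Cfsg.Agent.S2836
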