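import Cfsg.Statements.S2837
import Cfsg.Agent.H28.GFAct
import Cfsg.Agent.H4.Critical
-- import your own Cfsg.Agent.* helpers here

set_option autoImplicit false
open Cfsg

namespace Cfsg.Agent.S2837

open H28 Subgroup
open scoped Pointwise commutatorElement

/-- Let L be a finite group of characteristic p, L₀ a maximal subgroup, Y an elementary abelian p-subgroup of L₀ with L Y-minimal and O_p(L) ≤ N_L(Y). Put A = the normal closure of O_p(L) ∩ Y in L. Then for every g ∈ L outside L₀: Φ(A) = A' = [A ∩ Y, A] = [A ∩ Y, A ∩ gYg⁻¹] ≤ C_Y(L), and Y ∩ gYg⁻¹ = (A ∩ Y) ∩ (A ∩ gYg⁻¹) = C_Y(L) = C_A(L). -/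
theorem result {L : Type*} [Group L] [Finite L] {p : ℕ} [Fact p.Prime] (hchar : Subgroup.centralizer (Cfsg.pCore p L : Set L) ≤ Cfsg.pCore p L) (L₀ : Subgroup L) (hL₀ : IsCoatom L₀) (Y : Subgroup L) (hYL₀ : Y ≤ L₀) (hYel : Cfsg.IsElementaryAbelian p Y) (hmin : Cfsg.IsMinimalOver Y) (hOY : Cfsg.pCore p L ≤ Subgroup.normalizer (Y : Set L)) (A : Subgroup L) (hA : A = Subgroup.normalClosure (((Cfsg.pCore p L ⊓ Y : Subgroup L)) : Set L)) (g : L) (hg : g ∉ L₀) : (frattini ↥A).map A.subtype = ⁅A, A⁆ ∧ ⁅A, A⁆ = ⁅A ⊓ Y, A⁆ ∧ ⁅A ⊓ Y, A⁆ = ⁅A ⊓ Y, A ⊓ Y.map (MulAut.conj g).toMonoidHom⁆ ∧ ⁅A ⊓ Y, A⁆ ≤ Y ⊓ Subgroup.center L ∧ Y ⊓ Y.map (MulAut.conj g).toMonoidHom = Y ⊓ Subgroup.center L ∧ (A ⊓ Y) ⊓ (A ⊓ Y.map (MulAut.conj g).toMonoidHom) = Y ⊓ Subgroup.center L ∧ A ⊓ Subgroup.center L = Y ⊓ Subgroup.center L := by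
  have hg' := (isMinimalOver_iff.1 hmin).1
  have hL := (uniqMax_of_existsUnique hmin.2 hL₀ hYL₀).sup_cj hg' (mem_top g) hg
  rw [← nclIn_top] at hA
  set O := pCore p L
  set V := O ⊓ Y with hV
  have hY := ea_le_centralizer hYel
  have hOV : O ≤ 𝐍 V := le_normalizer_inf le_normalizer hOY
  have eO : cj g O = O := cj_eq_self_of_normal g O
  have eV : cj g V = O ⊓ cj g Y := by rw [hV, cj_inf, eO]
  have hOY' : O ≤ 𝐍 (cj g Y) := by rw [← cj_normalizer, ← eO]; exact cj_mono g hOY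
  have hOW : O ≤ 𝐍 (cj g V) := by rw [eV]; exact le_normalizer_inf le_normalizer hOY'
  have hW : cj g V ≤ O := eV ▸ inf_le_left
  have hB : V ⊔ cj g V ≤ O := sup_le inf_le_left hW
  have eA : A = V ⊔ cj g V := by
    rw [hA]
    refine le_antisymm (nclIn_le le_sup_left (hL.ge.trans (sup_le
      (le_normalizer_of_commutator_le (V := V ⊔ cj g V) ((commutator_mono hB le_rfl).trans
        (le_sup_of_le_left (le_inf (commutator_le_left _ _) (commutator_le_of_le_normalizer' hOY))))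
        le_rfl)
      (le_normalizer_of_commutator_le (V := V ⊔ cj g V) ((commutator_mono hB le_rfl).trans
        (le_sup_of_le_right (eV ▸ le_inf (commutator_le_left _ _)
          (commutator_le_of_le_normalizer' hOY')))) le_rfl))))
      (sup_le (le_nclIn _ _) (cj_le_nclIn _ (mem_top g)))
  have e1 : A ⊓ Y = V := le_antisymm (inf_le_inf_right _ (eA ▸ hB))
    (le_inf (eA ▸ le_sup_left) inf_le_right)
  have e2 : A ⊓ cj g Y = cj g V := le_antisymm (eV ▸ inf_le_inf_right _ (eA ▸ hB))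
    (le_inf (eA ▸ le_sup_right) (cj_mono g inf_le_right))
  have hY' : cj g Y ≤ 𝐂 (cj g Y) := by rw [← cj_centralizer]; exact cj_mono g hY
  have e3 : Y ⊓ cj g Y = Y ⊓ Subgroup.center L := by
    refine le_antisymm (le_inf inf_le_left ?_) (le_inf inf_le_left fun x hx => mem_cj.2 ?_)
    · rw [← centralizer_top, ← hL, centralizer_sup]; exact inf_le_inf hY hY'
    · rw [mul_assoc, ← mem_center_iff.1 hx.2 g, inv_mul_cancel_left]; exact hx.1
  have hZ : Subgroup.center L ≤ O := (centralizer_top.ge.trans (centralizer_anti le_top)).trans hchar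
  have e4 : V ⊓ cj g V = Y ⊓ Subgroup.center L := by
    rw [eV, hV, ← inf_inf_distrib_left, e3, inf_eq_right.2 (inf_le_right.trans hZ)]
  have h1 : ⁅V, cj g V⁆ ≤ Y ⊓ Subgroup.center L := e4 ▸ le_inf
    (commutator_le_of_le_normalizer (hW.trans hOV))
    (commutator_le_of_le_normalizer' (inf_le_left.trans hOW))
  haveI : (⁅V, cj g V⁆ : Subgroup L).Normal := normal_iff_top_le.2 (le_normalizer_of_le_centralizer
    (le_centralizer_comm.1 ((h1.trans inf_le_right).trans centralizer_top.ge)))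
  have v1 : ⁅V, V⁆ = ⊥ := comm_eq_bot.2 (inf_le_right.trans (hY.trans (centralizer_anti inf_le_right)))
  have v2 : ⁅cj g V, cj g V⁆ = ⊥ := by rw [← cj_commutator, v1, cj_bot]
  have h2 : ⁅V, A⁆ ≤ ⁅V, cj g V⁆ := eA ▸ H1.commutator_sup_le' le_normalizer_of_normal
    le_normalizer_of_normal (v1.le.trans bot_le) le_rfl
  have h3 : ⁅A, A⁆ ≤ ⁅V, cj g V⁆ := by
    nth_rewrite 1 [eA]
    refine H1.commutator_sup_le le_normalizer_of_normal le_normalizer_of_normal h2 ?_
    rw [eA]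
    exact H1.commutator_sup_le' le_normalizer_of_normal le_normalizer_of_normal (comm_comm _ _).le
      (v2.le.trans bot_le)
  have h4 : ⁅V, cj g V⁆ ≤ ⁅V, A⁆ := commutator_mono le_rfl (eA ▸ le_sup_right)
  have h5 : ⁅V, A⁆ ≤ ⁅A, A⁆ := commutator_mono (eA ▸ le_sup_left) le_rfl
  have hAp : IsPGroup p A := (isPGroup_pCore p L).to_le (eA ▸ hB)
  rw [e1, e2]
  refine ⟨le_antisymm (H4.map_frattini_le (p := p) (fun x hx y hy => commutator_mem_commutator hx hy)
    fun x hx => h5 (h4 ?_)) (commutator_le.2 fun x hx y hy => H4.commutator_mem_map_frattini hAp hx hy),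
    le_antisymm (h3.trans h4) h5, le_antisymm h2 h4, h2.trans h1, e3, e4, le_antisymm (le_inf ?_
      inf_le_right) (le_inf (e4.ge.trans (inf_le_left.trans (eA ▸ le_sup_left))) inf_le_right)⟩
  · rw [eA] at hx
    obtain ⟨a, ha, b, hb, rfl⟩ := (mem_sup_of_le_normalizer (inf_le_left.trans hOW)).1 hx
    rw [← QuotientGroup.eq_one_iff, QuotientGroup.mk_pow, QuotientGroup.mk_mul, Commute.mul_pow,
      ← QuotientGroup.mk_pow, ← QuotientGroup.mk_pow, (isElementaryAbelian_iff.1 hYel).2 a ha.2,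
      (isElementaryAbelian_iff.1 (ea_cj hYel g)).2 b (cj_mono g inf_le_right hb)]
    · exact mul_one _
    · rw [← commutatorElement_eq_one_iff_commute]
      exact (QuotientGroup.eq_one_iff _).2 (commutator_mem_commutator ha hb)
  · have := le_sup_of_commutator_le (N := ⊥) (D := A ⊓ Subgroup.center L) (g := g)
      (inf_le_right.trans hY : V ≤ 𝐂 Y) inf_le_right (hW.trans hOV) (hL ▸ mem_top g)
      (le_top.trans normalizer_bot.ge) (eA ▸ inf_le_left) (comm_eq_bot.2
        (inf_le_right.trans (centralizer_top.ge.trans (centralizer_anti le_top)))).le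
    rw [sup_bot_eq] at this
    exact this.trans inf_le_right

end Cfsg.Agent.S2837
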