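import Cfsg.Statements.S2840
import Cfsg.Agent.H28.WClosed
-- import your own Cfsg.Agent.* helpers here

set_option autoImplicit false
open Cfsg

namespace Cfsg.Agent.S2840

open H28 Subgroup
open scoped Pointwise commutatorElement

/-- Let Q be a nontrivial p-subgroup of the finite group H that is a weakly closed subgroup and K a subgroup containing Q; let K° be the weak closure of Q in K (generated by the H-conjugates of Q inside K). Then K° is generated by the K-conjugates of Q, and K° is the subnormal closure of Q in K. -/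
theorem result {H : Type*} [Group H] [Finite H] {p : ℕ} [Fact p.Prime] (Q : Subgroup H) (hQp : IsPGroup p ↥Q) (hQ1 : Q ≠ ⊥) (hwc : Cfsg.IsWeaklyClosedSubgroup p Q) (K : Subgroup H) (hQK : Q ≤ K) (Kc : Subgroup H) (hKc : Kc = Cfsg.weakClosure Q K) : Kc = ⨆ k : ↥K, ((Q : Subgroup H).map (MulAut.conj ((k : H) : H)).toMonoidHom) ∧ Kc = (Cfsg.subnormalClosure (Q.subgroupOf K)).map K.subtype := by
  have h := (isWeaklyClosedSubgroup_iff.1 hwc).2
  rw [h.weakClosure_eq hQp hQK] at hKc
  subst hKc
  refine ⟨rfl, le_antisymm ?_ ?_⟩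
  · rw [H1.le_map_subtype_iff]
    refine ⟨nclIn_le_self hQK, le_sInf fun L ⟨h1, h2⟩ => ?_⟩
    have h3 := (subnIn_top h2).map K.subtype
    rw [map_subtype_top] at h3
    rw [← subgroupOf_map_subtype' L]
    refine comap_mono ((h.mono le_top).nclIn_le_of_subnIn hQp ?_ h3)
    rw [← map_subtype_subgroupOf hQK]; exact map_mono h1
  · rw [map_subtype_le_iff]
    exact sInf_le ⟨comap_mono (le_nclIn Q K),
      (normal_subgroupOf_of_le_normalizer (le_normalizer_nclIn Q K)).isSubnormal⟩

end Cfsg.Agent.S2840
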