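import Cfsg.Statements.S2842
import Cfsg.Agent.H28.WClosed
-- import your own Cfsg.Agent.* helpers here

set_option autoImplicit false
open Cfsg

namespace Cfsg.Agent.S2842

open H28 Subgroup
open scoped Pointwise commutatorElement

/-- Let Q be a nontrivial p-subgroup of the finite group H that is a weakly closed subgroup with C_H(Q) ≤ Q, and Q ≤ L ≤ H. Suppose H has characteristic p, or more generally that C_H(y) has characteristic p for some nonidentity y ∈ C_{O_p(L)}(Q). Then [Q, C_H(O_p(L))] ≤ Q ∩ O_p(L), C_H(O_p(L)) is a p-group, and L has characteristic p. -/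
theorem result {H : Type*} [Group H] [Finite H] {p : ℕ} [Fact p.Prime] (Q : Subgroup H) (hQp : IsPGroup p ↥Q) (hQ1 : Q ≠ ⊥) (hwc : Cfsg.IsWeaklyClosedSubgroup p Q) (hCQ : Subgroup.centralizer ((Q : Subgroup H) : Set H) ≤ Q) (L : Subgroup H) (hQL : Q ≤ L) (hyp : Subgroup.centralizer (Cfsg.pCore p H : Set H) ≤ Cfsg.pCore p H ∨ ∃ y : H, y ≠ 1 ∧ y ∈ (Cfsg.pCoreOf p L) ⊓ Subgroup.centralizer ((Q : Subgroup H) : Set H) ∧ Subgroup.centralizer (Cfsg.pCore p ↥(Subgroup.centralizer ({y} : Set H)) : Set ↥(Subgroup.centralizer ({y} : Set H))) ≤ Cfsg.pCore p ↥(Subgroup.centralizer ({y} : Set H))) : ⁅Q, Subgroup.centralizer (((Cfsg.pCoreOf p L) : Subgroup H) : Set H)⁆ ≤ Q ⊓ (Cfsg.pCoreOf p L) ∧ IsPGroup p ↥(Subgroup.centralizer (((Cfsg.pCoreOf p L) : Subgroup H) : Set H)) ∧ Subgroup.centralizer (Cfsg.pCore p ↥L : Set ↥L) ≤ Cfsg.pCore p ↥L := by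
  have h := (isWeaklyClosedSubgroup_iff.1 hwc).2
  have hD : IsCharP p (𝐂 (pCoreOf p L)) := by
    rcases hyp with h1 | ⟨y, -, ⟨hy1, hy2⟩, h1⟩
    · have := (isCharP_top.2 h1).inf_centralizer (isPGroup_pCoreOf p L) le_top
      rwa [top_inf_eq] at this
    · have h2 := isCharP_iff.2 h1
      set P := pCoreOf p L
      have hP : IsPGroup p P := isPGroup_pCoreOf p L
      have hPQ : P ≤ 𝐍 Q := h.pCoreOf_le_normalizer hQp hQL le_top
      have hW : nclIn (zpowers y) P ≤ Q ⊓ 𝐂 Q := nclIn_le (zpowers_le.2 ⟨hCQ hy2, hy2⟩)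
        (le_normalizer_inf hPQ (le_normalizer_centralizer hPQ))
      have hWP : nclIn (zpowers y) P ≤ P := nclIn_le_self (zpowers_le.2 hy1)
      have h3 : 𝐂 (nclIn (zpowers y) P) ≤ centralizer {y} := by
        rw [← centralizer_zpowers]; exact centralizer_anti (le_nclIn _ _)
      have h4 := h2.inf_centralizer (hP.to_le hWP) (by
        rw [← centralizer_zpowers]
        exact hW.trans (inf_le_right.trans (centralizer_anti (zpowers_le.2 (hCQ hy2)))))
      rw [inf_eq_right.2 h3] at h4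
      have h5 := (h4.sup_pGroup hP (le_normalizer_centralizer (le_normalizer_nclIn _ _))).inf_centralizer
        hP le_sup_right
      rwa [inf_eq_right.2 ((centralizer_anti hWP).trans le_sup_left)] at h5
  have h2 := h.centralizer_pCoreOf hQp hQL le_top (inf_le_right.trans hCQ) (top_inf_eq _).symm hD
  exact ⟨h2.1, h2.2, isCharP_iff.1 (isCharP_of_isPGroup_centralizer le_rfl (h2.2.to_le inf_le_right))⟩

end Cfsg.Agent.S2842
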