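import Cfsg.Statements.S2846
import Cfsg.Agent.H28.Large
-- import your own Cfsg.Agent.* helpers here

set_option autoImplicit false
open Cfsg

namespace Cfsg.Agent.S2846

open H28 Subgroup
open scoped Pointwise commutatorElement

/-- Let Q be a nontrivial large p-subgroup of the finite group H, S a Sylow p-subgroup containing Q, and L a subgroup containing S with O_p(L) ≠ 1 and C_H(O_p(L)) ≤ O_p(L). Then there are a subgroup M containing S having the basic property (M ∈ 𝔐_H, writing Y_X for the largest p-reduced normal subgroup of X and 𝓛_H for the set of subgroups X with O_p(X) ≠ 1 and C_H(O_p(X)) ≤ O_p(X): M ∈ 𝓛_H, M·C_H(Y_M) is the only maximal member of 𝓛_H containing M and its largest p-reduced normal subgroup is again Y_M, C_M(Y_M) is p-closed, and the image of C_M(Y_M) in M/O_p(M) lies in the Frattini subgroup of M/O_p(M)) and a subgroup L* with S ≤ L* ≤ M, O_p(L*) ≠ 1, C_H(O_p(L*)) ≤ O_p(L*), such that L·C_H(Y_L)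 = L*·C_H(Y_L), the weak closures of Q in L and in L* agree and lie in that of M, and Y_L = Y_{L*} ≤ Y_M. If moreover Q is not normal in L, then Q is normal in neither L* nor M. -/
theorem result {H : Type*} [Group H] [Finite H] {p : ℕ} [Fact p.Prime] (Q : Subgroup H) (hQp : IsPGroup p ↥Q) (hQ1 : Q ≠ ⊥) (hLg : Cfsg.IsLarge Q) (S : Sylow p H) (hQS : Q ≤ (S : Subgroup H)) (L : Subgroup H) (hSL : (S : Subgroup H) ≤ L) (hL : L ∈ Cfsg.charPSubgroups p H) : ∃ M Ls : Subgroup H, (S : Subgroup H) ≤ M ∧ Cfsg.IsInFrakM p M ∧ (S : Subgroup H) ≤ Ls ∧ Ls ≤ M ∧ Ls ∈ Cfsg.charPSubgroups p H ∧ L ⊔ Subgroup.centralizer (((Cfsg.largestPReducedOf p L) : Subgroup H) : Set H) = Ls ⊔ Subgroup.centralizer (((Cfsg.largestPReducedOf p L) : Subgroup H) : Set H) ∧ Cfsg.weakClosure Q L = Cfsg.weakClosure Q Ls ∧ Cfsg.weakClosure Q Ls ≤ Cfsg.weakClosure Q M ∧ (Cfsg.largestPReducedOf p L) = (Cfsg.largestPReducedOf p Ls) ∧ (Cfsg.largestPReducedOf p Ls)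 ≤ (Cfsg.largestPReducedOf p M) ∧ (¬ L ≤ Subgroup.normalizer ((Q : Subgroup H) : Set H) → ¬ Ls ≤ Subgroup.normalizer ((Q : Subgroup H) : Set H) ∧ ¬ M ≤ Subgroup.normalizer ((Q : Subgroup H) : Set H)) := by
  have h : WC p Q ⊤ := large_wc hLg hQ1
  obtain ⟨M, Ls, h1, h2, h3, h4, h5, h6, h7, h8⟩ :=
    exists_frakM (large_parabolic hLg hQp hQ1) (isSylowIn_top S) hSL hL
  have hY1 : largestPReducedOf p L ≠ ⊥ := (isCharP_of_mem hL).Y_ne_bot
    fun e => (mem_charPSubgroups.1 hL).1 (eq_bot_iff.2 ((pCoreOf_le p L).trans e.le))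
  have e1 := (large_weakClosure_sup hLg hQp hQ1 (hQS.trans hSL) (isPRed_Y p L).isPGroup hY1
    (isPRed_Y p L).norm).2.1
  have e2 := (large_weakClosure_sup hLg hQp hQ1 (hQS.trans h3) (isPRed_Y p L).isPGroup hY1
    (h6 ▸ (isPRed_Y p Ls).norm)).2.1
  have e3 : nclIn Q L = nclIn Q Ls := by rw [← e1, ← e2, h8]
  have h9 : ¬ L ≤ 𝐍 Q → ¬ Ls ≤ 𝐍 Q := fun a b => a (by
    have := le_normalizer_nclIn Q L
    rwa [e3, nclIn_eq_self b] at this)
  refine ⟨M, Ls, h1, h2, h3, h4, h5, h8, ?_, weakClosure_mono Q h4, h6, h6 ▸ h7,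
    fun a => ⟨h9 a, fun b => h9 a (h4.trans b)⟩⟩
  rw [h.weakClosure_eq hQp (hQS.trans hSL), h.weakClosure_eq hQp (hQS.trans h3), e3]

end Cfsg.Agent.S2846
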