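import Cfsg.Statements.S2850
import Cfsg.Agent.H28.Large
-- import your own Cfsg.Agent.* helpers here

set_option autoImplicit false
open Cfsg

namespace Cfsg.Agent.S2850

open H28 Subgroup
open scoped Pointwise commutatorElement

/-- Standing hypotheses: G a finite group, S a Sylow p-subgroup, Q a nontrivial large p-subgroup of G contained in S (C_G(Q) ≤ Q and N_G(U) ≤ N_G(Q) for all nontrivial U ≤ C_G(Q)), and M a subgroup containing S with the basic property (M ∈ 𝔐_G(S)); Y_M denotes the largest p-reduced normal subgroup of M and M† = M·C_G(Y_M). Suppose Y_M is asymmetric in G. Then N_G(L) ≤ N_G(O_p(M)) ≤ M† for every p-subgroup L containing O_p(M); O_p(M) is a weakly closed subgroup of G; for every subgroup L containing O_p(M), L ∩ M† contains a Sylow p-subgroup of L; and two elements of Y_M conjugate in G are conjugate in M. -/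
theorem result {G : Type*} [Group G] [Finite G] {p : ℕ} [Fact p.Prime] (S : Sylow p G) (Q : Subgroup G) (hQp : IsPGroup p ↥Q) (hQ1 : Q ≠ ⊥) (hQS : Q ≤ (S : Subgroup G)) (hQ : Cfsg.IsLarge Q) (M : Subgroup G) (hSM : (S : Subgroup G) ≤ M) (hM : Cfsg.IsInFrakM p M) (hasym : ¬ Cfsg.IsSymmetricIn (Cfsg.largestPReducedOf p M)) : (∀ L : Subgroup G, IsPGroup p ↥L → (Cfsg.pCoreOf p M) ≤ L → Subgroup.normalizer ((L : Subgroup G) : Set G) ≤ Subgroup.normalizer (((Cfsg.pCoreOf p M) : Subgroup G) : Set G) ∧ Subgroup.normalizer (((Cfsg.pCoreOf p M) : Subgroup G) : Set G) ≤ (M ⊔ Subgroup.centralizer (((Cfsg.largestPReducedOf p M) : Subgroup G) : Set G))) ∧ Cfsg.IsWeaklyClosedSubgroup p (Cfsg.pCoreOf p M) ∧ (∀ L : Subgroup G, (Cfsg.pCoreOf p M) ≤ L → Cfsg.IsParabolic p ((L ⊓ (M ⊔ Subgroup.centralizer (((Cfsg.largestPReducedOf p M) : Subgroup G) : Set G))).subgroupOf L)) ∧ (∀ x ∈ (Cfsg.largestPReducedOf p M), ∀ g : G, g * x * g⁻¹ ∈ (Cfsg.largestPReducedOf p M)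 → ∃ m ∈ M, m * x * m⁻¹ = g * x * g⁻¹) := by
  have h := fm_of_large hQp hQ1 hQ hSM hM
  have hw := h.wc hasym
  have hO := isPGroup_pCoreOf p M
  refine ⟨fun L h1 h2 => ⟨(le_inf le_top le_rfl).trans (hw.inf_normalizer_le h1 h2),
    h.dagger_eq ▸ h.normalizer_O_le⟩, isWeaklyClosedSubgroup_iff.2 ⟨hO, hw⟩, fun L h1 => ?_,
    fun x hx g hg => ?_⟩
  · obtain ⟨T, hT, h2⟩ := exists_isSylowIn_ge hO h1
    exact isParabolic_subgroupOf hT (le_inf hT.le (h.dagger_eq ▸
      (hw.le_normalizer hT.isPGroup h2 le_top).trans h.normalizer_O_le))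
  · have hc : ∀ y ∈ largestPReducedOf p M, pCoreOf p M ≤ centralizer {y} := fun y hy => by
      rw [← centralizer_zpowers]; exact h.O_le.trans (centralizer_anti (zpowers_le.2 hy))
    obtain ⟨k, hk, e⟩ := hw.exists_conj hO (hc _ hg) le_top (mem_top g) (by
      rw [← cj_centralizer_singleton]; exact cj_mono g (hc x hx))
    have h1 : k⁻¹ * g ∈ 𝐍 (largestPReducedOf p M) := h.normalizer_O_le
      (mem_normalizer_iff_cj.2 (by rw [← cj_cj, e, cj_inv_cj]))
    rw [← h.dagger_eq, mem_sup_of_le_normalizer (isPRed_Y p M).norm_centralizer] at h1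
    obtain ⟨m, hm, c, hc', e'⟩ := h1
    refine ⟨m, hm, ?_⟩
    have h2 := mem_centralizer'.1 hc' x hx
    have h3 := mem_centralizer_singleton_iff.1 hk
    calc m * x * m⁻¹ = m * (x * c) * (m * c)⁻¹ := by group
      _ = (m * c) * x * (m * c)⁻¹ := by rw [h2]; group
      _ = k⁻¹ * (g * x * g⁻¹ * k) := by rw [e']; group
      _ = g * x * g⁻¹ := by rw [← h3]; group

end Cfsg.Agent.S2850
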