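import Cfsg.Statements.S2851
import Cfsg.Agent.H28.FrakH
-- import your own Cfsg.Agent.* helpers here

set_option autoImplicit false
open Cfsg

namespace Cfsg.Agent.S2851

open H28 Subgroup
open scoped Pointwise commutatorElement

/-- Standing hypotheses: G a finite group, S a Sylow p-subgroup, Q a nontrivial large p-subgroup of G contained in S, M a subgroup containing S with the basic property (M ∈ 𝔐_G(S)); Y_M the largest p-reduced normal subgroup of M and M† = M·C_G(Y_M). Let F be the preimage in M† of the generalized Fitting subgroup of M†/C_{M†}(Y_M). If Y_M is asymmetric in G and H is a subgroup of characteristic p containing F, then Y_M ≤ Y_H. -/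
theorem result {G : Type*} [Group G] [Finite G] {p : ℕ} [Fact p.Prime] (S : Sylow p G) (Q : Subgroup G) (hQp : IsPGroup p ↥Q) (hQ1 : Q ≠ ⊥) (hQS : Q ≤ (S : Subgroup G)) (hQ : Cfsg.IsLarge Q) (M : Subgroup G) (hSM : (S : Subgroup G) ≤ M) (hM : Cfsg.IsInFrakM p M) (hasym : ¬ Cfsg.IsSymmetricIn (Cfsg.largestPReducedOf p M)) [hn : ((Subgroup.centralizer (((Cfsg.largestPReducedOf p M) : Subgroup G) : Set G)).subgroupOf (M ⊔ Subgroup.centralizer (((Cfsg.largestPReducedOf p M) : Subgroup G) : Set G))).Normal] (F : Subgroup G) (hF : F = ((Cfsg.generalizedFittingSubgroup (↥(M ⊔ Subgroup.centralizer (((Cfsg.largestPReducedOf p M) : Subgroup G) : Set G)) ⧸ (Subgroup.centralizer (((Cfsg.largestPReducedOf p M) : Subgroup G) : Set G)).subgroupOf (M ⊔ Subgroup.centralizer (((Cfsg.largestPReducedOf p M) : Subgroup G) : Set G)))).comap (QuotientGroup.mk' ((Subgroup.centralizer (((Cfsg.largestPReducedOf p M) : Subgroup G) : Set G)).subgroupOf (M ⊔ Subgroup.centralizer (((Cfsg.largestPReducedOf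 p M) : Subgroup G) : Set G))))).map ((M ⊔ Subgroup.centralizer (((Cfsg.largestPReducedOf p M) : Subgroup G) : Set G))).subtype) (H : Subgroup G) (hFH : F ≤ H) (hH : Subgroup.centralizer (Cfsg.pCore p ↥H : Set ↥H) ≤ Cfsg.pCore p ↥H) : (Cfsg.largestPReducedOf p M) ≤ Cfsg.largestPReducedOf p H := by
  have h := fm_of_large hQp hQ1 hQ hSM hM
  have hw := h.wc hasym
  have hO := isPGroup_pCoreOf p M
  have hH' := isCharP_iff.2 hH
  have hd := h.dagger_eq
  let Y := largestPReducedOf p M
  let X := M ⊔ 𝐂 Y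
  let f := QuotientGroup.mk' ((𝐂 Y).subgroupOf X)
  replace hd : X = 𝐍 Y := hd
  have hred : pCore p (X ⧸ (𝐂 Y).subgroupOf X) = ⊥ := red_iff_pCore.1 (hd ▸ h.isPRed.red)
  have hCF : 𝐂 Y ≤ F := by
    rw [hF]
    refine (map_subtype_subgroupOf (le_sup_right : 𝐂 Y ≤ X)).ge.trans (map_mono fun x hx => ?_)
    rw [mem_comap, QuotientGroup.mk'_apply, (QuotientGroup.eq_one_iff x).2 hx]
    exact one_mem _
  have key : ∀ D : Subgroup G, D ≤ X → PMod p D (𝐂 Y) → F ≤ 𝐍 D → D ≤ 𝐂 Y := fun D h1 h2 h3 => by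
    have h4 := eq_bot_of_gf_le_normalizer hred (R := (D.subgroupOf X).map f)
      (pMod_iff_map_mk.1 (h2.comap X.subtype)) (by
        refine le_trans ?_ (le_normalizer_map f)
        rw [← map_comap_eq_self_of_surjective (QuotientGroup.mk'_surjective _)
          (generalizedFittingSubgroup _)]
        refine map_mono (le_trans ?_ (le_normalizer_comap X.subtype))
        rw [← map_le_iff_le_comap]; exact hF.ge.trans h3)
    rw [H1.map_mk'_eq_bot_iff, subgroupOf_le_subgroupOf h1] at h4
    exact h4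
  have hOH : pCoreOf p M ≤ H := (h.O_le.trans hCF).trans hFH
  obtain ⟨T, hT, h2⟩ := exists_isSylowIn_ge hO hOH
  have hTX : T ≤ X := hd ▸ (hw.le_normalizer hT.isPGroup h2 le_top).trans h.normalizer_O_le
  have hFX : F ≤ X := hF ▸ map_subtype_le _
  have hr : IsPRed p Y (H ⊓ X) := ⟨le_inf (h.Y_le.trans hOH) ((isPRed_Y p M).le.trans le_sup_left),
    inf_le_right.trans hd.le, (isPRed_Y p M).ea, fun D a b c =>
      key D (a.trans inf_le_right) c ((le_inf hFH hFX).trans b)⟩
  exact hr.le_Y_of_le hH' hT (le_inf hT.le hTX) inf_le_left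

end Cfsg.Agent.S2851
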