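import Cfsg.Statements.S2854
import Cfsg.Agent.H28.FrakH
-- import your own Cfsg.Agent.* helpers here

set_option autoImplicit false
open Cfsg

namespace Cfsg.Agent.S2854

open H28 Subgroup
open scoped Pointwise commutatorElement

/-- Standing hypotheses: G a finite group, S a Sylow p-subgroup, Q a nontrivial large p-subgroup of G contained in S, M a subgroup containing S with the basic property (M ∈ 𝔐_G(S)); Y_M the largest p-reduced normal subgroup of M and M† = M·C_G(Y_M). Suppose Y_M is asymmetric in G, H ∈ ℌ_G(O_p(M)), and H ≤ N_G(gQg⁻¹) for some g ∈ G. Then gQg⁻¹ ≤ O_p(H·gQg⁻¹) ≤ N_G(O_p(M)) ≤ N_G(Y_M) = M†; H is normal in H·gQg⁻¹ with O^p(H) = O^p(H·gQg⁻¹); and H·gQg⁻¹ is p-irreducible. -/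
theorem result {G : Type*} [Group G] [Finite G] {p : ℕ} [Fact p.Prime] (S : Sylow p G) (Q : Subgroup G) (hQp : IsPGroup p ↥Q) (hQ1 : Q ≠ ⊥) (hQS : Q ≤ (S : Subgroup G)) (hQ : Cfsg.IsLarge Q) (M : Subgroup G) (hSM : (S : Subgroup G) ≤ M) (hM : Cfsg.IsInFrakM p M) (hasym : ¬ Cfsg.IsSymmetricIn (Cfsg.largestPReducedOf p M)) (H : Subgroup G) (hH : Cfsg.IsInFrakH p M H) (g : G) (hHQ : H ≤ Subgroup.normalizer ((((Q : Subgroup G).map (MulAut.conj (g : G)).toMonoidHom) : Subgroup G) : Set G)) : ((Q : Subgroup G).map (MulAut.conj (g : G)).toMonoidHom) ≤ Cfsg.pCoreOf p (H ⊔ ((Q : Subgroup G).map (MulAut.conj (g : G)).toMonoidHom)) ∧ Cfsg.pCoreOf p (H ⊔ ((Q : Subgroup G).map (MulAut.conj (g : G)).toMonoidHom)) ≤ Subgroup.normalizer (((Cfsg.pCoreOf p M) : Subgroup G) : Set G) ∧ Subgroup.normalizer (((Cfsg.pCoreOf p M) : Subgroup G) : Set G) ≤ Subgroup.normalizer (((Cfsg.largestPReducedOf p M) : Subgroup G) : Set G)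 ∧ Subgroup.normalizer (((Cfsg.largestPReducedOf p M) : Subgroup G) : Set G) = (M ⊔ Subgroup.centralizer (((Cfsg.largestPReducedOf p M) : Subgroup G) : Set G)) ∧ (H.subgroupOf (H ⊔ ((Q : Subgroup G).map (MulAut.conj (g : G)).toMonoidHom))).Normal ∧ (Cfsg.pResidual p ↥H).map H.subtype = (Cfsg.pResidual p ↥(H ⊔ ((Q : Subgroup G).map (MulAut.conj (g : G)).toMonoidHom))).map (H ⊔ ((Q : Subgroup G).map (MulAut.conj (g : G)).toMonoidHom)).subtype ∧ Cfsg.IsPIrreducible p ↥(H ⊔ ((Q : Subgroup G).map (MulAut.conj (g : G)).toMonoidHom)) := by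
  have h0 := fm_of_large hQp hQ1 hQ hSM hM
  have h := h0.fh hasym hH
  have hD := isPGroup_cj g hQp
  have h1 : cj g Q ≤ pCoreOf p (H ⊔ cj g Q) := le_pCoreOf hD le_sup_right (sup_le hHQ le_normalizer)
  have h2 : pCoreOf p (H ⊔ cj g Q) ≤ 𝐍 (pCoreOf p M) :=
    h.wc.pCoreOf_le_normalizer h.pO (h.OH.trans le_sup_left) le_top
  have h3 : cj g Q ≤ 𝐍 H := by
    refine le_normalizer_of_cj_le fun d hd => ?_
    rw [cj_le_iff, ← h.nclIn_O]
    refine nclIn_le_iff.2 fun k hk => ?_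
    rw [← cj_le_iff, cj_cj]
    have e : d * k = k * (k⁻¹ * d * k) := by group
    rw [e, ← cj_cj, cj_eq_self ((h1.trans h2) (conj_mem_of_mem_normalizer' (hHQ hk) hd))]
    exact cj_le_nclIn _ hk
  refine ⟨h1, h2, h.NO, h0.dagger_eq.symm,
    normal_subgroupOf_of_le_normalizer (sup_le le_normalizer h3), ?_,
    pIrr_iff.1 (h.pIrr.sup hD hHQ)⟩
  rw [pResidualOf_def, pResidualOf_def, pResidualOf_sup' hD h3]

end Cfsg.Agent.S2854
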