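import Cfsg.Statements.S2855
import Cfsg.Agent.H28.GFAct
-- import your own Cfsg.Agent.* helpers here

set_option autoImplicit false
open Cfsg

namespace Cfsg.Agent.S2855

open H28 Subgroup
open scoped Pointwise commutatorElement

theorem lemA {X : Type*} [Group X] [Finite X] {p : ℕ} [Fact p.Prime] {E K Z : Subgroup X}
    (hE : pElementClosure p E = E) (h1 : ⁅K, E⁆ ≤ Z) (h2 : Z ≤ 𝐂 E) (h3 : (Nat.card Z).Coprime p) :
    E ≤ 𝐂 K := hE.ge.trans (pElementClosure_le_iff'.2 fun R a b => comm_eq_bot'.1 (eq_bot_iff.2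
      (commutator_le_of_isPGroup a (le_top.trans normalizer_bot.ge) (fun c hc =>
        ⟨orderOf c, h3.coprime_dvd_left (orderOf_dvd_natCard _ (h1 (commutator_mono le_rfl b hc))),
          by simp⟩) (comm_eq_bot.2 (((commutator_mono le_rfl b).trans h1).trans
            (h2.trans (centralizer_anti b)))).le)))

theorem core {X : Type*} [Group X] [Finite X] {p : ℕ} [Fact p.Prime] (hO : pCore p X = ⊥)
    {𝒦 : Set (Subgroup X)} (hne : 𝒦.Nonempty) (hinv : ∀ h : X, ∀ E ∈ 𝒦, cj h E ∈ 𝒦)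
    (htr : ∀ E ∈ 𝒦, ∀ K ∈ 𝒦, ∃ h : X, K = cj h E) (hres : pResidualOf p ⊤ ≤ sSup 𝒦)
    (hn : ∀ E ∈ 𝒦, sSup 𝒦 ≤ 𝐍 E) (hs : ∀ E ∈ 𝒦, SPIrr p E) :
    PIrr p (⊤ : Subgroup X) ∧ ∀ E ∈ 𝒦, ∀ K ∈ 𝒦, pResidualOf p E = pResidualOf p K ∨ ⁅E, K⁆ = ⊥ := by
  set R := sSup 𝒦
  haveI : R.Normal := normal_of_cj_le fun g => by
    rw [cj_le_iff]; exact sSup_le fun E hE => cj_le_iff.1 (le_sSup (hinv g E hE))
  have h0 : pCoreOf p (⊤ : Subgroup X) = ⊥ := by rw [pCoreOf_top, hO]
  have hR : SubnIn R ⊤ := SubnIn.of_normal le_top le_normalizer_of_normal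
  have hE : ∀ E ∈ 𝒦, SubnIn E ⊤ := fun E a => (SubnIn.of_normal (le_sSup a) (hn E a)).trans hR
  have cop : ∀ Z L : Subgroup X, SubnIn L ⊤ → Z ≤ L → Z ≤ 𝐂 L → (Nat.card Z).Coprime p :=
    fun Z L a b c => by
      exact coprime_card_of_nilpotent (H1.isNilpotent_of_isMulCommutative
        (le_centralizer_self_iff.1 (c.trans (centralizer_anti b)))) (((SubnIn.of_normal b
        (le_normalizer_of_le_centralizer (le_centralizer_comm.1 c))).trans a).pCoreOf_eq_bot h0)
  have gen : ∀ E ∈ 𝒦, pElementClosure p E = E := fun E a => by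
    obtain ⟨T, hT⟩ := exists_isSylowIn p E
    rw [← hT.nclIn_eq, (hs E a).pIrr.nclIn_sylow hT]
  have key : ∀ E ∈ 𝒦, ∀ N K : Subgroup X, K ≤ R → K ≤ N → E ≤ 𝐍 N →
      pResidualOf p E ≤ N ∨ E ≤ 𝐂 K := fun E a N K b c d => by
    by_cases h : ⁅E ⊓ N, E⁆ ≤ pCoreOf p E
    · rw [(hE E a).pCoreOf_eq_bot h0, le_bot_iff, comm_eq_bot] at h
      exact Or.inr (lemA (gen E a) (le_inf (commutator_le_of_le_normalizer' (b.trans (hn E a)))
        ((commutator_mono c le_rfl).trans (commutator_le_of_le_normalizer d))) h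
        (cop _ E (hE E a) inf_le_left h))
    · exact Or.inl (((hs E a).2 _ inf_le_left (le_normalizer_inf le_normalizer d) h).trans inf_le_right)
  refine ⟨⟨fun h => ?_, fun N _ b c => ?_⟩, fun E a K b => ?_⟩
  · obtain ⟨E, a⟩ := hne
    exact (hs E a).1 (isPClosed_of_le h le_top)
  · haveI := normal_iff_top_le.2 b
    by_cases h : ∃ E ∈ 𝒦, pResidualOf p E ≤ N
    · obtain ⟨E, a, d⟩ := h
      have h1 : PMod p R N := H1.sSup_induction_of_finite
        (P := fun Y => Y ≤ R ∧ R ≤ 𝐍 Y ∧ PMod p Y N) ⟨bot_le, le_top.trans normalizer_bot.ge,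
          pMod_of_le bot_le⟩ (fun K e B f => ⟨sup_le (le_sSup e) f.1, le_normalizer_sup (hn K e) f.2.1,
            PMod.sup_of_le_normalizer (pMod_of_pResidualOf_le (by
              obtain ⟨g, rfl⟩ := htr E a K e
              rw [← cj_pResidualOf]
              exact cj_le_of_mem_normalizer d (mem_normalizer_of_normal N g))) f.2.2
              le_normalizer_of_normal le_normalizer_of_normal ((le_sSup e).trans f.2.1)⟩) |>.2.2
      exact (pResidualOf_eq_of_le hres le_top).ge.trans h1.pResidualOf_le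
    · push Not at h
      exfalso
      have h1 : N ⊓ R ≤ 𝐂 R := le_centralizer_comm.1 (sSup_le fun E a =>
        (key E a N _ inf_le_right inf_le_left le_normalizer_of_normal).resolve_left (h E a))
      have h2 : R ≤ 𝐂 N := sSup_le fun E a => lemA (gen E a) (le_inf (commutator_le_left _ _)
        ((commutator_mono le_rfl (le_sSup a)).trans (commutator_le_right _ _)))
        (h1.trans (centralizer_anti (le_sSup a))) (cop _ R hR inf_le_right h1)
      obtain ⟨S, hS⟩ := exists_isSylowIn p N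
      exact c (isPClosed_of_isSylowIn hS (hS.pResidualOf_sup.ge.trans (sup_le
        (le_normalizer_of_le_centralizer (((pResidualOf_mono le_top).trans hres).trans
          (h2.trans (centralizer_anti hS.le)))) le_normalizer)))
  · rcases key E a K K (le_sSup b) le_rfl ((le_sSup a).trans (hn K b)) with c | c
    · rcases key K b E E (le_sSup a) le_rfl ((le_sSup b).trans (hn E a)) with d | d
      · exact Or.inl (le_antisymm ((pResidualOf_pResidualOf p E).ge.trans (pResidualOf_mono c))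
          ((pResidualOf_pResidualOf p K).ge.trans (pResidualOf_mono d)))
      · exact Or.inr (comm_eq_bot'.2 d)
    · exact Or.inr (comm_eq_bot.2 c)

/-- Let H be a finite group, p a prime, and 𝒦 a nonempty set of subgroups of H permuted transitively by conjugation, with R the subgroup generated by the members of 𝒦. Suppose O^p(H) ≤ R, each E ∈ 𝒦 has E·O_p(H) normal in R·O_p(H), and each E ∈ 𝒦 is p-minimal (generated by the conjugates of a Sylow p-subgroup T_E of E, with T_E in exactly one maximal subgroup of E). Then H is p-minimal in the same sense. If instead each E ∈ 𝒦 is strongly p-irreducible, then H is p-irreducible and, for E, K ∈ 𝒦, either O^p(E·O_p(H)) = O^p(K·O_p(H)) or [E, K] ≤ O_p(H). -/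
theorem result {H : Type*} [Group H] [Finite H] {p : ℕ} [Fact p.Prime] (𝒦 : Set (Subgroup H)) (hne : 𝒦.Nonempty) (hinv : ∀ h : H, ∀ E ∈ 𝒦, E.map (MulAut.conj h).toMonoidHom ∈ 𝒦) (htr : ∀ E ∈ 𝒦, ∀ K ∈ 𝒦, ∃ h : H, K = E.map (MulAut.conj h).toMonoidHom) (hres : Cfsg.pResidual p H ≤ sSup 𝒦) (hnorm : ∀ E ∈ 𝒦, sSup 𝒦 ⊔ Cfsg.pCore p H ≤ Subgroup.normalizer ((E ⊔ Cfsg.pCore p H : Subgroup H) : Set H)) : ((∀ E ∈ 𝒦, ∀ T : Sylow p ↥E, Cfsg.IsMinimalOver (T : Subgroup ↥E)) → ∀ T : Sylow p H, Cfsg.IsMinimalOver (T : Subgroup H)) ∧ ((∀ E ∈ 𝒦, Cfsg.IsStronglyPIrreducible p ↥E) → Cfsg.IsPIrreducible p H ∧ ∀ E ∈ 𝒦, ∀ K ∈ 𝒦, (Cfsg.pResidual p ↥(E ⊔ Cfsg.pCore p H)).map (E ⊔ Cfsg.pCore p H).subtype = (Cfsg.pResidual p ↥(K ⊔ Cfsg.pCore p H)).map (K ⊔ Cfsg.pCore p H).subtype ∨ ⁅E, K⁆ ≤ Cfsg.pCore p H) := by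
  set O := pCore p H
  have hOp : IsPGroup p O := isPGroup_pCore p H
  haveI : (sSup 𝒦).Normal := normal_of_cj_le fun g => by
    rw [cj_le_iff]; exact sSup_le fun E hE => cj_le_iff.1 (le_sSup (hinv g E hE))
  refine ⟨fun hmin T => ?_, fun hs => ?_⟩
  · have hT := isSylowIn_top T
    have hOT : O ≤ T := pCore_le_sylow T
    set R := sSup 𝒦 ⊔ O
    obtain ⟨E, hE⟩ := hne
    have hER : E ⊔ O ≤ R := sup_le_sup_right (le_sSup hE) _
    have hRT : R ⊔ T = ⊤ := eq_top_iff.2 ((pResidual_sup_sylow T).ge.trans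
      (sup_le_sup_right (hres.trans le_sup_left) _))
    -- `R` is generated by the `T`-conjugates of `E O`
    have h1 : ∀ X : Subgroup H, (T : Subgroup H) ≤ X → E ≤ X → X = ⊤ := fun X a b => by
      refine eq_top_iff.2 (hRT.ge.trans (sup_le (sup_le (sSup_le fun K hK => ?_) (hOT.trans a)) a))
      obtain ⟨g, rfl⟩ := htr E hE K hK
      obtain ⟨t, ht, r, hr, rfl⟩ := (mem_sup_of_le_normalizer (le_normalizer_of_normal (H := R))).1
        ((sup_comm R T ▸ hRT).ge (mem_top g))
      refine (cj_mono _ (le_sup_left : E ≤ E ⊔ O)).trans ?_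
      rw [← cj_cj, cj_eq_self (hnorm E hE hr)]
      exact cj_le_of_mem (sup_le b (hOT.trans a)) (a ht)
    have hA : SubnIn (E ⊔ O) ⊤ := (SubnIn.of_normal hER (hnorm E hE)).trans
      (SubnIn.of_normal le_top le_normalizer_of_normal)
    have h2 := hA.isSylowIn_inf hT
    have e0 : O ⊔ (E ⊓ T) = (T : Subgroup H) ⊓ (E ⊔ O) := by
      rw [← sup_inf_of_le_normalizer (Or.inr le_normalizer_of_normal) hOT, sup_comm, inf_comm]
    have h3 : IsSylowIn p (E ⊓ T) E := by
      obtain ⟨S, hS, a⟩ := exists_isSylowIn_ge (hT.isPGroup.to_le (inf_le_right : E ⊓ T ≤ T))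
        inf_le_left
      have b := h2.max (O ⊔ S) (isPGroup_sup_of_le_normalizer' hOp hS.isPGroup le_normalizer_of_normal)
        (e0 ▸ sup_le_sup_left a O) (sup_le le_sup_right (hS.le.trans le_sup_left))
      rwa [le_antisymm a (le_inf hS.le (le_sup_right.trans (b.le.trans inf_le_left)))]
    obtain ⟨g1, M, hM⟩ := (isMinimalOver_subgroupOf h3.le).1 (h3.coe_toSylow ▸ hmin E hE h3.toSylow)
    have hu : UniqMax (T ⊓ (E ⊔ O)) (E ⊔ O) (O ⊔ M) := by
      refine ⟨e0 ▸ sup_le_sup_left hM.le _, lt_of_le_of_ne (sup_le le_sup_right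
        (hM.lt.le.trans le_sup_left)) fun e => hM.not_le ?_, fun X a b => ?_⟩
      · have := sup_inf_of_le_normalizer (A := M) (B := O) (Or.inl le_normalizer_of_normal) hM.lt.le
        rw [sup_comm, e, inf_eq_right.2 le_sup_left] at this
        exact this.le.trans (sup_le le_rfl ((inf_comm _ _).le.trans
          ((inf_le_inf_left _ hOT).trans hM.le)))
      · have c : O ≤ X := (le_inf hOT le_sup_right).trans a
        have := sup_inf_of_le_normalizer (A := O) (B := E) (Or.inr le_normalizer_of_normal) c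
        rw [sup_comm, inf_eq_right.2 b.le] at this
        rw [this]
        refine sup_le_sup_left (hM.max _ (le_inf inf_le_left ((le_inf inf_le_right
          (inf_le_left.trans le_sup_left)).trans a)) (inf_lt_left.2 fun d => b.not_ge (sup_le d c))) _
    have g2 : nclIn (T ⊓ (E ⊔ O)) (E ⊔ O) = E ⊔ O := le_antisymm (nclIn_le_self inf_le_right)
      (sup_le (g1.ge.trans (nclIn_mono (le_inf inf_le_right (inf_le_left.trans le_sup_left))
        le_sup_left)) ((le_inf hOT le_sup_right).trans (le_nclIn _ _)))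
    let D : Subgroup H := R ⊓ ⨅ t : (T : Subgroup H), cj (t : H) (𝐍 (O ⊔ M))
    have hTD : (T : Subgroup H) ≤ 𝐍 D := le_normalizer_inf le_normalizer_of_normal
      (le_normalizer_of_cj_le fun t ht => le_iInf fun s => by
        rw [cj_le_iff, cj_cj]
        exact iInf_le_of_le ⟨t⁻¹ * s, mul_mem (inv_mem ht) s.2⟩ le_rfl)
    have h4 : ∀ X : Subgroup H, (T : Subgroup H) ≤ X → X < ⊤ → R ⊓ X ≤ D := fun X a b => by
      have c : X ⊓ (E ⊔ O) ≤ O ⊔ M := hu.max _ (inf_le_inf_right _ a)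
        (inf_lt_right.2 fun d => b.ne (h1 X a (le_sup_left.trans d)))
      have d : R ⊓ X ≤ 𝐍 (O ⊔ M) := fun x hx => by
        have u := hu.mono (inf_le_inf_right _ a) c
        have v := u.conj x
        rw [cj_inf, cj_eq_self_of_mem hx.2, cj_eq_self (hnorm E hE hx.1)] at v
        exact mem_normalizer_iff_cj.2 (v.unique u)
      exact le_inf inf_le_left (le_iInf fun t => le_cj_iff.2 (le_trans (le_inf
        (cj_le_of_mem_normalizer inf_le_left (mem_normalizer_of_normal R _))
        (cj_le_of_mem inf_le_right (a (inv_mem t.2)))) d))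
    have hTt : (T : Subgroup H) < ⊤ := lt_top_iff_ne_top.2 fun e =>
      hM.not_le ((le_inf le_rfl (le_top.trans e.ge)).trans hM.le)
    refine isMinimalOver_iff.2 ⟨h1 _ (le_nclIn _ _) (g1.ge.trans (nclIn_mono inf_le_right le_top)),
      T ⊔ D, le_sup_left, lt_top_iff_ne_top.2 fun e => ?_, fun X a b => ?_⟩
    · have := sup_inf_of_le_normalizer (A := D) (B := T) (Or.inr hTD) (inf_le_left : D ≤ R)
      rw [sup_comm, e, top_inf_eq, sup_eq_left.2 (inf_comm R T ▸ h4 T le_rfl hTt)] at this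
      have h5 : E ⊔ O ≤ 𝐍 (O ⊔ M) := hER.trans (this.le.trans (inf_le_right.trans
        ((iInf_le _ 1).trans (cj_one _).le)))
      exact hu.not_le (g2.ge.trans (nclIn_le hu.le h5))
    · have := sup_inf_of_le_normalizer (A := T) (B := R) (Or.inl le_normalizer_of_normal) a
      rw [sup_comm, hRT, top_inf_eq] at this
      exact this.le.trans (sup_le_sup_left (h4 X a b) _)
  · let f := QuotientGroup.mk' O
    have hf : Function.Surjective f := QuotientGroup.mk'_surjective O
    have hk : f.ker = O := QuotientGroup.ker_mk' O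
    have hk' : ∀ E : Subgroup H, IsPGroup p (E ⊓ f.ker : Subgroup H) := fun E =>
      hOp.to_le (inf_le_right.trans hk.le)
    have e : sSup ((fun E => E.map f) '' 𝒦) = (sSup 𝒦).map f := by
      rw [sSup_image, sSup_eq_iSup, Subgroup.map_iSup]
      exact iSup_congr fun E => by rw [Subgroup.map_iSup]
    have eO : ∀ E : Subgroup H, (E ⊔ O).map f = E.map f := fun E => by
      rw [Subgroup.map_sup, H1.map_mk'_eq_bot_iff.2 le_rfl, sup_bot_eq]
    obtain ⟨h1, h2⟩ := core (pCore_quotient_pCore p H) (𝒦 := (fun E => E.map f) '' 𝒦) (hne.image _)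
      (by
        rintro g _ ⟨E, a, rfl⟩
        obtain ⟨g, rfl⟩ := hf g
        exact ⟨_, hinv g E a, map_cj f E g⟩)
      (by
        rintro _ ⟨E, a, rfl⟩ _ ⟨K, b, rfl⟩
        obtain ⟨g, rfl⟩ := htr E a K b
        exact ⟨f g, map_cj f E g⟩)
      (by rw [e, pResidualOf_top, ← map_pResidual hf]; exact map_mono hres)
      (by
        rintro _ ⟨E, a, rfl⟩
        rw [e]; show _ ≤ 𝐍 (E.map f); rw [← eO E]
        exact (map_mono (le_sup_left.trans (hnorm E a))).trans (le_normalizer_map f))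
      (by
        rintro _ ⟨E, a, rfl⟩
        have s := sPIrr_iff.2 (hs E a)
        refine ⟨fun c => s.1 (isPClosed_of_map f (hk' E) c), fun N b c d => ?_⟩
        rw [← map_inf_comap_eq f b, ← map_pResidualOf]
        refine map_mono (s.2 _ inf_le_left (le_normalizer_inf le_normalizer
          ((map_le_iff_le_comap.1 c).trans (le_normalizer_comap f))) fun g => d ?_)
        rw [← map_inf_comap_eq f b, ← map_commutator]
        exact (map_mono g).trans (map_pCoreOf_le f E))
    refine ⟨pIrr_top.1 ((pIrr_map f (hk' ⊤)).1 (by rwa [map_top_of_surjective f hf])),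
      fun E a K b => (h2 _ ⟨E, a, rfl⟩ _ ⟨K, b, rfl⟩).imp (fun c => ?_) fun c => ?_⟩
    · have : ∀ E : Subgroup H, pResidualOf p (E ⊔ O) = pResidualOf p (pResidualOf p E ⊔ O) := fun E =>
        (pResidualOf_eq_of_le (pResidualOf_sup_le_sup le_normalizer_of_normal)
          (sup_le_sup_right (pResidualOf_le p E) _)).symm
      rw [pResidualOf_def, pResidualOf_def, this E, this K, ← H1.comap_map_mk', ← H1.comap_map_mk',
        map_pResidualOf, map_pResidualOf]
      exact congrArg (fun Z => pResidualOf p (comap f Z)) c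
    · exact H1.commutator_le_iff_map_mk'.2 c

end Cfsg.Agent.S2855
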