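import Cfsg.Statements.S2862
import Cfsg.Agent.H28.FrakH
-- import your own Cfsg.Agent.* helpers here

set_option autoImplicit false
open Cfsg

namespace Cfsg.Agent.S2862

open H28 Subgroup
open scoped Pointwise commutatorElement

/-- Standing hypotheses: G a finite group, S a Sylow p-subgroup, Q a nontrivial large p-subgroup of G contained in S, M a subgroup containing S with the basic property (M ∈ 𝔐_G(S)); Y_M the largest p-reduced normal subgroup of M and M† = M·C_G(Y_M). Suppose Y_M is char-p-tall and asymmetric in G, H ∈ ℌ_G(O_p(M)), and L is minimal among the subgroups of H containing Y_M with Y_M ≰ O_p(L). Then H = ⟨L, O_p(M)⟩ = ⟨hY_Mh⁻¹, O_p(M)⟩ for every h ∈ L outside N_L(Y_M); L is Y_M-minimal and of characteristic p, with N_L(Y_M) the unique maximal subgroup of L containing Y_M; [V, O^p(L)] ≠ 1 for every noncentral chief factor V/W of H inside O_p(H) (that is, O^p(L) does not act trivially on V/W); and the normal closure of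 O_p(L) ∩ Y_M in L lies in O_p(H). -/
theorem result {G : Type*} [Group G] [Finite G] {p : ℕ} [Fact p.Prime] (S : Sylow p G) (Q : Subgroup G) (hQp : IsPGroup p ↥Q) (hQ1 : Q ≠ ⊥) (hQS : Q ≤ (S : Subgroup G)) (hQ : Cfsg.IsLarge Q) (M : Subgroup G) (hSM : (S : Subgroup G) ≤ M) (hM : Cfsg.IsInFrakM p M) (htall : Cfsg.IsCharPTall p (Cfsg.largestPReducedOf p M)) (hasym : ¬ Cfsg.IsSymmetricIn (Cfsg.largestPReducedOf p M)) (H : Subgroup G) (hH : Cfsg.IsInFrakH p M H) (L : Subgroup G) (hLH : L ≤ H) (hYL : (Cfsg.largestPReducedOf p M) ≤ L) (hYO : ¬ (Cfsg.largestPReducedOf p M) ≤ (Cfsg.pCoreOf p L)) (hmin : ∀ L' : Subgroup G, L' ≤ L → (Cfsg.largestPReducedOf p M) ≤ L' → ¬ (Cfsg.largestPReducedOf p M) ≤ (Cfsg.pCoreOf p L') → L' = L) : (L ⊔ (Cfsg.pCoreOf p M) = H ∧ ∀ h ∈ L, h ∉ Subgroup.normalizer (((Cfsg.largestPReducedOf p M) : Subgroup G) : Set G) → (((Cfsg.largestPReducedOf p M) : Subgroup G).map (MulAut.conj (h : G)).toMonoidHom) ⊔ (Cfsg.pCoreOf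 p M) = H) ∧ (Cfsg.IsMinimalOver (((Cfsg.largestPReducedOf p M)).subgroupOf L) ∧ Subgroup.centralizer (Cfsg.pCore p ↥L : Set ↥L) ≤ Cfsg.pCore p ↥L ∧ L ⊓ Subgroup.normalizer (((Cfsg.largestPReducedOf p M) : Subgroup G) : Set G) < L ∧ ∀ X : Subgroup G, (Cfsg.largestPReducedOf p M) ≤ X → X < L → X ≤ L ⊓ Subgroup.normalizer (((Cfsg.largestPReducedOf p M) : Subgroup G) : Set G)) ∧ (∀ V W' : Subgroup G, V ≤ (Cfsg.pCoreOf p H) → H ≤ Subgroup.normalizer ((V : Subgroup G) : Set G) → H ≤ Subgroup.normalizer ((W' : Subgroup G) : Set G) → W' < V → (∀ Z' : Subgroup G, H ≤ Subgroup.normalizer ((Z' : Subgroup G) : Set G) → W' ≤ Z' → Z' ≤ V → Z' = W' ∨ Z' = V) → ¬ ⁅V, H⁆ ≤ W' → ¬ ⁅V, ((Cfsg.pResidual p ↥L).map (L).subtype)⁆ ≤ W') ∧ (Subgroup.normalClosure (((((Cfsg.pCoreOf p L) ⊓ (Cfsg.largestPReducedOf p M)).subgroupOf L : Subgroup ↥L)) : Set ↥L)).map L.subtype ≤ (Cfsg.pCoreOf p H) := by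
  have h0 := fm_of_large hQp hQ1 hQ hSM hM
  have h := h0.fh hasym hH
  set Y := largestPReducedOf p M
  set O := pCoreOf p M
  have hmin' : ∀ X, Y ≤ X → X < L → Y ≤ pCoreOf p X := fun X a b => by
    by_contra c; exact b.ne (hmin X b.le a c)
  obtain ⟨hg, L₀, hu⟩ := uniqMax_of_minimal h.pY hYL hYO hmin'
  have h1 := h.le_normalizer_of_uniqMax hLH hYO hu hg (hmin' _ hu.le hu.lt)
  have e0 : L ⊓ 𝐍 Y = L₀ := le_antisymm (hu.inf_normalizer_le hg le_rfl hu.le) (le_inf hu.lt.le h1)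
  have hLO := h.sup_eq hLH hYL hYO
  have hsup : ∀ k ∈ L, k ∉ L₀ → cj k Y ⊔ O = H := fun k a b => by
    rw [← hLO, ← hu.sup_cj hg a b, sup_comm Y, sup_assoc, sup_eq_right.2 h.YO]
  obtain ⟨g, hgL, hg₀⟩ := SetLike.not_le_iff_exists.1 hu.not_le
  set U := pCoreOf p H
  have hHU : H ≤ 𝐍 U := le_normalizer_pCoreOf p H
  have hUL : ⁅U, L⁆ ≤ (Y ⊓ U) ⊔ cj g (Y ⊓ U) := by
    have := h.commutator_U_sup_le (hLH hgL)
    rwa [hu.sup_cj hg hgL hg₀] at this
  have hAU : (Y ⊓ U) ⊔ cj g (Y ⊓ U) ≤ U := sup_le inf_le_right (h.cj_V (hLH hgL) ▸ inf_le_right)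
  have hLU : U ≤ 𝐍 L := le_normalizer_of_commutator_le (V := L) ((comm_comm _ _).le.trans
    (hUL.trans (sup_le (inf_le_left.trans hYL) (cj_le_of_mem (inf_le_left.trans hYL) hgL)))) le_rfl
  rw [e0, pResidualOf_def, map_normalClosure_subgroupOf (inf_le_right.trans hYL)]
  refine ⟨⟨hLO, fun k a b => hsup k a fun c => b (h1 c)⟩, ⟨(isMinimalOver_subgroupOf hYL).2
    ⟨hg, _, hu⟩, isCharP_iff.1 (h.charP.of_le_normalizer hLH hLU), hu.lt, hu.max⟩,
    fun V W hV hHV hHW hWV hch hnc hc => hnc ?_, ?_⟩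
  · have hRY : pResidualOf p L ⊔ Y = L := by
      by_contra c
      have hle : pResidualOf p L ⊔ Y ≤ L := sup_le (pResidualOf_le _ _) hYL
      exact hYO ((hmin' _ le_sup_right (lt_of_le_of_ne hle c)).trans
        (subnIn_of_pResidualOf_le le_sup_left hle).pCoreOf_le)
    have hVY : ⁅V, Y⁆ ≤ Y := (commutator_mono hV le_rfl).trans (h.commutator_U_le.trans inf_le_left)
    have hVY' : ⁅V, Y⁆ ≤ V := commutator_le_of_le_normalizer (h.YH.trans hHV)
    have h2 : H ≤ 𝐍 (W ⊔ ⁅V, Y⁆) := by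
      rw [← hLO, ← hRY]
      exact sup_le (sup_le (le_normalizer_of_commutator_le (hc.trans le_sup_left)
        (sup_le hWV.le hVY')) (le_normalizer_of_commutator_le le_sup_right (sup_le hWV.le hVY')))
        (le_normalizer_sup (h.OH.trans hHW) (le_normalizer_of_le_centralizer
          (h.OC.trans (centralizer_anti hVY))))
    have hnil : ∀ T : Subgroup G, IsPGroup p T → T ≤ H → V ≤ W ⊔ ⁅V, T⁆ → False := fun T a b c => by
      have hp' := isPGroup_sup_of_le_normalizer a (isPGroup_pCoreOf p H) (b.trans hHU)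
      exact hWV.not_ge (le_of_le_sup_commutator_of_nilpotent (isNilpotent_of_isPGroup hp')
        (hV.trans le_sup_right) le_sup_left ((hV.trans (pCoreOf_le p H)).trans hHW) (b.trans hHW)
        (b.trans hHV) c)
    have h3 : ⁅V, Y⁆ ≤ W := by
      rcases hch _ h2 le_sup_left (sup_le hWV.le hVY') with e | e
      · exact le_sup_right.trans e.le
      · exact (hnil Y h.pY h.YH e.ge).elim
    have h4 : ⁅V, pResidualOf p H⁆ ≤ W := (comm_comm _ _).le.trans
      ((commutator_mono h.res_le le_rfl).trans (commutator_nclIn_le ((comm_comm _ _).le.trans h3)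
        hHV hHW (h.YH.trans hHW)))
    have hVO : ⁅V, O⁆ ≤ V := commutator_le_of_le_normalizer (h.OH.trans hHV)
    have h5 : ∀ X, H ≤ 𝐍 X → W ⊔ ⁅V, O⁆ ≤ X → ⁅V, H⁆ ≤ X := fun X a b => by
      conv_lhs => rw [← h.res_sup]
      exact H1.commutator_sup_le' ((pResidualOf_le _ _).trans a) (h.OH.trans a)
        (h4.trans (le_sup_left.trans b)) (le_sup_right.trans b)
    have h6 : H ≤ 𝐍 (W ⊔ ⁅V, O⁆) := by
      conv_lhs => rw [← h.res_sup]
      exact sup_le (le_normalizer_of_commutator_le (h4.trans le_sup_left) (sup_le hWV.le hVO))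
        (le_normalizer_of_commutator_le le_sup_right (sup_le hWV.le hVO))
    rcases hch _ h6 le_sup_left (sup_le hWV.le hVO) with e | e
    · exact h5 W hHW e.le
    · exact (hnil O h.pO h.OH e.ge).elim
  · set Y₀ := pCoreOf p L ⊓ Y
    have hOL : pCoreOf p L ≤ L₀ := by
      refine le_sup_right.trans (hu.max (Y ⊔ pCoreOf p L) le_sup_left (lt_of_le_of_ne
        (sup_le hYL (pCoreOf_le _ _)) fun e => hYO ?_))
      have := isPGroup_sup_of_le_normalizer h.pY (isPGroup_pCoreOf p L)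
        (hYL.trans (le_normalizer_pCoreOf p L))
      rw [e] at this
      exact hYL.trans (pCoreOf_eq_self this).ge
    have hOLg : pCoreOf p L ≤ 𝐍 (cj g Y) := by
      rw [← cj_normalizer, ← cj_eq_self (le_normalizer_pCoreOf p L hgL)]
      exact cj_mono g (hOL.trans h1)
    set Z := U ⊓ 𝐂 H
    have hHZ : H ≤ 𝐍 Z := le_normalizer_inf hHU (le_normalizer_centralizer le_normalizer)
    have h2 : ⁅(Y ⊓ U) ⊔ cj g (Y ⊓ U), Y₀⁆ ≤ Z := by
      refine H1.commutator_sup_le ((inf_le_left.trans h.YH).trans hHZ)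
        ((le_sup_right.trans (hAU.trans (pCoreOf_le _ _))).trans hHZ)
        (by rw [comm_eq_bot.2 ((inf_le_left.trans h.YC).trans (centralizer_anti inf_le_right))]
            exact bot_le) ?_
      have a : ⁅cj g (Y ⊓ U), Y₀⁆ ≤ Y ⊓ U :=
        (commutator_mono (le_sup_right.trans hAU) inf_le_right).trans h.commutator_U_le
      have b : ⁅cj g (Y ⊓ U), Y₀⁆ ≤ cj g Y := (commutator_mono (cj_mono g inf_le_left)
        inf_le_left).trans (commutator_le_of_le_normalizer hOLg)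
      refine le_inf (a.trans inf_le_right) ?_
      rw [← hsup g hgL hg₀, centralizer_sup]
      refine le_inf (b.trans ?_) ((a.trans inf_le_left).trans (le_centralizer_comm.1 h.OC))
      rw [← cj_centralizer]; exact cj_mono g h.YC
    set C := nclIn ((Y ⊓ U) ⊔ cj g (Y ⊓ U)) O
    have hCU : C ≤ U := nclIn_le hAU (h.OH.trans hHU)
    have h3 : ⁅C, Y₀⁆ ≤ Z := commutator_nclIn_le h2 (le_normalizer_of_le_centralizer
      (h.OC.trans (centralizer_anti inf_le_right))) (h.OH.trans hHZ)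
      ((hAU.trans (pCoreOf_le _ _)).trans hHZ)
    have hUC : ⁅U, L⁆ ≤ C := hUL.trans (le_nclIn _ _)
    have hHC : H ≤ 𝐍 C := hLO.ge.trans (sup_le (le_normalizer_of_commutator_le hUC hCU)
      (le_normalizer_nclIn _ _))
    have hY₀ : Y₀ ≤ H := inf_le_right.trans h.YH
    have h4 : ⁅nclIn Y H, U⁆ ≤ C := commutator_nclIn_le ((comm_comm _ _).le.trans
      ((commutator_mono le_rfl hYL).trans hUC)) hHU hHC (h.YH.trans hHC)
    have h5 : ⁅nclIn Y₀ H, C⁆ ≤ Z := commutator_nclIn_le ((comm_comm _ _).le.trans h3) hHC hHZ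
      (hY₀.trans hHZ)
    have hJ := nclIn_le_self hY₀
    have h6 : iterCommutator U (nclIn Y₀ H) 3 = ⊥ := by
      rw [iterCommutator_succ, iterCommutator_succ, iterCommutator_succ, iterCommutator_zero,
        comm_eq_bot]
      refine le_trans ?_ ((inf_le_right : Z ≤ _).trans (centralizer_anti hJ))
      refine (comm_comm _ _).le.trans ((commutator_mono le_rfl ?_).trans h5)
      exact (comm_comm _ _).le.trans ((commutator_mono (nclIn_mono inf_le_right le_rfl)
        le_rfl).trans h4)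
    exact (nclIn_mono le_rfl hLH).trans (le_pCoreOf (isPGroup_of_pResidualOf_eq_bot
      (h.charP.pResidualOf_eq_bot_of_iter hJ h6)) hJ (le_normalizer_nclIn _ _))

end Cfsg.Agent.S2862
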