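import Cfsg.Statements.S2864
import Cfsg.Agent.H28.FrakH
-- import your own Cfsg.Agent.* helpers here

set_option autoImplicit false
open Cfsg

namespace Cfsg.Agent.S2864

open H28 Subgroup
open scoped Pointwise commutatorElement

/-- Standing hypotheses: G a finite group, S a Sylow p-subgroup, Q a nontrivial large p-subgroup of G contained in S, M a subgroup containing S with the basic property (M ∈ 𝔐_G(S)); Y_M the largest p-reduced normal subgroup of M and M† = M·C_G(Y_M). Let I be a nontrivial normal p-subgroup of M and Y ≤ O_p(M†); let L be a subgroup of G containing Y and A a normal p-subgroup of L with I ≤ A ≤ M. If [Y, A] ≤ [I, A], then Y ≤ O_p(L). -/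
theorem result {G : Type*} [Group G] [Finite G] {p : ℕ} [Fact p.Prime] (S : Sylow p G) (Q : Subgroup G) (hQp : IsPGroup p ↥Q) (hQ1 : Q ≠ ⊥) (hQS : Q ≤ (S : Subgroup G)) (hQ : Cfsg.IsLarge Q) (M : Subgroup G) (hSM : (S : Subgroup G) ≤ M) (hM : Cfsg.IsInFrakM p M) (I : Subgroup G) (hI1 : I ≠ ⊥) (hIp : IsPGroup p ↥I) (hIM : I ≤ M ∧ M ≤ Subgroup.normalizer ((I : Subgroup G) : Set G)) (Y : Subgroup G) (hY : Y ≤ (Cfsg.pCoreOf p (M ⊔ Subgroup.centralizer (((Cfsg.largestPReducedOf p M) : Subgroup G) : Set G)))) (L : Subgroup G) (hYL : Y ≤ L) (A : Subgroup G) (hAp : IsPGroup p ↥A) (hAL : A ≤ L ∧ L ≤ Subgroup.normalizer ((A : Subgroup G) : Set G)) (hIA : I ≤ A) (hAM : A ≤ M) (hc : ⁅Y, A⁆ ≤ ⁅I, A⁆) : Y ≤ (Cfsg.pCoreOf p L) := by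
  have h := fm_of_large hQp hQ1 hQ hSM hM
  have hYp := (isPGroup_pCoreOf p _).to_le hY
  have hAA : L ≤ 𝐍 ⁅A, A⁆ := le_normalizer_commutator hAL.2 hAL.2
  have hW := nclIn_le_self hYL
  have h1 : ⁅nclIn Y L, A⁆ ≤ ⁅A, A⁆ := commutator_nclIn_le (hc.trans (commutator_mono hIA le_rfl))
    hAL.2 hAA (hYL.trans hAA)
  have h2 := pResidualOf_le_centralizer_of_le_derived hAp (hW.trans hAL.2)
    ((comm_comm _ _).le.trans ((commutator_mono (pResidualOf_le _ _) le_rfl).trans h1))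
  have h3 := ((h2.trans (centralizer_anti hIA)).trans (centralizer_le_normalizer _)).trans
    (h.normalizer_le hIp hI1 hIM.2)
  have h4 : SubnIn (pResidualOf p (nclIn Y L) ⊔ Y) L := (subnIn_of_pResidualOf_le le_sup_left
    (sup_le (pResidualOf_le _ _) (le_nclIn Y L))).trans
      (SubnIn.of_normal hW (le_normalizer_nclIn Y L))
  exact ((le_inf le_sup_right hY).trans (inf_pCoreOf_le (sup_le h3
    (hY.trans (pCoreOf_le _ _))))).trans h4.pCoreOf_le

end Cfsg.Agent.S2864
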