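import Cfsg.Statements.S2872
import Cfsg.Agent.H28.ExtTr
-- import your own Cfsg.Agent.* helpers here

set_option autoImplicit false
open Cfsg

namespace Cfsg.Agent.S2872

open H28 Subgroup
open scoped Pointwise commutatorElement

/-- Let S be a Sylow 2-subgroup of the finite group G. Then G has a proper normal subgroup of 2-power index (O²(G) ≠ G), or Ω₁(Z(S)) is contained in the Frattini subgroup of S, or N_G(S) acts nontrivially on Ω₁(Z(S)) by conjugation. -/
theorem result {G : Type*} [Group G] [Finite G] (S : Sylow 2 G) : Cfsg.pResidual 2 G ≠ ⊤ ∨ Cfsg.omegaOne 2 ((S : Subgroup G) ⊓ Subgroup.centralizer ((S : Subgroup G) : Set G)) ≤ (frattini ↥(S : Subgroup G)).map (S : Subgroup G).subtype ∨ ∃ g ∈ Subgroup.normalizer ((S : Subgroup G) : Set G), ∃ z ∈ Cfsg.omegaOne 2 ((S : Subgroup G) ⊓ Subgroup.centralizer ((S : Subgroup G) : Set G)), g * z * g⁻¹ ≠ z := by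
  by_contra! H
  obtain ⟨h1, h2, h3⟩ := H
  refine h2 fun z hz => ?_
  by_contra h4
  have hz' := mem_omegaOneCenter.1 hz
  obtain ⟨M, hM, h5⟩ := H1.exists_coatom_not_le (H := zpowers (⟨z, hz'.1⟩ : (S : Subgroup G)))
    fun h => h4 ⟨_, h (mem_zpowers _), rfl⟩
  obtain ⟨g, h6, h7⟩ := extremal_thompson_two (isSylowIn_top S)
    (T := M.map (S : Subgroup G).subtype) (by
      rw [relIndex, subgroupOf, comap_map_eq_self_of_injective (subtype_injective _)]
      exact H4.index_of_coatom S.isPGroup' hM) hz'.2.2 (h1 ▸ mem_top z) S.isPGroup'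
    (fun u hu => mem_centralizer_singleton_iff.2 (hz'.2.1 u hu)) hz'.1
  rw [h3 g (mem_normalizer_of_cj_le h6) z hz] at h7
  obtain ⟨x, hx, rfl⟩ := h7
  exact h5 (zpowers_le.2 hx)

end Cfsg.Agent.S2872
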