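import Cfsg.Statements.S2874
import Mathlib.Tactic.LinearCombination
import Mathlib.Tactic.NoncommRing

set_option autoImplicit false
open Cfsg

namespace Cfsg.Agent.S2874

open Matrix in
theorem alg {R : Type*} [CommRing R] (u : R) (hu : u * 3 = 1) (v : Matrix (Fin 2) (Fin 2) R)
    (h1 : v * v = 1)
    (h2 : v * (!![0, -1; 1, -1] * v * !![-1, 1; -1, 0]) = !![-1, 1; -1, 0] * v * !![0, -1; 1, -1])
    (h3 : (!![0, -1; 1, -1] * v * !![-1, 1; -1, 0]) * v = !![-1, 1; -1, 0] * v * !![0, -1; 1, -1]) :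
    ∃ b0 b1 : R, -b0 = b0 ∧ -b1 = b1 ∧ v = !![1 + b0, b1 - b0; b1, 1 - b0] := by
  obtain ⟨a0, a1, b0, b1, rfl⟩ : ∃ a0 a1 b0 b1 : R, v = !![a0 + b0, -a1 - b0 + b1; a1 + b1, a0 - a1 - b0] := by
    refine ⟨v 0 0 - u * (2 * (v 0 0 - v 1 1) - (v 1 0 - v 0 1)), u * (2 * (v 1 0 - v 0 1) - (v 0 0 - v 1 1)),
      u * (2 * (v 0 0 - v 1 1) - (v 1 0 - v 0 1)), v 1 0 - u * (2 * (v 1 0 - v 0 1) - (v 0 0 - v 1 1)), ?_⟩
    ext i j; fin_cases i <;> fin_cases j <;> simp
    · linear_combination (v 1 0 - v 0 1) * hu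
    · linear_combination (v 0 0 - v 1 1) * hu
  simp only [Matrix.mul_fin_two, Matrix.one_fin_two] at h1 h2 h3
  have p1 := congrFun (congrFun h1 0) 0
  have q1 := congrFun (congrFun h1 0) 1
  have r1 := congrFun (congrFun h1 1) 0
  have s1 := congrFun (congrFun h1 1) 1
  have p2 := congrFun (congrFun h2 0) 0
  have q2 := congrFun (congrFun h2 0) 1
  have r2 := congrFun (congrFun h2 1) 0
  have s2 := congrFun (congrFun h2 1) 1
  have p3 := congrFun (congrFun h3 0) 0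
  have q3 := congrFun (congrFun h3 0) 1
  have r3 := congrFun (congrFun h3 1) 0
  have s3 := congrFun (congrFun h3 1) 1
  simp only [of_apply, cons_val', cons_val_zero, cons_val_one, cons_val_fin_one] at p1 q1 r1 s1 p2 q2 r2 s2 p3 q3 r3 s3
  have hN : b0 ^ 2 - b0 * b1 + b1 ^ 2 = 0 := by
    linear_combination u * ((p2 - p3) + 2 * (s2 - s3) + (r2 - r3) - (q2 - q3)) - (b0 ^ 2 - b0 * b1 + b1 ^ 2) * hu
  have ha0 : a0 = 1 := by
    linear_combination u * ((p1 - p2) + 2 * (s1 - s2) + (r1 - r2) - (q1 - q2)) - u * 3 * hN - (a0 - 1) * hu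
  have ha1 : a1 = 0 := by
    linear_combination u * (2 * ((r1 - r2) - (q1 - q2)) - ((p1 - p2) - (s1 - s2))) + u * 3 * hN - a1 * hu
  subst ha0 ha1
  refine ⟨b0, b1, ?_, ?_, by simp [sub_eq_neg_add]⟩
  · linear_combination hN - p1
  · linear_combination -r1

theorem unit_of {k : ℕ} (hk : 2 ∣ 2 ^ k) (a : ZMod (2 ^ k)) (h : ZMod.castHom hk (ZMod 2) a = 1) : IsUnit a := by
  rw [← ZMod.natCast_zmod_val a] at h ⊢
  rw [map_natCast, ZMod.natCast_eq_one_iff_odd] at h
  rw [ZMod.isUnit_iff_coprime]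
  exact Nat.Coprime.pow_right _ (Nat.coprime_two_right.2 h)

theorem f2 : ∀ a b c d : ZMod 2, !![a, b; c, d] ^ 3 = 1 →
    (a = 1 ∧ b = 0 ∧ c = 0 ∧ d = 1) ∨ (c = 1 ∧ (a - 1) * (d - 1) - b * c = 1) := by
  decide

open Matrix in
theorem ord3 {k : ℕ} (hk : 2 ∣ 2 ^ k) (X : Matrix (Fin 2) (Fin 2) (ZMod (2 ^ k))) (h : X ^ 3 = 1) (h1 : X ≠ 1) :
    X ^ 2 + X + 1 = 0 ∧ IsUnit (X 1 0) := by
  set φ := ZMod.castHom hk (ZMod 2) with hφ
  have h2 : (φ.mapMatrix X) ^ 3 = 1 := by rw [← map_pow, h, map_one]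
  rw [Matrix.eta_fin_two (φ.mapMatrix X)] at h2
  have h3 : (X - 1) * (X ^ 2 + X + 1) = 0 := by rw [← sub_eq_zero] at h; rw [← h]; noncomm_ring
  have h4 : (X ^ 2 + X + 1) * (X - 1) = 0 := by rw [← sub_eq_zero] at h; rw [← h]; noncomm_ring
  rcases f2 _ _ _ _ h2 with ⟨ha, hb, hc, hd⟩ | ⟨hc, hd⟩
  · exfalso
    have h5 : φ.mapMatrix X = 1 := by
      rw [Matrix.eta_fin_two (φ.mapMatrix X), ha, hb, hc, hd, Matrix.one_fin_two]
    have h6 : IsUnit (X ^ 2 + X + 1) := by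
      rw [Matrix.isUnit_iff_isUnit_det]
      apply unit_of hk
      rw [RingHom.map_det, map_add, map_add, map_pow, h5, map_one]
      decide
    exact h1 (sub_eq_zero.1 (h6.mul_right_eq_zero.1 h4))
  · refine ⟨?_, unit_of hk _ hc⟩
    have h6 : IsUnit (X - 1) := by
      rw [Matrix.isUnit_iff_isUnit_det]
      apply unit_of hk
      rw [RingHom.map_det, map_sub, map_one, Matrix.det_fin_two]
      simpa [φ] using hd
    exact h6.mul_right_eq_zero.1 h3

abbrev A4 := alternatingGroup (Fin 4)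
def c : A4 := ⟨Equiv.swap 0 1 * Equiv.swap 1 2, Equiv.Perm.mem_alternatingGroup.2 (by decide)⟩
def d : A4 := ⟨Equiv.swap 0 1 * Equiv.swap 2 3, Equiv.Perm.mem_alternatingGroup.2 (by decide)⟩

theorem gen : Subgroup.closure ({c, d} : Set A4) = ⊤ := by
  rw [eq_top_iff]
  rintro x -
  have hc : c ∈ Subgroup.closure ({c, d} : Set A4) := Subgroup.subset_closure (by simp)
  have hd : d ∈ Subgroup.closure ({c, d} : Set A4) := Subgroup.subset_closure (by simp)
  have : ∀ x : A4, ∃ i j : Fin 3, ∃ l : Fin 2, x = c ^ i.1 * d ^ l.1 * c ^ j.1 := by decide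
  obtain ⟨i, j, l, rfl⟩ := this x
  exact mul_mem (mul_mem (pow_mem hc _) (pow_mem hd _)) (pow_mem hc _)

theorem clo {G : Type*} [Group G] (x v w : G) (i : ℤ) (h : w = x ^ i * v * x ^ (-i)) :
    Subgroup.closure ({x, w} : Set G) = Subgroup.closure {x, v} := by
  have key : ∀ (v w : G) (i : ℤ), w = x ^ i * v * x ^ (-i) →
      Subgroup.closure ({x, w} : Set G) ≤ Subgroup.closure {x, v} := by
    intro v w i h
    have hc : x ∈ Subgroup.closure ({x, v} : Set G) := Subgroup.subset_closure (by simp)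
    have hd : v ∈ Subgroup.closure ({x, v} : Set G) := Subgroup.subset_closure (by simp)
    rw [Subgroup.closure_le]
    rintro y (rfl | rfl)
    · exact hc
    · rw [h]; exact mul_mem (mul_mem (zpow_mem hc _) hd) (zpow_mem hc _)
  exact le_antisymm (key v w i h) (key w v (-i) (by rw [h]; group))

open Matrix in
theorem core {k : ℕ} (hk : 2 ≤ k) (H : Subgroup (GL (Fin 2) (ZMod (2 ^ k)))) (e : H ≃* A4) :
    ∃ g x v : GL (Fin 2) (ZMod (2 ^ k)), x.val = !![0, -1; 1, -1] ∧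
      v.val = !![1 + 2 ^ (k - 1), 0 - 2 ^ (k - 1); 0, 1 - 2 ^ (k - 1)] ∧
      H.map (MulAut.conj g).toMonoidHom = Subgroup.closure {x, v} := by
  have hk2 : 2 ∣ 2 ^ k := dvd_pow_self 2 (by omega)
  let f : A4 →* GL (Fin 2) (ZMod (2 ^ k)) := H.subtype.comp e.symm.toMonoidHom
  have hf : Function.Injective f := H.subtype_injective.comp e.symm.injective
  have hr : f.range = H := by
    rw [MonoidHom.range_comp, MonoidHom.range_eq_top.2 e.symm.surjective, ← MonoidHom.range_eq_map, H.range_subtype]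
  obtain ⟨h1, h2⟩ := ord3 hk2 (f c).val
    (by rw [← Units.val_pow_eq_pow_val, ← map_pow, show c ^ 3 = 1 by decide, map_one, Units.val_one])
    (by rw [Ne, Units.val_eq_one, map_eq_one_iff f hf]; decide)
  set X := (f c).val with hX
  have hP : IsUnit (!![1, X 0 0; 0, X 1 0] : Matrix (Fin 2) (Fin 2) (ZMod (2 ^ k))) := by
    rw [Matrix.isUnit_iff_isUnit_det]; simpa using h2
  obtain ⟨P, hP⟩ := hP
  have hXP : X * P.val = P.val * !![0, -1; 1, -1] := by
    rw [hP]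
    have p1 := congrFun (congrFun h1 0) 0
    have r1 := congrFun (congrFun h1 1) 0
    simp [pow_two, Matrix.mul_apply, Fin.sum_univ_two] at p1 r1
    ext i j; fin_cases i <;> fin_cases j <;> simp [Matrix.mul_apply, Fin.sum_univ_two]
    · linear_combination p1
    · linear_combination r1
  let g : A4 →* GL (Fin 2) (ZMod (2 ^ k)) := (MulAut.conj P⁻¹).toMonoidHom.comp f
  have hg : Function.Injective g := (MulAut.conj P⁻¹).injective.comp hf
  have hx : (g c).val = !![0, -1; 1, -1] := by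
    change (P⁻¹ * f c * P⁻¹⁻¹).val = _
    rw [inv_inv, Units.val_mul, Units.val_mul, mul_assoc, ← hX, hXP, ← mul_assoc, Units.inv_mul, one_mul]
  have hxi : ((g c)⁻¹).val = !![-1, 1; -1, 0] := by
    apply Units.inv_eq_of_mul_eq_one_right
    rw [hx]; simp [Matrix.one_fin_two]
  have hH : H.map (MulAut.conj P⁻¹).toMonoidHom = Subgroup.closure {g c, g d} := by
    rw [← hr, ← MonoidHom.range_comp, MonoidHom.range_eq_map, ← gen, MonoidHom.map_closure, Set.image_pair]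
  have hu : IsUnit (3 : ZMod (2 ^ k)) := unit_of hk2 _ (by rw [map_ofNat]; decide)
  obtain ⟨u, hu⟩ := hu.exists_left_inv
  obtain ⟨b0, b1, hb0, hb1, hv⟩ := alg u hu (g d).val
    (by rw [← Units.val_mul, ← map_mul, show d * d = 1 by decide, map_one, Units.val_one])
    (by
      rw [← hx, ← hxi, ← map_inv]
      simp only [← Units.val_mul, ← map_mul]
      rw [show d * (c * d * c⁻¹) = c⁻¹ * d * c by decide])
    (by
      rw [← hx, ← hxi, ← map_inv]
      simp only [← Units.val_mul, ← map_mul]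
      rw [show (c * d * c⁻¹) * d = c⁻¹ * d * c by decide])
  have ht : ∀ b : ZMod (2 ^ k), -b = b → b = 0 ∨ b = 2 ^ (k - 1) := by
    intro b hb
    refine ((ZMod.neg_eq_self_iff b).1 hb).imp_right fun h => ?_
    have : b.val = 2 ^ (k - 1) := by
      have : 2 ^ k = 2 * 2 ^ (k - 1) := by rw [← pow_succ']; congr 1; omega
      omega
    rw [← ZMod.natCast_zmod_val b, this]; push_cast; rfl
  rcases ht b0 hb0 with h0 | h0 <;> rcases ht b1 hb1 with h1 | h1
  · exfalso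
    rw [h0, h1] at hv
    have : g d = 1 := Units.ext (by rw [hv]; simp [Matrix.one_fin_two])
    exact absurd ((map_eq_one_iff g hg).1 this) (by decide)
  · refine ⟨P⁻¹, g c, g c * g d * (g c)⁻¹, hx, ?_, hH.trans (clo _ _ _ 1 (by group)).symm⟩
    rw [Units.val_mul, Units.val_mul, hx, hxi, hv, h0, ← h1]
    ext i j; fin_cases i <;> fin_cases j <;> simp [Matrix.mul_apply, Fin.sum_univ_two] <;>
      first | linear_combination hb1 | linear_combination -hb1 | ring
  · exact ⟨P⁻¹, g c, g d, hx, by rw [hv, h0, h1], hH⟩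
  · refine ⟨P⁻¹, g c, (g c)⁻¹ * g d * g c, hx, ?_, hH.trans (clo _ _ _ (-1) (by group)).symm⟩
    rw [Units.val_mul, Units.val_mul, hx, hxi, hv, h0, ← h1]
    ext i j; fin_cases i <;> fin_cases j <;> simp [Matrix.mul_apply, Fin.sum_univ_two] <;>
      first | linear_combination hb1 | linear_combination -hb1 | ring

/-- For k ≥ 2, any two subgroups of GL₂(ℤ/2ᵏℤ) (the automorphism group of the homocyclic group ℤ/2ᵏ × ℤ/2ᵏ) that are isomorphic to the alternating group of degree 4 are conjugate. -/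
theorem result (k : ℕ) (hk : 2 ≤ k) (H₁ H₂ : Subgroup (GL (Fin 2) (ZMod (2 ^ k)))) (h₁ : Nonempty (↥H₁ ≃* ↥(alternatingGroup (Fin 4)))) (h₂ : Nonempty (↥H₂ ≃* ↥(alternatingGroup (Fin 4)))) : ∃ g : GL (Fin 2) (ZMod (2 ^ k)), H₂ = H₁.map (MulAut.conj g).toMonoidHom := by
  obtain ⟨e₁⟩ := h₁
  obtain ⟨e₂⟩ := h₂
  obtain ⟨g₁, x₁, v₁, a1, b1, c1⟩ := core hk H₁ e₁
  obtain ⟨g₂, x₂, v₂, a2, b2, c2⟩ := core hk H₂ e₂
  obtain rfl : x₁ = x₂ := Units.ext (a1.trans a2.symm)
  obtain rfl : v₁ = v₂ := Units.ext (b1.trans b2.symm)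
  refine ⟨g₂⁻¹ * g₁, ?_⟩
  apply Subgroup.map_injective (f := (MulAut.conj g₂).toMonoidHom) (MulAut.conj g₂).injective
  rw [c2, ← c1, Subgroup.map_map]
  congr 1
  ext x : 1
  simp [mul_assoc]

end Cfsg.Agent.S2874
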