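import Cfsg.Statements.S2880
import Cfsg.Agent.H0.ES2

set_option autoImplicit false
open Cfsg

open Subgroup H19 H0
open scoped commutatorElement

namespace Cfsg.Agent.S2880

/-- Let E be an extraspecial 2-group of order 2^(2m+1) of plus type, that is, containing an elementary abelian subgroup of order 2^(m+1) (equivalently, a central product of m dihedral groups of order 8). Then E has exactly 2^(2m) − 2^m elements of order 4. -/
theorem result {E : Type*} [Group E] [Finite E] (m : ℕ) (hm : 1 ≤ m) (hE : Cfsg.IsExtraspecial 2 E) (hcard : Nat.card E = 2 ^ (2 * m + 1)) (hplus : ∃ A : Subgroup E, Cfsg.IsElementaryAbelian 2 A ∧ Nat.card A = 2 ^ (m + 1)) : Nat.card {x : E // orderOf x = 4} = 2 ^ (2 * m) - 2 ^ m := by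
  classical
  obtain ⟨z, h⟩ := exists_ES_top hE
  have h1 := h.count_plus hcard (hasEA_top.2 hplus)
  have := Fintype.ofFinite E
  have h2 : Nat.card {x : E // orderOf x = 4} = Nat.card {x : E // ¬ x ^ 2 = 1} :=
    Nat.card_congr (Equiv.subtypeEquivRight fun x => ⟨fun e e2 => by
      have := orderOf_dvd_of_pow_eq_one e2
      rw [e] at this; omega, fun e => by
      have : Fact (Nat.Prime 2) := ⟨Nat.prime_two⟩
      exact orderOf_eq_prime_pow (p := 2) (n := 1) e (h.pow4 trivial)⟩)
  rw [h2, Nat.card_eq_fintype_card, Fintype.card_subtype_compl, ← Nat.card_eq_fintype_card,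
    ← Nat.card_eq_fintype_card, h1, hcard, pow_succ]
  omega

end Cfsg.Agent.S2880
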