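import Cfsg.Statements.S2881
import Cfsg.Agent.H4.R2a
import Cfsg.Agent.H0.ES2

set_option autoImplicit false
open Cfsg

namespace Cfsg.Agent.S2881

/-- Let E be an extraspecial 2-group of order 2^(2m+1) of plus type (containing an elementary abelian subgroup of order 2^(m+1)), and let ω be an automorphism of E of order 5 whose fixed points are exactly the centre of E. Then m is divisible by 4. -/
theorem result {E : Type*} [Group E] [Finite E] (m : ℕ) (hm : 1 ≤ m) (hE : Cfsg.IsExtraspecial 2 E) (hcard : Nat.card E = 2 ^ (2 * m + 1)) (hplus : ∃ A : Subgroup E, Cfsg.IsElementaryAbelian 2 A ∧ Nat.card A = 2 ^ (m + 1)) (ω : E ≃* E) (hω : orderOf ω = 5) (hfix : ∀ x : E, ω x = x ↔ x ∈ Subgroup.center E) : 4 ∣ m := by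
  open H4 Subgroup in
  obtain ⟨z, h⟩ := H0.exists_ES_top hE
  have h1 : Nat.card {x : E // x ^ 2 = 1} = _ := h.count_plus hcard (H0.hasEA_top.2 hplus)
  have hF : Fx (ω ^ 5 ^ 0) = center E := Subgroup.ext fun x => by simpa [mem_Fx] using hfix x
  have hZ : center E = zpowers z := by
    rw [← h.center_eq]; ext x; simp [mem_center_iff, mem_centralizer_iff]
  have h2 : cnt (fun x : E => x ∈ center E) = 2 := by rw [hZ]; exact h.card_zp
  have h3 := dvd_cnt (r := 5) (j := 0) (by norm_num) hω (fun x => x ^ 2 = 1) fun x hx => by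
    rw [← map_pow, hx, map_one]
  have h4 := dvd_cnt (r := 5) (j := 0) (by norm_num) hω (fun x => True) fun x hx => hx
  rw [hF] at h3 h4
  have h5 := cnt_add (fun x : E => x ^ 2 = 1) (· ∈ center E)
  have h6 := cnt_add (fun x : E => True) (· ∈ center E)
  rw [cnt_congr' (P := fun x => x ^ 2 = 1 ∧ x ∈ center E) (P' := (· ∈ center E)) fun x => ⟨fun h => h.2, fun hx => ⟨by
    rw [hZ, h.mem_zp] at hx; rcases hx with rfl | rfl
    · simp
    · exact h.ord ▸ pow_orderOf_eq_one _, hx⟩⟩, h2, show cnt (fun x : E => x ^ 2 = 1) = _ from h1] at h5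
  rw [cnt_congr' (P := fun x => True ∧ x ∈ center E) (P' := (· ∈ center E)) fun x => ⟨fun h => h.2, fun hx => ⟨trivial, hx⟩⟩, h2,
    show cnt (fun _ : E => True) = _ from (Nat.card_congr (Equiv.Set.univ E)).trans hcard] at h6
  have e1 : 2 ^ m % 5 = 2 ^ (m % 4) % 5 := by
    conv_lhs => rw [← Nat.div_add_mod m 4, pow_add, pow_mul, Nat.mul_mod, Nat.pow_mod]
    simp
  have e2 : 2 ^ (2 * m) % 5 = (2 ^ m % 5) ^ 2 % 5 := by rw [← Nat.pow_mod, ← pow_mul, mul_comm]
  rw [e1] at e2
  rw [pow_succ] at h6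
  have : m % 4 < 4 := Nat.mod_lt _ (by norm_num)
  refine Nat.dvd_of_mod_eq_zero ?_
  generalize m % 4 = r at *
  interval_cases r <;> omega

end Cfsg.Agent.S2881
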