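import Cfsg.Statements.S2928
import Cfsg.Agent.H21.SymSyl4

set_option autoImplicit false
open Cfsg

namespace Cfsg.Agent.S2928

open H21 Subgroup Equiv Equiv.Perm
open scoped Pointwise Nat commutatorElement

/-- Let n ≥ 8 and let H be a subgroup of the symmetric group of degree n whose generalized Fitting subgroup F*(H) is quasisimple. If H contains a Sylow 2-subgroup of the alternating group of degree n, then F*(H) is isomorphic to an alternating group of degree m for some m ∈ {n − 3, n − 2, n − 1, n}. -/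
theorem result (n : ℕ) (hn : 8 ≤ n) (H : Subgroup (Equiv.Perm (Fin n))) (hF : Cfsg.IsQuasisimple ↥(Cfsg.generalizedFittingSubgroup ↥H)) (hS : ∃ P : Sylow 2 ↥(alternatingGroup (Fin n)), ((P : Subgroup ↥(alternatingGroup (Fin n))).map (alternatingGroup (Fin n)).subtype) ≤ H) : ∃ m : ℕ, (m = n - 3 ∨ m = n - 2 ∨ m = n - 1 ∨ m = n) ∧ Nonempty (↥(Cfsg.generalizedFittingSubgroup ↥H) ≃* ↥(alternatingGroup (Fin m))) := by
  classical
  obtain ⟨S, hS⟩ := hS
  obtain ⟨P, hP⟩ := exists_sylow_alt S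
  obtain ⟨e, Q, h⟩ := exists_wr P
  have h1 : ∀ a b, tau e a * tau e b ∈ H := fun a b => hS (hP.ge ⟨h.ge (mul_mem (tau_mem e _ a)
    (tau_mem e _ b)), by simp [mem_alternatingGroup, sign_tau]⟩)
  obtain ⟨c, hc, hc'⟩ : ∃ c ∈ H, c.IsThreeCycle := by
    by_contra k
    exact not_quasisimple e (Fintype.card_fin _) h1 (by simpa using k) (by simp; omega) hF
  obtain ⟨s, h2, h3, h4⟩ := gf_alt hF hc hc'
  have h5 := s.card_le_univ
  rw [Fintype.card_fin] at h5
  refine ⟨_, ?_, h4⟩
  suffices n ≤ s.card + 3 by omega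
  have h6 : ∀ c a, e (c, a) ∈ s → ∀ d, e (d, a) ∈ s := fun c a k d => by
    obtain ⟨t, k1, k2, k3⟩ := (h2 _).1 k
    obtain ⟨b, hb⟩ := Fintype.exists_ne_of_one_lt_card (by simp; omega) a
    rcases t2_cases c d with rfl | rfl
    · exact k
    refine (h2 _).2 ⟨_, mul_mem (mul_mem (h1 a b) k1) (inv_mem (h1 a b)), cycleType_conj.trans k2, ?_⟩
    have : (tau e a * tau e b) (e (c, a)) = e (t2 * c, a) := by
      rw [Perm.mul_apply, tau_apply_ne e hb.symm, tau_apply]
    rw [← this]
    generalize tau e a * tau e b = u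
    simpa using k3
  have h7 : ∀ a b, (∀ c, e (c, a) ∉ s) → (∀ c, e (c, b) ∉ s) → a = b := fun a b ha hb => by
    by_contra k
    have := congrArg (· (e (1, a))) (h3 _ (h1 a b) fun x hx => by
      rw [Perm.mul_apply, tau_apply_of_ne e fun c (k : x = _) => hb c (k ▸ hx),
        tau_apply_of_ne e fun c (k : x = _) => ha c (k ▸ hx)])
    simp only [Perm.mul_apply, tau_apply_ne e k, tau_apply] at this
    exact t2_mul_ne 1 (by simpa using this)
  obtain ⟨a, ha⟩ : ∃ a, ∀ b, b ≠ a → ∀ c, e (c, b) ∈ s := by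
    by_cases k : ∃ a, ∀ c, e (c, a) ∉ s
    · obtain ⟨a, ha⟩ := k
      exact ⟨a, fun b hb c => by_contra fun k => hb (h7 b a (fun d k' => k (h6 d b k' c)) ha)⟩
    · push Not at k
      exact ⟨⟨0, by simp; omega⟩, fun b _ c => (k b).elim fun d k => h6 d b k c⟩
  have h8 := card_compl_lt (s := insert (e (1, a)) (insert (e (t2, a)) s)) e (Fintype.card_fin _)
    fun ⟨c, b⟩ => by
      by_cases k : b = a
      · rcases t2_cases 1 c with rfl | rfl <;> simp [k]
      · simp [ha b k c]
  have := Finset.card_insert_le (e (1, a)) (insert (e (t2, a)) s)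
  have := Finset.card_insert_le (e (t2, a)) s
  have := Fintype.card_fin n
  omega

end Cfsg.Agent.S2928
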