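import Cfsg.Statements.S2929
import Cfsg.Agent.H21.SymSyl4

set_option autoImplicit false
open Cfsg

namespace Cfsg.Agent.S2929

open H21 Subgroup Equiv Equiv.Perm
open scoped Pointwise Nat commutatorElement

/-- Let n ≥ 5 and let H be a subgroup of the symmetric group of degree n whose generalized Fitting subgroup F*(H) is quasisimple. If H contains a Sylow 3-subgroup of the symmetric group, then F*(H) is isomorphic to an alternating group of degree m for some m ∈ {n − 2, n − 1, n}. -/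
theorem result (n : ℕ) (hn : 5 ≤ n) (H : Subgroup (Equiv.Perm (Fin n))) (hF : Cfsg.IsQuasisimple ↥(Cfsg.generalizedFittingSubgroup ↥H)) (hS : ∃ P : Sylow 3 (Equiv.Perm (Fin n)), (P : Subgroup (Equiv.Perm (Fin n))) ≤ H) : ∃ m : ℕ, (m = n - 2 ∨ m = n - 1 ∨ m = n) ∧ Nonempty (↥(Cfsg.generalizedFittingSubgroup ↥H) ≃* ↥(alternatingGroup (Fin m))) := by
  classical
  obtain ⟨P, hP⟩ := hS
  obtain ⟨e, Q, h⟩ := exists_wr P
  obtain ⟨t, ht⟩ := exists_ne (1 : Cp 3)
  have h1 : ∀ b, wrEmb e (SemidirectProduct.inl (Pi.mulSingle b t)) ∈ H := fun b =>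
    hP (h.ge ⟨_, by simp, rfl⟩)
  obtain ⟨s, h2, -, h3⟩ := gf_alt hF (h1 ⟨0, by simp; omega⟩) (single_cycle e ht _)
  have h4 := card_compl_lt e (Fintype.card_fin _) fun ⟨c, b⟩ =>
    (h2 _).2 ⟨_, h1 b, single_cycle e ht b, by simpa [single_apply] using ht⟩
  have h5 := s.card_le_univ
  rw [Fintype.card_fin] at h4 h5
  exact ⟨_, by omega, h3⟩

end Cfsg.Agent.S2929
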