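import Cfsg.Statements.S2930
import Cfsg.Agent.H21.SymSyl4

set_option autoImplicit false
open Cfsg

namespace Cfsg.Agent.S2930

open H21 Subgroup Equiv Equiv.Perm
open scoped Pointwise Nat commutatorElement

/-- Let X be a finite 3-minimal group (a Sylow 3-subgroup is not normal and lies in a unique maximal subgroup) whose generalized Fitting subgroup is isomorphic to an alternating group of degree n ≥ 5. Then X = F*(X), and n = 6, n = 9, or n = 3ᵃ + 1 for some a ≥ 2. -/
theorem result {X : Type*} [Group X] [Finite X] (hX : Cfsg.IsPMinimal 3 X) (n : ℕ) (hn : 5 ≤ n) (hF : Nonempty (↥(Cfsg.generalizedFittingSubgroup X) ≃* ↥(alternatingGroup (Fin n)))) : Cfsg.generalizedFittingSubgroup X = ⊤ ∧ (n = 6 ∨ n = 9 ∨ ∃ a : ℕ, 2 ≤ a ∧ n = 3 ^ a + 1) := by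
  obtain ⟨f⟩ := hF
  have h5 : 5 ≤ Fintype.card (Fin n) := by simpa using hn
  have hs := alternatingGroup.isSimpleGroup (α := Fin n) (by simpa using hn)
  have hT : generalizedFittingSubgroup X = ⊤ := by
    obtain ⟨S⟩ : Nonempty (Sylow 3 X) := inferInstance
    obtain ⟨M, h1, h2, h3⟩ := unique_coatom_iff.1 (hX S).2
    have hS : S.1 ≤ generalizedFittingSubgroup X := fun g hg => by
      refine mem_of_pow_four_mem ?_ ?_
      · obtain ⟨a, ha⟩ := aut_pow_four_mem h5 (MulAut.congr f (MulAut.conjNormal g))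
        rw [← map_pow, ← map_pow] at ha
        refine (mul_mem_cancel_left (inv_mem (f.symm a).2)).1 (H1.centralizer_gf_le fun y hy => ?_)
        have := congrArg (fun x => (f.symm (x (f ⟨y, hy⟩)) : X)) ha
        simp only [MulAut.conj_apply, map_mul, map_inv, MulEquiv.symm_apply_apply, MulAut.congr_apply,
          MulEquiv.trans_apply, Subgroup.coe_mul, Subgroup.coe_inv, MulAut.conjNormal_apply] at this
        rw [mul_assoc, eq_inv_mul_iff_mul_eq, mul_inv_eq_iff_eq_mul.1 this.symm]
        group
      · obtain ⟨k, hk⟩ := IsPGroup.iff_orderOf.1 S.isPGroup' ⟨g, hg⟩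
        rw [← Subgroup.orderOf_coe] at hk
        exact hk ▸ Odd.pow (by decide)
    by_contra k
    have := Sylow.normalizer_sup_eq_top' S hS
    exact h1 (top_le_iff.1 (this.ge.trans (sup_le (h3 _ le_normalizer fun e =>
      (hX S).1 (normalizer_eq_top_iff.1 e)) (h3 _ hS k))))
  refine ⟨hT, ?_⟩
  let g : X ≃* alternatingGroup (Fin n) :=
    topEquiv.symm.trans ((MulEquiv.subgroupCongr hT.symm).trans f)
  obtain ⟨S⟩ : Nonempty (Sylow 3 X) := inferInstance
  obtain ⟨M, h1, h2, h3⟩ := unique_coatom_iff.1 (hX S).2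
  have := cases_of_unique_alt h5 (S.mapSurjective (f := g.toMonoidHom) g.surjective)
    (unique_coatom_iff.2 ⟨M.map g.toMonoidHom, fun e => h1 (by
      rw [← comap_map_eq_self_of_injective (f := g.toMonoidHom) g.injective M, e, comap_top]),
      map_mono h2, fun Y hY k => by
        rw [← map_comap_eq_self_of_surjective (f := g.toMonoidHom) g.surjective Y] at k ⊢
        exact map_mono (h3 _ (map_le_iff_le_comap.1 hY) fun e => k (by
          rw [e]; exact map_top_of_surjective _ g.surjective))⟩)
  rw [Fintype.card_fin] at this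
  rcases this with ⟨k, e⟩ | e | e | e
  · refine .inr (.inr ⟨k, ?_, e⟩)
    by_contra h
    have : k ≤ 1 := by omega
    interval_cases k <;> omega
  all_goals omega

end Cfsg.Agent.S2930
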