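import Cfsg.Statements.S2933
import Cfsg.Agent.H4.Sp4

set_option autoImplicit false
open Cfsg

namespace Cfsg.Agent.S2933

/-- Let T be a 2-subgroup of a finite group G, V ≤ Z(T) a four-group, and t, ρ ∈ N_G(V) ∩ N_G(T) elements of order 2 and 3 with t commuting with ρ and with V. If [V, ρ] = V and C_T(t) = V, then T is elementary abelian of order 16, or homocyclic of rank 2 (ℤ/2ⁿ × ℤ/2ⁿ for some n ≥ 1), or isomorphic to a Sylow 2-subgroup of PSL₃(4) or of PSU₃(4). -/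
theorem result {G : Type*} [Group G] [Finite G] (T V : Subgroup G) (hT : IsPGroup 2 ↥T) (hVT : V ≤ T ⊓ Subgroup.centralizer (T : Set G)) (hV : Nat.card ↥V = 4 ∧ ∀ v ∈ V, v ^ 2 = 1) (t ρ : G) (ht : orderOf t = 2) (hρ : orderOf ρ = 3) (htn : t ∈ Subgroup.normalizer (V : Set G) ⊓ Subgroup.normalizer (T : Set G)) (hρn : ρ ∈ Subgroup.normalizer (V : Set G) ⊓ Subgroup.normalizer (T : Set G)) (htρ : t * ρ = ρ * t) (htV : t ∈ Subgroup.centralizer (V : Set G)) (hVρ : ⁅V, Subgroup.zpowers ρ⁆ = V) (hCt : T ⊓ Subgroup.centralizer ({t} : Set G) = V) : (Nat.card ↥T = 16 ∧ ∀ x ∈ T, x ^ 2 = 1) ∨ (∃ n : ℕ, 1 ≤ n ∧ Nonempty (↥T ≃* Multiplicative (ZMod (2 ^ n)) × Multiplicative (ZMod (2 ^ n)))) ∨ (∃ (F : Type) (_ : Field F) (_ : Fintype F), Fintype.card F = 4 ∧ ∀ P : Sylow 2 (Matrix.ProjectiveSpecialLinearGroup (Fin 3) F), Nonempty (↥T ≃* ↥(P : Subgroup (Matrix.ProjectiveSpecialLinearGroup (Fin 3) F)))) ∨ (∃ (F : Type) (_ : Field F) (_ : Fintype F),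 Fintype.card F = 16 ∧ ∀ P : Sylow 2 (Cfsg.PSU 3 F 4), Nonempty (↥T ≃* ↥(P : Subgroup (Cfsg.PSU 3 F 4)))) := by
  open H4 Subgroup in
  let α : MulAut T := T.normalizerMonoidHom ⟨t, htn.2⟩
  let k : MulAut T := T.normalizerMonoidHom ⟨ρ, hρn.2⟩
  have eα : ∀ x : T, (α x : G) = t * x * t⁻¹ := fun _ => rfl
  have ek : ∀ x : T, (k x : G) = ρ * x * ρ⁻¹ := fun _ => rfl
  have hα : α * α = 1 := by
    rw [← map_mul, ← map_one T.normalizerMonoidHom]; congr 1
    exact Subtype.ext (by rw [coe_mul, ← sq, ← ht, pow_orderOf_eq_one]; rfl)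
  have hc : Commute α k := by
    show _ * _ = _ * _
    rw [← map_mul, ← map_mul]; congr 1; exact Subtype.ext htρ
  have k3 : k ^ 3 = 1 := by
    rw [← map_pow, ← map_one T.normalizerMonoidHom]; congr 1
    exact Subtype.ext (by rw [coe_pow, ← hρ, pow_orderOf_eq_one]; rfl)
  have hVT' : V ≤ T := hVT.trans inf_le_left
  have cC : Nat.card (V.subgroupOf T) = 2 ^ 2 := by
    rw [Nat.card_congr (subgroupOfEquivOfLe hVT').toEquiv, hV.1]; rfl
  have hC : ∀ x : T, x ∈ V.subgroupOf T ↔ α x = x := fun x => by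
    rw [mem_subgroupOf, ← hCt, mem_inf, mem_centralizer_singleton_iff, Subtype.ext_iff, eα,
      mul_inv_eq_iff_eq_mul, eq_comm]
    simp
  have hi : Inv k (V.subgroupOf T) := fun x hx => (mem_normalizer_iff.1 hρn.1 _).1 hx
  have fr : ∀ u ∈ V.subgroupOf T, u ≠ 1 → k u ≠ u := fun u hu u1 e => by
    have hu' : (u : G) ∈ V := hu
    have e1 : ρ ∈ centralizer (zpowers (u : G) : Set G) := by
      rw [H4.centralizer_zpowers, mem_centralizer_singleton_iff, ← mul_inv_eq_iff_eq_mul]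
      exact congrArg Subtype.val e
    have o2 : Nat.card (zpowers (u : G)) = 2 := by
      rw [Nat.card_zpowers]; exact orderOf_eq_prime (hV.2 _ hu') fun h => u1 (Subtype.ext h)
    have hi2 : ((zpowers (u : G)).subgroupOf V).index = 2 := by
      have := card_mul_relIndex (zpowers_le.2 hu')
      rw [o2, hV.1] at this; exact (by omega : (zpowers (u : G)).relIndex V = 2)
    have : ⁅V, zpowers ρ⁆ ≤ zpowers (u : G) := commutator_le.2 fun v hv g hg => by
      have g1 := mem_normalizer_iff.1 (zpowers_le.2 hρn.1 hg)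
      have g2 := mem_normalizer_iff.1 (centralizer_le_normalizer _ (zpowers_le.2 e1 hg))
      have := (mul_mem_iff_of_index_two hi2 (a := ⟨v, hv⟩) (b := ⟨_, (g1 _).1 (V.inv_mem hv)⟩)).2 (by
        simp only [mem_subgroupOf]; rw [← g2, inv_mem_iff])
      simpa [mem_subgroupOf, commutatorElement_def, mul_assoc] using this
    have := card_le_of_le (hVρ ▸ this)
    omega
  have ok : orderOf k = 3 := orderOf_eq_prime k3 fun e => by
    obtain ⟨⟨u, hu⟩, u1⟩ := ne_bot_iff_exists_ne_one.1 (show V.subgroupOf T ≠ ⊥ from fun e => by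
      rw [e] at cC; simp at cC)
    exact fr u hu (by simpa using u1) (by simp [e])
  have htr := trans_of_free (W := ⊥) hi inv_bot (fun j u hu u1 e => by
    have e := mul_inv_eq_one.1 (mem_bot.1 e)
    rw [← pow_mod_orderOf, ok] at e ⊢
    have : j % 3 < 3 := Nat.mod_lt _ (by norm_num)
    generalize j % 3 = i at e this
    interval_cases i
    · simp
    · exact absurd (by simpa using e) (fr u hu u1)
    · refine absurd ?_ (fr u hu u1)
      conv_lhs => rw [← e]
      exact DFunLike.congr_fun k3 u) (by rw [relIndex_bot_left, cC, ok]; rfl)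
  obtain ⟨F, _, _, _, l, A, c, hF, h, h4, ho, hS⟩ := exists_dch hT hc hα le_rfl ok hC
    (fun x hx => Subtype.ext (by simpa [sq] using hV.2 x hx)) cC fun x y hx hy x1 y1 =>
      (htr x hx x1 y hy y1).imp fun j hj => mul_inv_eq_one.1 (mem_bot.1 hj)
  by_cases hab : Cm (⊤ : Subgroup T)
  · rcases h.abelian hα hab with h1 | h1
    · obtain ⟨n, hn, ⟨e⟩⟩ := (hS h1).1.equiv_homocyclic hab (by rw [(hS h1).2, cC]; norm_num)
      exact .inr (.inl ⟨n, hn, ⟨e.trans (MulEquiv.prodMultiplicative _ _)⟩⟩)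
    · exact .inl ⟨by rw [h1.1, hF]; norm_num, fun x hx => by simpa [sq] using congrArg Subtype.val (h1.2 ⟨x, hx⟩)⟩
  · obtain ⟨_, _, _, s, t, r, q, ht⟩ := h.main hα ho h4 (fun e => (hS e).1) hab
    rcases q.cases ht hF (by omega) with ⟨K, _, _, h1, h2⟩ | ⟨K, _, _, h1, h2⟩
    · exact .inr (.inr (.inr ⟨K, inferInstance, inferInstance, h1, h2⟩))
    · exact .inr (.inr (.inl ⟨K, inferInstance, inferInstance, h1, h2⟩))

end Cfsg.Agent.S2933
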