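import Cfsg.Statements.S2969
import Cfsg.Agent.H7.Iso

set_option autoImplicit false
open Cfsg

open H7 H28 Subgroup

namespace Cfsg.Agent.S2969

/-- Let G be a finite group, p a prime and x ∈ G an element of p-power order which is isolated in G. If R is a p-subgroup of G containing x, then N_G(R) ≤ C_G(x); in particular x lies in the centre of R. Moreover, if x lies in a normal subgroup N of a subgroup H of G, then H = N·C_H(x). -/
theorem result {G : Type*} [Group G] [Finite G] {p : ℕ} [Fact p.Prime] (x : G) (hx : ∃ k : ℕ, orderOf x = p ^ k) (hiso : Cfsg.IsIsolated x) : (∀ R : Subgroup G, IsPGroup p ↥R → x ∈ R → Subgroup.normalizer (R : Set G) ≤ Subgroup.centralizer ({x} : Set G)) ∧ (∀ H N : Subgroup G, N ≤ H → H ≤ Subgroup.normalizer (N : Set G) → x ∈ N → N ⊔ (H ⊓ Subgroup.centralizer ({x} : Set G)) = H) := by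
  refine ⟨fun R hR h => isolated_normalizer_le hiso hR h, fun H N h1 h2 h3 =>
    le_antisymm (sup_le h1 inf_le_left) fun g hg => ?_⟩
  obtain ⟨k, hk, h4⟩ := isolated_exists_mul_mem hiso hx h3 (conj_mem_of_mem_normalizer (h2 hg) h3)
  simpa using mul_mem_sup hk (show k⁻¹ * g ∈ H ⊓ _ from ⟨H.mul_mem (H.inv_mem (h1 hk)) hg, h4⟩)

end Cfsg.Agent.S2969
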