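import Cfsg.Statements.S2981
import Cfsg.Agent.H29.BHS2

set_option autoImplicit false
open Cfsg

namespace Cfsg.Agent.S2981

open H28 H29 H29.Rp Subgroup


/-- The local C**(G,T)-Theorem for minimal parabolic groups. Let G be a finite p-minimal group (a Sylow p-subgroup T is not normal and lies in exactly one maximal subgroup) of characteristic p (C_G(O_p(G)) ≤ O_p(G)), and suppose G ≠ C**(G,T), the subgroup generated by C_G(Ω₁(Z(T))) and N_G(J(T)) (J(T) generated by the elementary abelian p-subgroups of T of largest order). Put V = Ω₁(Z(O_p(G))) and C = C_G(V). Then there are subgroups E₁, …, E_r of G containing C such that: J(G)TC = G and the E_i C/C form an internal direct product equal to J(G)C/C; any two of the E_i are conjugate by an element of T; V = C_V(⟨E_i⟩)·∏[V, E_i] with [V, E_i, E_j] = 1 for i ≠ j; for some n ≥ 1, each E_i/C is isomorphic to SL₂(pⁿ), or p = 2 and to the symmetric group of degree 2ⁿ + 1; and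 E_i acts on [V, E_i]/C_{[V,E_i]}(E_i) as the natural two-dimensional SL₂(pⁿ)-module, respectively as the symmetric group of degree 2ⁿ+1 on its even-weight permutation module. -/
theorem result {G : Type*} [Group G] [Finite G] {p : ℕ} [Fact p.Prime] (hmin : Cfsg.IsPMinimal p G) (hG : Subgroup.centralizer (Cfsg.pCore p G : Set G) ≤ Cfsg.pCore p G) (T : Sylow p G) (hne : Cfsg.cStarStarOf p (T : Subgroup G) ≠ ⊤) : ∃ (r : ℕ) (E : Fin r → Subgroup G), (∀ i, Subgroup.centralizer (Cfsg.omegaOneCenter p (Cfsg.pCore p G) : Set G) ≤ E i) ∧ Cfsg.thompsonSubgroup p G ⊔ (T : Subgroup G) ⊔ Subgroup.centralizer (Cfsg.omegaOneCenter p (Cfsg.pCore p G) : Set G) = ⊤ ∧ (⨆ i, E i) = Cfsg.thompsonSubgroup p G ⊔ Subgroup.centralizer (Cfsg.omegaOneCenter p (Cfsg.pCore p G) : Set G) ∧ (∀ i j, i ≠ j → ⁅E i, E j⁆ ≤ Subgroup.centralizer (Cfsg.omegaOneCenter p (Cfsg.pCore p G) : Set G)) ∧ (∀ i, E i ⊓ (⨆ j ∈ {j | j ≠ i}, E j) ≤ Subgroup.centralizer (Cfsg.omegaOneCenter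 p (Cfsg.pCore p G) : Set G)) ∧ (∀ i j, ∃ t ∈ (T : Subgroup G), (E i).map (MulAut.conj t).toMonoidHom = E j) ∧ (Cfsg.omegaOneCenter p (Cfsg.pCore p G) ⊓ Subgroup.centralizer ((⨆ i, E i : Subgroup G) : Set G)) ⊔ (⨆ i, ⁅Cfsg.omegaOneCenter p (Cfsg.pCore p G), E i⁆) = Cfsg.omegaOneCenter p (Cfsg.pCore p G) ∧ (∀ i j, i ≠ j → ⁅⁅Cfsg.omegaOneCenter p (Cfsg.pCore p G), E i⁆, E j⁆ = ⊥) ∧ ∀ i, ∃ n : ℕ, 1 ≤ n ∧ ((∃ (F : Type) (_ : Field F) (_ : Fintype F), Fintype.card F = p ^ n ∧ (∃ _ : ((Subgroup.centralizer (Cfsg.omegaOneCenter p (Cfsg.pCore p G) : Set G)).subgroupOf (E i)).Normal, Nonempty (↥(E i) ⧸ (Subgroup.centralizer (Cfsg.omegaOneCenter p (Cfsg.pCore p G) : Set G)).subgroupOf (E i) ≃* Matrix.SpecialLinearGroup (Fin 2) F)) ∧ Cfsg.ActsAsSL2OnSection F ⊤ (E i) ⁅Cfsg.omegaOneCenter p (Cfsg.pCore p G), E i⁆ (⁅Cfsg.omegaOneCenter p (Cfsg.pCore p G), E i⁆ ⊓ Subgroup.centralizer ((E i : Subgroup G) : Set G))) ∨ (p = 2 ∧ (∃ _ : ((Subgroup.centralizer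 (Cfsg.omegaOneCenter p (Cfsg.pCore p G) : Set G)).subgroupOf (E i)).Normal, Nonempty (↥(E i) ⧸ (Subgroup.centralizer (Cfsg.omegaOneCenter p (Cfsg.pCore p G) : Set G)).subgroupOf (E i) ≃* Equiv.Perm (Fin (2 ^ n + 1)))) ∧ Cfsg.ActsAsOddPermModuleOnSection (2 ^ n + 1) ⊤ (E i) ⁅Cfsg.omegaOneCenter p (Cfsg.pCore p G), E i⁆ (⁅Cfsg.omegaOneCenter p (Cfsg.pCore p G), E i⁆ ⊓ Subgroup.centralizer ((E i : Subgroup G) : Set G)))) := by
  obtain ⟨h1, h2⟩ := hmin T
  obtain ⟨M, hu⟩ := existsUnique_coatom_iff.1 h2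
  have hT := isSylowIn_top T
  have hn := mt normal_iff_top_le.2 h1
  have hc : IsCharP p (⊤ : Subgroup G) := by
    rw [IsCharP, pCoreOf_top]; exact inf_le_right.trans hG
  haveI : (omegaOneCenter p (pCore p G)).Normal :=
    normal_iff_top_le.2 (le_normalizer_omegaOneCenter le_normalizer_of_normal)
  have hz := hc.omegaOneCenter_le hT
  rw [pCoreOf_top] at hz
  have hM : cStarStarOf p (T : Subgroup G) ≤ M := (hu.eq_or_le
    ((le_centralizer_omegaOneCenter p _).trans le_sup_left) le_top).resolve_left hne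
  have hC := (centralizer_anti hz).trans (le_sup_left.trans hM)
  obtain ⟨r, E, -, h⟩ := cstarstar hT (hu.nclIn_eq hT hn) hu (ea_omegaOneCenter p (pCore p G))
    (fun e => hu.not_le ((le_centralizer_comm.1 ((le_inf hz (omegaOneCenter_le_centralizer p _)).trans
      e)).trans (le_sup_left.trans hM)))
    (red_top_iff.1 ((hu.pIrr hT hn).red le_normalizer_of_normal
      (fun e => hu.not_pResidualOf_le hT (e.trans hC))
      (by rw [pCoreOf_top]; exact le_centralizer_omegaOneCenter p _))) fun e => by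
    have h3 := H9.JJ_eq_of_le ((le_inf (H9.JJ_le p _) e).trans
      (hu.inf_le_pCoreOf hT hC le_normalizer_of_normal)) hT.pCoreOf_le
    refine hu.not_le (le_trans ?_ (le_sup_right.trans hM))
    rw [H9.thompsonSubgroupOf_eq, ← h3, pCoreOf_top]
    exact le_normalizer_of_normal
  exact ⟨r, E, H9.thompsonSubgroup_eq p G ▸ h⟩

end Cfsg.Agent.S2981
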