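import Cfsg.Statements.S2982
import Cfsg.Agent.H29.BB25

set_option autoImplicit false
open Cfsg

namespace Cfsg.Agent.S2982

open H28 Subgroup


/-- Pushing up for minimal parabolic groups. Let G be a finite p-minimal group (a Sylow p-subgroup T is not normal and lies in exactly one maximal subgroup) of characteristic p (C_G(O_p(G)) ≤ O_p(G)). Suppose that no nontrivial characteristic subgroup of the Baumann subgroup B(T) is normal in G and that Ω₁(Z(T)) is not normal in G. Then G has a set of B(T)-blocks with the block structure of the local C*(G,T)-Theorem, every block E with E/O_p(E) alternating of degree 2m+1 (p = 2) has 2m+1 = 2ⁿ+1, and C*(G,T) = (C*(G,T) ∩ ⟨blocks⟩)·T. -/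
theorem result {G : Type*} [Group G] [Finite G] {p : ℕ} [Fact p.Prime] (hmin : Cfsg.IsPMinimal p G) (hG : Subgroup.centralizer (Cfsg.pCore p G : Set G) ≤ Cfsg.pCore p G) (T : Sylow p G) (hchar : ∀ C : Subgroup G, C ≤ Cfsg.baumannSubgroupOf p (T : Subgroup G) → C ≠ ⊥ → (C.subgroupOf (Cfsg.baumannSubgroupOf p (T : Subgroup G))).Characteristic → ¬ C.Normal) (hz : ¬ (Cfsg.omegaOneCenter p (T : Subgroup G)).Normal) : ∃ 𝓑 : Set (Subgroup G), Cfsg.HasBaumannBlockStructure p (T : Subgroup G) 𝓑 ∧ (∀ E ∈ 𝓑, ∀ m : ℕ, Nonempty (↥E ⧸ Cfsg.pCore p ↥E ≃* ↥(alternatingGroup (Fin (2 * m + 1)))) → ∃ n : ℕ, 2 * m + 1 = 2 ^ n + 1) ∧ Cfsg.cStarOf p (T : Subgroup G) = (Cfsg.cStarOf p (T : Subgroup G) ⊓ sSup 𝓑) ⊔ (T : Subgroup G) := by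
  have hc := H28.isCharP_top.2 hG
  have hT := H28.isSylowIn_top T
  have c := H29.BB.cm_star hc hT
  obtain ⟨M, u⟩ := H28.existsUnique_coatom_iff.1 (hmin T).2
  have k : ∀ C : Subgroup G, ¬ C.Normal → (T : Subgroup G) ≤ Subgroup.normalizer (C : Set G) →
      Subgroup.normalizer (C : Set G) ≤ M := fun C h1 h2 =>
    (u.eq_or_le h2 le_top).resolve_left fun e => h1 (H28.normal_iff_top_le.2 e.ge)
  have l : cStarOf p (T : Subgroup G) ≤ M := sup_le ((H28.le_normalizer_of_le_centralizer le_rfl).trans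
    (k _ hz (H28.le_normalizer_omegaOneCenter Subgroup.le_normalizer))) (iSup_le fun ⟨C, h1, h2, h3⟩ =>
      k C (hchar C h1 h2 h3) (H28.map_subtype_subgroupOf h1 ▸ H1.le_normalizer_map_subtype_of_char _
        (by rw [H29.BB.bm_eq]; exact c.nrm T.isPGroup' H29.PU.bm_le le_top)))
  exact ⟨_, H29.BB.hbs hc hT, fun E h => H29.BB.SBk.deg' c hT H29.PU.bm_le u l h,
    (inf_top_eq _).symm.trans (c.eq_sup hT H29.PU.bm_le u l)⟩

end Cfsg.Agent.S2982
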