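import Cfsg.Statements.S2987
import Cfsg.Agent.H29.BB13

set_option autoImplicit false
open Cfsg

namespace Cfsg.Agent.S2987

open H28 Subgroup


/-- Let G be a finite group of characteristic p (C_G(O_p(G)) ≤ O_p(G)) and E a subnormal subgroup of G which is a B(T)-block for some Sylow p-subgroup T of G. Then E is a normal subgroup of the Baumann subgroup B(G) (generated by the B(T) over all Sylow p-subgroups T), E is a B(T')-block for every Sylow p-subgroup T' of G, and every subgroup F that is a B(T')-block for some Sylow p-subgroup T' satisfies F ≤ E or [F, E] = 1. -/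
theorem result {G : Type*} [Group G] [Finite G] {p : ℕ} [Fact p.Prime] (hG : Subgroup.centralizer (Cfsg.pCore p G : Set G) ≤ Cfsg.pCore p G) (E : Subgroup G) (hE : ∃ T : Sylow p G, Cfsg.IsBaumannBlock p (T : Subgroup G) E) (hEs : E.IsSubnormal) : E ≤ Cfsg.baumannSubgroup p G ∧ Cfsg.baumannSubgroup p G ≤ Subgroup.normalizer (E : Set G) ∧ (∀ T' : Sylow p G, Cfsg.IsBaumannBlock p (T' : Subgroup G) E) ∧ ∀ F : Subgroup G, (∃ T' : Sylow p G, Cfsg.IsBaumannBlock p (T' : Subgroup G) F) → F ≤ E ∨ ⁅F, E⁆ = ⊥ := by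
  obtain ⟨T, hE⟩ := hE
  have c := H28.isCharP_top.2 hG
  have a := fun S : Sylow p G => H29.BB.amb_of c (H28.isSylowIn_top S)
  have s := H28.subnIn_top hEs
  obtain ⟨h, hz⟩ := H29.BB.blk_iff.1 hE
  have g : H29.BB.GB p ⊤ E := ⟨le_top, _, a T, h⟩
  refine ⟨h.comm.ge.trans ((H28.comm_comm _ _).le.trans ((H28.commutator_le_nclIn _ _).trans
    (H28.nclIn_le_iff.2 fun x _ => ?_))), iSup_le fun S => H29.BB.bm_eq (p := p) (S : Subgroup G) ▸
      (g.blk s (a S)).nrm, fun S => H29.BB.blk_iff.2 ⟨g.blk s (a S), fun k => hz (H28.commutator_eq_bot_iff.2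
        (H29.BB.kieler_conj c s (H28.isSylowIn_top S) (H28.isSylowIn_top T) (H28.commutator_eq_bot_iff.1 k)))⟩,
    fun F ⟨S, hF⟩ => (g.le_or ⟨le_top, _, a S, (H29.BB.blk_iff.1 hF).1⟩ s).imp_right (H28.comm_comm _ _).trans⟩
  rw [H29.BB.cj_bm, ← H29.BB.bm_eq]
  exact le_iSup (fun S : Sylow p G => Cfsg.baumannSubgroupOf p (S : Subgroup G)) (x • T)

end Cfsg.Agent.S2987
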