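import Cfsg.Statements.S2988
import Cfsg.Agent.H29.PU15

set_option autoImplicit false
universe u
open scoped Pointwise
open Cfsg

namespace Cfsg.Agent.S2988

open H28 H29 H29.PU Subgroup


/-- Let p be a prime and S a nontrivial finite p-group. Write J(S) for the subgroup generated by the abelian subgroups of S of largest order (the large abelian subgroups) and J̃(S) = C_S(Z(J(S))). Unless S satisfies all of the following conditions — S is non-abelian; J(S) = S; Z(S) and Φ(S) are elementary abelian; Φ(S) ≤ Z(S) if p = 2, Φ(S) ≤ Z₂(S) if p = 3, and Φ(S) ≤ Z(S) with S of exponent p if p > 3; some large abelian subgroup is elementary abelian; and for all large abelian subgroups A, B and all subgroups Q of S one has |A|² = |S|·|Z(S)| ≥ |Q|·|Z(Q)| and ⟨A, B⟩ = AB = C_S(A ∩ B) — there exist nontrivial characteristic subgroups S₁ ≤ Z(S) and S₂ ≤ J̃(S) of S, S₂ characteristic in J̃(S), such that whenever S is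 embedded as a Sylow p-subgroup of a finite group G in the basic pushing-up situation, the image of S₁ or of S₂ is normal in G. -/
theorem result {p : ℕ} [Fact p.Prime] (S : Type u) [Group S] [Finite S] [Nontrivial S] (hS : IsPGroup p S) (hexc : ¬ (¬ IsMulCommutative S ∧ Cfsg.thompsonSubgroupA S = ⊤ ∧ Cfsg.IsElementaryAbelian p (Subgroup.center S) ∧ Cfsg.IsElementaryAbelian p (frattini S) ∧ (p = 2 → frattini S ≤ Subgroup.center S) ∧ (p = 3 → frattini S ≤ Subgroup.upperCentralSeries S 2) ∧ (3 < p → frattini S ≤ Subgroup.center S ∧ Monoid.exponent S = p) ∧ (∃ A ∈ Cfsg.maxAbelianSubgroups S, Cfsg.IsElementaryAbelian p A) ∧ (∀ A ∈ Cfsg.maxAbelianSubgroups S, ∀ B ∈ Cfsg.maxAbelianSubgroups S, ∀ Q : Subgroup S, Nat.card ↥A ^ 2 = Nat.card S * Nat.card ↥(Subgroup.center S) ∧ Nat.card ↥Q * Nat.card ↥(Subgroup.center ↥Q) ≤ Nat.card S * Nat.card ↥(Subgroup.center S) ∧ ((A ⊔ B : Subgroup S) : Set S) = (A : Set S)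 * (B : Set S) ∧ A ⊔ B = Subgroup.centralizer ((A ⊓ B : Subgroup S) : Set S)))) : ∃ S₁ S₂ : Subgroup S, S₁ ≠ ⊥ ∧ S₂ ≠ ⊥ ∧ S₁.Characteristic ∧ S₂.Characteristic ∧ S₁ ≤ Subgroup.center S ∧ S₂ ≤ Subgroup.centralizer ((Cfsg.thompsonSubgroupA S ⊓ Subgroup.centralizer (Cfsg.thompsonSubgroupA S : Set S) : Subgroup S) : Set S) ∧ (S₂.subgroupOf (Subgroup.centralizer ((Cfsg.thompsonSubgroupA S ⊓ Subgroup.centralizer (Cfsg.thompsonSubgroupA S : Set S) : Subgroup S) : Set S))).Characteristic ∧ ∀ (G : Type u) [Group G] [Finite G] (P : Subgroup G) (e : S ≃* ↥P), Cfsg.IsPushingUpSituation p P → ((S₁).map ((P.subtype).comp (e : S ≃* ↥P).toMonoidHom)).Normal ∨ ((S₂).map ((P.subtype).comp (e : S ≃* ↥P).toMonoidHom)).Normal := by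
  rw [zj_top]
  suffices ∃ S₁ S₂ : Subgroup S, GN p S₁ S₂ from
    let ⟨S₁, S₂, h⟩ := this; ⟨S₁, S₂, h.n1, h.n2, h.c1, h.c2, h.l1, h.l2, h.c3, h.good.sit⟩
  rcases gn hS with ⟨S₁, S₂, h, e⟩ | ⟨h1, h2, ⟨R, h3, h4⟩, h5⟩
  · exact ⟨S₁, S₂, h⟩
  by_cases hc : IsMulCommutative S
  · exact ⟨_, _, gn_comm hc⟩
  by_cases h : sphi p (⊤ : Subgroup S) = ⊥
  · obtain ⟨⟨a1, a2, a3, a4, a5, a6⟩, a7⟩ := exc hS h1 h2 h3 h4 h5
    obtain ⟨R, hR⟩ := exists_mx p (⊤ : Subgroup S)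
    obtain ⟨b1, b2⟩ := ph_le_iff.1 ((le_sphi hR).trans h.le)
    have b3 := H28.commutator_eq_bot_iff.1 (le_bot_iff.1 b1)
    exact (hexc ⟨hc, a1, a2, a3, a4, a5, a6, ⟨R, H9.mem_maxAbelian_iff.2 (((mn_top.1 hR.mn).iff_maxAb b3).1
      (mn_top.1 hR.mn)), isElementaryAbelian_iff.2 ⟨b3, b2⟩⟩, a7⟩).elim
  · exact ⟨_, _, GN.of_top h1 (center_ne_bot (hS.to_subgroup ⊤) top_ne_bot) h
      (char_of (fun A => A ⊓ 𝐂 A) fun f A hf => map_centralizer_inf hf A A)
      (char_of (fun A => sphi p A) fun f A hf => map_sphi hf A) le_rfl (good_of h1 le_rfl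
        fun G _ _ τ b1 b2 b3 => Or.inr (map_sphi (p := p) b1 ⊤ ▸ b3.nrm_sphi' b2))⟩

end Cfsg.Agent.S2988
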