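import Cfsg.Statements.S2989
import Cfsg.Agent.H29.PU14

set_option autoImplicit false
open Cfsg

namespace Cfsg.Agent.S2989

open H28 H29 H29.PU Subgroup


/-- Let G be a finite group and S a Sylow p-subgroup of G in the basic pushing-up situation (G ≠ 1, C_G(O_p(G)) ≤ O_p(G), S lies in a unique maximal subgroup of G, and some quotient of G is isomorphic to PSL₂ over a field of order a power of p), and suppose that S centralizes Z(J(S)), where J(S) is generated by the abelian subgroups of S of largest order (that is, J̃(S) = C_S(Z(J(S))) = S). Call a subgroup R of S centrally large if |R|·|Z(R)| is as large as possible among subgroups of S, and let S_Φ be the subgroup generated by the Frattini subgroups Φ(Q) of those minimal centrally large subgroups Q of S whose Ω₁(Z(Q)) has the largest order among minimal centrally large subgroups. Then Z(S) or S_Φ is normal in G; and if S_Φ = 1, the minimal centrally large subgroups of S are exactly the abelian subgroups of S of largest order, and at least one of them is elementary abelian. -/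
theorem result {G : Type*} [Group G] [Finite G] {p : ℕ} [Fact p.Prime] (S : Subgroup G) (hE : Cfsg.IsPushingUpSituation p S) (hJ : S ≤ Subgroup.centralizer (Cfsg.centerThompsonAOf S : Set G)) : ((S ⊓ Subgroup.centralizer (S : Set G)).Normal ∨ ((Cfsg.frattiniOfMinimalCLJoin p ↥S).map S.subtype).Normal) ∧ (Cfsg.frattiniOfMinimalCLJoin p ↥S = ⊥ → (∀ Q : Subgroup ↥S, Cfsg.IsMinimalCentrallyLarge Q ↔ Q ∈ Cfsg.maxAbelianSubgroups ↥S) ∧ ∃ A ∈ Cfsg.maxAbelianSubgroups ↥S, Cfsg.IsElementaryAbelian p A) := by
  obtain ⟨hR, hS⟩ := rk1_of_sit hE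
  rw [← zj_zero] at hJ
  rw [← sphi_top hS.isPGroup]
  refine ⟨(hR.cases' hS hJ).imp (fun h => normal_iff_top_le.2 (le_normalizer_of_le_centralizer
    (le_centralizer_comm.1 h))) fun h => ?_, fun h => ?_⟩
  · rw [map_sphi S.subtype_injective, map_top_subtype]; exact normal_iff_top_le.2 (h.nrm_sphi' hS)
  · obtain ⟨R, hR⟩ := exists_mx p (⊤ : Subgroup S)
    obtain ⟨h1, h2⟩ := ph_le_iff.1 ((le_sphi hR).trans h.le)
    have h3 := H28.commutator_eq_bot_iff.1 (le_bot_iff.1 h1)
    have := fun Q => ((mn_top.1 hR.mn).iff_maxAb (X := Q) h3).trans H9.mem_maxAbelian_iff.symm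
    exact ⟨fun Q => isMinimalCentrallyLarge_iff.trans (this Q), R, (this R).1 (mn_top.1 hR.mn),
      isElementaryAbelian_iff.2 ⟨h3, h2⟩⟩

end Cfsg.Agent.S2989
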