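import Cfsg.Statements.S2990
import Cfsg.Agent.H29.PU14

set_option autoImplicit false
open Cfsg

namespace Cfsg.Agent.S2990

open H28 H29 H29.PU Subgroup


/-- Let G be a finite group and S a Sylow p-subgroup of G in the basic pushing-up situation (G ≠ 1, C_G(O_p(G)) ≤ O_p(G), S lies in a unique maximal subgroup of G, and some quotient of G is isomorphic to PSL₂ over a field of order a power of p), and suppose that S centralizes Z(J(S)), where J(S) is generated by the abelian subgroups of S of largest order (that is, J̃(S) = C_S(Z(J(S))) = S). Call a subgroup R of S centrally large if |R|·|Z(R)| is as large as possible among subgroups of S, let Q be a minimal centrally large subgroup of S and let S_MCL be the subgroup generated by all minimal centrally large subgroups of S. Then the derived subgroup [Q, Q] is characteristic in S; Z(S) ∩ [Q, Q] or S_MCL is normal in G; and if [Q, Q] = 1, the minimal centrally large subgroups of S are exactly the abelian subgroups of S of largest order. -/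
theorem result {G : Type*} [Group G] [Finite G] {p : ℕ} [Fact p.Prime] (S : Subgroup G) (hE : Cfsg.IsPushingUpSituation p S) (hJ : S ≤ Subgroup.centralizer (Cfsg.centerThompsonAOf S : Set G)) (Q : Subgroup ↥S) (hQ : Cfsg.IsMinimalCentrallyLarge Q) : (⁅Q, Q⁆).Characteristic ∧ (((S ⊓ Subgroup.centralizer (S : Set G)) ⊓ (⁅Q, Q⁆).map S.subtype).Normal ∨ ((Cfsg.minimalCentrallyLargeJoin ↥S).map S.subtype).Normal) ∧ (⁅Q, Q⁆ = ⊥ → ∀ R : Subgroup ↥S, Cfsg.IsMinimalCentrallyLarge R ↔ R ∈ Cfsg.maxAbelianSubgroups ↥S) := by
  obtain ⟨hR, hS⟩ := rk1_of_sit hE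
  rw [← zj_zero] at hJ
  rw [isMinimalCentrallyLarge_iff] at hQ
  refine ⟨characteristic_iff_map_eq.2 fun α => ?_, ?_, fun h R => isMinimalCentrallyLarge_iff.trans
    ((hQ.iff_maxAb (H28.commutator_eq_bot_iff.1 h)).trans H9.mem_maxAbelian_iff.symm)⟩
  · rw [map_commutator]
    refine Mn.comm_eq ?_ (mn_top.2 hQ)
    rw [← map_top_of_surjective α.toMonoidHom α.surjective]
    exact (mn_map α.injective).2 (mn_top.2 hQ)
  rw [← smcl_top, map_smcl S.subtype_injective, map_top_subtype, map_commutator]
  rcases hR.cases' hS hJ with h | h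
  · exact Or.inl (normal_iff_top_le.2 (le_normalizer_of_le_centralizer (le_centralizer_comm.1 (inf_le_left.trans h))))
  · exact (h.mn_cases hS (mn_iff.2 hQ)).imp (fun k => normal_iff_top_le.2 (le_normalizer_of_le_centralizer
      (hS.pResidualOf_sup.ge.trans (sup_le (le_centralizer_comm.1 (inf_le_right.trans k))
        (le_centralizer_comm.1 (inf_le_left.trans inf_le_right)))))) normal_iff_top_le.2

end Cfsg.Agent.S2990
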