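import Cfsg.Statements.S2999
import Cfsg.Agent.H29.RepEA

set_option autoImplicit false
open Cfsg

namespace Cfsg.Agent.S2999

open H28 H29 H29.Rp Subgroup H9.EA


/-- Let p be a prime and let P and V be subgroups of a finite group with V elementary abelian, P normalizing V and acting faithfully on it (P ∩ C(V) = 1). Suppose P is p-minimal (a Sylow p-subgroup T of P is not normal and lies in a unique maximal subgroup M of P) and A ≤ T is an elementary abelian subgroup such that: |V/C_V(A)| ≤ |A| while |A₀|·|C_V(A₀)| < |A|·|C_V(A)| for every nontrivial proper subgroup A₀ of A; [C_V(T), P] ≠ 1; and P = ⟨A, xAx⁻¹⟩ for every x ∈ P outside M. Then, with q = |A|, there is a field F with q elements such that P ≅ SL₂(F), C_V(A) = [V, A]·C_V(P), and P acts on V/C_V(P) as SL₂(F) on its natural two-dimensional module. -/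
theorem result {G : Type*} [Group G] [Finite G] {p : ℕ} [Fact p.Prime] (V P : Subgroup G) (hV : Cfsg.IsElementaryAbelian p V) (hPV : P ≤ Subgroup.normalizer (V : Set G)) (hfaith : P ⊓ Subgroup.centralizer (V : Set G) = ⊥) (hmin : Cfsg.IsPMinimal p ↥P) (T : Sylow p ↥P) (M : Subgroup ↥P) (hM : IsCoatom M) (hTM : (T : Subgroup ↥P) ≤ M) (A : Subgroup G) (hAT : A ≤ ((T : Subgroup ↥P).map P.subtype)) (hAel : Cfsg.IsElementaryAbelian p A) (hi : Nat.card ↥V ≤ Nat.card ↥A * Nat.card ↥(V ⊓ Subgroup.centralizer ((A : Subgroup G) : Set G)) ∧ ∀ A₀ : Subgroup G, A₀ ≤ A → A₀ ≠ ⊥ → A₀ ≠ A → Nat.card ↥A₀ * Nat.card ↥(V ⊓ Subgroup.centralizer ((A₀ : Subgroup G) : Set G)) < Nat.card ↥A * Nat.card ↥(V ⊓ Subgroup.centralizer ((A : Subgroup G) : Set G))) (hii : ⁅(V ⊓ Subgroup.centralizer ((((T : Subgroup ↥P).map P.subtype) : Subgroup G) : Set G)), P⁆ ≠ ⊥) (hiii : ∀ x : ↥P, x ∉ M → A ⊔ A.map (MulAut.conj (x : G)).toMonoidHom = P) : ∃ (F : Type) (_ : Field F) (_ : Fintype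 F), Fintype.card F = Nat.card ↥A ∧ Nonempty (↥P ≃* Matrix.SpecialLinearGroup (Fin 2) F) ∧ (V ⊓ Subgroup.centralizer ((A : Subgroup G) : Set G)) = ⁅V, A⁆ ⊔ (V ⊓ Subgroup.centralizer ((P : Subgroup G) : Set G)) ∧ Cfsg.ActsAsSL2OnSection F ⊤ P V (V ⊓ Subgroup.centralizer ((P : Subgroup G) : Set G)) := by
  let ρ := rep hV hPV
  have hAP : A ≤ P := hAT.trans (map_subtype_le _)
  have rA : Rel ρ (A.subgroupOf P) A := rel_subgroupOf hPV hAP
  have rP : Rel ρ ⊤ P := rel_top hPV
  have rT : Rel ρ T ((T : Subgroup P).map P.subtype) := rel_map hPV _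
  have hgen : ∀ x : P, x ∉ M → A.subgroupOf P ⊔ cj x (A.subgroupOf P) = ⊤ := fun x hx => by
    rw [cj_subgroupOf, ← sup_subgroupOf hAP (cj_le_of_mem hAP x.2), hiii x hx, subgroupOf_self]
  have hAT' : A.subgroupOf P ≤ T := by
    rw [← subgroupOf_map_subtype' (T : Subgroup P)]; exact comap_mono hAT
  obtain ⟨g, -, hg⟩ := SetLike.exists_of_lt hM.1.lt_top
  have hG : Good ρ (A.subgroupOf P) ⊤ M :=
    { um := ⟨hAT'.trans hTM, hM.1.lt_top, fun X h1 h2 x hx => by_contra fun hn =>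
        h2.not_ge ((hgen x hn).ge.trans (sup_le h1 (cj_le_of_mem h1 hx)))⟩
      ncl := top_unique ((hgen g hg).ge.trans (sup_le (le_nclIn _ _) (cj_le_nclIn _ (mem_top g))))
      off :=
        { ea := (ea_subgroupOf_iff hAP).2 hAel
          off := by rw [card_subgroupOf hAP, rA.card_fix]; exact hi.1
          min := fun B h1 h2 h3 => by
            rw [card_subgroupOf hAP, rA.card_fix, (rel_map hPV B).card_fix, ← card_map_subtype B]
            refine hi.2 _ (map_subtype_le_iff.2 h1) (fun e => h2 ?_) fun e => h3 ?_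
            · rwa [map_eq_bot_iff_of_injective _ P.subtype_injective] at e
            · rw [← e, subgroupOf_map_subtype'] }
      nf := fun e => hii (by
        rw [← rT.grp_fix, ← rP.grp_cm, cm_eq_bot.2, grp_bot]
        rw [← (isSylowIn_top T).pResidualOf_sup, fix_sup]
        exact le_inf ((fix_anti (isSylowIn_top T).pCoreOf_le).trans e) le_rfl) }
  obtain ⟨ho, hQ⟩ := hG.opp (mem_top g) hg
  obtain ⟨F, _, _, hF, ⟨D⟩⟩ := hG.sl2 (mem_top g) hg
  refine ⟨F, inferInstance, inferInstance, hF.trans (card_subgroupOf hAP),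
    ⟨topEquiv.symm.trans (MulEquiv.ofBijective D.π
      ⟨D.π_inj (fun g _ => rep_faithful hPV hfaith g) hQ, D.π_surj⟩)⟩, ?_, ?_⟩
  · rw [← rA.grp_fix, ho.fix_eq, grp_sup, rA.grp_cm_top, rP.grp_fix]
  · have := D.actsAs (E := P) (topEquiv (G := P)).symm.toMonoidHom (topEquiv (G := P)).symm.surjective
      (fun e => act_rep hPV e) inv_top (top_sup_eq _)
    rwa [grp_top] at this

end Cfsg.Agent.S2999
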