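import Cfsg.Statements.S3000
import Cfsg.Agent.H29.BHS

set_option autoImplicit false
open Cfsg

namespace Cfsg.Agent.S3000

open H28 H29 H29.Rp Subgroup H9.EA


/-- Let p be a prime and let P and V be subgroups of a finite group with V elementary abelian, P normalizing V and acting faithfully on it (P ∩ C(V) = 1). Suppose P is p-minimal (a Sylow p-subgroup T of P is not normal and lies in a unique maximal subgroup M of P), O_p(P) = 1, C_P(C_V(T)) ≤ M, and P has a best offender on V: a subgroup A not centralizing V, with A/C_A(V) elementary abelian, such that |B|·|C_V(B)| ≤ |A|·|C_V(A)| for every subgroup B of A. Then there are subgroups E₁, …, E_r of P (r ≥ 1), pairwise commuting and forming with T a product P = (E₁ × ⋯ × E_r)T (internal direct product of the E_i), any two of which are conjugate by an element of T, such that V = C_V(E₁⋯E_r)·∏[V, E_i] with [V, E_i, E_j] = 1 for i ≠ j, and for each i there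 is n ≥ 1 with either E_i ≅ SL₂(pⁿ) acting on [V, E_i]/C_{[V,E_i]}(E_i) as on its natural two-dimensional module, or p = 2 and E_i isomorphic to the symmetric group of degree 2ⁿ + 1 acting on [V, E_i]/C_{[V,E_i]}(E_i) as on its even-weight permutation module. -/
theorem result {G : Type*} [Group G] [Finite G] {p : ℕ} [Fact p.Prime] (V P : Subgroup G) (hV : Cfsg.IsElementaryAbelian p V) (hPV : P ≤ Subgroup.normalizer (V : Set G)) (hfaith : P ⊓ Subgroup.centralizer (V : Set G) = ⊥) (hmin : Cfsg.IsPMinimal p ↥P) (T : Sylow p ↥P) (M : Subgroup ↥P) (hM : IsCoatom M) (hTM : (T : Subgroup ↥P) ≤ M) (hOp : Cfsg.pCore p ↥P = ⊥) (hoff : ∃ A : Subgroup G, A ≤ P ∧ ¬ A ≤ Subgroup.centralizer (V : Set G) ∧ Cfsg.IsBestOffenderOn p V A) (hCT : P ⊓ Subgroup.centralizer ((V ⊓ Subgroup.centralizer ((((T : Subgroup ↥P).map P.subtype) : Subgroup G) : Set G)) : Set G) ≤ M.map P.subtype) : ∃ (r : ℕ) (E : Fin r → Subgroup G),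 1 ≤ r ∧ (∀ i, E i ≤ P) ∧ (∀ i j, i ≠ j → ⁅E i, E j⁆ = ⊥) ∧ (∀ i, E i ⊓ (⨆ j ∈ {j | j ≠ i}, E j) = ⊥) ∧ (⨆ i, E i) ⊔ ((T : Subgroup ↥P).map P.subtype) = P ∧ (∀ i j, ∃ t ∈ ((T : Subgroup ↥P).map P.subtype), (E i).map (MulAut.conj t).toMonoidHom = E j) ∧ (V ⊓ Subgroup.centralizer (((⨆ i, E i) : Subgroup G) : Set G)) ⊔ (⨆ i, ⁅V, E i⁆) = V ∧ (∀ i j, i ≠ j → ⁅⁅V, E i⁆, E j⁆ = ⊥) ∧ ∀ i, ∃ n : ℕ, 1 ≤ n ∧ ((∃ (F : Type) (_ : Field F) (_ : Fintype F), Fintype.card F = p ^ n ∧ Nonempty (↥(E i) ≃* Matrix.SpecialLinearGroup (Fin 2) F) ∧ Cfsg.ActsAsSL2OnSection F ⊤ (E i) ⁅V, E i⁆ (⁅V, E i⁆ ⊓ Subgroup.centralizer ((E i : Subgroup G) : Set G))) ∨ (p = 2 ∧ Nonempty (↥(E i) ≃* Equiv.Perm (Fin (2 ^ n + 1))) ∧ Cfsg.ActsAsOddPermModuleOnSection (2 ^ n + 1) ⊤ (E i) ⁅V, E i⁆ (⁅V, E i⁆ ⊓ Subgroup.centralizer ((E i : Subgroup G) : Set G)))) := by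
  obtain ⟨A, hAP, hAV, hA⟩ := hoff
  let ρ := rep hV hPV
  have hu := uniqMax_of_existsUnique (hmin T).2 hM hTM
  have h : Hyp ρ T M := ⟨rep_faithful hPV hfaith, isSylowIn_top T,
    hu.nclIn_eq (isSylowIn_top T) (mt normal_iff_top_le.2 (hmin T).1), hu, hOp, fun g hg => by
      rw [(act_rep hPV g).mem_cen, (rel_map hPV _).grp_fix] at hg
      exact (mem_map_iff_mem P.subtype_injective).1 (hCT ⟨g.2, hg⟩)⟩
  obtain ⟨h1, h2⟩ := offender_subgroupOf hV hPV hfaith hAP hA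
  obtain ⟨r, e, k1, k2, k3, k4, k5, k6, k7, k8, -⟩ := h.structure h1
    (fun e => hAV (by rw [← map_subtype_subgroupOf hAP, e, Subgroup.map_bot]; exact bot_le)) h2
  have rl := fun i => rel_map (hV := hV) hPV (e i)
  refine ⟨r, fun i => (e i).map P.subtype, k1, fun i => map_subtype_le _, fun i j k => ?_, fun i => ?_,
    ?_, fun i j => ?_, ?_, fun i j k => ?_, fun i => ?_⟩
  · rw [← map_commutator, comm_eq_bot.2 (k3 i j k), Subgroup.map_bot]
  · simp only [← Subgroup.map_iSup]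
    rw [← map_inf _ _ _ P.subtype_injective, k4, Subgroup.map_bot]
  · rw [← Subgroup.map_iSup, ← Subgroup.map_sup, k5, map_subtype_top]
  · obtain ⟨t, ht, k⟩ := k6 i j
    exact ⟨t, mem_map_of_mem _ ht, by beta_reduce; rw [← k, map_cj]; rfl⟩
  · simp only [← Subgroup.map_iSup, ← (rl _).grp_cm_top, ← (rel_map (hV := hV) hPV _).grp_fix]
    rw [← grp_iSup, ← grp_sup, k7, grp_top]
  · rw [← (rl i).grp_cm_top, ← (rl j).grp_cm, cm_eq_bot.2 (k8 i j k), grp_bot]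
  · let q := ((e i).equivMapOfInjective P.subtype P.subtype_injective).symm
    obtain ⟨n, hn, k⟩ := (k2 i).1.acts (k2 i).2 q.toMonoidHom q.surjective fun x => by
      obtain ⟨y, rfl⟩ := q.symm.surjective x
      rw [MulEquiv.coe_toMonoidHom, MulEquiv.apply_symm_apply]
      exact act_rep hPV y
    exact ⟨n, hn, k.imp (fun ⟨F, _, _, a, ⟨b⟩, c⟩ => ⟨F, _, _, a, ⟨q.trans b⟩, c⟩)
      fun ⟨a, ⟨b⟩, c⟩ => ⟨a, ⟨q.trans b⟩, c⟩⟩

end Cfsg.Agent.S3000
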