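import Cfsg.Statements.S3001
import Cfsg.Agent.H29.NotFix

set_option autoImplicit false
open Cfsg

namespace Cfsg.Agent.S3001

open H28 H29 H29.Rp Subgroup H9.EA


/-- Let p be a prime and let P and V be subgroups of a finite group with V elementary abelian, P normalizing V and acting faithfully on it (P ∩ C(V) = 1). Suppose P is p-minimal (a Sylow p-subgroup is not normal and lies in a unique maximal subgroup), O_p(P) = 1, and P has a best offender on V (a subgroup A not centralizing V, with A/C_A(V) elementary abelian and |B|·|C_V(B)| ≤ |A|·|C_V(A)| for every B ≤ A). Then [C_V(T), P] ≠ 1 for every Sylow p-subgroup T of P. -/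
theorem result {G : Type*} [Group G] [Finite G] {p : ℕ} [Fact p.Prime] (V P : Subgroup G) (hV : Cfsg.IsElementaryAbelian p V) (hPV : P ≤ Subgroup.normalizer (V : Set G)) (hfaith : P ⊓ Subgroup.centralizer (V : Set G) = ⊥) (hmin : Cfsg.IsPMinimal p ↥P) (hOp : Cfsg.pCore p ↥P = ⊥) (hoff : ∃ A : Subgroup G, A ≤ P ∧ ¬ A ≤ Subgroup.centralizer (V : Set G) ∧ Cfsg.IsBestOffenderOn p V A) (T : Sylow p ↥P) : ⁅(V ⊓ Subgroup.centralizer ((((T : Subgroup ↥P).map P.subtype) : Subgroup G) : Set G)), P⁆ ≠ ⊥ := by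
  obtain ⟨A, hAP, hAV, hA⟩ := hoff
  obtain ⟨M, hu⟩ := existsUnique_coatom_iff.1 (hmin T).2
  obtain ⟨h1, h2⟩ := offender_subgroupOf hV hPV hfaith hAP hA
  have h := hyp_of_offender (rep_faithful hPV hfaith) (isSylowIn_top T)
    (hu.nclIn_eq (isSylowIn_top T) (mt normal_iff_top_le.2 (hmin T).1)) hu hOp h1
    (fun e => hAV (by rw [← map_subtype_subgroupOf hAP, e, Subgroup.map_bot]; exact bot_le)) h2
  rw [← (rel_map (hV := hV) hPV _).grp_fix, ← (rel_top (hV := hV) hPV).grp_cm, ← grp_bot (hV := hV),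
    Ne, grp_inj, cm_eq_bot]
  exact fun e => hu.not_le ((le_cen.2 e).trans h.cen)

end Cfsg.Agent.S3001
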