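import Cfsg.Statements.S3009
import Cfsg.Agent.H10.SL2Nat

set_option autoImplicit false
open Cfsg

namespace Cfsg.Agent.S3009

open Subgroup Matrix MatrixGroups H29.Rp H10.SL2Nat H9.EA in

/-- Let p be a prime and let G and V be subgroups of a finite group with V elementary abelian and normalized by G, and G isomorphic to SL₂(F) for a finite field F with pⁿ elements. Suppose G acts irreducibly and nontrivially on V by conjugation (no G-invariant subgroups of V other than 1 and V, and [V, G] ≠ 1), and let S be a Sylow p-subgroup of G and V₀ = C_V(S). If [V, S, S] = 1 or |V| ≤ |V₀|², then G acts on V as SL₂(F) on its natural two-dimensional module; in particular |V| = |F|². -/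
theorem result {X : Type*} [Group X] [Finite X] {p : ℕ} [Fact p.Prime] (G V : Subgroup X) (hV : Cfsg.IsElementaryAbelian p V) (hGV : G ≤ Subgroup.normalizer (V : Set X)) (F : Type) [Field F] [Fintype F] (n : ℕ) (hF : Fintype.card F = p ^ n) (hG : Nonempty (↥G ≃* Matrix.SpecialLinearGroup (Fin 2) F)) (hirr : ∀ U : Subgroup X, U ≤ V → G ≤ Subgroup.normalizer (U : Set X) → U = ⊥ ∨ U = V) (hnt : ⁅V, G⁆ ≠ ⊥) (S : Sylow p ↥G) (hyp : ⁅⁅V, (S : Subgroup ↥G).map G.subtype⁆, (S : Subgroup ↥G).map G.subtype⁆ = ⊥ ∨ Nat.card ↥V ≤ Nat.card ↥(V ⊓ Subgroup.centralizer (((S : Subgroup ↥G).map G.subtype : Subgroup X) : Set X)) ^ 2) : Cfsg.ActsAsSL2OnSection F ⊤ G V ⊥ := by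
  haveI := H28.charP_of_card hF
  obtain ⟨e0⟩ := hG
  obtain ⟨e, he⟩ := exists_iso_upper e0 S
  let σ : Representation (ZMod p) SL(2, F) (H9.EA hV) := (rep hV hGV).comp e.symm.toMonoidHom
  have ha : ∀ g : G, Act σ (e g) (g : X) := fun g v => by
    change (rep hV hGV (e.symm (e g)) v).val = _
    rw [e.symm_apply_apply, val_rep]
  have hr : Rel σ (upperUnipotentSL2 F) ((S : Subgroup G).map G.subtype) :=
    ⟨fun a' h => ⟨e.symm a', ⟨_, (he _).2 (by rwa [e.apply_symm_apply]), rfl⟩, by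
      simpa using ha (e.symm a')⟩, by
      rintro _ ⟨a, h, rfl⟩
      exact ⟨_, (he _).1 h, ha a⟩⟩
  have hr' : Rel σ ⊤ G :=
    ⟨fun a' _ => ⟨e.symm a', (e.symm a').2, by simpa using ha (e.symm a')⟩,
      fun a h => ⟨_, mem_top _, ha ⟨a, h⟩⟩⟩
  obtain ⟨Ψ, hΨ⟩ := natural (σ := σ) (fun W hW => by
    rcases hirr _ (grp_le hV W) (hr'.inv_iff.1 fun g _ => hW g) with h | h
    · exact Or.inl (grp_inj.1 (h.trans grp_bot.symm))
    · exact Or.inr (grp_inj.1 (h.trans grp_top.symm))) (by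
      by_contra h
      push Not at h
      apply hnt
      rw [← hr'.grp_cm_top, cm_eq_bot.2 fun u _ => mem_fix.2 fun g _ => h g u, grp_bot])
    (hyp.imp (fun h => by
      rw [← hr.grp_cm_top, ← hr.grp_cm, ← grp_bot (hV := hV), grp_inj, cm_eq_bot] at h
      exact quad_iff.2 h) fun h => by rwa [hr.card_fix, H9.EA.card])
  refine ⟨hGV, bot_le, e.toMonoidHom, MonoidHom.mk' (fun v => Multiplicative.ofAdd
    (Ψ.symm (mk hV v v.2))) fun u v => ?_, MonoidHom.range_eq_top.2 e.surjective, fun a => ?_,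
    fun u => ?_, fun g u => ⟨⟨(σ (e g) (mk hV u u.2)).val, val_mem _⟩, ha g _, ?_⟩⟩
  · rw [← ofAdd_add, ← map_add]
    rfl
  · refine ⟨⟨(Ψ a.toAdd).val, val_mem _⟩, ?_⟩
    simp [mk_val]
  · simp only [MonoidHom.mk'_apply, ofAdd_eq_one, map_eq_zero_iff _ Ψ.symm.injective, mem_bot]
    rw [← val_eq_one, val_mk]
  · simp only [MonoidHom.mk'_apply, toAdd_ofAdd, mk_val]
    apply Ψ.injective
    rw [Ψ.apply_symm_apply]
    exact ((hΨ _ _).trans (by rw [Ψ.apply_symm_apply]; rfl)).symm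

end Cfsg.Agent.S3009
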