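import Cfsg.Statements.S3018
import Cfsg.Agent.S3016
import Cfsg.Agent.S3017
import Cfsg.Agent.S0205
import Cfsg.Agent.H8.FS9

set_option autoImplicit false
open Cfsg

namespace Cfsg.Agent.S3018

/-- Let G be a finite group, p a prime and H an abelian p-subgroup of G that is extremely closed (for every g, the subgroup generated by H and g H g⁻¹ meets N_G(H) exactly in H). Then H is contained in a solvable normal subgroup of G, that is, in the solvable radical of G. -/
theorem result {G : Type*} [Group G] [Finite G] {p : ℕ} [Fact p.Prime] (H : Subgroup G) (hHp : IsPGroup p H) (hHab : IsMulCommutative H) (hcl : Cfsg.IsExtremelyClosed H) : ∃ N : Subgroup G, N.Normal ∧ Group.IsSolvable ↥N ∧ H ≤ N := by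
  set O := Cfsg.pPrimeCore p G with hO
  set K := Subgroup.normalClosure (H : Set G) with hK
  have cO : (Nat.card O).Coprime p := H1.pPrimeCore_coprime
  have cY : (Nat.card ↥(K ⊓ O)).Coprime p := cO.coprime_dvd_left (Subgroup.card_dvd_of_le inf_le_right)
  have sup : Subgroup.normalizer (H : Set G) ⊔ O = ⊤ := by
    by_cases h : p = 2
    · subst h; exact S3017.result H hHp hHab hcl
    · exact (S3016.result h H hHp hHab hcl).2
  have sY : Group.IsSolvable ↥(K ⊓ O) := by
    by_cases h : p = 2
    · subst h; exact S0205.result (Nat.coprime_two_right.1 cY)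
    obtain ⟨n, hn⟩ := IsPGroup.iff_card.1 hHp
    have c : (Nat.card H).Coprime (Nat.card ↥(K ⊓ O)) := hn ▸ cY.symm.pow_left n
    refine H8.FS.main G H (K ⊓ O) ⟨H, le_rfl, Subgroup.le_normalizer, c, 0, le_rfl⟩
      (by rw [Subgroup.normalizer_eq_top]; exact le_top) ?_
    refine le_bot_iff.1 (le_trans ?_ (Subgroup.inf_eq_bot_of_coprime c).le)
    refine le_inf ?_ inf_le_left
    exact le_trans (le_inf (inf_le_left.trans inf_le_left) (inf_le_right.trans (Subgroup.centralizer_le_normalizer _)))
      (S3016.result h H hHp hHab hcl).1.le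
  have nH : (H.map (QuotientGroup.mk' O)).Normal := by
    rw [← Subgroup.normalizer_eq_top_iff, eq_top_iff, ← Subgroup.map_top_of_surjective _ (QuotientGroup.mk'_surjective O),
      ← sup, Subgroup.map_sup, (Subgroup.map_eq_bot_iff O).2 (by simp), sup_bot_eq]
    exact Subgroup.le_normalizer_map _
  have le : K ≤ (H.map (QuotientGroup.mk' O)).comap (QuotientGroup.mk' O) :=
    Subgroup.normalClosure_le_normal (Subgroup.le_comap_map _ _)
  refine ⟨K, inferInstance, ?_, Subgroup.le_normalClosure⟩
  have ab : IsMulCommutative ↥(H.map (QuotientGroup.mk' O)) := inferInstance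
  have : Group.IsSolvable ↥(H.map (QuotientGroup.mk' O)) :=
    Group.isSolvable_of_comm fun a b => ab.is_comm.comm a b
  refine Group.isSolvable_of_ker_le_range (Subgroup.inclusion (inf_le_left : K ⊓ O ≤ K))
    (((QuotientGroup.mk' O).comp K.subtype).codRestrict (H.map (QuotientGroup.mk' O)) fun x => le x.2) fun x hx => ?_
  exact ⟨⟨x, x.2, (QuotientGroup.eq_one_iff _).1 (congrArg Subtype.val hx)⟩, rfl⟩

end Cfsg.Agent.S3018
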