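import Cfsg.Agent.H16.M7Z
import Cfsg.Statements.S3024
-- import your own Cfsg.Agent.* helpers here

set_option autoImplicit false
open Cfsg

namespace Cfsg.Agent.S3024

/-- Let G be a finite group every proper subgroup of which has only known non-abelian composition factors, S a Sylow 7-subgroup with centre Z₁ of order 7 and second centre Z₂ of order 49, and N₁ = N_G(Z₁), N₂ = N_G(Z₂). Suppose N₁ is 7-constrained (C_{N₁}(O₇(N₁)) ≤ O₇(N₁)) and has normal subgroups Q ≤ K with Q extraspecial of order 7⁵ and exponent 7, K/Q a non-split double cover of the alternating group of degree 7, and N₁/K cyclic of order 6; suppose N₂ is 7-constrained and has normal subgroups A₂ < A₃ < A₅ of orders 7², 7³, 7⁵ with N₂/A₅ isomorphic to GL₂(7); and suppose the subgroup generated by N₁ and N₂ has trivial 7-core. Then G is isomorphic to the Monster. -/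
theorem result {G : Type*} [Group G] [Finite G] (hK : Cfsg.IsCompositionKProper G) (S : Sylow 7 G)
    (Z₁ Z₂ N₁ N₂ : Subgroup G)
    (hZ₁ : Z₁ = (S : Subgroup G) ⊓ Subgroup.centralizer ((S : Subgroup G) : Set G)) (hZ₁c : Nat.card Z₁ = 7)
    (hZ₂ : Z₂ = (Subgroup.upperCentralSeries ↥(S : Subgroup G) 2).map (S : Subgroup G).subtype) (hZ₂c : Nat.card Z₂ = 49)
    (hN₁ : N₁ = Subgroup.normalizer (Z₁ : Set G)) (hN₂ : N₂ = Subgroup.normalizer (Z₂ : Set G))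
    (hN₁c : Subgroup.centralizer (Cfsg.pCore 7 ↥N₁ : Set ↥N₁) ≤ Cfsg.pCore 7 ↥N₁)
    (Q K : Subgroup G) (hQK : Q ≤ K) (hKN : K ≤ N₁) (hQn : (Q.subgroupOf N₁).Normal) (hKn : (K.subgroupOf N₁).Normal)
    (hQex : Cfsg.IsExtraspecial 7 Q) (hQc : Nat.card Q = 7 ^ 5) (hQexp : ∀ x ∈ Q, x ^ 7 = 1)
    (hKQ : ∃ _ : (Q.subgroupOf K).Normal, Cfsg.IsNonsplitDoubleCover (↥K ⧸ Q.subgroupOf K) ↥(alternatingGroup (Fin 7)))
    (hNK : ∃ _ : (K.subgroupOf N₁).Normal, IsCyclic (↥N₁ ⧸ K.subgroupOf N₁) ∧ Nat.card (↥N₁ ⧸ K.subgroupOf N₁) = 6)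
    (hN₂c : Subgroup.centralizer (Cfsg.pCore 7 ↥N₂ : Set ↥N₂) ≤ Cfsg.pCore 7 ↥N₂)
    (A₂ A₃ A₅ : Subgroup G) (h23 : A₂ < A₃) (h35 : A₃ < A₅) (h5N : A₅ ≤ N₂)
    (hA₂n : (A₂.subgroupOf N₂).Normal) (hA₃n : (A₃.subgroupOf N₂).Normal) (hA₅n : (A₅.subgroupOf N₂).Normal)
    (hA₂c : Nat.card A₂ = 7 ^ 2) (hA₃c : Nat.card A₃ = 7 ^ 3) (hA₅c : Nat.card A₅ = 7 ^ 5)
    (hGL : ∃ _ : (A₅.subgroupOf N₂).Normal, Nonempty (↥N₂ ⧸ A₅.subgroupOf N₂ ≃* GL (Fin 2) (ZMod 7)))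
    (hO7 : Cfsg.pCore 7 ↥(N₁ ⊔ N₂) = ⊥) :
    Cfsg.Spor.IsoM G := by
  subst hN₁ hN₂ hZ₁
  obtain ⟨_, dc⟩ := hKQ
  obtain ⟨_, -, iK⟩ := hNK
  obtain ⟨z, t, ψ, h⟩ := H16.M7.hx S hZ₁c hZ₂ hZ₂c hN₁c hQK hKN hQn hKn hQex hQc hQexp dc iK h35.le h5N hA₃n hA₅n hA₃c hA₅c hO7
  exact H16.M7.main hK h

end Cfsg.Agent.S3024
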