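import Cfsg.Statements.S3052
import Cfsg.Agent.H28.GC14

set_option autoImplicit false
open Cfsg

namespace Cfsg.Agent.S3052

/-- Let G be a finite group of local characteristic 2 (every 2-local subgroup N has C_N(O₂(N)) ≤ O₂(N)) with T a Sylow 2-subgroup, O₂(G) = 1, O²(G) = G, and G ≠ C*(G,T), the subgroup generated by the centralizer of Ω₁(Z(T)) and the normalizers of the nontrivial characteristic subgroups of the Baumann subgroup B(T). Then one of the following holds: G has a strongly embedded subgroup; T is dihedral or quasi-dihedral; T has order at most 2¹⁰; or T equals its Baumann subgroup, T has nilpotency class 2, and G has a B(T)-block E not contained in C*(G,T) with E/O₂(E) isomorphic to SL(2,2ⁿ) for some n ≥ 3. -/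
theorem result {G : Type*} [Group G] [Finite G] (hloc : Cfsg.IsOfLocalCharacteristic 2 G) (T : Sylow 2 G)
    (hO : Cfsg.pCore 2 G = ⊥) (hO2 : Cfsg.pResidual 2 G = ⊤) (hC : Cfsg.cStarOf 2 (T : Subgroup G) ≠ ⊤)
    [Group.IsNilpotent ↥(T : Subgroup G)] :
    (∃ H : Subgroup G, Cfsg.IsStronglyEmbedded H) ∨
      ((∃ m : ℕ, Nonempty (↥(T : Subgroup G) ≃* DihedralGroup m)) ∨ Cfsg.IsQuasiDihedral ↥(T : Subgroup G)) ∨
      Nat.card (T : Subgroup G) ≤ 2 ^ 10 ∨
      (Cfsg.baumannSubgroupOf 2 (T : Subgroup G) = T ∧ Group.nilpotencyClass ↥(T : Subgroup G) = 2 ∧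
        ∃ (E : Subgroup G) (hE : ((Cfsg.pCoreOf 2 E).subgroupOf E).Normal) (F : Type) (_ : Field F) (_ : Fintype F) (n : ℕ),
          3 ≤ n ∧ Fintype.card F = 2 ^ n ∧ Cfsg.IsBaumannBlock 2 (T : Subgroup G) E ∧ ¬ E ≤ Cfsg.cStarOf 2 (T : Subgroup G) ∧
          Nonempty (↥E ⧸ (Cfsg.pCoreOf 2 E).subgroupOf E ≃* Matrix.SpecialLinearGroup (Fin 2) F)) := by
  have hT := H28.isSylowIn_top T
  rcases H28.GC.main (H28.GC.lc_of hloc) hT (H28.GC.syl_ne hT hloc.1) hO hO2 hC with
    h | h | ⟨B, M, E, E₂, F, F', _, _, _, _, b, r, n⟩ | ⟨B, M, E, F, _, _, b⟩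
  · exact .inl h
  · exact .inr (.inl h)
  · rcases r.out b n hO2 with h | h | ⟨q, rfl⟩
    · exact .inr (.inl h)
    · exact .inr (.inr (.inl h))
    have k := r.k₁
    have := k.lin.char
    have := Fintype.ofFinite F
    obtain ⟨m, e, -⟩ := H28.GC.card_F (F := F)
    have e' := k.amb.self
    have hE : ((Cfsg.pCoreOf 2 E).subgroupOf E).Normal := by rw [H28.pCoreOf_subgroupOf]; infer_instance
    refine .inr (.inr (.inr ⟨(H29.BB.bm_eq _).trans e', H28.GC.class_two (k.p1.class2 k.vx k.syl (b.nc k n))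
      (k.vx.not_comm k.syl), E, hE, F, ‹_›, this, m, ?_,
      Nat.card_eq_fintype_card.symm.trans e, H29.BB.blk_iff.2 ⟨e'.symm ▸ k.blk, fun c => n ((H28.commutator_eq_bot_iff.1
        c).trans (le_sup_left.trans b.star))⟩, fun c => n (c.trans b.star), ?_⟩))
    · by_contra! c
      have := Nat.pow_le_pow_right two_pos (Nat.le_of_lt_succ c)
      omega
    · obtain ⟨φ⟩ := k.quot (by omega)
      exact ⟨(QuotientGroup.quotientMulEquivOfEq (H28.pCoreOf_subgroupOf 2 E)).trans φ⟩
  · exact .inr (.inr (.inl b.card_le))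

end Cfsg.Agent.S3052
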