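import Cfsg.Statements.S3067
import Cfsg.Agent.H1.CI2
import Cfsg.Agent.H1.NM2

set_option autoImplicit false
open Cfsg

namespace Cfsg.Agent.S3067

/-- Let G be a finite non-abelian simple group, τ an involution of G, and α a nontrivial automorphism of G whose order is coprime to the order of G. Then α moves some element of the centralizer of τ: α does not fix C_G(τ) elementwise. -/
theorem result {G : Type*} [Group G] [Finite G] [IsSimpleGroup G]
    (hG : ¬ IsMulCommutative G) (τ : G) (hτ : orderOf τ = 2) (α : MulAut G) (hα : α ≠ 1)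
    (hcop : (orderOf α).Coprime (Nat.card G)) :
    ∃ c ∈ Subgroup.centralizer ({τ} : Set G), α c ≠ c := by
    open H19 Subgroup SemidirectProduct in
    by_contra! hc
    obtain ⟨r, hr, hd⟩ := exists_prime_dvd_orderOf hα
    obtain ⟨β, hβ, o⟩ := exists_orderOf_eq_prime (H := zpowers α) hr (by rwa [Nat.card_zpowers])
    let φ := (zpowers β).subtype
    have : Finite (G ⋊[φ] zpowers β) := Finite.of_equiv _ SemidirectProduct.equivProd.symm
    have i : Function.Injective (inl : G →* G ⋊[φ] zpowers β) := inl_injective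
    have fix : ∀ b ∈ zpowers α, ∀ c ∈ centralizer ({τ} : Set G), b c = c := fun b hb c h =>
      zpowers_le.2 (show α ∈ MulAction.stabilizer (MulAut G) c from hc c h) hb
    have ca : H1.CA r ((⊤ : Subgroup G).map (inl : G →* G ⋊[φ] zpowers β)) inr.range := by
      refine ⟨(H1.sd_norm_iff φ ⊤).2 fun _ _ _ => mem_top _, ?_, ?_⟩
      · rw [PG, PiG, ← Nat.card_congr (MonoidHom.ofInjective inr_injective).toEquiv, Nat.card_zpowers, o]
        exact (piN_prime hr).2 rfl
      · rw [PiG, card_map_of_injective i, card_top]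
        exact fun q hq h e => hr.one_lt.ne' (Nat.eq_one_of_dvd_coprimes hcop hd (e ▸ h))
    have odd := ca.odd_comm (t := inl τ) ⟨by rw [← map_mul, ← pow_two, ← hτ, pow_orderOf_eq_one, map_one],
      fun e => by rw [i (e.trans (map_one _).symm)] at hτ; simp at hτ, ⟨τ, mem_top _, rfl⟩, by
        rintro _ ⟨⟨c, -, rfl⟩, h⟩
        refine mem_cent.2 ?_
        rintro _ ⟨b, rfl⟩
        have := fix b (zpowers_le.2 hβ b.2) c (mem_cent1.2 (i (by simpa using mem_cent1.1 h)))
        rw [← mul_inv_eq_iff_eq_mul, ← map_inv, ← inl_aut]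
        exact congrArg inl this⟩
    have nn := commg_norml ((⊤ : Subgroup G).map (inl : G →* G ⋊[φ] zpowers β)) inr.range
    have : (comap (inl : G →* G ⋊[φ] zpowers β) ⁅(⊤ : Subgroup G).map inl, inr.range⁆).Normal :=
      ⟨fun x hx g => by simpa using conj_mem_of_norm (nn ⟨g, mem_top _, rfl⟩) hx⟩
    rcases this.eq_bot_or_eq_top with e | e
    · refine hr.one_lt.ne' (o ▸ orderOf_eq_one_iff.2 (MulEquiv.ext fun g => ?_))
      have : g * (β g)⁻¹ ∈ (⊥ : Subgroup G) := by
        rw [← e, mem_comap, map_mul, map_inv, show β g = φ ⟨β, mem_zpowers β⟩ g from rfl, inl_aut]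
        convert commutator_mem_commutator (mem_map_of_mem inl (mem_top g))
          (MonoidHom.mem_range.2 ⟨(⟨β, mem_zpowers β⟩ : zpowers β), rfl⟩) using 1
        rw [commutatorElement_def, map_inv]
        group
      exact (mul_inv_eq_one.1 this).symm
    · have := odd.elt (show inl τ ∈ _ from e.ge (mem_top τ))
      rw [PiE, orderOf_injective _ i, hτ] at this
      exact this 2 Nat.prime_two dvd_rfl rfl

end Cfsg.Agent.S3067
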