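import Cfsg.Statements.S3123
import Cfsg.Agent.H17.UA7
-- import your own Cfsg.Agent.* helpers here

set_option autoImplicit false
open Cfsg

namespace Cfsg.Agent.S3123

/-- Let G be a finite group whose generalized Fitting subgroup F*(G) is a non-abelian simple group. Assume the unbalanced-group statement holds in every proper section of G: whenever a proper section X of G (a quotient of a subgroup by a normal subgroup, other than G itself) has non-abelian simple generalized Fitting subgroup F*(X) and some involution of X has a centralizer with a nontrivial normal subgroup of odd order, F*(X) is a group of Lie type over a field of odd characteristic, an alternating group of odd degree at least 5, the projective special linear group of dimension 3 over the field with 4 elements, or the Held group. Suppose G has an unbalancing triple (a, x, J) (commuting involutions a, x and an x-invariant 2-component J of C_G(a) with J = O(J)[J, O(C_G(x)) ∩ C_G(a)]) such that J/O(J) is isomorphic to the alternating group of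 degree 2n + 1 for some n ≥ 4. Then F*(G) is isomorphic to the alternating group of degree 2m + 1 for some m > n. -/
theorem result {G : Type*} [Group G] [Finite G]
    (hF : IsSimpleGroup ↥(Cfsg.generalizedFittingSubgroup G)) (hF' : ¬ IsMulCommutative ↥(Cfsg.generalizedFittingSubgroup G))
    (hU : ∀ (H : Subgroup G) (N : Subgroup ↥H) [N.Normal], (H ≠ ⊤ ∨ N ≠ ⊥) →
      IsSimpleGroup ↥(Cfsg.generalizedFittingSubgroup (↥H ⧸ N)) → ¬ IsMulCommutative ↥(Cfsg.generalizedFittingSubgroup (↥H ⧸ N)) →
      (∃ t : ↥H ⧸ N, orderOf t = 2 ∧ Cfsg.centralizerPPrimeCore 2 t ≠ ⊥) →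
      (∃ p : ℕ, p.Prime ∧ p ≠ 2 ∧ Cfsg.IsLieTypeChar p ↥(Cfsg.generalizedFittingSubgroup (↥H ⧸ N))) ∨
        (∃ n : ℕ, 2 ≤ n ∧ Nonempty (↥(Cfsg.generalizedFittingSubgroup (↥H ⧸ N)) ≃* ↥(alternatingGroup (Fin (2 * n + 1))))) ∨
        (∃ (F : Type) (_ : Field F) (_ : Fintype F), Fintype.card F = 4 ∧
          Nonempty (↥(Cfsg.generalizedFittingSubgroup (↥H ⧸ N)) ≃* Matrix.ProjectiveSpecialLinearGroup (Fin 3) F)) ∨
        Cfsg.Spor.IsoHe ↥(Cfsg.generalizedFittingSubgroup (↥H ⧸ N)))
    (a x : G) (ha : orderOf a = 2) (hx : orderOf x = 2) (hax : Commute a x)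
    (J : Subgroup ↥(Subgroup.centralizer ({a} : Set G))) (hJ : Cfsg.IsPComponent 2 J)
    (hJx : ∀ l ∈ J.map (Subgroup.centralizer ({a} : Set G)).subtype, x * l * x⁻¹ ∈ J.map (Subgroup.centralizer ({a} : Set G)).subtype)
    (hJu : J.map (Subgroup.centralizer ({a} : Set G)).subtype =
      (Cfsg.oddCore ↥J).map ((Subgroup.centralizer ({a} : Set G)).subtype.comp J.subtype) ⊔
        ⁅J.map (Subgroup.centralizer ({a} : Set G)).subtype, Cfsg.centralizerPPrimeCore 2 x ⊓ Subgroup.centralizer ({a} : Set G)⁆)
    (n : ℕ) (hn : 4 ≤ n) (hJA : Nonempty ((↥J ⧸ Cfsg.oddCore ↥J) ≃* ↥(alternatingGroup (Fin (2 * n + 1))))) :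
    ∃ m : ℕ, n < m ∧ Nonempty (↥(Cfsg.generalizedFittingSubgroup G) ≃* ↥(alternatingGroup (Fin (2 * m + 1)))) :=
  H17.UA.fin H17.UA.sbc H2.UA.a1 H17.UA.top_all hF hF' hU a x ha hx hax J hJ hJx hJu n hn hJA

end Cfsg.Agent.S3123
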