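import Cfsg.Statements.S3138
import Cfsg.Agent.H18.G3
import Cfsg.Agent.H24.G38b
import Cfsg.Agent.H24.G38d
import Cfsg.Agent.H25.G82
import Cfsg.Agent.H25.G83
import Cfsg.Agent.H25.G84
import Cfsg.Agent.H25.G86
import Cfsg.Agent.H4.G82
import Cfsg.Agent.H4.G84
import Cfsg.Agent.H15.G81
import Cfsg.Agent.H15.G82
import Cfsg.Agent.H15.G83
import Cfsg.Agent.H22.G82
import Cfsg.Agent.H22.G83
import Cfsg.Agent.H22.G84
import Cfsg.Agent.H22.G86

set_option autoImplicit false
open Cfsg

namespace Cfsg.Agent.S3138

/-- Let G be a finite group with a standard subgroup L isomorphic to the projective special unitary group of dimension 4 with parameter 2 (realised over the field with 4 elements; the group of order 25920), and suppose the centralizer of L in G has cyclic Sylow 2-subgroups. Write X for the normal closure of L in G. Then one of the following holds: X modulo its largest normal odd-order subgroup is a non-abelian simple group of sectional 2-rank at most 4; X is isomorphic to the projective special linear group of dimension 4 over the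 field with 4 elements, or to L × L; or L·C_G(L) has index 2 in N_G(L) (the full automorphism group of L is induced) and for every 2-central involution z of L (an involution central in some Sylow 2-subgroup of L) the centralizer C_G(z) has a quasisimple subgroup K containing z, with O₂(K) cyclic of order 4, commuting elementwise with the largest normal odd-order subgroup of C_G(z), and such that either K modulo its largest normal odd-order subgroup is isomorphic to the special unitary group of dimension 4 with parameter 3 (realised over the field with 9 elements), or K modulo its centre has Sylow 2-subgroups isomorphic to those of the projective special linear group of dimension 6 over some field whose order is 3 mod 4. -/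
theorem result {G : Type*} [Group G] [Finite G] (L : Subgroup G) (hL : Cfsg.IsStandardSubgroup L)
    {F : Type*} [Field F] [Fintype F] (hF : Fintype.card F = 4) (hLX : Nonempty (↥L ≃* Cfsg.PSU 4 F 2))
    (hR : ∀ R : Sylow 2 ↥(Subgroup.centralizer (L : Set G)), IsCyclic ↥(R : Subgroup ↥(Subgroup.centralizer (L : Set G)))) :
    (IsSimpleGroup (↥(Subgroup.normalClosure (L : Set G)) ⧸ Cfsg.oddCore ↥(Subgroup.normalClosure (L : Set G))) ∧
        ¬ IsMulCommutative (↥(Subgroup.normalClosure (L : Set G)) ⧸ Cfsg.oddCore ↥(Subgroup.normalClosure (L : Set G))) ∧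
        Cfsg.SectionalPRankLE 2 4 (↥(Subgroup.normalClosure (L : Set G)) ⧸ Cfsg.oddCore ↥(Subgroup.normalClosure (L : Set G)))) ∨
      Nonempty (↥(Subgroup.normalClosure (L : Set G)) ≃* Matrix.ProjectiveSpecialLinearGroup (Fin 4) F) ∨
      Nonempty (↥(Subgroup.normalClosure (L : Set G)) ≃* ↥L × ↥L) ∨
      ((L ⊔ Subgroup.centralizer (L : Set G)).relIndex (Subgroup.normalizer (L : Set G)) = 2 ∧
        ∀ z : ↥L, Cfsg.IsTwoCentralInvolution z → ∃ K : Subgroup G, K ≤ Subgroup.centralizer ({(z : G)} : Set G) ∧
          Cfsg.IsQuasisimple ↥K ∧ (z : G) ∈ K ∧ IsCyclic ↥(Cfsg.pCore 2 ↥K) ∧ Nat.card ↥(Cfsg.pCore 2 ↥K) = 4 ∧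
          ((∃ (E : Type) (_ : Field E) (_ : Fintype E), Fintype.card E = 9 ∧ Nonempty ((↥K ⧸ Cfsg.oddCore ↥K) ≃* ↥(Cfsg.SU 4 E 3))) ∨
            (∃ (E : Type) (_ : Field E) (_ : Fintype E), Fintype.card E % 4 = 3 ∧
              ∃ (S : Sylow 2 (↥K ⧸ Subgroup.center ↥K)) (T : Sylow 2 (Matrix.ProjectiveSpecialLinearGroup (Fin 6) E)),
                Nonempty (↥(S : Subgroup (↥K ⧸ Subgroup.center ↥K)) ≃* ↥(T : Subgroup (Matrix.ProjectiveSpecialLinearGroup (Fin 6) E))))) ∧
          ⁅K, Cfsg.centralizerPPrimeCore 2 (z : G)⁆ = ⊥) :=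
  H24.G38.red (H18.G38.mt H25.G38.r2 H24.G38.al H15.G38.be H15.G38.a1 H15.G38.a2 H18.G38.a3 H24.G38.ba H24.G38.bt H24.G38.ql H25.G38.bv
    H24.G38.bc H25.G38.bx H25.G38.bs H22.G38.by' H22.G38.bp H22.G38.bq H4.G38.bo H4.G38.dl H4.G38.cx H4.G38.cs H4.G38.ct H25.G38.cw
    H22.G38.id' H22.G38.ef H25.G38.pl H22.G38.es1 H22.G38.db) L hL hF hLX hR

end Cfsg.Agent.S3138
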