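import Cfsg.Statements.S3327
import Cfsg.Agent.H12.TE8
import Cfsg.Agent.H29.TE5
-- import your own Cfsg.Agent.* helpers here

set_option autoImplicit false
set_option maxHeartbeats 400000
open Cfsg

namespace Cfsg.Agent.S3327

/-- Let G be a finite group whose generalized Fitting subgroup F*(G) is a non-abelian simple group and in which every section has the B-property, and let L be a standard subgroup of G whose centralizer has cyclic Sylow 2-subgroups. Suppose L modulo its largest normal odd-order subgroup is isomorphic to the twisted group ²E₆(q), q = 2^n, realised over the field with q² elements. Then F*(G) is isomorphic to the Chevalley group of type E₆ over the field with q² elements. -/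
theorem result {G : Type*} [Group G] [Finite G]
    (hF : IsSimpleGroup ↥(Cfsg.generalizedFittingSubgroup G)) (hF' : ¬ IsMulCommutative ↥(Cfsg.generalizedFittingSubgroup G))
    (hB : Cfsg.HasStrongBProperty G) (L : Subgroup G) (hL : Cfsg.IsStandardSubgroup L)
    (hR : ∀ R : Sylow 2 ↥(Subgroup.centralizer (L : Set G)), IsCyclic ↥(R : Subgroup ↥(Subgroup.centralizer (L : Set G))))
    (n : ℕ) (hn : 1 ≤ n) {K : Type*} [Field K] [Fintype K] (hK : Fintype.card K = (2 ^ n) ^ 2) (hLX : Nonempty ((↥L ⧸ Cfsg.oddCore ↥L) ≃* ↥(Cfsg.Lie.twistedE6 K (2 ^ n)))) :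
    ∃ (K' : Type) (_ : Field K') (_ : Fintype K'), Fintype.card K' = (2 ^ n) ^ 2 ∧ Nonempty (↥(Cfsg.generalizedFittingSubgroup G) ≃* ↥(Cfsg.Lie.chevE6.group K')) := by
  exact H12.TE.main H29.TE.fin hF hF' L hL hR n hn hK hLX

end Cfsg.Agent.S3327
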