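import Cfsg.Statements.S3152
import Cfsg.Agent.H12.AE8
import Cfsg.Agent.H4.AE3
import Cfsg.Agent.S3127
import Cfsg.Agent.S3128
import Cfsg.Agent.S3129
import Cfsg.Agent.S3130
import Cfsg.Agent.S3326
import Cfsg.Agent.S3327
import Cfsg.Agent.S3328
-- import your own Cfsg.Agent.* helpers here

set_option autoImplicit false
set_option maxHeartbeats 400000
universe u
open Cfsg

namespace Cfsg.Agent.S3152

/-- Let G be a finite group with no nontrivial normal subgroup of odd order in which every section has the B-property. Assume the following: whenever X is a finite group with no nontrivial normal odd-order subgroup and P is a quasisimple standard subgroup of X whose centre has odd order, whose centralizer has cyclic Sylow 2-subgroups, and whose central quotient is the symplectic group of dimension 6 over the field with 2 elements, the simple orthogonal group PΩ⁺ or PΩ⁻ of dimension 8 over that field, or the projective special unitary group of dimension 6 with parameter 2 (realised over the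 field with 4 elements), then P is normal in X, or the layer E(X) is isomorphic to P × P, or E(X) modulo its centre is a group of Lie type in characteristic 2 (or the Tits group), or P is the orthogonal group PΩ⁺ of dimension 8 over the field with 2 elements and E(X) is the Fischer group Fi22. Let A be a standard subgroup of G whose centre has odd order and whose central quotient is a simple group of Lie type in characteristic 2 of Lie rank at least 3 (a projective special linear group of dimension at least 4, a symplectic group of dimension at least 6, a unitary group of dimension at least 6, an orthogonal group PΩ± of dimension at least 8, a group of type F₄, E₆, E₇ or E₈, or a twisted group of type ²E₆, over a field of characteristic 2); suppose the centralizer of A has cyclic Sylow 2-subgroups and let t be an involution centralizing A. Then A lies in the layer E(G), and one of the following holds: t is central in G; E(G) modulo its centre is isomorphic to the direct product of two copies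 of A modulo its centre; E(G) modulo its centre is a group of Lie type in characteristic 2 (or the Tits group) and no element of E(G) induces on E(G) the same conjugation action as t; A is the projective special linear group of dimension 4 over the field with 2 elements and G is isomorphic to the automorphism group of the Higman–Sims group; or A modulo its centre is the orthogonal group PΩ⁺ of dimension 8 over the field with 2 elements and G is isomorphic to the automorphism group of the Fischer group Fi22; or A modulo its centre is the projective special linear group of dimension 4 over the field with 2 elements (the alternating group of degree 8) and E(G) modulo its centre is the alternating group of degree 10. -/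
theorem result {G : Type u} [Group G] [Finite G] (hO : Cfsg.oddCore G = ⊥) (hB : Cfsg.HasStrongBProperty G)
    (hstar : ∀ (X : Type u) [Group X] [Finite X] (P : Subgroup X), Cfsg.IsQuasisimple ↥P → Odd (Nat.card ↥(Subgroup.center ↥P)) →
      (∃ (F : Type) (_ : Field F) (_ : Fintype F), Fintype.card F = 2 ∧
          (Nonempty ((↥P ⧸ Subgroup.center ↥P) ≃* Cfsg.PSp 3 F) ∨ Nonempty ((↥P ⧸ Subgroup.center ↥P) ≃* Cfsg.POmega F (Cfsg.quadFormPlus 4 F)) ∨
            ∃ a b : F, (∀ z₁ z₂ : F, z₁ ^ 2 + a * z₁ * z₂ + b * z₂ ^ 2 = 0 → z₁ = 0 ∧ z₂ = 0) ∧ Nonempty ((↥P ⧸ Subgroup.center ↥P) ≃* Cfsg.POmega F (Cfsg.quadFormMinus 3 F a b))) ∨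
        ∃ (F : Type) (_ : Field F) (_ : Fintype F), Fintype.card F = 4 ∧ Nonempty ((↥P ⧸ Subgroup.center ↥P) ≃* Cfsg.PSU 6 F 2)) →
      Cfsg.IsStandardSubgroup P → Cfsg.oddCore X = ⊥ →
      (∀ R : Sylow 2 ↥(Subgroup.centralizer (P : Set X)), IsCyclic ↥(R : Subgroup ↥(Subgroup.centralizer (P : Set X)))) →
      P.Normal ∨ Nonempty (↥(Cfsg.layer X) ≃* ↥P × ↥P) ∨
        Cfsg.IsLieTypeChar 2 (↥(Cfsg.layer X) ⧸ Subgroup.center ↥(Cfsg.layer X)) ∨ Cfsg.Lie.IsoTits (↥(Cfsg.layer X) ⧸ Subgroup.center ↥(Cfsg.layer X)) ∨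
        (∃ (F : Type) (_ : Field F) (_ : Fintype F), Fintype.card F = 2 ∧ Nonempty (↥P ≃* Cfsg.POmega F (Cfsg.quadFormPlus 4 F)) ∧ Cfsg.Spor.IsoFi22 ↥(Cfsg.layer X)))
    (A : Subgroup G) (hA : Cfsg.IsStandardSubgroup A) (hZ : Odd (Nat.card ↥(Subgroup.center ↥A)))
    (hAX : ((∃ (F : Type) (_ : Field F) (_ : Fintype F) (_ : CharP F 2) (n : ℕ), 4 ≤ n ∧ Nonempty ((↥A ⧸ Subgroup.center ↥A) ≃* Matrix.ProjectiveSpecialLinearGroup (Fin n) F)) ∨
      (∃ (F : Type) (_ : Field F) (_ : Fintype F) (_ : CharP F 2) (k : ℕ), 3 ≤ k ∧ Nonempty ((↥A ⧸ Subgroup.center ↥A) ≃* Cfsg.PSp k F)) ∨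
      (∃ (F : Type) (_ : Field F) (_ : Fintype F) (_ : CharP F 2) (n q : ℕ), 6 ≤ n ∧ Fintype.card F = q ^ 2 ∧ Nonempty ((↥A ⧸ Subgroup.center ↥A) ≃* Cfsg.PSU n F q)) ∨
      (∃ (F : Type) (_ : Field F) (_ : Fintype F) (_ : CharP F 2) (k : ℕ), 4 ≤ k ∧
        (Nonempty ((↥A ⧸ Subgroup.center ↥A) ≃* Cfsg.POmega F (Cfsg.quadFormPlus k F)) ∨
          ∃ a b : F, (∀ z₁ z₂ : F, z₁ ^ 2 + a * z₁ * z₂ + b * z₂ ^ 2 = 0 → z₁ = 0 ∧ z₂ = 0) ∧ Nonempty ((↥A ⧸ Subgroup.center ↥A) ≃* Cfsg.POmega F (Cfsg.quadFormMinus (k - 1) F a b)))) ∨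
      (∃ (F : Type) (_ : Field F) (_ : Fintype F) (_ : CharP F 2),
        Nonempty ((↥A ⧸ Subgroup.center ↥A) ≃* ↥(Cfsg.Lie.chevF4.group F)) ∨ Nonempty ((↥A ⧸ Subgroup.center ↥A) ≃* ↥(Cfsg.Lie.chevE6.group F)) ∨
          Nonempty ((↥A ⧸ Subgroup.center ↥A) ≃* ↥(Cfsg.Lie.chevE7.group F)) ∨ Nonempty ((↥A ⧸ Subgroup.center ↥A) ≃* ↥(Cfsg.Lie.chevE8.group F))) ∨
      (∃ (K : Type) (_ : Field K) (_ : Fintype K) (_ : CharP K 2) (q : ℕ), Fintype.card K = q ^ 2 ∧ Nonempty ((↥A ⧸ Subgroup.center ↥A) ≃* ↥(Cfsg.Lie.twistedE6 K q)))))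
    (hR : ∀ R : Sylow 2 ↥(Subgroup.centralizer (A : Set G)), IsCyclic ↥(R : Subgroup ↥(Subgroup.centralizer (A : Set G))))
    (t : G) (ht : orderOf t = 2) (htA : t ∈ Subgroup.centralizer (A : Set G)) :
    A ≤ Cfsg.layer G ∧
    (t ∈ Subgroup.center G ∨
      Nonempty ((↥(Cfsg.layer G) ⧸ Subgroup.center ↥(Cfsg.layer G)) ≃* (↥A ⧸ Subgroup.center ↥A) × (↥A ⧸ Subgroup.center ↥A)) ∨
      ((Cfsg.IsLieTypeChar 2 (↥(Cfsg.layer G) ⧸ Subgroup.center ↥(Cfsg.layer G)) ∨ Cfsg.Lie.IsoTits (↥(Cfsg.layer G) ⧸ Subgroup.center ↥(Cfsg.layer G))) ∧ ¬ (∃ e : G, e ∈ Cfsg.layer G ∧ ∀ x ∈ Cfsg.layer G, t * x * t⁻¹ = e * x * e⁻¹)) ∨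
      (∃ (F : Type) (_ : Field F) (_ : Fintype F), Fintype.card F = 2 ∧ Nonempty (↥A ≃* Matrix.ProjectiveSpecialLinearGroup (Fin 4) F) ∧
        Nonempty (G ≃* MulAut ↥Cfsg.Spor.HS)) ∨
      (∃ (F : Type) (_ : Field F) (_ : Fintype F), Fintype.card F = 2 ∧ Nonempty ((↥A ⧸ Subgroup.center ↥A) ≃* Cfsg.POmega F (Cfsg.quadFormPlus 4 F)) ∧
        Nonempty (G ≃* MulAut Cfsg.Spor.Fi22)) ∨
      (∃ (F : Type) (_ : Field F) (_ : Fintype F), Fintype.card F = 2 ∧ Nonempty ((↥A ⧸ Subgroup.center ↥A) ≃* Matrix.ProjectiveSpecialLinearGroup (Fin 4) F) ∧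
        Nonempty ((↥(Cfsg.layer G) ⧸ Subgroup.center ↥(Cfsg.layer G)) ≃* ↥(alternatingGroup (Fin 10))))) := by
  exact H4.AE.asm H12.A8.a8m @S3127.result @S3128.result @S3129.result @S3130.result @S3326.result @S3327.result @S3328.result hO hB hstar A hA hZ hAX hR t ht htA

end Cfsg.Agent.S3152
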