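import Cfsg.Statements.S3170
import Cfsg.Agent.H1.Gd8

set_option autoImplicit false
open Cfsg

namespace Cfsg.Agent.S3170

/-- Let H be a finite group with no nontrivial normal subgroup of odd order whose Sylow 2-subgroup T is isomorphic to a Sylow 2-subgroup of the Mathieu group of degree 24, and suppose that the centre of T lies in the centre of H. If E is a subgroup of T that is normal in T and extraspecial of order 2^7, and E is the only such subgroup of T, then E is normal in H. -/
theorem result {H : Type*} [Group H] [Finite H]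
    (hO : Cfsg.oddCore H = ⊥) (T : Sylow 2 H) (P : Sylow 2 ↥Cfsg.M24)
    (hT : Nonempty (↥(T : Subgroup H) ≃* ↥(P : Subgroup ↥Cfsg.M24)))
    (hZ : ∀ z ∈ (T : Subgroup H), (∀ t ∈ (T : Subgroup H), z * t = t * z) → z ∈ Subgroup.center H)
    (E : Subgroup H) (hE : E ≤ (T : Subgroup H)) (hEn : (E.subgroupOf (T : Subgroup H)).Normal)
    (hEx : Cfsg.IsExtraspecial 2 ↥E) (hE7 : Nat.card ↥E = 2 ^ 7)
    (huniq : ∀ E' : Subgroup H, E' ≤ (T : Subgroup H) → (E'.subgroupOf (T : Subgroup H)).Normal →
      Cfsg.IsExtraspecial 2 ↥E' → Nat.card ↥E' = 2 ^ 7 → E' = E) :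
    E.Normal := by
  exact Subgroup.normalizer_eq_top_iff.1 (top_le_iff.1 (H1.Gd.deckers' (H18.Be.O_top.trans hO)
    (H19.syl_sylow_top T) P hT.some (fun z hz => Subgroup.mem_centralizer_iff.2 fun g _ =>
      Subgroup.mem_center_iff.1 (hZ z hz.1 fun t ht => (Subgroup.mem_centralizer_iff.1 hz.2 t ht).symm) g)
    ⟨hE, (Subgroup.normal_subgroupOf_iff_le_normalizer hE).1 hEn⟩ hEx hE7))

end Cfsg.Agent.S3170
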