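import Cfsg.Statements.S3216
import Cfsg.Agent.H25.TZ6

set_option autoImplicit false
open Cfsg

namespace Cfsg.Agent.S3216
open _root_.H25 Subgroup

/-- Let G be a finite non-abelian simple group and t an involution of G; write C = C_G(t) and C̄ = C/O(C). If the subgroup of C̄ generated by its 2-elements (the smallest normal subgroup of C̄ of odd index) is isomorphic to Z₂ × PSL₂(q) for some prime power q > 3, then the Sylow 2-subgroups of G are elementary abelian of order 8. -/
theorem result {G : Type*} [Group G] [Finite G] [IsSimpleGroup G]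
    (hG : ¬ IsMulCommutative G) (t : G) (ht : orderOf t = 2) {F : Type*} [Field F] [Fintype F] (hF : 3 < Fintype.card F)
    (hL : Nonempty (↥(Subgroup.closure {x : (↥(Subgroup.centralizer ({t} : Set G)) ⧸ Cfsg.oddCore ↥(Subgroup.centralizer ({t} : Set G))) | ∃ k : ℕ, orderOf x = 2 ^ k}) ≃*
      (Multiplicative (ZMod 2) × Matrix.ProjectiveSpecialLinearGroup (Fin 2) F))) (S : Sylow 2 G) :
    Nat.card ↥(S : Subgroup G) = 8 ∧ ∀ x ∈ (S : Subgroup G), x ^ 2 = 1 := by
  haveI : (Subgroup.closure {x : (↥(Subgroup.centralizer ({t} : Set G)) ⧸ oddCore ↥(Subgroup.centralizer ({t} : Set G))) | ∃ k : ℕ, orderOf x = 2 ^ k}).Normal :=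
    ⟨fun x hx g => Subgroup.closure_induction (p := fun x _ => g * x * g⁻¹ ∈ Subgroup.closure {x | ∃ k : ℕ, orderOf x = 2 ^ k})
      (fun x hx => Subgroup.subset_closure (Exists.imp (fun k hk => (H19.orderOf_conj' g x).trans hk) hx)) (by simp)
      (fun x y _ _ a b => by rw [← conj_mul]; exact mul_mem a b) (fun x _ a => by rw [← conj_inv]; exact inv_mem a) hx⟩
  obtain ⟨e⟩ := hL
  obtain ⟨D, h, hs, h4⟩ := H25.TZ.split' (M := Subgroup.closure {x | ∃ k : ℕ, orderOf x = 2 ^ k}) hF ht (QuotientGroup.mk'_surjective _)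
    (fun x hx => (H19.PiN.of_not_dvd (H1.odd_card_oddCore (G := Subgroup.centralizer ({t} : Set G))).not_two_dvd_nat).dvd
      ((Subgroup.orderOf_coe x).dvd.trans (H19.orderOf_dvd_card' ((QuotientGroup.eq_one_iff x).1 hx))))
    (fun x hx => Subgroup.subset_closure (hx.exists_pow (orderOf_pos x).ne')) e
    (((IsSimpleGroup.eq_bot_or_eq_top_of_normal (commutator G) inferInstance).resolve_left fun k =>
      hG (H19.comm_iff_der.2 k |> fun k => ⟨⟨fun a b => H19.mul_comm_of_comm k trivial trivial⟩⟩)).ge trivial)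
  obtain ⟨g, -, e⟩ := hs.sconj (H19.syl_sylow_top S)
  refine ⟨by rw [← e, H19.card_cj, h.card, h4], fun x hx => ?_⟩
  obtain ⟨y, hy, rfl⟩ := H19.mem_cj'.1 (e.ge hx)
  rw [pow_two, H25.TZ.conj_sq (h.sqT hy)]

end Cfsg.Agent.S3216
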