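import Cfsg.Statements.S3242
import Cfsg.Agent.H26.J4.M4
import Cfsg.Agent.H20.J4.JT
import Cfsg.Agent.H20.J4.KC

set_option autoImplicit false
open Cfsg

namespace Cfsg.Agent.S3242

/-- Let G be a finite group with an element π of order 3 whose centralizer C_G(π) is isomorphic to the perfect 6-fold cover of M₂₂ (C_G(π) is perfect with cyclic centre of order 6 and central quotient ≅ M₂₂). If G is not 3-normal — the centre of a Sylow 3-subgroup P has a G-conjugate lying in P other than itself — then G is isomorphic to the Janko group J₄. -/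
theorem result {G : Type*} [Group G] [Finite G]
    (π : G) (hπ : orderOf π = 3)
    (hperf : ⁅(⊤ : Subgroup ↥(Subgroup.centralizer ({π} : Set G))), (⊤ : Subgroup ↥(Subgroup.centralizer ({π} : Set G)))⁆ = ⊤)
    (hZ : IsCyclic ↥(Subgroup.center ↥(Subgroup.centralizer ({π} : Set G))))
    (hZ6 : Nat.card ↥(Subgroup.center ↥(Subgroup.centralizer ({π} : Set G))) = 6)
    (e : (↥(Subgroup.centralizer ({π} : Set G)) ⧸ Subgroup.center ↥(Subgroup.centralizer ({π} : Set G))) ≃* ↥Cfsg.Spor.M22)
    (P : Sylow 3 G) (g : G)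
    (hng : ((Subgroup.center ↥(P : Subgroup G)).map (P : Subgroup G).subtype).map (MulAut.conj g).toMonoidHom ≤ (P : Subgroup G))
    (hne : ((Subgroup.center ↥(P : Subgroup G)).map (P : Subgroup G).subtype).map (MulAut.conj g).toMonoidHom ≠
      (Subgroup.center ↥(P : Subgroup G)).map (P : Subgroup G).subtype) :
    Cfsg.Spor.IsoJ4 G := by
  obtain ⟨z, ξ, h, -⟩ := H26.J4.k5_of hπ hperf hZ (.inr hZ6) e
  rw [H0.center_map_eq] at hng hne
  obtain ⟨_, _, k⟩ := H26.J4.cf_of h P g hng hne
  obtain ⟨_, _, _, _, _, _, _, _, _, -, k⟩ := H20.J4.s4_of_jt k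
  exact k.isoJ

end Cfsg.Agent.S3242
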