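import Cfsg.Statements.S3255
import Cfsg.Agent.H13.Sx5

set_option autoImplicit false
open Cfsg H13.Sx

namespace Cfsg.Agent.S3255

/-- Let G be a finite triply transitive permutation group on a set Ω of more than 3 points whose size is divisible by 3. Then every nontrivial normal subgroup H of G has at most two orbits on the set of ordered triples of distinct points of Ω; and if moreover |Ω| ≢ 2 (mod 4), then H is triply transitive or H contains a normal subgroup isomorphic to PSL₂(q) with q = |Ω| − 1. -/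
theorem result {G : Type*} [Group G] [Finite G]
    {Ω : Type*} [Fintype Ω] [MulAction G Ω] [FaithfulSMul G Ω] (h3 : MulAction.IsMultiplyPretransitive G Ω 3)
    (hΩ : 3 ∣ Fintype.card Ω) (hΩ3 : 3 < Fintype.card Ω) (H : Subgroup G) [hHn : H.Normal] (hH : H ≠ ⊥) :
    Nat.card (MulAction.orbitRel.Quotient ↥H (Fin 3 ↪ Ω)) ≤ 2 ∧
      (Fintype.card Ω % 4 ≠ 2 → MulAction.IsMultiplyPretransitive ↥H Ω 3 ∨
        ∃ (N : Subgroup ↥H) (F : Type) (_ : Field F) (_ : Fintype F), N.Normal ∧ Fintype.card F + 1 = Fintype.card Ω ∧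
          Nonempty (↥N ≃* Matrix.ProjectiveSpecialLinearGroup (Fin 2) F)) := by

  rw [← Nat.card_eq_fintype_card] at hΩ hΩ3 ⊢
  haveI : Nontrivial Ω := Finite.one_lt_card_iff_nontrivial.1 (by omega)
  have t3 := t3_top.1 h3
  have t2 : T2 Ω H := by
    rcases H24.jordan_normal 1 h3 hΩ3 H hH with h | ⟨-, -, h, ht, hr⟩
    · exact t2_iff.1 h
    obtain ⟨a⟩ : Nonempty Ω := inferInstance
    obtain ⟨k, hk⟩ := IsPGroup.exists_card_eq (p := 2) (G := H) fun g => ⟨1, Subtype.ext (h g g.2)⟩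
    rw [← H17.card_eq_of_regular H ht a (hr a), hk] at hΩ
    exact absurd (Nat.prime_three.dvd_of_dvd_pow hΩ) (by decide)
  obtain ⟨a, b, hab, ho⟩ := partA t3 hΩ t2
  refine ⟨two_orb t2 hab ho, fun h4 => or_iff_not_imp_left.2 fun h => ?_⟩
  rw [t3_iff] at h
  have he : Even (Nat.card Ω) := Nat.not_odd_iff_even.1 fun e => h (wag t3 e t2 hab)
  obtain ⟨-, N, hN, hle, F, _, _, e, ⟨f⟩⟩ := (core t3 (Nat.Coprime.mul_dvd_of_dvd_of_dvd
    (by norm_num : Nat.Coprime 2 3) he.two_dvd hΩ) t2 hab (Or.inr (partB t3 (by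
      obtain ⟨k, hk⟩ := he; omega) t2 hab ho h))).resolve_left h
  exact ⟨N.subgroupOf H, F, _, _, inferInstance, e, ⟨(Subgroup.subgroupOfEquivOfLe hle).trans f⟩⟩

end Cfsg.Agent.S3255
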