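import Cfsg.Statements.S3947
import Cfsg.Agent.H23.Zip
import Mathlib

set_option autoImplicit false
open Cfsg

namespace Cfsg.Agent.S3947

open Subgroup

/-- Let G be a finite group and A a proper subgroup of G whose normal closure is G. Let Y be the join of all proper subgroups H of G that contain A and are generated by their own conjugates of A (the normal closure of A in H is H). Then either Y = G, or A is contained in exactly one maximal subgroup of G. -/
theorem result {G : Type*} [Group G] [Finite G] (A : Subgroup G) (hA : Subgroup.normalClosure (A : Set G) = ⊤) (hAG : A ≠ ⊤) :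
    sSup {H : Subgroup G | A ≤ H ∧ H ≠ ⊤ ∧ Subgroup.normalClosure ((A.subgroupOf H : Subgroup ↥H) : Set ↥H) = ⊤} = ⊤ ∨
      ∃! M : Subgroup G, IsCoatom M ∧ A ≤ M := by
  refine or_iff_not_imp_left.2 fun h => ?_
  obtain ⟨M, hM, hY⟩ := H1.exists_coatom_ge h
  have h1 : ∀ S : Subgroup G, A ≤ S → S ≠ ⊤ → normalClosure ((A.subgroupOf S : Subgroup S) : Set S) = ⊤ → S ≤ M :=
    fun S a b c => le_trans (le_sSup (by exact ⟨a, b, c⟩)) hY
  have h0 : normalClosure ((A.subgroupOf A : Subgroup A) : Set A) = ⊤ := by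
    rw [subgroupOf_self]; exact top_unique le_normalClosure
  refine ⟨M, ⟨hM, h1 A le_rfl hAG h0⟩, fun K ⟨hK, hAK⟩ => by_contra fun hn => ?_⟩
  obtain ⟨S, -, ⟨s1, s2, K, k1, k2, k3⟩, s3⟩ := H1.exists_maximal_ge (P := fun S : Subgroup G => A ≤ S ∧
    normalClosure ((A.subgroupOf S : Subgroup S) : Set S) = ⊤ ∧ ∃ K, IsCoatom K ∧ K ≠ M ∧ S ≤ K) ⟨le_rfl, h0, K, hK, hn, hAK⟩
  refine k2 (H23.flavell_zipper (eq_top_iff.2 (hA ▸ normalClosure_mono s1)) hM
    (h1 S s1 (fun e => k1.1 (top_le_iff.1 (e ▸ k3))) s2) (fun W a b c => ?_) k1 k3)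
  obtain ⟨T, t1, t2, t3⟩ := H23.exists_snClosure (s1.trans c)
  refine s3 T ⟨t1, t3, W, a, b, t2.le⟩ (by_contra fun e => ?_) ▸ t2
  have h2 := t2.inf_right S
  rw [inf_eq_right.2 c] at h2
  obtain ⟨N, n1, n2, n3⟩ := h2.exists_normal_lt fun f => e (inf_eq_right.1 f)
  have := (normal_subgroupOf_iff_le_normalizer n2.le).2 n3
  refine n2.not_ge (subgroupOf_eq_top.1 (eq_top_iff.2 (s2 ▸ normalClosure_le_normal fun x hx => ?_)))
  exact n1 ⟨t1 hx, s1 hx⟩

end Cfsg.Agent.S3947
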