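import Cfsg.Statements.S3927
import Cfsg.Agent.S3947
import Cfsg.Agent.H1.Wielandt
import Cfsg.Agent.H2.Action

set_option autoImplicit false
open Cfsg

namespace Cfsg.Agent.S3927

open Subgroup SemidirectProduct
open scoped Pointwise

theorem gen (k : ℕ) (X : Type*) [Group X] [Finite X] : ∀ a : X,
    normalClosure (zpowers a : Set X) = ⊤ →
    closure (Set.range (fun x => x * a * x⁻¹ * a⁻¹)^[k]) ⊔ zpowers a = ⊤ := by
  refine H1.induction_card (P := fun X _ _ => ∀ a : X, normalClosure (zpowers a : Set X) = ⊤ →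
    closure (Set.range (fun x => x * a * x⁻¹ * a⁻¹)^[k]) ⊔ zpowers a = ⊤) (fun X _ _ ih a h => ?_) X
  by_cases h0 : zpowers a = ⊤
  · rw [h0, sup_top_eq]
  rcases S3947.result (zpowers a) h h0 with h1 | ⟨M, ⟨hM, haM⟩, hu⟩
  · rw [eq_top_iff, ← h1]
    refine sSup_le fun H ⟨h2, h3, h4⟩ => ?_
    have e : (zpowers a).subgroupOf H = zpowers (⟨a, zpowers_le.1 h2⟩ : H) := by
      rw [← H1.map_subtype_subgroupOf (zpowers (⟨a, zpowers_le.1 h2⟩ : H)), MonoidHom.map_zpowers]
      rfl
    have := congrArg (Subgroup.map H.subtype)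
      (ih H (H1.card_lt_of_ne_top h3) ⟨a, zpowers_le.1 h2⟩ (e ▸ h4))
    rw [H1.map_subtype_top, Subgroup.map_sup, MonoidHom.map_zpowers, MonoidHom.map_closure] at this
    rw [← this]
    refine sup_le_sup_right (Subgroup.closure_mono ?_) _
    rintro _ ⟨_, ⟨x, rfl⟩, rfl⟩
    exact ⟨x, ((Function.Semiconj.iterate_right (f := Subtype.val) (fun _ => rfl) k) x).symm⟩
  · by_contra h5
    obtain ⟨M', hM', hle⟩ := H1.exists_coatom_ge h5
    obtain rfl := hu M' ⟨hM', le_sup_right.trans hle⟩
    have h3 : ∀ n x, (fun x => x * a * x⁻¹ * a⁻¹)^[n] x ∈ M' → x ∈ M' := fun n => by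
      induction n with
      | zero => exact fun x hx => hx
      | succ n ih =>
        intro x hx
        have h4 := ih _ hx
        by_contra h5
        have h6 := hu _ ⟨H1.isCoatom_conj_smul hM x⁻¹, zpowers_le.2 (H1.mem_conj_smul_iff.2 (by
          simpa using mul_mem h4 (zpowers_le.1 haM)))⟩
        have := H1.normal_of_top_le_normalizer (hM.2 _ (lt_of_le_of_ne le_normalizer fun e => h5 (by
          rw [← inv_mem_iff, e]; exact H1.mem_normalizer_iff_conj_smul_eq.2 h6))).ge
        exact hM.1 (eq_top_iff.2 (h ▸ normalClosure_le_normal haM))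
    exact hM.1 (eq_top_iff.2 fun x _ => h3 k x (hle (mem_sup_left (subset_closure ⟨x, rfl⟩))))

/-- Let G be a finite group and α an automorphism of G with [G, α] = G, that is, the elements g·α(g)⁻¹ generate G. Then for every k ≥ 1 the iterated commutators [g, α, …, α] with k entries α — the values of the k-th iterate of the map c ↦ c·α(c)⁻¹ — also generate G. -/
theorem result {G : Type*} [Group G] [Finite G] (α : MulAut G) (hG : Subgroup.closure (Set.range (fun c : G => c * (α c)⁻¹)) = ⊤) (k : ℕ) (hk : 1 ≤ k) :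
    Subgroup.closure (Set.range ((fun c : G => c * (α c)⁻¹)^[k])) = ⊤ := by
  let φ : zpowers α →* MulAut G := (zpowers α).subtype
  let a : G ⋊[φ] zpowers α := inr ⟨α, mem_zpowers α⟩
  have hf : ∀ g : G, (inl g * a * (inl g)⁻¹ * a⁻¹ : G ⋊[φ] zpowers α) = inl (g * (α g)⁻¹) := by
    intro g
    rw [mul_assoc (inl g), mul_assoc (inl g), ← map_inv, H2.inr_mul_inl_mul_inv, ← map_mul, map_inv]
    rfl
  have hdec : ∀ x : G ⋊[φ] zpowers α, inr x.right ∈ zpowers a := fun x => by
    obtain ⟨n, hn⟩ := x.right.2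
    exact ⟨n, (map_zpow inr _ n).symm.trans (congrArg inr (Subtype.ext hn))⟩
  have h1 : normalClosure (zpowers a : Set (G ⋊[φ] zpowers α)) = ⊤ := by
    have ha : a ∈ normalClosure (zpowers a : Set (G ⋊[φ] zpowers α)) :=
      subset_normalClosure (mem_zpowers a)
    have : ⊤ ≤ (normalClosure (zpowers a : Set (G ⋊[φ] zpowers α))).comap inl := by
      rw [← hG, closure_le]
      rintro _ ⟨g, rfl⟩
      show inl _ ∈ normalClosure _
      rw [← hf]
      exact mul_mem (Normal.conj_mem inferInstance a ha _) (inv_mem ha)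
    refine eq_top_iff.2 fun x _ => ?_
    rw [← inl_left_mul_inr_right x]
    exact mul_mem (this (mem_top x.left)) (subset_normalClosure (hdec x))
  have h2 := gen k _ a h1
  set E := closure (Set.range (fun c : G => c * (α c)⁻¹)^[k]) with hE
  have hα : ∀ g ∈ E, α g ∈ E := by
    intro g hg
    have : E ≤ E.comap α.toMonoidHom := by
      rw [hE, closure_le]
      rintro _ ⟨x, rfl⟩
      exact subset_closure ⟨α x, ((Function.Semiconj.iterate_right (f := α)
        (fun _ => by simp) k) x).symm⟩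
    exact this hg
  have hφ : ∀ b : zpowers α, ∀ g ∈ E, φ b g ∈ E := by
    rintro ⟨b, hb⟩
    obtain ⟨n, rfl⟩ := mem_powers_iff_mem_zpowers.2 hb
    show ∀ g ∈ E, (α ^ n) g ∈ E
    induction n with
    | zero => exact fun g hg => hg
    | succ n ih => intro g hg; rw [pow_succ']; exact hα _ (ih (pow_mem (mem_zpowers α) n) g hg)
  let W : Subgroup (G ⋊[φ] zpowers α) :=
    { carrier := {x | x.left ∈ E}
      one_mem' := E.one_mem
      mul_mem' := fun {x y} hx hy => by
        show (x * y).left ∈ E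
        rw [mul_left]; exact mul_mem hx (hφ _ _ hy)
      inv_mem' := fun {x} hx => by
        show x⁻¹.left ∈ E
        rw [inv_left]; exact hφ _ _ (inv_mem hx) }
  have h3 : ⊤ ≤ W := by
    rw [← h2, sup_le_iff, closure_le, zpowers_le]
    refine ⟨?_, E.one_mem⟩
    rintro _ ⟨x, rfl⟩
    obtain ⟨j, rfl⟩ := Nat.exists_eq_add_of_le' hk
    have e1 : x * a * x⁻¹ * a⁻¹ = inl (x.left * (α x.left)⁻¹) := by
      rw [← hf]
      have : inr x.right * a = a * inr x.right := by
        obtain ⟨n, hn⟩ := hdec x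
        rw [← hn]; exact (Commute.zpow_self a n).eq
      conv_lhs => rw [← inl_left_mul_inr_right x]
      rw [mul_assoc (inl _), this]; group
    have e2 := (Function.Semiconj.iterate_right (f := (inl : G →* G ⋊[φ] zpowers α))
      (ga := fun c : G => c * (α c)⁻¹) (gb := fun x => x * a * x⁻¹ * a⁻¹) (fun g => (hf g).symm) j)
      (x.left * (α x.left)⁻¹)
    show ((fun x => x * a * x⁻¹ * a⁻¹)^[j + 1] x).left ∈ E
    rw [Function.iterate_succ_apply, e1, ← e2, left_inl]
    exact subset_closure ⟨x.left, rfl⟩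
  exact eq_top_iff.2 fun g _ => h3 (mem_top (inl g))

end Cfsg.Agent.S3927
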