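import Cfsg.Statements.S3949
import Cfsg.Agent.H23.Elem
import Cfsg.Agent.H1.Core

set_option autoImplicit false
open Cfsg

namespace Cfsg.Agent.S3949

/-- Let G be a finite group and α an automorphism of G of order 2 such that the elements g·α(g)⁻¹ generate G. Let j be a positive integer such that 2^j divides the order of no element inverted by α. Then the set of values of the j-th iterate of the map c ↦ c·α(c)⁻¹ is exactly the set of elements of odd order inverted by α. -/
theorem result {G : Type*} [Group G] [Finite G] (α : MulAut G) (hα : orderOf α = 2) (hG : Subgroup.closure (Set.range (fun c : G => c * (α c)⁻¹)) = ⊤)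
    (j : ℕ) (hj : ∀ g : G, α g = g⁻¹ → ¬ 2 ^ j ∣ orderOf g) :
    Set.range ((fun c : G => c * (α c)⁻¹)^[j]) = {g : G | Odd (orderOf g) ∧ α g = g⁻¹} := by
  have hαα : ∀ g, α (α g) = g := fun g => by
    rw [← MulAut.mul_apply, ← pow_two, ← hα, pow_orderOf_eq_one, MulAut.one_apply]
  set f := fun c : G => c * (α c)⁻¹ with hf
  have hj0 : j ≠ 0 := by
    rintro rfl
    exact hj 1 (by simp) (by simp)
  have h1 : ∀ c, α (f c) = (f c)⁻¹ := fun c => by simp [hf, hαα]
  have h2 : ∀ (n : ℕ) (c : G), α c = c⁻¹ → f^[n] c = c ^ 2 ^ n := by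
    intro n
    induction n with
    | zero => simp
    | succ n ih =>
      intro c hc
      rw [Function.iterate_succ_apply', ih c hc, hf]
      simp only [map_pow, hc, inv_pow, inv_inv, ← pow_add]
      congr 1; ring
  obtain ⟨i, rfl⟩ := Nat.exists_eq_succ_of_ne_zero hj0
  ext g
  constructor
  · rintro ⟨c, rfl⟩
    rw [Function.iterate_succ_apply, h2 i _ (h1 c)]
    refine ⟨?_, by rw [map_pow, h1, inv_pow]⟩
    have h3 := hj _ (h1 c)
    rw [orderOf_pow, ← Nat.not_even_iff_odd, even_iff_two_dvd]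
    intro h4
    apply h3
    obtain ⟨k, hk, hg⟩ := (Nat.dvd_prime_pow Nat.prime_two).1 (Nat.gcd_dvd_right (orderOf (f c)) (2 ^ i))
    have h5 : 2 ^ (k + 1) ∣ orderOf (f c) := by
      rw [pow_succ, ← hg]
      exact (Nat.dvd_div_iff_mul_dvd (Nat.gcd_dvd_left _ _)).1 h4
    rcases hk.lt_or_eq with hk | rfl
    · have h6 := Nat.dvd_gcd h5 (pow_dvd_pow 2 hk)
      rw [hg, Nat.pow_dvd_pow_iff_le_right one_lt_two] at h6
      omega
    · exact h5
  · rintro ⟨ho, hg⟩
    obtain ⟨m, hm⟩ := exists_pow_eq_self_of_coprime (x := g) (n := 2 ^ (i + 1))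
      ((H1.coprime_two_iff_odd.2 ho).symm.pow_left _)
    refine ⟨g ^ m, ?_⟩
    rw [h2 _ _ (by rw [map_pow, hg, inv_pow]), ← pow_mul, mul_comm, pow_mul, hm]

end Cfsg.Agent.S3949
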