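import Cfsg.Statements.S3264
import Cfsg.Agent.S3927
import Cfsg.Agent.S3949

set_option autoImplicit false
open Cfsg

namespace Cfsg.Agent.S3264

/-- Let G be a non-abelian finite simple group and X a conjugacy class of involutions of G. Form the graph on X in which two distinct involutions are joined when their product has odd order. Then this graph is connected. (By the Baer–Suzuki Theorem the graph has at least one edge; connectedness is the stronger statement.) -/
theorem result {G : Type*} [Group G] [Finite G] [IsSimpleGroup G]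
    (hG : ¬ IsMulCommutative G) (t : G) (ht : orderOf t = 2) :
    (SimpleGraph.fromRel fun x y : {x : G // IsConj t x} => Odd (orderOf (x.1 * y.1))).Connected := by
  have tt : t * t = 1 := by rw [← sq, ← ht, pow_orderOf_eq_one]
  have ti : t⁻¹ = t := inv_eq_of_mul_eq_one_right tt
  have nc : ¬ ∀ c : G, c * t = t * c := fun h => by
    rcases IsSimpleGroup.eq_bot_or_eq_top_of_normal (Subgroup.center G) inferInstance with e | e
    · have : t ∈ Subgroup.center G := Subgroup.mem_center_iff.2 h
      rw [e, Subgroup.mem_bot] at this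
      simp [this] at ht
    · exact hG ⟨⟨fun a b => Subgroup.mem_center_iff.1 (e.ge (Subgroup.mem_top b)) a⟩⟩
  have hα : orderOf (MulAut.conj t) = 2 := by
    refine orderOf_eq_prime (by rw [← map_pow, sq, tt, map_one]) fun h => nc fun c => ?_
    have := DFunLike.congr_fun h c
    simp only [MulAut.conj_apply, MulAut.one_apply] at this
    rw [← mul_inv_eq_iff_eq_mul.1 this]
  have h0 : Subgroup.closure (Set.range (fun c : G => c * (MulAut.conj t c)⁻¹)) = ⊤ := by
    have mm (c : G) : c * (MulAut.conj t c)⁻¹ ∈ Subgroup.closure (Set.range (fun c : G => c * (MulAut.conj t c)⁻¹)) :=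
      Subgroup.subset_closure ⟨c, rfl⟩
    have nn : (Subgroup.closure (Set.range (fun c : G => c * (MulAut.conj t c)⁻¹))).Normal := ⟨fun n hn g => by
      induction hn using Subgroup.closure_induction with
      | mem x hx =>
        obtain ⟨c, rfl⟩ := hx
        convert mul_mem (mm (g * c)) (inv_mem (mm g)) using 1
        simp only [MulAut.conj_apply]; group
      | one => simp
      | mul x y _ _ p q => convert mul_mem p q using 1; group
      | inv x _ p => convert inv_mem p using 1; group⟩
    refine (IsSimpleGroup.eq_bot_or_eq_top_of_normal _ nn).resolve_left fun e => nc fun c => ?_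
    have := mm c
    rw [e, Subgroup.mem_bot, mul_inv_eq_one, MulAut.conj_apply, eq_mul_inv_iff_mul_eq] at this
    exact this
  have h1 := Cfsg.Agent.S3927.result _ h0 (Nat.card G) Nat.card_pos
  rw [Cfsg.Agent.S3949.result _ hα h0 (Nat.card G) fun g _ h => by
    have := Nat.le_of_dvd (orderOf_pos g) h
    have := _root_.orderOf_le_card (x := g)
    have := Nat.lt_two_pow_self (n := Nat.card G)
    omega] at h1
  set Γ := SimpleGraph.fromRel fun x y : {x : G // IsConj t x} => Odd (orderOf (x.1 * y.1)) with hΓ
  let f (g : G) (x : {x : G // IsConj t x}) : {x : G // IsConj t x} :=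
    ⟨g * x.1 * g⁻¹, x.2.trans (isConj_iff.2 ⟨g, rfl⟩)⟩
  have oc (g a b : G) : orderOf (g * a * g⁻¹ * (g * b * g⁻¹)) = orderOf (a * b) := by
    rw [show g * a * g⁻¹ * (g * b * g⁻¹) = MulAut.conj g (a * b) by simp only [MulAut.conj_apply]; group]
    exact MulEquiv.orderOf_eq _ _
  have mp (g : G) {x y} (h : Γ.Reachable x y) : Γ.Reachable (f g x) (f g y) :=
    h.map (⟨f g, fun {a b} p => by
      rw [hΓ, SimpleGraph.fromRel_adj] at p ⊢
      refine ⟨fun e => p.1 (Subtype.ext (by simpa [f] using congrArg Subtype.val e)), ?_⟩
      simpa only [f, oc] using p.2⟩ : Γ →g Γ)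
  let o : {x : G // IsConj t x} := ⟨t, IsConj.refl t⟩
  have fm (a b : G) : f a (f b o) = f (a * b) o := Subtype.ext (by simp only [f]; group)
  have f1 : f 1 o = o := Subtype.ext (by simp [f])
  have key (g : G) : Γ.Reachable o (f g o) := by
    have hg : g ∈ Subgroup.closure {g : G | Odd (orderOf g) ∧ MulAut.conj t g = g⁻¹} := h1.ge (Subgroup.mem_top g)
    induction hg using Subgroup.closure_induction with
    | mem y hy =>
      by_cases e : o = f y o
      · rw [← e]
      refine SimpleGraph.Adj.reachable ?_
      rw [hΓ, SimpleGraph.fromRel_adj]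
      refine ⟨e, .inl ?_⟩
      have h2 : t * (y * t * y⁻¹) = y⁻¹ ^ 2 := by
        have := hy.2
        rw [MulAut.conj_apply, ti] at this
        rw [sq]; nth_rw 2 [← this]; group
      change Odd (orderOf (t * (y * t * y⁻¹)))
      rw [h2]
      exact (orderOf_inv y ▸ hy.1 : Odd (orderOf y⁻¹)).of_dvd_nat (orderOf_pow_dvd 2)
    | one => rw [f1]
    | mul x y _ _ p q => exact p.trans (fm x y ▸ mp x q)
    | inv x _ p =>
      have := mp x⁻¹ p
      rw [fm, inv_mul_cancel, f1] at this
      exact this.symm
  have all (x : {x : G // IsConj t x}) : Γ.Reachable o x := by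
    obtain ⟨g, hg⟩ := isConj_iff.1 x.2
    exact (show f g o = x from Subtype.ext hg) ▸ key g
  have : Nonempty {x : G // IsConj t x} := ⟨o⟩
  exact ⟨fun x y => (all x).symm.trans (all y)⟩

end Cfsg.Agent.S3264
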