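import Cfsg.Statements.S3335
import Cfsg.Agent.S2530

set_option autoImplicit false
open Cfsg

namespace Cfsg.Agent.S3335

theorem key {G : Type*} [Group G] {k : ℕ} (y : Fin (k + 1) → G) (h0 : y 0 = 1) (h1 : ∀ i : Fin (k + 1), i.val = 1 → y i ^ 3 = 1)
    (h2 : ∀ i : Fin (k + 1), 2 ≤ i.val → y i ^ 2 = 1)
    (h3 : ∀ i j : Fin (k + 1), 0 < i.val → i < j → (y i * y j) ^ CoxeterMatrix.A (k + 1) i j = 1) (i j : Fin (k + 1)) :
    ((y i)⁻¹ * y j) ^ CoxeterMatrix.A (k + 1) i j = 1 ∧ (y i * (y j)⁻¹) ^ CoxeterMatrix.A (k + 1) i j = 1 := by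
  have c : ∀ (a b : G) (m : ℕ), (a * b) ^ m = 1 → (b * a) ^ m = 1 := fun a b m h => by
    rw [show b * a = a⁻¹ * (a * b) * a⁻¹⁻¹ by group, conj_pow, h]; simp
  wlog h : i < j generalizing i j
  · obtain rfl | h := (not_lt.1 h).eq_or_lt
    · simp
    have := this j i h
    rw [(CoxeterMatrix.A _).symmetric, ← inv_eq_one, ← inv_pow, ← inv_eq_one (a := (_ * _⁻¹) ^ _), ← inv_pow] at this
    simpa using this
  by_cases e : i = 0
  · subst e
    suffices y j ^ CoxeterMatrix.A (k + 1) 0 j = 1 by simp [h0, this]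
    by_cases e : j.val = 1
    · simpa [CoxeterMatrix.A, h.ne, e] using h1 j e
    · simpa [CoxeterMatrix.A, h.ne, e, Ne.symm e] using h2 j (by have := Fin.lt_def.1 h; omega)
  have a := h3 i j (Fin.pos_iff_ne_zero.2 e) h
  have b : (y j)⁻¹ = y j := by
    rw [inv_eq_iff_mul_eq_one, ← sq, h2 j (by have := Fin.lt_def.1 h; have := Fin.pos_iff_ne_zero.2 e; omega)]
  refine ⟨?_, b.symm ▸ a⟩
  rw [← inv_eq_one, ← inv_pow, mul_inv_rev, b, inv_inv, c _ _ _ a]

/-- the action of a simple reflection -/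
def act {G : Type*} [Group G] (a : G) : Equiv.Perm (G × Bool) :=
  Function.Involutive.toPerm (fun p => ((if p.2 then a⁻¹ else a) * p.1, !p.2)) fun ⟨g, b⟩ => by cases b <;> simp

theorem act_pow {G : Type*} [Group G] (a b : G) (m : ℕ) (g : G) (c : Bool) :
    ((act a * act b) ^ m) (g, c) = ((if c then a * b⁻¹ else a⁻¹ * b) ^ m * g, c) := by
  induction m with
  | zero => simp
  | succ m ih => rw [pow_succ', Equiv.Perm.mul_apply, ih, pow_succ']; cases c <;> simp [act, mul_assoc]

/-- A presentation of the alternating group of degree n ≥ 3 on generators x_1, …, x_{n−2} (indexed here by 0, …, n−3): the first generator cubes to 1, every other generator squares to 1, the product of two consecutive generators has order dividing 3, and the product of two generators at distance at least 2 has order dividing 2. The group so presented is isomorphic to the alternating group of degree n. -/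
theorem result (n : ℕ) (hn : 3 ≤ n) :
    Nonempty (PresentedGroup
      ({g : FreeGroup (Fin (n - 2)) | ∃ i : Fin (n - 2), i.val = 0 ∧ g = FreeGroup.of i ^ 3} ∪
       {g | ∃ i : Fin (n - 2), 1 ≤ i.val ∧ g = FreeGroup.of i ^ 2} ∪
       {g | ∃ i j : Fin (n - 2), j.val = i.val + 1 ∧ g = (FreeGroup.of i * FreeGroup.of j) ^ 3} ∪
       {g | ∃ i j : Fin (n - 2), i.val + 1 < j.val ∧ g = (FreeGroup.of i * FreeGroup.of j) ^ 2})
      ≃* alternatingGroup (Fin n)) := by
  obtain ⟨k, rfl⟩ : ∃ k, n = k + 2 := ⟨n - 2, by omega⟩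
  obtain ⟨cs, hs⟩ := S2530.result (k + 1)
  change Nonempty (PresentedGroup (α := Fin k) _ ≃* _)
  generalize hR : (_ ∪ _ : Set (FreeGroup (Fin k))) = R
  have sg : ∀ i, Equiv.Perm.sign (cs.simple i) = -1 := fun i => hs i ▸ Equiv.Perm.sign_swap (Fin.castSucc_lt_succ).ne
  let f : Fin k → alternatingGroup (Fin (k + 2)) := fun i => ⟨cs.simple 0 * cs.simple i.succ, by simp [sg]⟩
  have c : ∀ i j : Fin k, i < j → (f i * f j) ^ CoxeterMatrix.A (k + 1) i.succ j.succ = 1 := fun i j h => Subtype.ext (by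
    have a := cs.simple_mul_simple_pow 0 j.succ
    rw [show CoxeterMatrix.A (k + 1) 0 j.succ = 2 by
      simp [CoxeterMatrix.A, (Fin.succ_ne_zero j).symm]; have := Fin.lt_def.1 h; omega, sq, mul_eq_one_iff_eq_inv] at a
    change (cs.simple 0 * cs.simple i.succ * (cs.simple 0 * cs.simple j.succ)) ^ _ = 1
    rw [a, mul_inv_rev, cs.inv_simple, ← mul_assoc, mul_assoc (cs.simple 0), conj_pow, cs.simple_mul_simple_pow]; simp)
  have A2 : ∀ i j : Fin k, i.val + 1 < j → CoxeterMatrix.A (k + 1) i.succ j.succ = 2 := fun i j h => by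
    simp only [CoxeterMatrix.A, Matrix.of_apply, Fin.ext_iff, Fin.val_succ]; split_ifs <;> omega
  have A3 : ∀ i j : Fin k, j.val = i + 1 → CoxeterMatrix.A (k + 1) i.succ j.succ = 3 := fun i j h => by
    simp only [CoxeterMatrix.A, Matrix.of_apply, Fin.ext_iff, Fin.val_succ]; split_ifs <;> omega
  have hf : ∀ r ∈ R, FreeGroup.lift f r = 1 := by
    subst hR
    rintro _ (((⟨i, h, rfl⟩ | ⟨i, h, rfl⟩) | ⟨i, j, h, rfl⟩) | ⟨i, j, h, rfl⟩) <;>
      simp only [map_pow, map_mul, FreeGroup.lift_apply_of]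
    · exact Subtype.ext (by simpa [f, CoxeterMatrix.A, (Fin.succ_ne_zero i).symm, h] using cs.simple_mul_simple_pow 0 i.succ)
    · exact Subtype.ext (by
        simpa [f, CoxeterMatrix.A, (Fin.succ_ne_zero i).symm, show i.val ≠ 0 by omega] using cs.simple_mul_simple_pow 0 i.succ)
    · rw [← A3 i j h]; exact c i j (by omega)
    · simpa only [A2 i j h] using c i j (by omega)
  have one : ∀ r ∈ R, PresentedGroup.mk R r = 1 := fun r => PresentedGroup.one_of_mem
  let y : Fin (k + 1) → PresentedGroup R := Fin.cons 1 PresentedGroup.of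
  have hy := key y rfl (Fin.cases (by simp) fun i h => one _ (hR ▸ .inl (.inl (.inl ⟨i, by simpa using h, rfl⟩))))
    (Fin.cases (by simp) fun i h => one _ (hR ▸ .inl (.inl (.inr ⟨i, by simpa using h, rfl⟩))))
    (Fin.cases (by simp) fun i => Fin.cases (by simp) fun j _ h => by
      rw [Fin.succ_lt_succ_iff, Fin.lt_def, ← Nat.add_one_le_iff, le_iff_eq_or_lt] at h
      rcases h with h | h
      · rw [A3 i j h.symm]; exact one _ (hR ▸ .inl (.inr ⟨i, j, h.symm, rfl⟩))
      · rw [A2 i j h]; exact one _ (hR ▸ .inr ⟨i, j, h, rfl⟩))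
  let L := cs.lift ⟨fun i => act (y i), fun i j => Equiv.ext fun ⟨g, b⟩ => by
    rw [act_pow]; cases b <;> simp [hy i j]⟩
  have py : ∀ i, (PresentedGroup.toGroup hf (y i)).1 = cs.simple 0 * cs.simple i :=
    Fin.cases (by simp [y]) fun i => by simp [y, f]
  refine ⟨.ofBijective (PresentedGroup.toGroup hf) ⟨(injective_iff_map_eq_one _).2 fun g hg => ?_, fun ⟨w, hw⟩ => ?_⟩⟩
  · suffices ∀ h, L (PresentedGroup.toGroup hf g).1 (h, false) = (g * h, false) by simpa [hg, eq_comm] using this 1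
    clear hg
    refine Subgroup.closure_induction (p := fun g _ => ∀ h, L (PresentedGroup.toGroup hf g).1 (h, false) = (g * h, false))
      ?_ (by simp) (fun a b _ _ ha hb h => by simp [ha, hb, mul_assoc]) (fun a _ ha h => by
        rw [map_inv, Subgroup.coe_inv, map_inv, Equiv.Perm.inv_eq_iff_eq, ha, mul_inv_cancel_left])
      ((PresentedGroup.closure_range_of R).ge (Subgroup.mem_top g))
    rintro _ ⟨i, rfl⟩ h
    simp [f, L, act, y]
  · obtain ⟨g, e | e⟩ : ∃ g, w = PresentedGroup.toGroup hf g ∨ w = cs.simple 0 * PresentedGroup.toGroup hf g := by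
      clear hw
      induction w using cs.simple_induction_left with
      | one => exact ⟨1, by simp⟩
      | mul_simple_left w i ih =>
      obtain ⟨g, rfl | rfl⟩ := ih
      · exact ⟨y i * g, .inr (by simp [py, ← mul_assoc])⟩
      · exact ⟨(y i)⁻¹ * g, .inl (by simp [py, ← mul_assoc])⟩
    · exact ⟨g, Subtype.ext e.symm⟩
    · simp [e, sg, Equiv.Perm.mem_alternatingGroup.1 (PresentedGroup.toGroup hf g).2] at hw

end Cfsg.Agent.S3335
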