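import Cfsg.Statements.S3363
import Cfsg.Agent.H18.TE12

set_option autoImplicit false
open Cfsg

namespace Cfsg.Agent.S3363

/-- Uniqueness of ²E₆(2) under the large-extraspecial hypothesis: let G be a finite group with an involution z whose centralizer C satisfies F*(C) = O₂(C) with O₂(C) extraspecial of order 2^21 and C/O₂(C) isomorphic to the unitary group U₆(2) (over a field with four elements), and suppose some conjugate of z other than z lies in O₂(C). Then G is isomorphic to ²E₆(2) (realised over the field with four elements). -/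
theorem result {G : Type*} [Group G] [Finite G]
    (z : G) (hz : orderOf z = 2) (C : Subgroup G) (hC : C = Subgroup.centralizer ({z} : Set G))
    (hFQ : Cfsg.generalizedFittingSubgroup C = Cfsg.pCore 2 C)
    (hex : Cfsg.IsExtraspecial 2 (Cfsg.pCore 2 C)) (hcard : Nat.card (Cfsg.pCore 2 C) = 2 ^ 21)
    (F : Type*) [Field F] [Fintype F] (hF : Fintype.card F = 4)
    (e : C ⧸ Cfsg.pCore 2 C ≃* Cfsg.PSU 6 F 2)
    (hnwc : ∃ g : G, g * z * g⁻¹ ∈ (Cfsg.pCore 2 C).map C.subtype ∧ g * z * g⁻¹ ≠ z) :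
    Nonempty (G ≃* Cfsg.Lie.twistedE6 F 2) := by
  subst hC
  obtain ⟨h, c⟩ := H18.TE.setup hz hFQ hex hcard
  obtain ⟨g, h1, h2⟩ := hnwc
  obtain ⟨e'⟩ := H18.TE.psu6 hF
  obtain ⟨_, w, B, _, Ω, _, π, pt, X, hC, -, -, k⟩ := H18.TE.model (G := G) F hF
  obtain ⟨ι, E⟩ := k h c le_rfl ((e.trans e').toMonoidHom.comp (QuotientGroup.mk' _))
    ((e.trans e').surjective.comp (QuotientGroup.mk'_surjective _))
    (fun x => ((map_eq_one_iff _ (e.trans e').injective).trans (QuotientGroup.eq_one_iff x)).trans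
      (Subgroup.mem_map_iff_mem (Subgroup.subtype_injective _)).symm) (fun _ _ _ => inf_le_right) g h1 h2
  obtain ⟨_, n⟩ := S1070.result (K := F) Nat.prime_two.isPrimePow hF
  refine ⟨(MulEquiv.ofBijective ι ⟨E.inj, MonoidHom.range_eq_top.1 (H0.Co.top_holt E.inj X.z2 (H18.TE.odd_idx (X.le0 hC)) n
    (H18.TE.cardE F hF ▸ ⟨by decide, fun n hn => (le_or_gt n 23).elim (fun j => absurd (hn ▸ Nat.factorial_le j) (by decide))
      fun j => absurd (hn ▸ Nat.factorial_le j) (by decide)⟩) E.hO (E.hz ▸ E.hH) (E.hz ▸ E.nf))⟩).symm⟩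

end Cfsg.Agent.S3363
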