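import Cfsg.Statements.S3364
import Cfsg.Agent.H18.TE15
-- import your own Cfsg.Agent.* helpers here

set_option autoImplicit false
open Cfsg

namespace Cfsg.Agent.S3364

/-- Let G be a finite group with an involution z whose centralizer C satisfies F*(C) = O₂(C) with O₂(C) extraspecial of order 2^21, such that C has a subgroup H of index 2 containing O₂(C) with H/O₂(C) isomorphic to U₆(2), and suppose some conjugate of z other than z lies in O₂(C). Then the generalized Fitting subgroup F*(G) has index 2 in G and is isomorphic to ²E₆(2). -/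
theorem result {G : Type*} [Group G] [Finite G]
    (z : G) (hz : orderOf z = 2) (C : Subgroup G) (hC : C = Subgroup.centralizer ({z} : Set G))
    (hFQ : Cfsg.generalizedFittingSubgroup C = Cfsg.pCore 2 C)
    (hex : Cfsg.IsExtraspecial 2 (Cfsg.pCore 2 C)) (hcard : Nat.card (Cfsg.pCore 2 C) = 2 ^ 21)
    (H : Subgroup C) (hH : H.index = 2) (hQH : Cfsg.pCore 2 C ≤ H) [hn : ((Cfsg.pCore 2 C).subgroupOf H).Normal]
    (F : Type*) [Field F] [Fintype F] (hF : Fintype.card F = 4)
    (e : H ⧸ (Cfsg.pCore 2 C).subgroupOf H ≃* Cfsg.PSU 6 F 2)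
    (hnwc : ∃ g : G, g * z * g⁻¹ ∈ (Cfsg.pCore 2 C).map C.subtype ∧ g * z * g⁻¹ ≠ z) :
    (Cfsg.generalizedFittingSubgroup G).index = 2 ∧
      Nonempty (Cfsg.generalizedFittingSubgroup G ≃* Cfsg.Lie.twistedE6 F 2) := by
  subst hC
  obtain ⟨h, c⟩ := H18.TE.setup hz hFQ hex hcard
  obtain ⟨g, h1, h2⟩ := hnwc
  obtain ⟨e'⟩ := H18.TE.psu6 hF
  obtain ⟨_, w, B, _, Ω, _, π, pt, X, hC, cU, top, k⟩ := H18.TE.model (G := G) F hF
  let j := (H.equivMapOfInjective _ (Subgroup.subtype_injective _)).symm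
  let f := (e.trans e').toMonoidHom.comp ((QuotientGroup.mk' _).comp j.toMonoidHom)
  have s : Function.Surjective f := (e.trans e').surjective.comp ((QuotientGroup.mk'_surjective _).comp j.surjective)
  have l : ∀ x, f x = 1 ↔ x.1 ∈ (pCore 2 _).map (Subgroup.centralizer {z}).subtype := fun x => by
    obtain ⟨x, rfl⟩ := j.symm.surjective x
    exact ((map_eq_one_iff _ (e.trans e').injective).trans (QuotientGroup.eq_one_iff _)).trans (by
      rw [MulEquiv.toMonoidHom_eq_coe, MonoidHom.coe_coe, j.apply_symm_apply]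
      exact (Subgroup.mem_map_iff_mem (x := x.1) (K := pCore 2 _) (Subgroup.subtype_injective _)).symm)
  obtain ⟨ι, E⟩ := k h c (Subgroup.map_subtype_le H) f s l (H18.TE.hA h c hH hQH (e.trans e')) g h1 h2
  obtain ⟨_, n⟩ := S1070.result (K := F) Nat.prime_two.isPrimePow hF
  obtain ⟨a, b⟩ := H18.TE.Ex.main ⟨E, X, hC, cU, top, h,
    E.eH X hC c (Subgroup.map_subtype_le H) (Subgroup.map_mono hQH) s l, by
    rw [← hH, Subgroup.relIndex, Subgroup.subgroupOf, Subgroup.comap_map_eq_self_of_injective (Subgroup.subtype_injective _)]⟩ n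
    (H18.TE.cardE F hF ▸ ⟨by decide, fun n hn => (le_or_gt n 23).elim (fun j => absurd (hn ▸ Nat.factorial_le j) (by decide))
      fun j => absurd (hn ▸ Nat.factorial_le j) (by decide)⟩)
  exact ⟨a ▸ b, ⟨(MulEquiv.subgroupCongr a).trans (MonoidHom.ofInjective E.inj).symm⟩⟩

end Cfsg.Agent.S3364
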