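import Cfsg.Statements.S3390
import Cfsg.Agent.S3224
import Cfsg.Agent.H3.Focal
import Cfsg.Agent.H9.P1Count

set_option autoImplicit false
open Cfsg

namespace Cfsg.Agent.S3390

open Subgroup MulAction in
theorem big {P Ω : Type*} [Group P] [Finite P] [MulAction P Ω] [Finite Ω] (hP : IsPGroup 2 P)
    (h3 : ∀ g : P, ∀ a b c : Ω, g • a = a → g • b = b → g • c = c → a ≠ b → a ≠ c → b ≠ c → g = 1)
    (ω : Ω) (h0 : stabilizer P ω ≠ ⊥) (h1 : (stabilizer P ω).index ≠ 1)
    (h2 : (stabilizer P ω).index ≠ 2) : Nat.card (stabilizer P ω) = 2 ∧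
      ((∃ n : ℕ, Nonempty (P ≃* DihedralGroup n)) ∨ Cfsg.IsQuasiDihedral P) := by
  haveI : Nontrivial P := by
    by_contra h
    exact h0 (have := not_nontrivial_iff_subsingleton.1 h; Subsingleton.elim _ _)
  obtain ⟨⟨z, hz⟩, z1⟩ := (nontrivial_iff_exists_ne (1 : center P)).1 hP.center_nontrivial
  have z1 : z ≠ 1 := fun e => z1 (Subtype.ext e)
  have hz := mem_center_iff.1 hz
  obtain ⟨k, hk⟩ := hP.index (stabilizer P ω)
  have k2 : 4 ∣ (stabilizer P ω).index := by
    rw [hk] at h1 h2 ⊢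
    rcases k with _ | _ | k
    · simp at h1
    · simp at h2
    · exact ⟨2 ^ k, by ring⟩
  have k4 := Nat.le_of_dvd (Nat.pos_of_ne_zero index_ne_zero_of_finite) k2
  have zω : z • ω ≠ ω := fun e => by
    have hz' : ∀ a ∈ orbit P ω, z • a = a := by
      rintro _ ⟨g, rfl⟩
      simp only [← mul_smul, ← hz]
      rw [mul_smul, e]
    obtain ⟨a, b, c, ha, hb, hc, ab, ac, bc⟩ := (Set.two_lt_ncard_iff (s := orbit P ω)).1 (by
      rw [← index_stabilizer]; omega)
    exact z1 (h3 z a b c (hz' a ha) (hz' b hb) (hz' c hc) ab ac bc)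
  have fz : ∀ t ∈ stabilizer P ω, t • z • ω = z • ω := fun t ht => by
    rw [← mul_smul, hz, mul_smul, mem_stabilizer_iff.1 ht]
  have hd := H9.card_dvd_ncard_of_free (stabilizer P ω) (orbit P ω \ {ω, z • ω}) (Set.toFinite _)
    (fun t ht a ha => ⟨mem_orbit_of_mem_orbit t ha.1, fun h => ha.2 (h.imp (fun e => ?_) fun e => ?_)⟩)
    (fun t ht a ha e => h3 t ω (z • ω) a ht (fz t ht) e zω.symm (fun h => ha.2 (Or.inl h.symm))
      fun h => ha.2 (Or.inr h.symm))
  · rw [Set.ncard_sdiff (by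
      rintro _ (rfl | rfl)
      · exact mem_orbit_self _
      · exact mem_orbit _ _), Set.ncard_pair zω.symm, ← index_stabilizer] at hd
    obtain ⟨j, hj⟩ := IsPGroup.iff_card.1 (hP.to_subgroup (stabilizer P ω))
    have hc : Nat.card (stabilizer P ω) = 2 := by
      rcases j with _ | _ | j
      · exact absurd (card_eq_one.1 hj) h0
      · exact hj
      · have : 4 ∣ Nat.card (stabilizer P ω) := hj ▸ ⟨2 ^ j, by ring⟩
        have := this.trans hd
        omega
    refine ⟨hc, ?_⟩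
    obtain ⟨⟨t, ht⟩, t2⟩ := exists_prime_orderOf_dvd_card' (G := stabilizer P ω) 2 hc.symm.dvd
    rw [orderOf_mk] at t2
    have hT : zpowers t = stabilizer P ω :=
      eq_of_le_of_card_ge (zpowers_le.2 ht) (by rw [hc, Nat.card_zpowers, t2])
    have hle : stabilizer P ω ≤ centralizer {t} := by
      rw [← hT, zpowers_le, mem_centralizer_singleton_iff]
    have hi : (stabilizer P ω).relIndex (centralizer {t}) = 2 :=
      relIndex_eq_two_iff_exists_notMem_and'.2 ⟨z⁻¹, inv_mem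
        (mem_centralizer_singleton_iff.2 (hz t).symm), fun h => zω (inv_mem_iff.1 h), fun b hb => by
          by_contra h
          push Not at h
          have := h3 t ω (z • ω) (b • ω) ht (fz t ht) (by
            rw [← mul_smul, ← mem_centralizer_singleton_iff.1 hb, mul_smul,
              mem_stabilizer_iff.1 ht]) zω.symm (fun e => h.2 e.symm) (fun e => h.1 (by
                rw [mem_stabilizer_iff, mul_smul, ← e, inv_smul_smul]))
          simp [this] at t2⟩
    have := H1.relIndex_mul_card hle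
    rw [hi, hc] at this
    rcases Cfsg.Agent.S3224.result hP t t2 this.symm with h | h | h
    · exact Or.inl h
    · exact Or.inr h
    · have := (stabilizer P ω).card_mul_index
      rw [hc] at this
      omega
  · exact MulAction.injective t (e.trans (mem_stabilizer_iff.1 ht).symm)
  · exact MulAction.injective t (e.trans (fz t ht).symm)

open Subgroup MulAction in
theorem frob {G Ω : Type*} [Group G] [Finite G] [MulAction G Ω] [Finite Ω] [FaithfulSMul G Ω]
    [IsPretransitive G Ω]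
    (h3 : ∀ g : G, ∀ a b c : Ω, g • a = a → g • b = b → g • c = c → a ≠ b → a ≠ c → b ≠ c → g = 1)
    {N T : Subgroup G} [N.Normal] {α : Ω} (hN : stabilizer G α ≤ N) {s : G} (hs : s ∉ N)
    (hT : T ≤ stabilizer G α) (hT' : T ≤ stabilizer G (s • α)) (h2 : 2 ∣ Nat.card T) :
    Cfsg.IsFrobeniusComplement ((stabilizer G α).subgroupOf N) := by
  have T0 : T ≠ ⊥ := fun e => by simp [e] at h2
  refine ⟨fun e => T0 (eq_bot_iff.2 fun t ht => ?_), fun e => T0 (eq_bot_iff.2 fun t ht => ?_),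
    fun g hg => ?_⟩
  · have : (⟨t, hN (hT ht)⟩ : N) ∈ (stabilizer G α).subgroupOf N := hT ht
    rw [e] at this
    exact congrArg Subtype.val (mem_bot.1 this)
  · refine eq_of_smul_eq_smul (α := Ω) fun ω => ?_
    obtain ⟨g, rfl⟩ := exists_smul_eq G α ω
    have : g⁻¹ * t * g ∈ stabilizer G α :=
      subgroupOf_eq_top.1 e (‹N.Normal›.conj_mem' _ (hN (hT ht)) g)
    rw [one_smul, ← mul_smul, ← mul_inv_cancel_left g (t * g), mul_smul, ← mul_assoc,
      mem_stabilizer_iff.1 this]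
  let Δ : Set Ω := {ω | ∃ n ∈ N, n • α = ω}
  have hΔ : ∀ n ∈ N, ∀ ω ∈ Δ, n • ω ∈ Δ := by
    rintro n hn _ ⟨m, hm, rfl⟩
    exact ⟨_, mul_mem hn hm, mul_smul _ _ _⟩
  have dj : ∀ ω ∈ Δ, s • ω ∉ Δ := by
    rintro _ ⟨m, hm, rfl⟩ ⟨n, hn, e⟩
    have : n⁻¹ * (s * m) ∈ N := hN (by rw [mem_stabilizer_iff, mul_smul, mul_smul, ← e, inv_smul_smul])
    exact hs ((mul_mem_cancel_right hm).1 ((mul_mem_cancel_left (inv_mem hn)).1 this))
  have αΔ : α ∈ Δ := ⟨1, one_mem _, one_smul _ _⟩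
  have gΔ : (g : G) • α ∈ Δ := ⟨g, g.2, rfl⟩
  have gα : α ≠ (g : G) • α := fun e => hg e.symm
  have d1 := H9.card_dvd_ncard_of_free T (Δ \ {α}) (Set.toFinite _)
    (fun t ht a ha => ⟨hΔ t (hN (hT ht)) a ha.1, fun e => ha.2
      (MulAction.injective t (e.trans (mem_stabilizer_iff.1 (hT ht)).symm))⟩)
    (fun t ht a ha e => h3 t α (s • α) a (hT ht) (hT' ht) e (fun h => dj α αΔ (h ▸ αΔ))
      (fun h => ha.2 h.symm) fun h => dj α αΔ (h ▸ ha.1))
  set X := stabilizer G α ⊓ stabilizer G ((g : G) • α)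
  have d2 := H9.card_dvd_ncard_of_free X (Δ \ {α, (g : G) • α}) (Set.toFinite _)
    (fun t ht a ha => ⟨hΔ t (hN ht.1) a ha.1, fun h => ha.2 (h.imp
      (fun e => MulAction.injective t (e.trans (mem_stabilizer_iff.1 ht.1).symm))
      fun e => MulAction.injective t (e.trans (mem_stabilizer_iff.1 ht.2).symm))⟩)
    (fun t ht a ha e => h3 t α _ a ht.1 ht.2 e gα (fun h => ha.2 (Or.inl h.symm))
      fun h => ha.2 (Or.inr h.symm))
  have d3 := H9.card_dvd_ncard_of_free X ((s • ·) '' Δ) (Set.toFinite _)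
    (by
      rintro t ht _ ⟨a, ha, rfl⟩
      exact ⟨_, hΔ _ (‹N.Normal›.conj_mem' _ (hN ht.1) s) a ha, by simp [mul_smul]⟩)
    (by
      rintro t ht _ ⟨a, ha, rfl⟩ e
      exact h3 t α _ _ ht.1 ht.2 e gα (fun h => dj a ha (by simp only at h; exact h ▸ αΔ))
        fun h => dj a ha (by simp only at h; exact h ▸ gΔ))
  have hsub : ({α, (g : G) • α} : Set Ω) ⊆ Δ := by rintro _ (rfl | rfl) <;> assumption
  have n2 := Set.ncard_le_ncard hsub
  rw [Set.ncard_sdiff hsub, Set.ncard_pair gα] at d2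
  rw [Set.ncard_pair gα] at n2
  rw [Set.ncard_sdiff_singleton_of_mem αΔ] at d1
  rw [Set.ncard_image_of_injective _ (MulAction.injective s)] at d3
  have d4 := Nat.dvd_sub d3 d2
  rw [Nat.sub_sub_self n2] at d4
  have d5 := h2.trans d1
  have : X = ⊥ := card_eq_one.1 (((Nat.dvd_prime Nat.prime_two).1 d4).resolve_right fun e => by
    rw [e] at d3; omega)
  refine eq_bot_iff.2 fun x hx => Subtype.ext (mem_bot.1 (this ▸ ⟨hx.1, ?_⟩))
  have := mem_pointwise_smul_iff_inv_smul_mem.1 hx.2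
  change ((g : G)⁻¹ * x * g) • α = α at this
  rw [mul_smul, mul_smul, inv_smul_eq_iff] at this
  exact this

open Subgroup MulAction in

/-- Let G be a finite group acting faithfully and transitively on a finite set Ω with fixity 2 (every non-identity element fixes at most two points, and some fixes exactly two). Let α ∈ Ω and S a Sylow 2-subgroup of G. Then one of the following holds: the stabilizer S_α of α in S is trivial; S is dihedral or semidihedral and either |S_α| = 2 or |S : S_α| = 2; |S| ≥ 4, S has exactly one orbit of size 2 on Ω, every other S-orbit is regular, and G has a normal subgroup of index 2 or of index |S| which is a Frobenius group; or S ≤ G_α. -/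
theorem result {G : Type*} [Group G] [Finite G] {Ω : Type*} [Fintype Ω] [MulAction G Ω] [FaithfulSMul G Ω] (htr : MulAction.IsPretransitive G Ω)
    (hfix : ∀ g : G, g ≠ 1 → Nat.card (MulAction.fixedBy Ω g) ≤ 2) (hex : ∃ g : G, g ≠ 1 ∧ Nat.card (MulAction.fixedBy Ω g) = 2) (α : Ω) (S : Sylow 2 G) :
    (S : Subgroup G) ⊓ MulAction.stabilizer G α = ⊥ ∨
    (((∃ n : ℕ, Nonempty (↥(S : Subgroup G) ≃* DihedralGroup n)) ∨ Cfsg.IsQuasiDihedral ↥(S : Subgroup G)) ∧
       (Nat.card ↥((S : Subgroup G) ⊓ MulAction.stabilizer G α) = 2 ∨ ((S : Subgroup G) ⊓ MulAction.stabilizer G α).relIndex (S : Subgroup G) = 2)) ∨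
    (4 ≤ Nat.card (S : Subgroup G) ∧
       (∃ ω : Ω, Nat.card (MulAction.orbit ↥(S : Subgroup G) ω) = 2 ∧
          ∀ ω' : Ω, ω' ∉ MulAction.orbit ↥(S : Subgroup G) ω → Nat.card (MulAction.orbit ↥(S : Subgroup G) ω') = Nat.card (S : Subgroup G)) ∧
       ∃ N : Subgroup G, N.Normal ∧ (N.index = 2 ∨ N.index = Nat.card (S : Subgroup G)) ∧ (∃ H : Subgroup ↥N, Cfsg.IsFrobeniusComplement H)) ∨
    (S : Subgroup G) ≤ MulAction.stabilizer G α := by
  have hconj : ∀ Q : Subgroup G, IsPGroup 2 Q → ∃ g : G, ∀ x ∈ Q, g⁻¹ * x * g ∈ (S : Subgroup G) :=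
    fun Q h => by
      obtain ⟨R, hR⟩ := h.exists_le_sylow
      obtain ⟨g, rfl⟩ := exists_smul_eq G S R
      exact ⟨g, fun x hx => by simpa using mem_pointwise_smul_iff_inv_smul_mem.1 (hR hx)⟩
  have hP := S.isPGroup'
  have hnd := S.not_dvd_index
  generalize (S : Subgroup G) = P at *
  have h3 : ∀ g : G, ∀ a b c : Ω, g • a = a → g • b = b → g • c = c → a ≠ b → a ≠ c → b ≠ c →
      g = 1 := fun g a b c ha hb hc ab ac bc => by
    by_contra h
    exact absurd ((Set.two_lt_ncard_iff (s := fixedBy Ω g)).2 ⟨a, b, c, ha, hb, hc, ab, ac, bc⟩)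
      (not_lt.2 (hfix g h))
  have h3' : ∀ g : P, ∀ a b c : Ω, g • a = a → g • b = b → g • c = c → a ≠ b → a ≠ c → b ≠ c →
      g = 1 := fun g a b c ha hb hc ab ac bc => Subtype.ext (h3 g a b c ha hb hc ab ac bc)
  have e1 : (P ⊓ stabilizer G α) = (stabilizer P α).map P.subtype := by
    rw [inf_comm, ← subgroupOf_map_subtype]; rfl
  have e2 : (P ⊓ stabilizer G α).relIndex P = (stabilizer P α).index := by
    rw [inf_relIndex_left]; rfl
  rw [e2, e1, card_subtype, map_eq_bot_iff_of_injective _ (subtype_injective _)]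
  by_cases h0 : stabilizer P α = ⊥
  · exact Or.inl h0
  by_cases h1 : (stabilizer P α).index = 1
  · exact Or.inr (Or.inr (Or.inr fun g hg =>
      (index_eq_one.1 h1 ▸ mem_top _ : (⟨g, hg⟩ : P) ∈ stabilizer P α)))
  by_cases h2 : (stabilizer P α).index ≠ 2
  · exact Or.inr (Or.inl ⟨(big hP h3' α h0 h1 h2).2, Or.inl (big hP h3' α h0 h1 h2).1⟩)
  push Not at h2
  obtain ⟨s, hs, hs'⟩ := index_eq_two_iff_exists_notMem_and'.1 h2
  haveI := normal_of_index_eq_two h2
  have fs : ∀ t ∈ stabilizer P α, t • s • α = s • α := fun t ht => by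
    rw [← inv_smul_eq_iff, ← mul_smul, ← mul_smul]
    exact (‹Normal _›.conj_mem' _ ht s :)
  have c4 : 4 ≤ Nat.card P := by
    have := (stabilizer P α).card_mul_index
    have := (stabilizer P α).one_lt_card_iff_ne_bot.2 h0
    rw [h2] at *
    omega
  by_cases hb : ∃ ω, ω ∉ orbit P α ∧ stabilizer P ω ≠ ⊥
  · obtain ⟨ω, hω, b0⟩ := hb
    have hi : stabilizer P α ⊓ stabilizer P ω = ⊥ := eq_bot_iff.2 fun t ht =>
      h3' t α (s • α) ω ht.1 (fs t ht.1) ht.2 (fun e => hs e.symm)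
        (fun e => hω (e ▸ mem_orbit_self _)) fun e => hω ⟨s, e⟩
    refine Or.inr (Or.inl ⟨?_, Or.inr h2⟩)
    by_cases b2 : (stabilizer P ω).index = 2
    · haveI : IsKleinFour P := ⟨le_antisymm (by
        have := index_inf_le (H := stabilizer P α) (K := stabilizer P ω)
        rwa [hi, h2, b2, index_bot] at this) c4, by
        haveI := Finite.one_lt_card_iff_nontrivial.1 (lt_of_lt_of_le (by norm_num) c4)
        exact (Monoid.exponent_eq_prime_iff Nat.prime_two).2 fun g hg => orderOf_eq_prime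
          (mem_bot.1 (hi ▸ ⟨sq_mem_of_index_two h2 g, sq_mem_of_index_two b2 g⟩)) hg⟩
      exact Or.inl ⟨2, IsKleinFour.nonempty_mulEquiv⟩
    · exact (big hP h3' ω b0 (fun e => h0 (by rwa [index_eq_one.1 e, inf_top_eq] at hi)) b2).2
  push Not at hb
  have hT : ∀ x : P, x ∈ stabilizer P α ↔ ∃ ω, x • ω = ω := fun x => ⟨fun h => ⟨α, h⟩, by
    rintro ⟨ω, h⟩
    by_cases hω : ω ∈ orbit P α
    · obtain ⟨g, rfl⟩ := hω
      have : g⁻¹ * x * g ∈ stabilizer P α := by
        rw [mem_stabilizer_iff, mul_smul, mul_smul, inv_smul_eq_iff]; exact h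
      simpa only [mul_assoc, mul_inv_cancel, mul_one, mul_inv_cancel_left] using
        ‹Normal _›.conj_mem _ this g
    · have : x ∈ stabilizer P ω := h
      rw [hb ω hω, mem_bot] at this
      exact this ▸ one_mem _⟩
  have hc : ∀ (x y : P) (g : G), g * x * g⁻¹ = y → (x ∈ stabilizer P α ↔ y ∈ stabilizer P α) :=
    fun x y g e => by
      rw [hT, hT]
      exact ⟨fun ⟨ω, h⟩ => ⟨g • ω, by
        rw [Subgroup.smul_def, ← e, mul_smul, inv_smul_smul, mul_smul]; exact congrArg _ h⟩, fun ⟨ω, h⟩ => ⟨g⁻¹ • ω, by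
        rw [Subgroup.smul_def, ← e, mul_smul, mul_smul, ← eq_inv_smul_iff] at h; exact h⟩⟩
  have hi : P.index.Coprime 2 :=
    ((Nat.Prime.coprime_iff_not_dvd Nat.prime_two).2 hnd).symm
  have k1 := H3.ker_transferFocal_inf (hP.to_quotient _) hi
  have k2 := H3.ker_transferFocal_sup (hP.to_quotient _) hi
  generalize hK : (transferFocal P).ker = K at k1 k2
  haveI : K.Normal := hK ▸ inferInstance
  have k3 : K ⊓ P ≤ stabilizer G α := k1 ▸ H3.focalSubgroup_le_iff.2 fun x hx g hg =>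
    (mul_mem_iff_of_index_two h2 (a := (⟨x, hx⟩ : P)⁻¹) (b := ⟨_, hg⟩)).2 (by
      rw [inv_mem_iff]; exact hc _ _ g rfl)
  set N := (P ⊓ stabilizer G α) ⊔ K with hN
  have sN : (s : G) ∉ N := fun h => by
    obtain ⟨t, ht, k, hk, e⟩ := mem_sup_of_normal_right.1 h
    have : k ∈ stabilizer G α := k3 ⟨hk, (P.mul_mem_cancel_left ht.1).1 (e ▸ s.2)⟩
    exact hs (e ▸ (stabilizer G α).mul_mem ht.2 this : (s : G) ∈ stabilizer G α)
  have N2 : N.index = 2 := index_eq_two_iff_exists_notMem_and'.2 ⟨s, sN, fun b => by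
    obtain ⟨u, hu, k, hk, rfl⟩ := mem_sup_of_normal_right.1 (sup_comm K _ ▸ k2 ▸ mem_top b)
    refine (hs' ⟨u, hu⟩).imp (fun h => ?_) fun h => mul_mem (mem_sup_left ⟨hu, h⟩) (mem_sup_right hk)
    rw [← mul_assoc]
    exact mul_mem (mem_sup_left ⟨mul_mem s.2 hu, h⟩) (mem_sup_right hk)⟩
  haveI := normal_of_index_eq_two N2
  refine Or.inr (Or.inr (Or.inl ⟨c4, ⟨α, (index_stabilizer P α).symm.trans h2, fun ω hω => 
    (index_stabilizer P ω).symm.trans (by rw [hb ω hω, index_bot])⟩, N, inferInstance, Or.inl N2, _,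
    frob h3 (T := P ⊓ stabilizer G α) (α := α) (fun u hu => ?_) sN inf_le_right
      (fun t ht => fs ⟨t, ht.1⟩ ht.2) ?_⟩))
  · obtain ⟨k, m, hm, e⟩ := Nat.exists_eq_two_pow_mul_odd (orderOf_pos u).ne'
    have hp : IsPGroup 2 (zpowers (u ^ m)) := IsPGroup.of_card (n := k) (by
      rw [Nat.card_zpowers, orderOf_pow_of_dvd hm.pos.ne' (e ▸ dvd_mul_left _ _), e,
        Nat.mul_div_cancel _ hm.pos])
    obtain ⟨g, hg⟩ := hconj _ hp
    have h4 := hg _ (mem_zpowers _)
    have h5 : (⟨_, h4⟩ : P) ∈ stabilizer P α := (hT _).2 ⟨g⁻¹ • α, by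
      rw [Subgroup.mk_smul, mul_smul, mul_smul, smul_inv_smul, mem_stabilizer_iff.1 (pow_mem hu m)]⟩
    have h6 : u ^ m ∈ N := by
      simpa [mul_assoc] using ‹N.Normal›.conj_mem _ (mem_sup_left ⟨h4, h5⟩) g
    obtain ⟨j, rfl⟩ := hm
    rw [pow_succ, pow_mul] at h6
    exact (mul_mem_cancel_left (pow_mem (sq_mem_of_index_two N2 u) j)).1 h6
  · rw [e1, card_subtype]
    exact ((hP.to_subgroup _).card_eq_or_dvd).resolve_left (mt card_eq_one.1 h0)

end Cfsg.Agent.S3390
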