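import Cfsg.Statements.S3406
import Cfsg.Agent.S3718
import Cfsg.Agent.S2476
-- import your own Cfsg.Agent.* helpers here

set_option autoImplicit false
open Cfsg

namespace Cfsg.Agent.S3406
open H5


/-- A non-abelian finite simple group on whose elements the full automorphism group has at most five orbits is isomorphic to the alternating group of degree 5 or 6, to PSL(2, 7) or to PSL(2, 8). -/
theorem result {G : Type*} [Group G] [Finite G] [IsSimpleGroup G] (hG : ¬ IsMulCommutative G)
    (h5 : Nat.card (MulAction.orbitRel.Quotient (MulAut G) G) ≤ 5) :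
    Nonempty (G ≃* ↥(alternatingGroup (Fin 5))) ∨ Nonempty (G ≃* ↥(alternatingGroup (Fin 6))) ∨
      (∃ (F : Type) (_ : Field F) (_ : Fintype F), (Fintype.card F = 7 ∨ Fintype.card F = 8) ∧
        Nonempty (G ≃* Matrix.ProjectiveSpecialLinearGroup (Fin 2) F)) := by
  have k : ∀ l : List ℕ, l.Nodup → (∀ n ∈ l, H5.Ord G n) → l.length ≤ 5 := fun l d h => by
    refine le_trans ?_ h5
    rw [← List.toFinset_card_of_nodup d, ← Nat.card_eq_finsetCard]
    have h := fun n : l.toFinset => h n (List.mem_toFinset.1 n.2)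
    refine Nat.card_le_card_of_injective (fun n => Quotient.mk _ (h n).choose) fun a b e => ?_
    obtain ⟨f, e⟩ := Quotient.exact e
    exact Subtype.ext (by
      rw [← (h a).choose_spec, ← (h b).choose_spec, ← e]; exact f.orderOf_eq _)
  have k6 : ∀ a b c d {P : Prop}, (∀ n ∈ [2, a, b, c, d], H5.Ord G n) → 2 < a → a < b → b < c → c < d →
      P := fun a b c d _ h _ _ _ _ => by
    have := k [1, 2, a, b, c, d] (by simp; omega) (List.forall_mem_cons.2 ⟨ord_one, h⟩)
    simp at this
  have t : ∀ {p q}, p.Prime → q.Prime → ∃ r, r.Prime ∧ H5.Ord G r ∧ r ≠ p ∧ r ≠ q := fun a b => by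
    by_contra! H
    exact not_sol_of_simple hG (isSolvable_of_primes_subset_pair a b fun r c d =>
      or_iff_not_imp_left.2 (H r c ((ord_prime c).2 d)))
  rcases S3718.result (G := G) fun a ⟨(a1 : H5.Ord G a), a2, a3⟩ b ⟨(b1 : H5.Ord G b), b2, b3⟩ =>
    by_contra fun e => by
      obtain ⟨p, p1, p2, -⟩ := t Nat.prime_two Nat.prime_two
      obtain ⟨q, q1, q2, q3, -⟩ := t p1 p1
      obtain ⟨r, r1, r2, r3, r4⟩ := t p1 q1
      have n : ∀ {a p : ℕ}, ¬ a.Prime → p.Prime → p ≠ a := fun a b e => a (e ▸ b)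
      have := k [1, p, q, r, a, b] (by
        simp [p1.one_lt.ne, q1.one_lt.ne, r1.one_lt.ne, a2.ne, b2.ne, q3.symm, r3.symm, r4.symm, e,
          n a3, n b3, p1, q1, r1]) (by simp [p2, q2, r2, a1, b1, ord_one])
      simp at this
    with a | ⟨F, _, _, a, e⟩ | a | ⟨F, _, _, a, e⟩ | ⟨F, _, _, n, r, s, r1, s1, h1, h2, a, e⟩ |
      ⟨F, _, _, n, r, h1, r1, h2, a, e⟩
  · haveI := Fact.mk a
    exact (hG (isCyclic_of_prime_card rfl).isMulCommutative).elim
  · have l : L2 (Fintype.card F) G := ⟨F, _, _, rfl, e⟩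
    rcases a with a | a | a | a | a | a | a
    · exact .inl (L2.a5 (.inr (a ▸ l)))
    · exact .inr (.inr ⟨F, _, _, .inl a, e⟩)
    · exact .inr (.inr ⟨F, _, _, .inr a, e⟩)
    · exact .inr (.inl (e.elim fun e => (H11.nonempty_psl2_nine_equiv a).map e.trans))
    · exact k6 3 5 6 11 (by simp [((a ▸ l).odd (f := 1) (p := 11) (by norm_num) rfl (by decide)).2])
        (by decide) (by decide) (by decide) (by decide)
    · exact k6 3 6 7 13 (by simp [((a ▸ l).odd (f := 1) (p := 13) (by norm_num) rfl (by decide)).2])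
        (by decide) (by decide) (by decide) (by decide)
    · exact k6 3 5 15 17 (by simp [(L2.even (m := 4) (a ▸ l) (by decide)).2])
        (by decide) (by decide) (by decide) (by decide)
  · obtain ⟨F, _, _, a, ⟨e⟩⟩ := a
    haveI : CharP F 2 := charP_of_card_eq_prime_pow (f := 2) a
    have := fun n => (ord_congr e).trans (Set.ext_iff.1 (S2476.result (F := F) 2) n)
    exact k6 3 4 5 7 (by simp [this, a]) (by decide) (by decide) (by decide) (by decide)
  · exact k6 4 5 7 13 (by simp [(SzM.data (m := 1) ⟨F, _, _, a, e⟩ le_rfl).2])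
      (by decide) (by decide) (by decide) (by decide)
  · have o := (L2.odd ⟨F, _, _, a, e⟩ Nat.prime_three rfl (Odd.pow (by decide))).2
    rw [h1, h2, Nat.mul_div_cancel_left _ two_pos, show 4 * s / 2 = 2 * s by omega] at o
    have : 27 ≤ 3 ^ n := by
      rcases n with _ | _ | _ | n
      · omega
      · exact absurd r1 (by rw [show r = 1 by omega]; decide)
      · omega
      · exact Nat.pow_le_pow_right (n := 3) (by decide) (show 3 ≤ n + 1 + 1 + 1 by omega)
    exact k6 3 s r (2 * s) (by simp [o]) (by decide) (by omega) (by omega) (by omega)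
  · have n1 : 1 ≤ n := Nat.pos_of_ne_zero (by rintro rfl; omega)
    have o := (L2.even ⟨F, _, _, a, e⟩ n1).2
    rw [h2] at o
    by_cases r3 : r = 3
    · exact .inr (.inr ⟨F, _, _, .inr (by omega), e⟩)
    have := h1.two_le
    have := r1.two_le
    have := odd_pow_add n1
    rw [Nat.odd_iff] at this
    exact k6 3 r (2 ^ n - 1) (3 * r) (by simp [o]) (by decide) (by omega) (by omega) (by omega)

end Cfsg.Agent.S3406
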