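import Cfsg.Statements.S3496
import Cfsg.Agent.H24.ExtPrim2
import Cfsg.Agent.H24.Affine

set_option autoImplicit false
open Cfsg

namespace Cfsg.Agent.S3496

open MulAction Subgroup H24 H24.NF

theorem lin {H V : Type*} [Group H] [Finite H] {p d q : ℕ} [Fact p.Prime] [AddCommGroup V]
    [Module (ZMod p) V] [Finite V] [Nontrivial V] {ρ : H →* (V ≃ₗ[ZMod p] V)}
    (hρ : Function.Injective ρ) {A : Subgroup H} [A.Normal] (h0 : A ≠ ⊥) (hq : q.Prime)
    (hA : IsElementaryAbelian q A) (hc : centralizer (A : Set H) ≤ A) (hi : Irr ρ A)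
    (hV : Nat.card V = p ^ d) : Nat.card A = q ∧ (∀ i, 0 < i → i < d → ¬ q ∣ p ^ i - 1) ∧
      (∃ h : H, A ⊔ zpowers h = ⊤) ∧ A.index ∣ d := by
  have hd : Dom (Alg ρ A) := hi.dom.mono (Alg_le_Cen (H9.IsElementaryAbelian.le_centralizer hA))
  obtain ⟨h1, -⟩ := hd.cyc hρ fun _ => R_mem_Alg
  letI := hd.isField.toField
  obtain ⟨v, hv⟩ := exists_ne (0 : V)
  have h2 : Nat.card (Alg ρ A) = Nat.card V := Nat.card_eq_of_bijective
    (LinearMap.toSpanSingleton (Alg ρ A) V v)
    ⟨(injective_iff_map_eq_zero _).2 fun x hx => Subtype.ext (hd x x.2 v hv hx), fun w => by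
      obtain ⟨x, hx, e⟩ := hi.line v hv w
      exact ⟨⟨x, hx⟩, e⟩⟩
  rw [hV, Module.natCard_eq_pow_finrank (K := ZMod p), Nat.card_zmod,
    Nat.pow_right_inj (Fact.out : p.Prime).one_lt] at h2
  have h3 := FiniteField.orderOf_frobeniusAlgHom (ZMod p) (Alg ρ A)
  have hk : (nm_Alg (ρ := ρ) (A := A)).aut.ker = A := le_antisymm (fun g hg => hc fun a ha =>
    R_inj hρ (by rw [map_mul, map_mul, (Nm.mem_ker _).1 hg _ (R_mem_Alg ha)]))
    fun a ha => (Nm.mem_ker _).2 fun x hx => hd.comm (R_mem_Alg ha) hx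
  refine ⟨?_, fun i hi0 hid h => ?_, ?_, ?_⟩
  · refine ((Nat.dvd_prime hq).1 ?_).resolve_left fun h => h0 (card_eq_one.1 h)
    rw [← IsCyclic.exponent_eq_card]
    exact Monoid.exponent_dvd_of_forall_pow_eq_one fun a => Subtype.ext (hA.2 a a.2)
  · have h4 : ∀ x (hx : x ∈ Alg ρ A),
        (FiniteField.frobeniusAlgHom (ZMod p) (Alg ρ A) ^ i) ⟨x, hx⟩ = ⟨x, hx⟩ := fun x hx => by
      induction hx using Algebra.adjoin_induction with
      | mem x hx =>
        obtain ⟨a, ha, rfl⟩ := hx
        rw [AlgHom.coe_pow, FiniteField.coe_frobeniusAlgHom, pow_iterate, ZMod.card]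
        refine Subtype.ext ?_
        obtain ⟨c, hc⟩ := h
        have : p ^ i = q * c + 1 := by
          have := Nat.one_le_pow i p (Fact.out : p.Prime).pos
          omega
        simp only [SubmonoidClass.coe_pow]
        rw [← map_pow, this, pow_succ, pow_mul, hA.2 a ha, one_pow, one_mul]
      | algebraMap c => exact AlgHom.commutes _ c
      | add x y hx hy h1 h2 => exact (map_add _ (⟨x, hx⟩ : Alg ρ A) ⟨y, hy⟩).trans (by rw [h1, h2]; rfl)
      | mul x y hx hy h1 h2 => exact (map_mul _ (⟨x, hx⟩ : Alg ρ A) ⟨y, hy⟩).trans (by rw [h1, h2]; rfl)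
    have h5 := orderOf_dvd_of_pow_eq_one (AlgHom.ext fun x => h4 x.1 x.2 :
      FiniteField.frobeniusAlgHom (ZMod p) (Alg ρ A) ^ i = 1)
    rw [h3, h2] at h5
    exact (Nat.le_of_dvd hi0 h5).not_gt hid
  · obtain ⟨⟨_, h, rfl⟩, hh⟩ := IsCyclic.exists_generator (α := (nm_Alg (ρ := ρ) (A := A)).aut.range)
    refine ⟨h, eq_top_iff.2 fun g _ => ?_⟩
    obtain ⟨k, e⟩ := hh ⟨_, g, rfl⟩
    have h6 : g * (h ^ k)⁻¹ ∈ A := by
      rw [← hk, MonoidHom.mem_ker, map_mul, map_inv, map_zpow, mul_inv_eq_one]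
      exact (congrArg Subtype.val e).symm
    simpa using mul_mem (mem_sup_left h6) (mem_sup_right (zpow_mem_zpowers h k) : h ^ k ∈ A ⊔ zpowers h)
  · rw [← hk, index_ker, ← h2, ← IsGalois.card_aut_eq_finrank]
    exact card_subgroup_dvd_card _


/-- The soluble extremely primitive groups. Let a finite solvable group G act faithfully and primitively on a finite set Ω with p ^ d points (p prime), with non-trivial point stabilizers each acting primitively on every one of its orbits. Then there is a prime q such that every orbit of a point stabilizer G_α other than {α} has exactly q points, q divides p ^ d − 1 but no p ^ i − 1 with 0 < i < d, and G_α has a normal subgroup T of order q with G_α generated by T and one further element and the order of G_α dividing q·d (so G_α is cyclic of order q, or an extension of T by a cyclic group of order dividing d). -/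
theorem result {G : Type*} [Group G] [Finite G] {Ω : Type*} [Fintype Ω] [MulAction G Ω] [FaithfulSMul G Ω] [Group.IsSolvable G] (p d : ℕ) (hp : p.Prime) (hcard : Fintype.card Ω = p ^ d)
    (hprim : MulAction.IsPreprimitive G Ω) (hH : ∀ α : Ω, MulAction.stabilizer G α ≠ ⊥) (hep : ∀ (α : Ω) (ω : Ω), MulAction.IsPreprimitive (MulAction.stabilizer G α) (MulAction.orbit (MulAction.stabilizer G α) ω)) (α : Ω) :
    ∃ q : ℕ, q.Prime ∧ (∀ ω : Ω, ω ≠ α → Nat.card (MulAction.orbit (MulAction.stabilizer G α) ω) = q) ∧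
      q ∣ p ^ d - 1 ∧ (∀ i : ℕ, 0 < i → i < d → ¬ q ∣ p ^ i - 1) ∧
      ∃ T : Subgroup G, T ≤ MulAction.stabilizer G α ∧ MulAction.stabilizer G α ≤ Subgroup.normalizer (T : Set G) ∧ Nat.card T = q ∧
        (∃ h : G, MulAction.stabilizer G α = T ⊔ Subgroup.zpowers h) ∧ Nat.card (MulAction.stabilizer G α) ∣ q * d := by
  have := Fact.mk hp
  obtain ⟨w, hw⟩ := exists_ne_of_stab (hH α)
  have hf := fun w (hw : w ≠ α) => faithful_orbit hH hep hw
  have hne : ∀ w : Ω, Nonempty (orbit (stabilizer G α) w) := fun w => ⟨⟨w, mem_orbit_self w⟩⟩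
  have : Nonempty Ω := ⟨α⟩
  have : Nontrivial (stabilizer G α) := (nontrivial_iff_ne_bot _).2 (hH α)
  have : Nontrivial G := (stabilizer G α).subtype_injective.nontrivial
  have hN0 := H1.fitting_ne_bot_of_isSolvable (G := G) inferInstance
  obtain ⟨hc, r, hr, hN⟩ := ab_normal_prim (Ω := Ω) hN0 (fit_ab_of_prim (Ω := Ω))
  have := Fact.mk hr
  rw [Nat.card_eq_fintype_card (α := Ω), hcard] at hc
  obtain rfl : r = p := by
    obtain ⟨k, hk⟩ := IsPGroup.iff_card.1 (H9.IsElementaryAbelian.isPGroup hN)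
    have hk0 : k ≠ 0 := by rintro rfl; exact hN0 (card_eq_one.1 hk)
    exact (Nat.prime_dvd_prime_iff_eq hr hp).1       (hr.dvd_of_dvd_pow (n := d) (by rw [← hc, hk]; exact dvd_pow_self r hk0))
  obtain ⟨β, ρ, hρ, hβ0, hβ, hβρ⟩ := exists_affine hN (H17.normal_trans (α := Ω) _ hN0) α
  have : Nontrivial (H9.EA hN) := ⟨β.symm w, β.symm α, β.symm.injective.ne hw⟩
  have h0 := H1.fitting_ne_bot_of_isSolvable (G := stabilizer G α) inferInstance
  set A := Cfsg.fittingSubgroup (stabilizer G α)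
  have := hf w hw
  have := hep α w
  have hF := fit_ab_of_prim (G := stabilizer G α) (Ω := orbit (stabilizer G α) w)
  obtain ⟨-, q, hq, hE⟩ := ab_normal_prim (Ω := orbit (stabilizer G α) w) h0 hF
  have hi : Irr ρ A := fun W hW => by
    have h1 : ∀ h : stabilizer G α, ∀ v ∈ W, ρ h v ∈ W := fun h v hv => by
      by_cases h2 : β v = α
      · have : v = 0 := β.injective (h2.trans hβ0.symm)
        simp [this]
      have := hf _ h2
      have := hep α (β v)
      obtain ⟨a, ha⟩ := (H17.normal_trans (α := orbit (stabilizer G α) (β v)) A h0).exists_smul_eq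
        ⟨_, mem_orbit_self _⟩ ⟨_, mem_orbit _ h⟩
      have : ρ a v = ρ h v := β.injective (by rw [hβρ, hβρ]; exact congrArg Subtype.val ha)
      exact this ▸ hW a a.2 v hv
    rcases H17.prim_rel (G := G) (fun x y : Ω => β.symm x - β.symm y ∈ W)
      ⟨fun _ => by simp, fun h => by simpa using W.neg_mem h,
        fun h h' => by simpa using W.add_mem h h'⟩ (fun g x y h => by
        obtain ⟨x, rfl⟩ := β.surjective x
        obtain ⟨y, rfl⟩ := β.surjective y
        obtain ⟨u, hu⟩ := β.surjective (g • α)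
        have h2 : u.val⁻¹ * g ∈ stabilizer G α := by
          rw [mem_stabilizer_iff, mul_smul, inv_smul_eq_iff, ← hu, ← hβ0, ← hβ, add_zero]
        have h3 : ∀ z, β.symm (g • β z) = u + ρ ⟨_, h2⟩ z := fun z => by
          rw [Equiv.symm_apply_eq, hβ, hβρ, smul_smul, mul_inv_cancel_left]
        simp only [Equiv.symm_apply_apply] at h
        simpa [h3] using h1 ⟨_, h2⟩ _ h) with h | h
    · exact Or.inl ((Submodule.eq_bot_iff _).2 fun v hv => β.injective (h _ _ (by simpa)))
    · exact Or.inr (eq_top_iff.2 fun v _ => by simpa using h (β v) (β 0))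
  obtain ⟨h1, h2, ⟨h, h3⟩, h4⟩ := lin hρ h0 hq hE
    (cent_le_of_prim (Ω := orbit (stabilizer G α) w) h0 hF) hi ((H9.EA.card hN).trans hc)
  have h5 : ∀ ω : Ω, ω ≠ α → Nat.card (orbit (stabilizer G α) ω) = q := fun w hw => by
    have := hf w hw
    have := hep α w
    rw [← (ab_normal_prim (Ω := orbit (stabilizer G α) w) h0 hF).1, h1]
  refine ⟨q, hq, h5, ?_, h2, A.map (stabilizer G α).subtype, map_subtype_le _,
    H1.normalizer_le_normalizer_fittingOf _ |>.trans' le_normalizer, ?_, ⟨h, ?_⟩, ?_⟩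
  · rw [← hcard, ← Nat.card_eq_fintype_card]
    exact dvd_card_sub_one_of_orbits (G := G) α fun w hw => (h5 w hw).symm.dvd
  · rw [card_map_of_injective (subtype_injective _), h1]
  · have := congrArg (map (stabilizer G α).subtype) h3
    rw [Subgroup.map_sup, MonoidHom.map_zpowers, ← MonoidHom.range_eq_map, range_subtype] at this
    exact this.symm
  · rw [← A.card_mul_index, h1]
    exact Nat.mul_dvd_mul_left q h4

end Cfsg.Agent.S3496
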