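import Cfsg.Statements.S3501
import Cfsg.Agent.H7.Der1

set_option autoImplicit false
open Cfsg

open H7.Der

namespace Cfsg.Agent.S3501

/-- Let a finite group G act faithfully and primitively on a finite set Ω with at least two points, and suppose G is not almost simple (it has no non-abelian simple normal subgroup with trivial centralizer). Then the derangements of G form a single conjugacy class if and only if G is sharply 2-transitive (2-transitive, and no non-identity element fixes two points). -/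
theorem result {G : Type*} [Group G] [Finite G] {Ω : Type*} [Fintype Ω] [MulAction G Ω] [FaithfulSMul G Ω] (hΩ : 2 ≤ Fintype.card Ω) (hprim : MulAction.IsPreprimitive G Ω) (hnas : ¬ ∃ T : Subgroup G, T.Normal ∧ IsSimpleGroup T ∧ ¬ IsMulCommutative T ∧ Subgroup.centralizer (T : Set G) = ⊥) :
    Nat.card {c : ConjClasses G // ∃ g : G, ConjClasses.mk g = c ∧ ∀ ω : Ω, g • ω ≠ ω} = 1 ↔ (MulAction.IsMultiplyPretransitive G Ω 2 ∧ ∀ g : G, g ≠ 1 → ∀ a b : Ω, a ≠ b → g • a = a → g • b ≠ b) := by
  haveI : Nontrivial Ω := Fintype.one_lt_card_iff_nontrivial.1 hΩ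
  haveI : Nontrivial G := nontriv hprim.toIsPretransitive
  rw [cl_one]
  constructor
  · rintro ⟨-, h⟩
    rcases three_der (prim_q hprim) hnas with ⟨V, hV, h0, hc⟩ | ⟨a, b, c, ha, hb, -, h1, -⟩
    · have htr := prim_q hprim V hV h0
      refine ⟨aff_two hc htr fun v hv w hw h1 h2 => h _ _ (aff_dr hc htr hv h1) (aff_dr hc htr hw h2), fun g hg a b hab ha hb => ?_⟩
      obtain ⟨y, hy, hyV⟩ := aff_out hc htr hg hab ha hb
      obtain ⟨⟨v, hv⟩, h1⟩ := (Subgroup.ne_bot_iff_exists_ne_one).1 h0
      obtain ⟨k, rfl⟩ := isConj_iff.1 (h v y (aff_dr hc htr hv (fun h => h1 (Subtype.ext h))) hy)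
      exact hyV (hV.conj_mem v hv k)
    · exact absurd (h a b ha hb) h1
  · rintro ⟨h2, hs⟩
    exact ⟨exists_dr hprim.toIsPretransitive, fun x y hx hy => sharp_conj h2 hs hx hy⟩

end Cfsg.Agent.S3501
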