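import Cfsg.Statements.S3520
import Cfsg.Agent.H7.Der1

set_option autoImplicit false
open Cfsg

open H7.Der

namespace Cfsg.Agent.S3520

/-- Let a finite group G act faithfully and primitively on a finite set Ω with at least two points, suppose G is not almost simple (no non-abelian simple normal subgroup with trivial centralizer), and suppose the derangements of G form exactly two conjugacy classes. Then either Ω has 3 points and G has order 3; or G has a non-trivial abelian normal subgroup N acting regularly, every non-identity element of G fixes at most one point (so, when n > 3, G is a Frobenius group with kernel N), the number n of points is odd and a point stabilizer has order (n − 1)/2; or G is 2-transitive with a non-trivial abelian regular normal subgroup and some non-identity element fixes at least two points (a non-Frobenius 2-transitive affine group). -/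
theorem result {G : Type*} [Group G] [Finite G] {Ω : Type*} [Fintype Ω] [MulAction G Ω] [FaithfulSMul G Ω] (hΩ : 2 ≤ Fintype.card Ω) (hprim : MulAction.IsPreprimitive G Ω) (hnas : ¬ ∃ T : Subgroup G, T.Normal ∧ IsSimpleGroup T ∧ ¬ IsMulCommutative T ∧ Subgroup.centralizer (T : Set G) = ⊥)
    (hκ : Nat.card {c : ConjClasses G // ∃ g : G, ConjClasses.mk g = c ∧ ∀ ω : Ω, g • ω ≠ ω} = 2) (α : Ω) :
    (Fintype.card Ω = 3 ∧ Nat.card G = 3) ∨
    ((∃ N : Subgroup G, N.Normal ∧ N ≠ ⊥ ∧ IsMulCommutative N ∧ ∀ ω : Ω, MulAction.stabilizer N ω = ⊥) ∧ (∀ g : G, g ≠ 1 → Nat.card (MulAction.fixedBy Ω g) ≤ 1) ∧ ¬ 2 ∣ Fintype.card Ω ∧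
        2 * Nat.card (MulAction.stabilizer G α) = Fintype.card Ω - 1) ∨
    ((∃ N : Subgroup G, N.Normal ∧ N ≠ ⊥ ∧ IsMulCommutative N ∧ ∀ ω : Ω, MulAction.stabilizer N ω = ⊥) ∧ MulAction.IsMultiplyPretransitive G Ω 2 ∧ ∃ g : G, g ≠ 1 ∧ 2 ≤ Nat.card (MulAction.fixedBy Ω g)) := by
  classical
  haveI : Nontrivial Ω := Fintype.one_lt_card_iff_nontrivial.1 hΩ
  haveI : Nontrivial G := nontriv hprim.toIsPretransitive
  right
  rcases three_der (prim_q hprim) hnas with ⟨V, hV, h0, hc⟩ | ⟨a, b, c, ha, hb, hc, h1, h2, h3⟩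
  swap
  · rcases cl_two hκ ha hb hc with h | h | h <;> contradiction
  have htr := prim_q hprim V hV h0
  have hN : ∃ N : Subgroup G, N.Normal ∧ N ≠ ⊥ ∧ IsMulCommutative N ∧ ∀ ω : Ω, MulAction.stabilizer N ω = ⊥ :=
    ⟨V, hV, h0, hc, aff_stab hc htr⟩
  by_cases h : ∀ v ∈ V, ∀ w ∈ V, v ≠ 1 → w ≠ 1 → IsConj v w
  · right
    have h2 := aff_two hc htr h
    refine ⟨hN, h2, ?_⟩
    by_contra hcon
    push Not at hcon
    have h1 : Nat.card (Cl G Ω) = 1 := cl_one.2 ⟨exists_dr hprim.toIsPretransitive, fun x y hx hy => sharp_conj h2 (by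
      intro g hg a b hab ha hb
      haveI : Nontrivial (MulAction.fixedBy Ω g) := ⟨⟨a, ha⟩, ⟨b, hb⟩, fun h => hab (congrArg Subtype.val h)⟩
      have := Finite.one_lt_card (α := MulAction.fixedBy Ω g)
      have := hcon g hg
      omega) hx hy⟩
    change Nat.card (Cl G Ω) = 2 at hκ
    omega
  left
  push Not at h
  obtain ⟨v, hv, w, hw, v1, w1, hvw⟩ := h
  have dv := aff_dr hc htr hv v1
  have dw := aff_dr hc htr hw w1
  have hall : ∀ y, Dr Ω y → IsConj v y ∨ IsConj w y := fun y hy => (cl_two hκ dv dw hy).resolve_left hvw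
  have hs : ∀ g : G, g ≠ 1 → ∀ a b : Ω, a ≠ b → g • a = a → g • b ≠ b := by
    intro g hg a b hab ha hb
    obtain ⟨y, hy, hyV⟩ := aff_out hc htr hg hab ha hb
    rcases hall y hy with h | h <;> obtain ⟨k, rfl⟩ := isConj_iff.1 h
    · exact hyV (hV.conj_mem v hv k)
    · exact hyV (hV.conj_mem w hw k)
  have hne : ∀ u : G, Dr Ω u → ∀ h : MulAction.stabilizer G α, (h : G) • u • α ≠ α := by
    intro u hu h he
    exact hu α (smul_left_cancel (h : G) (he.trans h.2.symm))
  have hinj : ∀ u : G, Dr Ω u → ∀ h k : MulAction.stabilizer G α, (h : G) • u • α = (k : G) • u • α → h = k := by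
    intro u hu h k he
    by_contra hn
    refine hs ((k : G)⁻¹ * h) (fun h' => hn (Subtype.ext (inv_mul_eq_one.1 h').symm)) α (u • α) (hu α).symm
      ((k⁻¹ * h).2) (by rw [mul_smul, he, inv_smul_smul])
  let F : MulAction.stabilizer G α ⊕ MulAction.stabilizer G α → {β : Ω // β ≠ α} :=
    Sum.elim (fun h => ⟨_, hne v dv h⟩) (fun h => ⟨_, hne w dw h⟩)
  have hmix : ∀ h k : MulAction.stabilizer G α, (h : G) • v • α ≠ (k : G) • w • α := by
    intro h k he
    apply hvw
    have e1 : ((h : G) * v * (h : G)⁻¹) • α = ((k : G) * w * (k : G)⁻¹) • α := by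
      rw [mul_smul, mul_smul, mul_smul, mul_smul, inv_smul_eq_iff.2 h.2.symm, inv_smul_eq_iff.2 k.2.symm, he]
    have e2 := aff_one hc htr (V.mul_mem (V.inv_mem (hV.conj_mem w hw k)) (hV.conj_mem v hv h)) (a := α)
      (by rw [mul_smul, e1, inv_smul_smul])
    exact (isConj_iff.2 ⟨h, (inv_mul_eq_one.1 e2).symm⟩ : IsConj v _).trans (isConj_iff.2 ⟨k, rfl⟩ : IsConj w _).symm
  have hF : Function.Bijective F := by
    constructor
    · rintro (h | h) (k | k) he
      · rw [hinj v dv h k (congrArg Subtype.val he)]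
      · exact absurd (congrArg Subtype.val he) (hmix h k)
      · exact absurd (congrArg Subtype.val he).symm (hmix k h)
      · rw [hinj w dw h k (congrArg Subtype.val he)]
    · rintro ⟨β, hβ⟩
      obtain ⟨u, rfl⟩ := htr.exists_smul_eq α β
      rcases hall u (aff_dr hc htr u.2 (fun h => hβ (by rw [Subgroup.smul_def, h, one_smul]))) with h | h
      · obtain ⟨k, k1, k2⟩ := aff_conj hc htr hv h α
        exact ⟨Sum.inl ⟨k, k1⟩, Subtype.ext k2⟩
      · obtain ⟨k, k1, k2⟩ := aff_conj hc htr hw h α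
        exact ⟨Sum.inr ⟨k, k1⟩, Subtype.ext k2⟩
  have hcard := Nat.card_eq_of_bijective F hF
  rw [Nat.card_sum, Nat.card_eq_fintype_card (α := {β : Ω // β ≠ α}), Fintype.card_subtype_compl, Fintype.card_subtype_eq] at hcard
  refine ⟨hN, fun g hg => ?_, by omega, by omega⟩
  rw [Finite.card_le_one_iff_subsingleton]
  exact ⟨fun a b => by
    by_contra h
    exact hs g hg a b (fun h' => h (Subtype.ext h')) a.2 b.2⟩

end Cfsg.Agent.S3520
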