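import Cfsg.Statements.S3546
import Cfsg.Agent.H12.DirPow
import Cfsg.Agent.H17.Prim
-- import your own Cfsg.Agent.* helpers here

set_option autoImplicit false
set_option maxHeartbeats 400000
open Cfsg

namespace Cfsg.Agent.S3546

open MulAction Subgroup

theorem normal {G Ω : Type*} [Group G] [MulAction G Ω] :
    (closure {g : G | ∀ ω : Ω, g • ω ≠ ω}).Normal := ⟨fun n hn g => by
  induction hn using closure_induction with
  | mem x h => exact subset_closure fun ω e => h (g⁻¹ • ω) (by
      simpa [mul_smul, smul_eq_iff_eq_inv_smul g] using e)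
  | one => simp
  | mul x y _ _ h1 h2 => simpa [mul_assoc] using mul_mem h1 h2
  | inv x _ h => simpa [mul_assoc] using inv_mem h⟩

/-- Let G act faithfully and transitively on a finite set and let D be the subgroup of G generated by the derangements (the elements fixing no point). Then D is itself transitive, and D contains every element of G whose number of fixed points is different from 1. -/
theorem result {G Ω : Type*} [Group G] [Finite G] [MulAction G Ω] [FaithfulSMul G Ω] [Finite Ω]
    (htrans : MulAction.IsPretransitive G Ω) :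
    MulAction.IsPretransitive ↥(Subgroup.closure {g : G | ∀ ω : Ω, g • ω ≠ ω}) Ω ∧
    ∀ g : G, Nat.card (MulAction.fixedBy Ω g) ≠ 1 → g ∈ Subgroup.closure {g : G | ∀ ω : Ω, g • ω ≠ ω} := by
  classical
  rcases isEmpty_or_nonempty Ω with h | h
  · exact ⟨⟨fun a => h.elim a⟩, fun g _ => subset_closure fun a => h.elim a⟩
  set D := closure {g : G | ∀ ω : Ω, g • ω ≠ ω}
  have := Fintype.ofFinite G
  have := Fintype.ofFinite Ω
  have := Fintype.ofFinite (Quotient (orbitRel D Ω))
  have h1 := H17.sum_card_fixedBy_of_trans (G := G) (α := Ω)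
  have h2 := sum_card_fixedBy_eq_card_orbits_mul_card_group D Ω
  rw [← Finset.sum_filter_add_sum_filter_not _ (· ∈ D), Finset.sum_subtype _ (p := (· ∈ D))
    (by simp)] at h1
  simp only [← Nat.card_eq_fintype_card] at h2
  have h3 : ∀ g ∈ Finset.univ.filter (· ∉ D), 1 ≤ Nat.card (fixedBy Ω g) := fun g hg => by
    obtain ⟨a, ha⟩ := not_forall_not.1 fun h : ∀ ω : Ω, ¬ g • ω = ω =>
      (Finset.mem_filter.1 hg).2 (Subgroup.subset_closure h)
    exact Nat.card_pos_iff.2 ⟨⟨⟨a, ha⟩⟩, inferInstance⟩
  have h4 := Finset.card_nsmul_le_sum _ _ _ h3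
  have h5 := Finset.card_filter_add_card_filter_not (s := Finset.univ) (· ∈ D)
  rw [← Fintype.card_subtype, ← Nat.card_eq_fintype_card, Finset.card_univ,
    ← Nat.card_eq_fintype_card] at h5
  erw [h2] at h1
  rw [smul_eq_mul, mul_one] at h4
  have h6 : 0 < Nat.card (Quotient (orbitRel D Ω)) :=
    Nat.card_pos_iff.2 ⟨h.map (Quotient.mk _), inferInstance⟩
  have h7 : 0 < Nat.card D := Nat.card_pos
  have h8 : Nat.card (Quotient (orbitRel D Ω)) = 1 := by nlinarith
  refine ⟨⟨fun a b => (Quotient.exact ((Nat.card_eq_one_iff_unique.1 h8).1.elim ⟦b⟧ ⟦a⟧) :)⟩,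
    fun g hg => by_contra fun h => hg ?_⟩
  refine ((Finset.sum_eq_sum_iff_of_le h3).1 ?_ g (by simpa)).symm
  rw [h8] at h1
  rw [Finset.sum_const, smul_eq_mul]
  omega

end Cfsg.Agent.S3546
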