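import Cfsg.Statements.S3549
import Cfsg.Agent.H24.Derang
import Cfsg.Agent.S3546

set_option autoImplicit false
open Cfsg

namespace Cfsg.Agent.S3549

open MulAction


/-- Let G act faithfully, transitively but imprimitively on a finite set with n points, and let D be the subgroup generated by the derangements. Then the index of D in G is at most √n − 1. -/
theorem result {G Ω : Type*} [Group G] [Finite G] [MulAction G Ω] [FaithfulSMul G Ω] [Finite Ω]
    (htrans : MulAction.IsPretransitive G Ω) (himp : ¬ MulAction.IsPreprimitive G Ω) :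
    ((Subgroup.closure {g : G | ∀ ω : Ω, g • ω ≠ ω}).index : ℝ) ≤ Real.sqrt (Nat.card Ω) - 1 := by
  classical
  obtain ⟨h1, -⟩ := Cfsg.Agent.S3546.result (G := G) (Ω := Ω) htrans
  set D := Subgroup.closure {g : G | ∀ ω : Ω, g • ω ≠ ω}
  have hD : ∀ g : G, g ∉ D → ∃ a : Ω, g • a = a := fun g hg => by
    by_contra h
    exact hg (Subgroup.subset_closure fun ω hω => h ⟨ω, hω⟩)
  have hnt : Nontrivial Ω := by
    by_contra h
    have := not_nontrivial_iff_subsingleton.1 h
    exact himp IsPreprimitive.of_subsingleton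
  obtain ⟨a⟩ := (inferInstance : Nonempty Ω)
  rw [← isCoatom_stabilizer_iff_preprimitive G a] at himp
  have hne : stabilizer G a ≠ ⊤ := fun h => by
    obtain ⟨b, hb⟩ := exists_ne a
    obtain ⟨g, rfl⟩ := exists_smul_eq G a b
    exact hb (h ▸ Subgroup.mem_top g : g ∈ stabilizer G a)
  obtain ⟨K, hK, hK'⟩ : ∃ K, stabilizer G a < K ∧ K ≠ ⊤ := by
    by_contra h
    push Not at h
    exact himp ⟨hne, h⟩
  have h2 := (H17.trans_sub_iff (α := G ⧸ K) D).2 fun x y => by
    induction x using QuotientGroup.induction_on with | _ x => ?_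
    induction y using QuotientGroup.induction_on with | _ y => ?_
    obtain ⟨d, hd, h⟩ := (H17.trans_sub_iff D).1 h1 (x • a) (y • a)
    refine ⟨d, hd, ?_⟩
    rw [Quotient.smul_mk, smul_eq_mul, QuotientGroup.eq]
    refine hK.le ?_
    rw [mem_stabilizer_iff, mul_smul, inv_smul_eq_iff, mul_smul, h]
  have h3 := @H24.index_dvd_card_sub_one G (G ⧸ K) _ _ _ _ _ _ D h2 fun g hg => by
    obtain ⟨b, hb⟩ := hD g hg
    obtain ⟨u, rfl⟩ := exists_smul_eq G a b
    refine ⟨u, ?_⟩
    rw [Quotient.smul_mk, smul_eq_mul, QuotientGroup.eq]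
    refine hK.le ?_
    rw [mem_stabilizer_iff, mul_smul, inv_smul_eq_iff, mul_smul, hb]
  have h4 := H24.index_dvd_card_sub_one D hD
  have h5 := Subgroup.relIndex_mul_index hK.le
  rw [index_stabilizer_of_transitive] at h5
  rw [← Subgroup.index_eq_card] at h3
  have hb : (stabilizer G a).relIndex K ≠ 1 := fun h => hK.not_ge (Subgroup.relIndex_eq_one.1 h)
  have hm : K.index ≠ 1 := fun h => hK' (Subgroup.index_eq_one.1 h)
  have hn : 0 < Nat.card Ω := Nat.card_pos
  generalize (stabilizer G a).relIndex K = b at *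
  generalize K.index = m at *
  generalize D.index = k at *
  rw [← h5] at h4 hn ⊢
  have hb0 : b ≠ 0 := by rintro rfl; simp at hn
  have hm0 : m ≠ 0 := by rintro rfl; simp at hn
  obtain ⟨b, rfl⟩ : ∃ c, b = c + 1 := ⟨b - 1, by omega⟩
  obtain ⟨m, rfl⟩ : ∃ c, m = c + 1 := ⟨m - 1, by omega⟩
  have e : (b + 1) * (m + 1) - 1 = (b + 1) * m + b := by
    rw [mul_add, mul_one, ← add_assoc, Nat.add_sub_cancel]
  rw [Nat.add_sub_cancel] at h3
  rw [e, Nat.dvd_add_right (Dvd.dvd.mul_left h3 _)] at h4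
  have h6 := Nat.le_of_dvd (by omega) h3
  have h7 := Nat.le_of_dvd (by omega) h4
  rw [le_sub_iff_add_le]
  refine Real.le_sqrt_of_sq_le ?_
  have : (k + 1) ^ 2 ≤ (b + 1) * (m + 1) := by nlinarith
  exact_mod_cast this

end Cfsg.Agent.S3549
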