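import Cfsg.Statements.S3554
import Cfsg.Agent.H12.DirPow
import Cfsg.Agent.H17.Basic
-- import your own Cfsg.Agent.* helpers here

set_option autoImplicit false
set_option maxHeartbeats 400000
open Cfsg

namespace Cfsg.Agent.S3554

open MulAction Subgroup

/-- Let G act faithfully and transitively on a finite set and suppose G has a non-trivial cyclic normal subgroup. Then some element of G of prime order fixes no point. -/
theorem result {G Ω : Type*} [Group G] [Finite G] [MulAction G Ω] [FaithfulSMul G Ω] [Finite Ω]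
    (htrans : MulAction.IsPretransitive G Ω) (C : Subgroup G) (hC : C.Normal) (hC1 : C ≠ ⊥) (hcyc : IsCyclic ↥C) :
    ∃ g : G, (orderOf g).Prime ∧ ∀ ω : Ω, g • ω ≠ ω := by
  obtain ⟨p, hp, h1⟩ := Nat.exists_prime_and_dvd (mt (eq_bot_iff_card C).2 hC1)
  have := Fact.mk hp
  obtain ⟨x, hx⟩ := exists_prime_orderOf_dvd_card' p h1
  refine ⟨x, by rwa [orderOf_coe, hx], fun a ha => hp.ne_one ?_⟩
  rw [← hx, orderOf_eq_one_iff]
  refine Subtype.ext (eq_of_smul_eq_smul (α := Ω) fun b => ?_)
  obtain ⟨g, rfl⟩ := htrans.exists_smul_eq a b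
  obtain ⟨k, hk⟩ := (MulAut.conjNormal g⁻¹ : MulAut C).toMonoidHom.map_cyclic
  have h3 : ((x ^ k : C) : G) • a = a := zpow_mem (show (x : G) ∈ stabilizer G a from ha) k
  rw [← hk] at h3
  simpa [mul_smul, inv_smul_eq_iff] using h3

end Cfsg.Agent.S3554
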