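import Cfsg.Statements.S3555
import Cfsg.Agent.H24.Derang
import Cfsg.Agent.H24.FrobCompl

set_option autoImplicit false
open Cfsg

namespace Cfsg.Agent.S3555

open MulAction

theorem comm_of_sq {G : Type*} [Group G] {x y : G} (hx : x ^ 2 = 1) (hy : y ^ 2 = 1)
    (h : (x * y) ^ 2 = 1) : x * y = y * x := by
  have h1 : x⁻¹ = x := inv_eq_of_mul_eq_one_right (by rw [← sq, hx])
  have h2 : y⁻¹ = y := inv_eq_of_mul_eq_one_right (by rw [← sq, hy])
  have h3 : (x * y)⁻¹ = x * y := inv_eq_of_mul_eq_one_right (by rw [← sq, h])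
  rw [← h3, mul_inv_rev, h1, h2]

theorem key {G Ω : Type*} [Group G] [Finite G] [MulAction G Ω] [FaithfulSMul G Ω] [Finite Ω]
    [IsPretransitive G Ω] (hinv : ∀ g : G, (∀ ω : Ω, g • ω ≠ ω) → orderOf g = 2) (g : G) (a b : Ω)
    (hab : a ≠ b) (ha : g • a = a) (hb : g • b = b) : g = 1 := by
  classical
  have := Fintype.ofFinite G
  have : Nonempty Ω := ⟨a⟩
  set n := Nat.card Ω
  set π : G → ℕ := fun g => Nat.card (fixedBy Ω g) with hπ
  have h1 : ∑ g : G, π g = Nat.card G := H17.sum_card_fixedBy_of_trans (G := G) (α := Ω)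
  have h2 : ∑ g : G, π (g * g) ≤ ∑ g : G, π g ^ 2 := H24.sum_fix_sq_le
  have hle : ∀ g, π g ≤ π (g * g) := fun g =>
    Set.ncard_le_ncard (fun x hx => by
      rw [mem_fixedBy] at hx ⊢; rw [mul_smul, hx, hx])
  have hn : ∀ g, π g ≤ n := fun g => H24.card_fixedBy_le g
  have h3 : ∀ g ∈ (Finset.univ : Finset G), π g ^ 2 + n ≤ n * π g + π (g * g) := by
    intro g _
    rcases Nat.eq_zero_or_pos (π g) with h | h
    · have : g * g = 1 := by
        rw [← sq, ← hinv g fun ω hω => ?_, pow_orderOf_eq_one]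
        have : 0 < π g := Nat.card_pos_iff.2 ⟨⟨⟨ω, hω⟩⟩, inferInstance⟩
        omega
      have h' : π (g * g) = n := by
        rw [this]; simp [hπ, n]
      rw [h, h']; simp
    · have := hle g
      have := hn g
      nlinarith
  have h4 := (Finset.sum_eq_sum_iff_of_le h3).1 (le_antisymm (Finset.sum_le_sum h3) (by
    rw [Finset.sum_add_distrib, Finset.sum_add_distrib, ← Finset.mul_sum, h1, Finset.sum_const,
      Finset.card_univ, ← Nat.card_eq_fintype_card, smul_eq_mul, mul_comm]
    omega)) g (Finset.mem_univ g)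
  have h5 : 1 < π g := H24.one_lt_card_fixedBy hab ha hb
  have h6 := hle g
  have h7 := hn g
  refine H24.eq_one_of_card_fixedBy (Ω := Ω) (le_antisymm h7 ?_)
  by_contra h
  have : π g < n := not_le.1 h
  nlinarith


/-- Let G act faithfully and transitively on a finite set and suppose every element of G fixing no point is an involution. Then either G is an elementary abelian 2-group, or G is a Frobenius group whose Frobenius kernel is an elementary abelian 2-group: G has a Frobenius complement H, and the elements lying in no conjugate of H, together with the identity, pairwise commute and square to the identity. -/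
theorem result {G Ω : Type*} [Group G] [Finite G] [MulAction G Ω] [FaithfulSMul G Ω] [Finite Ω]
    (htrans : MulAction.IsPretransitive G Ω) (hinv : ∀ g : G, (∀ ω : Ω, g • ω ≠ ω) → orderOf g = 2) :
    (IsMulCommutative G ∧ ∀ g : G, g ^ 2 = 1) ∨
    (∃ H : Subgroup G, Cfsg.IsFrobeniusComplement H ∧
      (∀ x ∈ Cfsg.frobeniusKernel H, x ^ 2 = 1) ∧
      ∀ x ∈ Cfsg.frobeniusKernel H, ∀ y ∈ Cfsg.frobeniusKernel H, x * y = y * x) := by
  have hs := key hinv
  by_cases h : ∀ a : Ω, stabilizer G a = ⊥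
  · have h2 : ∀ g : G, g ^ 2 = 1 := fun g => by
      by_cases hg : g = 1
      · simp [hg]
      · rw [← hinv g fun ω hω => hg ((Subgroup.eq_bot_iff_forall _).1 (h ω) g hω), pow_orderOf_eq_one]
    exact Or.inl ⟨⟨⟨fun x y => comm_of_sq (h2 x) (h2 y) (h2 _)⟩⟩, h2⟩
  push Not at h
  obtain ⟨a, ha⟩ := h
  have hF : Cfsg.IsFrobeniusComplement (stabilizer G a) := by
    refine H24.isFrobeniusComplement_iff.2 ⟨ha, fun ht => ha ?_, fun g x hx hg => ?_⟩
    · refine (Subgroup.eq_bot_iff_forall _).2 fun g _ => eq_of_smul_eq_smul (α := Ω) fun b => ?_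
      obtain ⟨u, rfl⟩ := exists_smul_eq G a b
      have h1 : u • a = a := (ht ▸ Subgroup.mem_top u : u ∈ stabilizer G a)
      have h2 : g • a = a := (ht ▸ Subgroup.mem_top g : g ∈ stabilizer G a)
      rw [h1, h2, one_smul]
    · by_cases h : g • a = a
      · exact Or.inl h
      · refine Or.inr (hs x _ _ h ?_ hx)
        rw [mem_stabilizer_iff, mul_smul, mul_smul, inv_smul_eq_iff] at hg
        exact hg
  obtain ⟨N, hN, -, -⟩ := Cfsg.Agent.S0035.result _ hF
  have h2 : ∀ x ∈ Cfsg.frobeniusKernel (stabilizer G a), x ^ 2 = 1 := fun x hx => by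
    rcases H24.mem_frobeniusKernel.1 hx with rfl | hx
    · simp
    · rw [← hinv x fun ω hω => ?_, pow_orderOf_eq_one]
      obtain ⟨u, rfl⟩ := exists_smul_eq G a ω
      exact hx u (by rw [mem_stabilizer_iff, mul_smul, mul_smul, hω, inv_smul_smul])
  refine Or.inr ⟨_, hF, h2, fun x hx y hy => comm_of_sq (h2 x hx) (h2 y hy) (h2 _ ?_)⟩
  rw [← hN] at hx hy ⊢
  exact N.mul_mem hx hy

end Cfsg.Agent.S3555
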