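import Cfsg.Statements.S3556
import Cfsg.Agent.H7.Der1

set_option autoImplicit false
open Cfsg

open H7.Der

namespace Cfsg.Agent.S3556

/-- Let G act faithfully and primitively on a finite set with at least two points, and suppose that for some fixed prime p every element of G fixing no point has order a power of p. Then G is of affine type (it has a regular normal subgroup that is an elementary abelian r-group for some prime r) or almost simple (it has a non-abelian simple normal subgroup with trivial centralizer). -/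
theorem result {G Ω : Type*} [Group G] [Finite G] [MulAction G Ω] [FaithfulSMul G Ω] [Finite Ω]
    (hprim : MulAction.IsPreprimitive G Ω) (hΩ : 2 ≤ Nat.card Ω) (p : ℕ) (hp : p.Prime)
    (hder : ∀ g : G, (∀ ω : Ω, g • ω ≠ ω) → ∃ k : ℕ, orderOf g = p ^ k) :
    (∃ (N : Subgroup G) (r : ℕ), r.Prime ∧ N.Normal ∧ Cfsg.IsElementaryAbelian r N ∧
      MulAction.IsPretransitive N Ω ∧ ∀ a : Ω, MulAction.stabilizer N a = ⊥) ∨
    (∃ T : Subgroup G, T.Normal ∧ IsSimpleGroup ↥T ∧ ¬ IsMulCommutative ↥T ∧
      Subgroup.centralizer (T : Set G) = ⊥) := by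
  haveI : Nontrivial Ω := Finite.one_lt_card_iff_nontrivial.1 hΩ
  haveI : Nontrivial G := nontriv hprim.toIsPretransitive
  rcases struct (prim_q hprim) with ⟨N, r, hr, h1, h2, h3⟩ | h | ⟨T, x, h1, h2, h3, -⟩
  · exact Or.inl ⟨N, r, hr, h1, h3, prim_q hprim N h1 h2, aff_stab h3.1 (prim_q hprim N h1 h2)⟩
  · exact Or.inr h
  exfalso
  have key : ∀ r : ℕ, r.Prime → r ∣ Nat.card T → r = p := by
    intro r hr hd
    haveI := Fact.mk hr
    obtain ⟨c, hc⟩ := exists_prime_orderOf_dvd_card' r hd
    have hc' : orderOf (c : G) = r := by rw [Subgroup.orderOf_coe, hc]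
    obtain ⟨k, hk⟩ := hder _ (h2 c c.2 (fun h => hr.one_lt.ne (by rw [← hc', h, orderOf_one])))
    have := h3 c c.2
    rw [hc', hk] at this
    exact (Nat.prime_dvd_prime_iff_eq hr hp).1 (hr.dvd_of_dvd_pow this)
  obtain ⟨a, b, c, ha, hb, -, h4, -, -, h5, h6, -⟩ := three_primes h1
  exact h4 ((key a ha h5).trans (key b hb h6).symm)

end Cfsg.Agent.S3556
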