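import Cfsg.Statements.S3557
import Cfsg.Agent.H1.Fitting
import Mathlib

set_option autoImplicit false
open Cfsg

open Subgroup MulAction

namespace Cfsg.Agent.S3557

theorem orb_dvd {G Ω : Type*} [Group G] [Finite G] [MulAction G Ω] [Finite Ω]
    (htrans : MulAction.IsPretransitive G Ω) (p : ℕ) [hp : Fact p.Prime] (P : Sylow p G)
    (hcard : p ^ 2 ∣ Nat.card Ω) (a : Ω) : p ^ 2 ∣ (stabilizer (P : Subgroup G) a).index := by
  have h1 : (stabilizer G a).index = Nat.card Ω := index_stabilizer_of_transitive G a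
  have h2 : stabilizer (P : Subgroup G) a = (stabilizer G a).subgroupOf P := by
    ext x; simp [mem_subgroupOf, mem_stabilizer_iff]; rfl
  have h3 : (stabilizer G a).index ∣ (stabilizer G a ⊓ (P : Subgroup G)).index :=
    index_dvd_of_le inf_le_left
  have h4 : (stabilizer G a ⊓ (P : Subgroup G)).relIndex P * (P : Subgroup G).index
      = (stabilizer G a ⊓ (P : Subgroup G)).index := relIndex_mul_index inf_le_right
  rw [inf_relIndex_right] at h4
  rw [h2]
  change p ^ 2 ∣ (stabilizer G a).relIndex P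
  have h5 : p ^ 2 ∣ (stabilizer G a).relIndex P * (P : Subgroup G).index := by
    rw [h4]; exact (h1 ▸ hcard).trans h3
  exact (Nat.Coprime.pow_left 2 ((Nat.Prime.coprime_iff_not_dvd hp.out).2
    P.not_dvd_index)).dvd_of_dvd_mul_right h5

/-- an element of `M` acting freely with order `p` on an orbit -/
theorem exists_x {P Ω : Type*} [Group P] [Finite P] [MulAction P Ω] (p : ℕ) [hp : Fact p.Prime]
    (hP : IsPGroup p P) (M : Subgroup P) [M.Normal] (a : Ω) (hM : ¬ M ≤ stabilizer P a) :
    ∃ x ∈ M, (∀ w ∈ orbit P a, x • w ≠ w) ∧ ∀ w ∈ orbit P a, x ^ p • w = w := by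
  let φ := (MulAction.toPermHom P (orbit P a)).rangeRestrict
  have hs : Function.Surjective φ := MonoidHom.rangeRestrict_surjective _
  have hQ : IsPGroup p (MulAction.toPermHom P (orbit P a)).range := hP.of_surjective φ hs
  haveI : (M.map φ).Normal := Subgroup.Normal.map inferInstance φ hs
  haveI : Finite (MulAction.toPermHom P (orbit P a)).range := Finite.of_surjective φ hs
  have key : ∀ g : P, φ g = 1 ↔ ∀ w ∈ orbit P a, g • w = w := by
    intro g
    constructor
    · intro h w hw
      have := congrArg (fun y : (MulAction.toPermHom P (orbit P a)).range =>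
        ((y : Equiv.Perm (orbit P a)) ⟨w, hw⟩ : Ω)) h
      simpa [φ] using this
    · intro h
      apply Subtype.ext
      ext w
      simpa [φ] using h w w.2
  have hne : M.map φ ≠ ⊥ := by
    intro h
    apply hM
    intro g hg
    have : φ g ∈ M.map φ := mem_map_of_mem φ hg
    rw [h, mem_bot, key] at this
    exact this a (mem_orbit_self a)
  have h1 := H1.inf_center_ne_bot_of_isNilpotent hQ.isNilpotent (M.map φ) hne
  have h2 : p ∣ Nat.card ↥(M.map φ ⊓ center _) := by
    have := (hQ.to_subgroup (M.map φ ⊓ center _))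
    obtain ⟨k, hk⟩ := this.exists_card_eq
    rcases k with _ | k
    · exact absurd (Subgroup.eq_bot_of_card_eq _ (by simpa using hk)) h1
    · rw [hk]; exact Dvd.intro_left _ (pow_succ _ _).symm
  obtain ⟨y, hy⟩ := exists_prime_orderOf_dvd_card' p h2
  obtain ⟨x, hx, hxy⟩ := y.2.1
  have hyc := y.2.2
  have hy1 : (y : (MulAction.toPermHom P (orbit P a)).range) ≠ 1 := by
    intro h
    have : y = 1 := Subtype.ext h
    rw [this, orderOf_one] at hy
    exact hp.out.one_lt.ne hy
  refine ⟨x, hx, ?_, ?_⟩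
  · rintro w ⟨h, rfl⟩ hw
    apply hy1
    rw [← hxy, key]
    rintro _ ⟨k, rfl⟩
    have hc := (mem_center_iff.1 hyc) (φ (k * h⁻¹))
    rw [← hxy, ← map_mul, ← map_mul] at hc
    have hc2 : φ ((k * h⁻¹ * x)⁻¹ * (x * (k * h⁻¹))) = 1 := by
      rw [map_mul, map_inv, hc, inv_mul_cancel]
    have := (key _).1 hc2 (h • a) (mem_orbit _ _)
    rw [mul_smul, inv_smul_eq_iff, mul_smul, mul_smul, mul_smul, mul_smul] at this
    simp only at hw
    rw [hw] at this
    simpa using this
  · rw [← key, map_pow, hxy]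
    have := pow_orderOf_eq_one y
    rw [hy] at this
    exact congrArg Subtype.val this

/-- Let G act faithfully and transitively on a finite set with 2p² points, p a prime, and suppose G is 2-closed: every permutation of the set which, on each ordered pair of points, agrees with some element of G, is itself induced by an element of G. Then some element of G of prime order fixes no point. -/
theorem result {G Ω : Type*} [Group G] [Finite G] [MulAction G Ω] [FaithfulSMul G Ω] [Finite Ω]
    (htrans : MulAction.IsPretransitive G Ω) (p : ℕ) (hp : p.Prime) (hcard : Nat.card Ω = 2 * p ^ 2)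
    (hcl : ∀ σ : Equiv.Perm Ω, (∀ a b : Ω, ∃ g : G, σ a = g • a ∧ σ b = g • b) → ∃ g : G, ∀ a : Ω, σ a = g • a) :
    ∃ g : G, (orderOf g).Prime ∧ ∀ ω : Ω, g • ω ≠ ω := by
  classical
  haveI := Fact.mk hp
  obtain ⟨P⟩ : Nonempty (Sylow p G) := inferInstance
  have hdvd := orb_dvd htrans p P (hcard ▸ Dvd.intro_left 2 rfl)
  have hp2 : 1 < p ^ 2 := Nat.one_lt_pow two_ne_zero hp.one_lt
  have hne : Nonempty Ω := (Nat.card_pos_iff.1 (by rw [hcard]; omega)).1
  obtain ⟨a0⟩ := hne
  let Q : Subgroup G := P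
  have hQ : IsPGroup p Q := P.isPGroup'
  have hnt : Nontrivial Q := by
    by_contra h
    rw [not_nontrivial_iff_subsingleton] at h
    have h1 := (hdvd a0).trans (index_dvd_card _)
    rw [Nat.card_of_subsingleton (1 : Q)] at h1
    exact hp2.ne' (Nat.dvd_one.1 h1)
  have hZ : Nontrivial (center Q) := hQ.center_nontrivial
  have hpZ : p ∣ Nat.card (center Q) := by
    obtain ⟨k, hk0, hk⟩ := (hQ.to_subgroup (center Q)).nontrivial_iff_card.1 hZ
    rw [hk]; exact dvd_pow_self _ hk0.ne'
  obtain ⟨z0, hz0⟩ := exists_prime_orderOf_dvd_card' p hpZ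
  let z : Q := z0
  have hz : orderOf z = p := by rw [← hz0]; exact orderOf_coe z0
  have hzc : ∀ g : Q, g * z = z * g := mem_center_iff.1 z0.2
  have hzfix : ∀ a : Ω, z • a = a → ∀ w ∈ orbit Q a, z • w = w := by
    rintro a ha _ ⟨h, rfl⟩
    simp only
    rw [← mul_smul, ← hzc, mul_smul, ha]
  by_cases hfix : ∀ w : Ω, z • w ≠ w
  · exact ⟨z, by rw [orderOf_coe, hz]; exact hp, hfix⟩
  push Not at hfix
  obtain ⟨a, ha⟩ := hfix
  have hb : ∃ b : Ω, z • b ≠ b := by
    by_contra h
    push Not at h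
    have : (z : G) = 1 := FaithfulSMul.eq_of_smul_eq_smul (α := Ω) fun w => by
      rw [one_smul]; exact h w
    have h2 : z = 1 := Subtype.ext this
    rw [h2, orderOf_one] at hz
    exact hp.one_lt.ne hz
  obtain ⟨b, hb⟩ := hb
  have hmove : ∀ w ∈ orbit Q b, z • w ≠ w := fun w hw h =>
    hb (hzfix w h b (mem_orbit_symm.1 hw))
  have hdisj : Disjoint (orbit Q a) (orbit Q b) :=
    Set.disjoint_left.2 fun w h1 h2 => hmove w h2 (hzfix a ha w h1)
  have hidx : ∀ w : Ω, (stabilizer Q w).index = (orbit Q w).ncard := fun w => index_stabilizer Q w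
  have hge : ∀ w : Ω, p ^ 2 ≤ (orbit Q w).ncard := fun w => by
    rw [← hidx]; exact Nat.le_of_dvd (Nat.pos_of_ne_zero index_ne_zero_of_finite) (hdvd w)
  have hun := Set.ncard_union_eq hdisj
  have hle : (orbit Q a ∪ orbit Q b).ncard ≤ Nat.card Ω := by
    rw [← Set.ncard_univ]; exact Set.ncard_le_ncard (Set.subset_univ _)
  have ha2 : (orbit Q a).ncard = p ^ 2 := by have := hge a; have := hge b; omega
  have hb2 : (orbit Q b).ncard = p ^ 2 := by have := hge a; have := hge b; omega
  have huniv : orbit Q a ∪ orbit Q b = Set.univ :=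
    Set.eq_of_subset_of_ncard_le (Set.subset_univ _) (by rw [Set.ncard_univ]; omega)
  have hcomp : ∀ w, w ∉ orbit Q a → w ∈ orbit Q b := fun w hw =>
    ((huniv ▸ Set.mem_univ w : w ∈ orbit Q a ∪ orbit Q b)).resolve_left hw
  haveI hzn : (zpowers z).Normal := ⟨fun n hn g => by
    obtain ⟨k, rfl⟩ := hn
    have : g * z ^ k = z ^ k * g := (Commute.zpow_right (hzc g) k)
    simp only
    rw [this, mul_inv_cancel_right]; exact zpow_mem_zpowers _ _⟩
  let M : Subgroup Q := zpowers z ⊔ stabilizer Q b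
  have hMi : M.index ∣ p ^ 2 := by
    rw [← hb2, ← hidx]; exact index_dvd_of_le le_sup_right
  have hMne : M.index ≠ p ^ 2 := by
    intro h
    have : stabilizer Q b = M := by
      apply eq_of_le_of_card_ge le_sup_right
      have h1 := card_mul_index M
      have h2 := card_mul_index (stabilizer Q b)
      rw [hidx, hb2] at h2
      rw [h, ← h2] at h1
      exact (Nat.eq_of_mul_eq_mul_right (by omega) h1).le
    have hz' : z ∈ stabilizer Q b := this ▸ (mem_sup_left (mem_zpowers z) : z ∈ M)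
    exact hb hz'
  obtain ⟨i, hi, hMi'⟩ := (Nat.dvd_prime_pow hp).1 hMi
  haveI hMn : M.Normal := by
    interval_cases i
    · rw [pow_zero, index_eq_one] at hMi'
      rw [hMi']; infer_instance
    · apply normal_of_index_eq_minFac_card
      obtain ⟨k, hk0, hk⟩ := hQ.nontrivial_iff_card.1 hnt
      rw [hk, hMi', pow_one, Nat.Prime.pow_minFac hp hk0.ne']
    · exact absurd hMi' hMne
  have hMa : ¬ M ≤ stabilizer Q a := by
    intro h
    have h1 := index_dvd_of_le h
    rw [hidx, ha2] at h1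
    exact hMne (Nat.dvd_antisymm hMi h1)
  obtain ⟨x, hxM, hx1, hx2⟩ := exists_x p hQ M a hMa
  have hxb : ∀ w ∈ orbit Q b, ∃ k : ℤ, x • w = z ^ k • w := by
    rintro _ ⟨h, rfl⟩
    have hc : h⁻¹ * x * h⁻¹⁻¹ ∈ M := hMn.conj_mem x hxM h⁻¹
    obtain ⟨y, ⟨k, rfl⟩, s, hs, e⟩ := mem_sup_of_normal_left.1 hc
    refine ⟨k, ?_⟩
    simp only at e ⊢
    have e2 : x * h = z ^ k * h * s := by
      have : h * z ^ k = z ^ k * h := (Commute.zpow_right (hzc h) k)
      rw [← this, mul_assoc, e]; group
    rw [← mul_smul, e2, mul_smul, mul_smul, mem_stabilizer_iff.1 hs]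
  have hinv : ∀ (g : Q) (w : Ω), g • w ∈ orbit Q a ↔ w ∈ orbit Q a := fun g w =>
    ⟨fun h => by simpa using mem_orbit_of_mem_orbit g⁻¹ h, fun h => mem_orbit_of_mem_orbit g h⟩
  let σ : Equiv.Perm Ω :=
    { toFun := fun w => if w ∈ orbit Q a then x • w else z • w
      invFun := fun w => if w ∈ orbit Q a then x⁻¹ • w else z⁻¹ • w
      left_inv := fun w => by
        by_cases hw : w ∈ orbit Q a <;> simp [hw, hinv]
      right_inv := fun w => by
        by_cases hw : w ∈ orbit Q a <;> simp [hw, hinv] }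
  have hσ : ∀ w, σ w = if w ∈ orbit Q a then x • w else z • w := fun w => rfl
  have hzk : ∀ (k : ℤ), ∀ w ∈ orbit Q a, z ^ k • w = w := fun k w hw =>
    (zpow_mem (show z ∈ stabilizer Q w from hzfix a ha w hw) k)
  have hmix : ∀ u ∈ orbit Q a, ∀ w ∉ orbit Q a, ∃ g : Q, x • u = g • u ∧ z • w = g • w := by
    intro u hu w hw
    obtain ⟨k, hk⟩ := hxb w (hcomp w hw)
    refine ⟨z ^ (1 - k) * x, ?_, ?_⟩
    · rw [mul_smul, hzk _ _ ((hinv _ _).2 hu)]
    · rw [mul_smul, hk, ← mul_smul, ← zpow_add]; simp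
  obtain ⟨g, hg⟩ := hcl σ fun u w => by
    by_cases hu : u ∈ orbit Q a <;> by_cases hw : w ∈ orbit Q a <;> simp only [hσ, hu, hw, if_true, if_false]
    · exact ⟨x, rfl, rfl⟩
    · obtain ⟨g, h1, h2⟩ := hmix u hu w hw
      exact ⟨g, h1, h2⟩
    · obtain ⟨g, h1, h2⟩ := hmix w hw u hu
      exact ⟨g, h2, h1⟩
    · exact ⟨z, rfl, rfl⟩
  have hgn : ∀ (n : ℕ) (w : Ω), g ^ n • w = if w ∈ orbit Q a then x ^ n • w else z ^ n • w := by
    intro n
    induction n with
    | zero => intro w; simp
    | succ n ih =>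
      intro w
      rw [pow_succ', mul_smul, ih, ← hg, hσ]
      by_cases hw : w ∈ orbit Q a <;> simp [hw, hinv, pow_succ', mul_smul]
  have hfree : ∀ w : Ω, g • w ≠ w := fun w => by
    rw [← hg, hσ]
    by_cases hw : w ∈ orbit Q a
    · rw [if_pos hw]; exact hx1 w hw
    · rw [if_neg hw]; exact hmove w (hcomp w hw)
  refine ⟨g, ?_, hfree⟩
  have : orderOf g = p := by
    apply orderOf_eq_prime
    · refine FaithfulSMul.eq_of_smul_eq_smul (α := Ω) fun w => ?_
      rw [hgn, one_smul]
      by_cases hw : w ∈ orbit Q a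
      · rw [if_pos hw]; exact hx2 w hw
      · rw [if_neg hw, ← hz, pow_orderOf_eq_one, one_smul]
    · rintro rfl
      exact hfree a (one_smul _ _)
  rw [this]; exact hp

end Cfsg.Agent.S3557
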