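import Cfsg.Statements.S3619
import Cfsg.Agent.H24.JSet

set_option autoImplicit false
open Cfsg

namespace Cfsg.Agent.S3619


/-- Let G act faithfully on a finite set in such a way that every non-trivial normal subgroup of G is transitive (G is quasiprimitive). Let Γ be a subset with more than one point and not the whole set, such that the pointwise stabilizer of the complement of Γ acts transitively on Γ (a Jordan set). If that pointwise stabilizer acts primitively on Γ, then G is k-fold transitive where k is one more than the number of points outside Γ (the Jordan set is a trivial one). -/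
theorem result {G Ω : Type*} [Group G] [Finite G] [MulAction G Ω] [FaithfulSMul G Ω] [Finite Ω]
    (hqp : ∀ N : Subgroup G, N.Normal → N ≠ ⊥ → MulAction.IsPretransitive ↥N Ω)
    (Γ : Set Ω) (hΓ1 : 1 < Γ.ncard) (hΓ2 : Γ.ncard < Nat.card Ω)
    (hJ : MulAction.IsPretransitive ↥(fixingSubgroup G Γᶜ) ↥(SubMulAction.ofFixingSubgroup G Γᶜ))
    (hJp : MulAction.IsPreprimitive ↥(fixingSubgroup G Γᶜ) ↥(SubMulAction.ofFixingSubgroup G Γᶜ)) :
    MulAction.IsMultiplyPretransitive G Ω (Nat.card Ω - Γ.ncard + 1) := by
  lift Γ to Finset Ω using Set.toFinite _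
  rw [Set.ncard_coe_finset] at *
  have h := H24.JS.iff_trans.2 hJ
  have := h.qp_trans hqp hΓ1
  have hG : MulAction.IsPreprimitive G Ω := H17.prim_of_rel fun r hr hinv => by_contra fun c => by
    rw [not_or] at c
    obtain ⟨-, k2, k3⟩ := h.qp hqp hΓ1 hr hinv c.2
    rcases H17.prim_fix_rel _ hJp r hr (fun g _ x y _ _ => hinv g x y) with e | e
    · refine c.1 fun x y h => ?_
      obtain ⟨a, ha⟩ := Finset.card_pos.1 (show 0 < Γ.card by omega)
      obtain ⟨g, rfl⟩ := MulAction.exists_smul_eq G x a
      exact (smul_left_cancel_iff g).1 (e _ _ (not_not.2 ha)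
        (not_not.2 (k3 _ ha _ (hinv g _ _ h))) (hinv g _ _ h))
    · exact k2 fun x hx y hy => e x y (not_not.2 hx) (not_not.2 hy)
  have := (hG.isMultiplyPreprimitive (n := Nat.card Ω - Γ.card - 1)
    (by rw [Set.ncard_compl, Set.ncard_coe_finset]; omega) (by omega) hJp).isMultiplyPretransitive
  rwa [show Nat.card Ω - Γ.card - 1 + 2 = Nat.card Ω - Γ.card + 1 by omega] at this

end Cfsg.Agent.S3619
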