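import Cfsg.Statements.S3626
import Cfsg.Agent.H27.Iso3
import Cfsg.Agent.S1159
-- import your own Cfsg.Agent.* helpers here

set_option autoImplicit false
open Cfsg

namespace Cfsg.Agent.S3626


/-- Let R be the small Ree group over the field with q = 3^(2m+1) ≥ 27 elements. Then there are finite groups of arbitrarily large order with exactly the same set of element orders as R × R × R. -/
theorem result {K : Type*} [Field K] [Fintype K] {m : ℕ} (hm : 1 ≤ m) (hK : Fintype.card K = 3 ^ (2 * m + 1)) (N : ℕ) :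
    ∃ (H : Type) (_ : Group H) (_ : Fintype H), N < Fintype.card H ∧
      Set.range (orderOf : H → ℕ) = Set.range (orderOf : ↥(Cfsg.Lie.twistedG2 K (3 ^ m)) × ↥(Cfsg.Lie.twistedG2 K (3 ^ m)) × ↥(Cfsg.Lie.twistedG2 K (3 ^ m)) → ℕ) := by
  have h := fun d => Cfsg.Agent.S1159.result hm hK d
  refine ((H27.Iso.big_ree hm hK).three (R := Cfsg.Lie.twistedG2 K (3 ^ m)) (fun n ⟨k, hk, e⟩ => (h n).2 ?_)
    ((h (3 ^ (2 * m + 1) - 3 ^ (m + 1) + 1)).2 (by simp)) ((h (3 ^ (2 * m + 1) + 3 ^ (m + 1) + 1)).2 (by simp))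
    fun n hn => ?_).range N
  · rw [hK] at hk
    rcases hk with rfl | rfl | rfl | rfl <;> simp [e]
  · rw [hK]
    rcases (h n).1 hn with e | e | e | e | e | e
    exacts [.inl ⟨_, by simp, e⟩, .inl ⟨_, by simp, e⟩, .inl ⟨_, by simp, e⟩, .inl ⟨_, by simp, e⟩,
      .inr (.inl e), .inr (.inr e)]

end Cfsg.Agent.S3626
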