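import Cfsg.Statements.S3694
import Cfsg.Agent.H22.SB7
import Cfsg.Agent.H22.SB9
import Cfsg.Agent.H29.SB1
import Cfsg.Agent.H29.SB3
import Cfsg.Agent.H28.BD3
import Cfsg.Agent.H26.SB1
import Cfsg.Agent.H26.SB2
import Cfsg.Agent.H18.SB1
import Cfsg.Agent.H18.SB2
import Cfsg.Agent.H23.SB3
import Cfsg.Agent.H23.SB4
import Cfsg.Agent.H8.PZ2
import Cfsg.Agent.H8.PZ4
import Cfsg.Agent.H8.PZ5
import Cfsg.Agent.H14.SM2
import Cfsg.Agent.H14.SM3

set_option autoImplicit false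
open Cfsg

namespace Cfsg.Agent.S3694

/-- An explicit form of the Sims conjecture for linear and unitary socles. Let a finite group G with a non-abelian simple normal subgroup N of trivial centralizer act faithfully and primitively on a set Ω, where N is isomorphic to a projective special linear group PSL(n, q) or a projective special unitary group PSU(n, q). If the stabilizer of a point a has an orbit of length d ≥ 2, then the order of that stabilizer is at most d! · ((d - 1)!)^d. -/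
theorem result {G Ω : Type*} [Group G] [Finite G] [MulAction G Ω] [FaithfulSMul G Ω] [Finite Ω]
    (N : Subgroup G) (hNn : N.Normal) (hNs : IsSimpleGroup N) (hNa : ¬ IsMulCommutative N) (hNc : Subgroup.centralizer (N : Set G) = ⊥) (hsoc : Cfsg.IsPSL N ∨ Cfsg.IsPSU N)
    (hprim : MulAction.IsPreprimitive G Ω) (a b : Ω) (d : ℕ) (hd : Nat.card (MulAction.orbit (MulAction.stabilizer G a) b) = d) (h2 : 2 ≤ d) :
    Nat.card (MulAction.stabilizer G a) ≤ Nat.factorial d * (Nat.factorial (d - 1)) ^ d := by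
  have ps := H28.SB.ps
  have ns := H8.PZ.ns H28.SB.ir
  exact H22.SB.fin H29.SB.pr H29.SB.d4 H29.SB.wg (H22.SB.top H8.PZ.pa (H8.PZ.pl1 ns) (H8.PZ.pl2 ns)
    (H8.PZ.pu ns) H26.SB.np H28.SB.tb H28.SB.sz H28.SB.gc H28.SB.oc (H23.SB.kl ps) (H23.SB.ku1 ps)
    (H23.SB.ku2 ps) (H23.SB.ku3 ps) H26.SB.ub (H14.SM.cl1 ps) H14.SM.cl2 H14.SM.cl3 H26.SB.pb
    H26.SB.n1 H26.SB.n2l H26.SB.n2u H26.SB.n2t H26.SB.nf H23.SB.di1 H23.SB.di2 H23.SB.kc
    (H14.SM.ft (H14.SM.kf H23.SB.kp H23.SB.kq) H28.SB.sz) H26.SB.n3 H29.SB.ea H22.SB.eb'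
    H22.SB.ec H29.SB.e2 H29.SB.e3o H29.SB.e3t (H18.SB.eq H22.SB.ec) H14.SM.ef H22.SB.e5
    (H22.SB.e6 H18.SB.lb H18.SB.ia) H26.SB.n4) N hNn hNs hNa hNc hsoc hprim a b d hd h2

end Cfsg.Agent.S3694
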