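import Cfsg.Statements.S3753
import Cfsg.Agent.H28.PrimPair
-- import your own Cfsg.Agent.* helpers here

set_option autoImplicit false
open Cfsg

namespace Cfsg.Agent.S3753

open H28 Subgroup
open scoped Pointwise commutatorElement

/-- Two distinct subgroups M₁, M₂ of G form a primitive pair when, for {i, j} = {1, 2}, every non-trivial normal subgroup A of M_i contained in M₁ ∩ M₂ satisfies N_{M_j}(A) = M₁ ∩ M₂; the pair has characteristic p when moreover C_{M_i}(O_p(M_i)) ≤ O_p(M_i) for both i and O_p(M₁)O_p(M₂) ≤ M₁ ∩ M₂. If the finite group G has a primitive pair (M₁, M₂) of characteristic p for some prime p, then M₁ or M₂ has non-abelian Sylow 2-subgroups. In particular no group of odd order has a primitive pair of characteristic p. -/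
theorem result {G : Type*} [Group G] [Finite G] {p : ℕ} [Fact p.Prime] (M₁ M₂ : Subgroup G) (hne : M₁ ≠ M₂) (hP : ∀ A : Subgroup G, A ≠ ⊥ → A ≤ M₁ ⊓ M₂ → (M₁ ≤ Subgroup.normalizer (A : Set G) → M₂ ⊓ Subgroup.normalizer (A : Set G) = M₁ ⊓ M₂) ∧ (M₂ ≤ Subgroup.normalizer (A : Set G) → M₁ ⊓ Subgroup.normalizer (A : Set G) = M₁ ⊓ M₂)) (hc₁ : Subgroup.centralizer (Cfsg.pCore p ↥M₁ : Set ↥M₁) ≤ Cfsg.pCore p ↥M₁) (hc₂ : Subgroup.centralizer (Cfsg.pCore p ↥M₂ : Set ↥M₂) ≤ Cfsg.pCore p ↥M₂) (hO : (Cfsg.pCore p ↥M₁).map M₁.subtype ⊔ (Cfsg.pCore p ↥M₂).map M₂.subtype ≤ M₁ ⊓ M₂) : (∃ S : Sylow 2 ↥M₁, ¬ IsMulCommutative (S : Subgroup ↥M₁)) ∨ (∃ S : Sylow 2 ↥M₂, ¬ IsMulCommutative (S : Subgroup ↥M₂)) := by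
  by_contra! hs
  have h1 : HPP p M₁ M₂ := ⟨hne, isCharP_iff.2 hc₁, (le_sup_left.trans hO).trans inf_le_right,
    fun A a b c d => ((hP A a (le_inf b c)).1 d).le.trans inf_le_left⟩
  have h2 : HPP p M₂ M₁ := ⟨hne.symm, isCharP_iff.2 hc₂, (le_sup_right.trans hO).trans inf_le_left,
    fun A a b c d => ((hP A a (le_inf c b)).2 d).le.trans inf_le_right⟩
  have a1 : H9.AbSyl 2 M₁ := H9.abSyl_of_sylow (default : Sylow 2 M₁) (hs.1 _)
  have a2 : H9.AbSyl 2 M₂ := H9.abSyl_of_sylow (default : Sylow 2 M₂) (hs.2 _)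
  by_cases hp : p = 2
  · subst hp
    have k : ∀ P R : Subgroup G, HPP 2 P R → HPP 2 R P → H9.AbSyl 2 P →
        pCoreOf 2 R ≤ pCoreOf 2 P := fun P R b1 b2 b3 => by
      have hT : IsPGroup 2 (pCoreOf 2 R ⊔ pCoreOf 2 P : Subgroup G) :=
        isPGroup_sup_of_le_normalizer (isPGroup_pCoreOf 2 R) (isPGroup_pCoreOf 2 P)
          (b2.le.trans (le_normalizer_pCoreOf 2 P))
      have hl : pCoreOf 2 R ⊔ pCoreOf 2 P ≤ P := sup_le b2.le (pCoreOf_le 2 P)
      have := le_centralizer_self_iff.2 (b3 _ ((isPGroup_subgroupOf_iff hl).2 hT))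
      rw [← centralizer_subgroupOf hl, subgroupOf_le_subgroupOf hl] at this
      exact (le_inf b2.le ((le_sup_left.trans this).trans (centralizer_anti le_sup_right))).trans
        b1.char
    have e := le_antisymm (k _ _ h1 h2 a1) (k _ _ h2 h1 a2)
    have h0 : pCoreOf 2 M₁ ≠ ⊥ := fun f => hne (by
      by_contra g
      have g1 : M₁ = ⊥ := by_contra fun g => h1.char.pCoreOf_ne_bot g f
      have g2 : M₂ = ⊥ := by_contra fun g => h2.char.pCoreOf_ne_bot g (e.trans f)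
      exact g (g1.trans g2.symm))
    have n1 := le_normalizer_pCoreOf 2 M₁
    have n2 : M₂ ≤ 𝐍 (pCoreOf 2 M₁) := e ▸ le_normalizer_pCoreOf 2 M₂
    exact hne (le_antisymm
      ((le_inf le_rfl n1).trans (h2.prim _ h0 h1.le (pCoreOf_le 2 _) n2))
      ((le_inf le_rfl n2).trans (h1.prim _ h0 (pCoreOf_le 2 _) h1.le n1)))
  · exact (involves_SL2_of_primitive hp h1 h2).elim (H9.not_involves_of_abSyl hp a1)
      (H9.not_involves_of_abSyl hp a2)

end Cfsg.Agent.S3753
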