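import Cfsg.Statements.S3806
import Cfsg.Agent.H4.Max1

set_option autoImplicit false
open Cfsg

namespace Cfsg.Agent.S3806

open Subgroup in
open scoped commutatorElement in
theorem aux {G : Type*} [Group G] {p k : ℕ} (h : Cfsg.SectionalPRankLE p k G) (H N : Subgroup G)
    [N.Normal] (h1 : ∀ a ∈ H, ∀ b ∈ H, ⁅a, b⁆ ∈ N) (h2 : ∀ a ∈ H, a ^ p ∈ N) :
    N.relIndex H ≤ p ^ k := by
  have := h H (N.subgroupOf H) ⊤ (H4.isMulCommutative_iff.2 fun a _ b _ => by
    obtain ⟨a, rfl⟩ := QuotientGroup.mk_surjective a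
    obtain ⟨b, rfl⟩ := QuotientGroup.mk_surjective b
    rw [← commutatorElement_eq_one_iff_mul_comm, ← QuotientGroup.mk'_apply,
      ← QuotientGroup.mk'_apply, ← map_commutatorElement, QuotientGroup.mk'_apply,
      QuotientGroup.eq_one_iff]
    exact h1 _ a.2 _ b.2) fun a _ => by
      obtain ⟨a, rfl⟩ := QuotientGroup.mk_surjective a
      rw [← QuotientGroup.mk_pow, QuotientGroup.eq_one_iff]
      exact h2 _ a.2
  rwa [card_top] at this

/-- Let p be a prime and S a finite p-group of order pⁿ (n ≥ 2) of maximal nilpotency class n − 1 whose sectional p-rank is exactly k (every section has p-rank at most k, and some section has p-rank k). If p ≥ k + 2 then the order of S is at most p^(2k). -/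
theorem result {S : Type*} [Group S] [Finite S] (p : ℕ) [Fact p.Prime] (hS : IsPGroup p S) [Group.IsNilpotent S]
    (n : ℕ) (hn : 2 ≤ n) (hcard : Nat.card S = p ^ n) (hmax : Group.nilpotencyClass S = n - 1)
    (k : ℕ) (hk : 1 ≤ k) (hsr : Cfsg.SectionalPRankLE p k S ∧ ¬ Cfsg.SectionalPRankLE p (k - 1) S)
    (hpk : k + 2 ≤ p) : Nat.card S ≤ p ^ (2 * k) := by
  have hp : p.Prime := Fact.out
  rw [hcard]
  refine Nat.pow_le_pow_right hp.pos ?_
  by_contra! h1
  have h := H4.maxC_of_cls hcard (by omega) hmax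
  rcases hk.eq_or_lt with rfl | h2
  · have := aux hsr.1 ⊤ (H4.LL S 1) (fun a ha b _ => H4.LL_act ha b) fun a _ => h.pow_mem_one a
    rw [Subgroup.relIndex_top_right, h.index_one, Nat.pow_le_pow_iff_right hp.one_lt] at this
    omega
  · have := aux hsr.1 (H4.LL S (n - k - 2)) ⊥
      (fun a ha b hb => (h.bot (by omega)).le (h.comm_self (by omega) a ha b hb))
      fun a ha => (h.bot (by omega)).le (h.pow_mem (by omega) ha)
    rw [Subgroup.relIndex_bot_left, h.card_L (by omega), Nat.pow_le_pow_iff_right hp.one_lt] at this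
    omega

end Cfsg.Agent.S3806
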