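import Cfsg.Statements.S3807
import Cfsg.Agent.H23.Count
import Cfsg.Agent.S3866
import Cfsg.Agent.H4.RankTwo

set_option autoImplicit false
open Cfsg

namespace Cfsg.Agent.S3807

open Subgroup
open scoped IsMulCommutative

theorem center_le {S : Type*} [Group S] [Finite S] {p : ℕ} [Fact p.Prime]
    (hna : ¬ IsMulCommutative S) {B : Subgroup S} (hB : IsMulCommutative B) (hi : B.index = p) :
    center S ≤ B := by
  intro z hz
  by_contra h
  have h1 := H4.isMulCommutative_sup_zpowers hB (center_le_centralizer _ hz)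
  rw [(H4.isCoatom_of_index_prime hi).2 _ (lt_of_le_of_ne le_sup_left fun e =>
    h (e ▸ mem_sup_right (mem_zpowers z))), H4.isMulCommutative_iff] at h1
  exact hna ⟨⟨fun a b => h1 a (mem_top _) b (mem_top _)⟩⟩

/-- Let S be a non-abelian finite p-group with an abelian subgroup A of index p. Then [S : Z(S)] = p·#[S,S], and either [S,S] has order p, S/Z(S) is elementary abelian of order p², and S has exactly p + 1 abelian subgroups of index p; or [S,S] has order at least p² and A is the only abelian subgroup of index p in S. -/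
theorem result {S : Type*} [Group S] [Finite S] (p : ℕ) [Fact p.Prime] (hS : IsPGroup p S) (hna : ¬ IsMulCommutative S)
    (A : Subgroup S) (hA : IsMulCommutative ↥A) (hAi : A.index = p) :
    (Subgroup.center S).index = p * Nat.card (commutator S) ∧
      ((Nat.card (commutator S) = p ∧ Cfsg.IsElementaryAbelian p (⊤ : Subgroup (S ⧸ Subgroup.center S)) ∧
          Nat.card (S ⧸ Subgroup.center S) = p ^ 2 ∧
          Nat.card {B : Subgroup S // IsMulCommutative ↥B ∧ B.index = p} = p + 1) ∨
        (p ^ 2 ≤ Nat.card (commutator S) ∧ ∀ B : Subgroup S, IsMulCommutative ↥B → B.index = p → B = A)) := by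
  have hp : p.Prime := Fact.out
  haveI := H4.normal_of_index_prime hS hAi
  have hco := H4.isCoatom_of_index_prime hAi
  obtain ⟨x, hx⟩ : ∃ x, x ∉ A := by
    by_contra! h
    exact hco.1 (eq_top_iff.2 fun x _ => h x)
  have hgen : A ⊔ zpowers x = ⊤ := hco.2 _ (lt_of_le_of_ne le_sup_left fun e =>
    hx (e ▸ mem_sup_right (mem_zpowers x)))
  have h1 := (Cfsg.Agent.S3866.result A hA x hgen).2.2.2
  have hZ : A ⊓ centralizer {x} = center S := by
    refine le_antisymm ?_ (le_inf (center_le hna hA hAi) (center_le_centralizer _))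
    rw [← centralizer_univ, ← coe_top, ← hgen, H4.centralizer_sup_zpowers]
    exact inf_le_inf_right _ (le_centralizer A)
  rw [hZ] at h1
  have h2 : (center S).index = p * Nat.card (commutator S) := by
    refine Nat.eq_of_mul_eq_mul_right (Nat.card_pos (α := center S)) ?_
    rw [index_mul_card, mul_assoc, h1, ← hAi, index_mul_card]
  refine ⟨h2, ?_⟩
  obtain ⟨k, hk⟩ := H4.exists_card_eq_pow hS (commutator S)
  have hk0 : k ≠ 0 := by
    rintro rfl
    rw [pow_zero, card_eq_one] at hk
    exact hna (commutator_eq_bot_iff S |>.1 hk)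
  by_cases hk1 : k = 1
  · left
    rw [hk1, pow_one] at hk
    rw [hk, ← pow_two] at h2
    have hab := H4.isMulCommutative_of_card_le_sq (hS.to_quotient (center S)) h2.le
    have hexp : ∀ q : S ⧸ center S, q ^ p = 1 := by
      intro q
      by_contra hq
      obtain ⟨j, hj, hq2⟩ := (Nat.dvd_prime_pow hp).1 ((orderOf_dvd_natCard q).trans (dvd_of_eq h2))
      have : j = 2 := by
        by_contra h
        exact hq (orderOf_dvd_iff_pow_eq_one.1 (hq2 ▸ (pow_dvd_pow p (by omega : j ≤ 1)).trans
          (by simp)))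
      haveI := isCyclic_of_orderOf_eq_card q (by rw [hq2, this]; exact h2.symm)
      exact hna ⟨⟨commutative_of_cyclic_center_quotient (QuotientGroup.mk' (center S))
        (QuotientGroup.ker_mk' _).le⟩⟩
    refine ⟨hk, ⟨inferInstance, fun a _ => hexp a⟩, h2, ?_⟩
    rw [← H23.card_lines_of_sq hp hexp h2]
    have hidx : ∀ L : Subgroup (S ⧸ center S), Nat.card L = p ↔ L.index = p := by
      intro L
      have := L.card_mul_index
      rw [show Nat.card (S ⧸ center S) = p ^ 2 from h2, pow_two] at this
      exact ⟨fun h => Nat.eq_of_mul_eq_mul_left hp.pos (h ▸ this),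
        fun h => Nat.eq_of_mul_eq_mul_right hp.pos (h ▸ this)⟩
    refine Nat.card_congr
      { toFun := fun B => ⟨B.1.map (QuotientGroup.mk' _), (hidx _).2 ?_⟩
        invFun := fun L => ⟨L.1.comap (QuotientGroup.mk' _), ?_, ?_⟩
        left_inv := fun B => Subtype.ext ?_
        right_inv := fun L => Subtype.ext
          (map_comap_eq_self_of_surjective (QuotientGroup.mk'_surjective _) _) }
    · rw [index_map_eq _ (QuotientGroup.mk'_surjective _)
        ((QuotientGroup.ker_mk' _).le.trans (center_le hna B.2.1 B.2.2)), B.2.2]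
    · obtain ⟨⟨q, hqL⟩, hq⟩ := (isCyclic_of_prime_card L.2).exists_generator
      obtain ⟨y, rfl⟩ := QuotientGroup.mk_surjective q
      refine H4.isMulCommutative_of_le (B := center S ⊔ zpowers y) (fun g hg => ?_)
        (H4.isMulCommutative_sup_zpowers inferInstance fun z hz => (mem_center_iff.1 hz y).symm)
      obtain ⟨n, hn⟩ := hq ⟨g, hg⟩
      have hn' : ((y ^ n : S) : S ⧸ center S) = g := congrArg Subtype.val hn
      rw [show g = y ^ n * ((y ^ n)⁻¹ * g) by group]
      exact mul_mem (mem_sup_right (zpow_mem (mem_zpowers y) n))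
        (mem_sup_left (QuotientGroup.eq.1 hn'))
    · rw [index_comap_of_surjective _ (QuotientGroup.mk'_surjective _), (hidx _).1 L.2]
    · exact (H1.comap_map_mk' _ _).trans (sup_eq_left.2 (center_le hna B.2.1 B.2.2))
  · right
    have h3 : p ^ 2 ≤ Nat.card (commutator S) := hk ▸ Nat.pow_le_pow_right hp.pos (by omega)
    refine ⟨h3, fun B hB hBi => ?_⟩
    by_contra hne
    have h4 : A ⊔ B = ⊤ := hco.2 _ (lt_of_le_of_ne le_sup_left fun e => hne
      ((H4.isCoatom_of_index_prime hBi).le_iff_eq hco.1 |>.1 (e ▸ le_sup_right)).symm)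
    have h5 : A ⊓ B ≤ center S := by
      rw [← centralizer_univ, ← coe_top, ← h4, H4.centralizer_sup]
      exact inf_le_inf (le_centralizer A) (le_centralizer B)
    have h6 := (index_antitone h5).trans index_inf_le
    rw [h2, hAi, hBi] at h6
    nlinarith [hp.two_le]

end Cfsg.Agent.S3807
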