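import Cfsg.Statements.S3808
import Cfsg.Agent.H4.Basic

set_option autoImplicit false
open Cfsg

namespace Cfsg.Agent.S3808

/-- Let S be a finite p-group with an extraspecial subgroup Q of index p. Then either Z(S) = Z(Q), or S = Q·Z(S) and Z(S) has order p². -/
theorem result {S : Type*} [Group S] [Finite S] (p : ℕ) [Fact p.Prime] (hS : IsPGroup p S) (Q : Subgroup S) (hQ : Cfsg.IsExtraspecial p ↥Q) (hQi : Q.index = p) :
    Subgroup.center S = (Subgroup.center ↥Q).map Q.subtype ∨
      (Q ⊔ Subgroup.center S = ⊤ ∧ Nat.card (Subgroup.center S) = p ^ 2) := by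
  have hp : p.Prime := Fact.out
  haveI hn : Q.Normal := H4.normal_of_index_prime hS hQi
  have hcZ : Nat.card ((Subgroup.center Q).map Q.subtype) = p := by
    rw [Subgroup.card_map_of_injective Q.subtype_injective]; exact hQ.2
  haveI : ((Subgroup.center Q).map Q.subtype).Normal := ConjAct.normal_of_characteristic_of_normal
  have hle : (Subgroup.center Q).map Q.subtype ≤ Subgroup.center S :=
    H4.le_center_of_card_le_prime hS hcZ.le
  have hinf : Subgroup.center S ⊓ Q = (Subgroup.center Q).map Q.subtype := by
    apply le_antisymm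
    · rintro x ⟨hx, hxQ⟩
      refine ⟨⟨x, hxQ⟩, ?_, rfl⟩
      rw [SetLike.mem_coe, Subgroup.mem_center_iff]
      intro g
      exact Subtype.ext (Subgroup.mem_center_iff.1 hx g)
    · exact le_inf hle (Subgroup.map_subtype_le _)
  by_cases h : Subgroup.center S ≤ Q
  · left
    rw [← hinf, inf_eq_left.2 h]
  · right
    have htop : Q ⊔ Subgroup.center S = ⊤ := by
      apply (H4.isCoatom_of_index_prime hQi).2
      exact lt_of_le_of_ne le_sup_left (fun e => h (e ▸ le_sup_right))
    refine ⟨htop, ?_⟩
    have h1 : Q.relIndex (Subgroup.center S) = p := by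
      rw [← Subgroup.relIndex_sup_left, htop, Subgroup.relIndex_top_right, hQi]
    have h2 := Subgroup.card_mul_index (Q.subgroupOf (Subgroup.center S))
    have h3 : Nat.card (Q.subgroupOf (Subgroup.center S)) = p := by
      rw [← hcZ, ← hinf, ← Subgroup.inf_subgroupOf_right,
        Nat.card_congr (Subgroup.subgroupOfEquivOfLe (inf_le_right)).toEquiv, inf_comm]
    rw [h3] at h2
    change p * Q.relIndex (Subgroup.center S) = _ at h2
    rw [← h2, h1, sq]

end Cfsg.Agent.S3808
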