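import Cfsg.Statements.S3809
import Cfsg.Agent.H4.Extra

set_option autoImplicit false
open Cfsg

namespace Cfsg.Agent.S3809

/-- Let S be a finite p-group with an extraspecial subgroup of index p. Then S has order p^(2+2n) for some n ≥ 1, derived length at most 3, and exponent dividing p³. -/
theorem result {S : Type*} [Group S] [Finite S] (p : ℕ) [Fact p.Prime] (hS : IsPGroup p S) (Q : Subgroup S) (hQ : Cfsg.IsExtraspecial p ↥Q) (hQi : Q.index = p) :
    (∃ n : ℕ, 1 ≤ n ∧ Nat.card S = p ^ (2 + 2 * n)) ∧ derivedSeries S 3 = ⊥ ∧ ∀ x : S, x ^ (p ^ 3) = 1 := by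
  have hp : p.Prime := Fact.out
  haveI hn : Q.Normal := H4.normal_of_index_prime hS hQi
  refine ⟨?_, ?_, ?_⟩
  · obtain ⟨n, h1, hc⟩ := H4.extraspecial_card hQ
    refine ⟨n, h1, ?_⟩
    rw [← Subgroup.card_mul_index Q, hc, hQi]; ring
  · have h1 : derivedSeries S 1 ≤ Q := by
      rw [derivedSeries_one]; exact H4.commutator_le_of_index_prime hQi
    have h2 : derivedSeries S 2 ≤ (Subgroup.center Q).map Q.subtype := by
      rw [← hQ.1.2.2, commutator_def, Subgroup.map_commutator, ← MonoidHom.range_eq_map,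
        Subgroup.range_subtype, derivedSeries_succ]
      exact Subgroup.commutator_mono h1 h1
    rw [derivedSeries_succ, eq_bot_iff]
    refine (Subgroup.commutator_mono h2 h2).trans ?_
    rw [← Subgroup.map_commutator, Subgroup.map_le_iff_le_comap, Subgroup.commutator_le]
    intro a ha b _
    rw [Subgroup.mem_comap, Subgroup.mem_bot, commutatorElement_eq_one_iff_mul_comm.2
      (Subgroup.mem_center_iff.1 ha b).symm, map_one]
  · intro x
    have h1 : x ^ p ∈ Q := by rw [← hQi]; exact Subgroup.pow_index_mem Q x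
    have h2 : (⟨x ^ p, h1⟩ : Q) ^ p ∈ Subgroup.center Q := by
      rw [← hQ.1.2.1]; exact H4.pow_mem_frattini hQ.1.1 _
    have h3 : (⟨_, h2⟩ : Subgroup.center Q) ^ p = 1 := by
      have := pow_card_eq_one' (x := (⟨_, h2⟩ : Subgroup.center Q))
      rwa [hQ.2] at this
    have h4 := congrArg (fun y : Subgroup.center Q => ((y : Q) : S)) h3
    simp only [Subgroup.coe_pow, Subgroup.coe_one] at h4
    rw [← h4, ← pow_mul, ← pow_mul]
    congr 1; ring

end Cfsg.Agent.S3809
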