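import Cfsg.Statements.S3810
import Cfsg.Agent.H4.Extra
import Cfsg.Agent.H4.Misc1
import Cfsg.Agent.H23.EqOrd

set_option autoImplicit false
open Cfsg

namespace Cfsg.Agent.S3810

/-- Let S be a finite p-group with an extraspecial subgroup of index p. Then S has an abelian subgroup of index p if and only if S has order p⁴. -/
theorem result {S : Type*} [Group S] [Finite S] (p : ℕ) [Fact p.Prime] (hS : IsPGroup p S) (Q : Subgroup S) (hQ : Cfsg.IsExtraspecial p ↥Q) (hQi : Q.index = p) :
    (∃ A : Subgroup S, IsMulCommutative ↥A ∧ A.index = p) ↔ Nat.card S = p ^ 4 := by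
  have hp : p.Prime := Fact.out
  haveI hn : Q.Normal := H4.normal_of_index_prime hS hQi
  have hcS : Nat.card S = Nat.card Q * p := by rw [← Subgroup.card_mul_index Q, hQi]
  constructor
  · rintro ⟨A, hA, hAi⟩
    have hnab : ¬ Q ≤ A := by
      intro h
      have hc : Subgroup.center Q = ⊤ := by
        rw [eq_top_iff]; intro x _
        rw [Subgroup.mem_center_iff]; intro g
        have := hA.is_comm.comm ⟨g, h g.2⟩ ⟨x, h x.2⟩
        exact Subtype.ext (congrArg (fun y : A => (y : S)) this)
      have h1 : commutator Q = ⊥ := by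
        rw [commutator_eq_bot_iff_center_eq_top]; exact hc
      have h2 := hQ.2
      rw [← hQ.1.2.2, h1, Subgroup.card_bot] at h2
      exact hp.one_lt.ne h2
    haveI hAn : A.Normal := H4.normal_of_index_prime hS hAi
    have htop : A ⊔ Q = ⊤ := by
      apply (H4.isCoatom_of_index_prime hAi).2
      exact lt_of_le_of_ne le_sup_left (fun e => hnab (e ▸ le_sup_right))
    have h1 : (A.subgroupOf Q).index = p := by
      change A.relIndex Q = p
      rw [← Subgroup.relIndex_sup_left, htop, Subgroup.relIndex_top_right, hAi]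
    have hab : IsMulCommutative (A.subgroupOf Q) := ⟨⟨fun a b => by
      have := hA.is_comm.comm ⟨_, a.2⟩ ⟨_, b.2⟩
      exact Subtype.ext (Subtype.ext (congrArg (fun y : A => (y : S)) this))⟩⟩
    obtain ⟨x, hxQ, hx⟩ := SetLike.not_le_iff_exists.1 hnab
    have h2 := H4.index_commutator_of_abelian h1 hab (x := ⟨x, hxQ⟩) hx
    have h3 : Nat.card (A.subgroupOf Q ⊓ Subgroup.center Q : Subgroup Q) ≤ p := by
      rw [← hQ.2]; exact Subgroup.card_le_of_le inf_le_right
    have h4 := Subgroup.card_mul_index (commutator Q)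
    rw [h2, hQ.1.2.2, hQ.2] at h4
    obtain ⟨n, hn1, hc⟩ := H4.extraspecial_card hQ
    have h5 : p ^ (2 * n + 1) ≤ p ^ 3 := by
      rw [← hc, ← h4]
      calc _ ≤ p * (p * p) := by gcongr
        _ = p ^ 3 := by ring
    have h6 := (Nat.pow_le_pow_iff_right hp.one_lt).1 h5
    have h7 : n = 1 := by omega
    rw [hcS, hc, h7]; ring
  · intro h
    obtain ⟨A, hA, hc⟩ := H23.exists_comm_card_cube hS h.ge
    refine ⟨A, hA, ?_⟩
    have := Subgroup.card_mul_index A
    rw [hc, h, show p ^ 4 = p ^ 3 * p by ring] at this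
    exact Nat.eq_of_mul_eq_mul_left (by positivity [hp.pos]) this

end Cfsg.Agent.S3810
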