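import Cfsg.Statements.S3811
import Cfsg.Agent.H23.Soft

set_option autoImplicit false
open Cfsg

namespace Cfsg.Agent.S3811

open Subgroup

/-- Let P be a finite p-group and E an abelian subgroup of P that contains its centralizer, has index p in its normalizer, and has index at least p² in P. Then the subgroups of P containing E are totally ordered by inclusion, each proper one has index p in its normalizer (so they form the normalizer tower of E, with all steps of index p), and the i-th member of the tower above E has nilpotency class i + 1 whenever it is a proper subgroup of P. -/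
theorem result {P : Type*} [Group P] [Finite P] (p : ℕ) [Fact p.Prime] (hP : IsPGroup p P)
    (E : Subgroup P) (hEab : IsMulCommutative ↥E) (hC : Subgroup.centralizer (E : Set P) ≤ E)
    (hN : (E.subgroupOf (Subgroup.normalizer (E : Set P))).index = p) (hidx : p ^ 2 ≤ E.index) :
    (∀ K L : Subgroup P, E ≤ K → E ≤ L → K ≤ L ∨ L ≤ K) ∧
      (∀ K : Subgroup P, E ≤ K → K ≠ ⊤ → (K.subgroupOf (Subgroup.normalizer (K : Set P))).index = p) ∧
      ∀ (i : ℕ) (K : Subgroup P) [Group.IsNilpotent ↥K], E ≤ K → K ≠ ⊤ → K.index * p ^ i = E.index →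
        Group.nilpotencyClass ↥K = i + 1 := by
  have h := H23.soft_all hP hEab hC hN
  refine ⟨fun K L hK hL => (h _).chain hP hK hL le_rfl,
    fun K hK hKt => h _ K hK (Nat.lt_succ_self _) hKt, fun i K _ hK hKt hi => ?_⟩
  obtain ⟨j, hj, hj'⟩ := (h _).card_eq hP hEab hC hK hKt
  have h1 := card_mul_index K
  rw [← card_mul_index E, hj', ← hi, mul_assoc, mul_comm (p ^ j)] at h1
  have h2 := Nat.eq_of_mul_eq_mul_left (Nat.pos_of_ne_zero index_ne_zero_of_finite)
    (Nat.eq_of_mul_eq_mul_left Nat.card_pos h1)
  rw [hj, Nat.pow_right_injective (Fact.out : p.Prime).two_le h2]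

end Cfsg.Agent.S3811
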