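import Cfsg.Statements.S3824
import Cfsg.Agent.H7.Kazarin
import Mathlib

set_option autoImplicit false
open Cfsg

namespace Cfsg.Agent.S3824

/-- Every finite group having an abelian subgroup whose index is a power of 2 is solvable. -/
theorem result {G : Type*} [Group G] [Finite G]
    (A : Subgroup G) (hA : IsMulCommutative A) (hidx : ∃ k : ℕ, A.index = 2 ^ k) : Group.IsSolvable G := by
  obtain ⟨k, hk⟩ := hidx
  have h1 : A ≤ solvableRadical G := fun a ha => H7.kazarin Nat.prime_two (k := k) (hk ▸ Subgroup.index_dvd_of_le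
    fun b hb => H24.mem_cent.2 (H1.isMulCommutative_iff.1 hA b hb a ha))
  have := Fact.mk Nat.prime_two
  have h2 : IsPGroup 2 (G ⧸ solvableRadical G) := by
    obtain ⟨j, -, hj⟩ := (Nat.dvd_prime_pow Nat.prime_two).1 (hk ▸ Subgroup.index_dvd_of_le h1)
    exact IsPGroup.of_card hj
  have := h2.isNilpotent
  have := H1.solvRad_isSolvable (G := G)
  exact Group.isSolvable_of_ker_le_range (solvableRadical G).subtype (QuotientGroup.mk' (solvableRadical G)) (by simp)

end Cfsg.Agent.S3824
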