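import Cfsg.Statements.S3835
import Cfsg.Agent.H21.SymSyl2
import Cfsg.Agent.S3074
import Cfsg.Agent.H9.Qd

set_option autoImplicit false
open Cfsg

namespace Cfsg.Agent.S3835

open H21 Subgroup Equiv Equiv.Perm
open scoped Pointwise Nat commutatorElement

/-- Let p be an odd prime and n a natural number. The alternating group of degree n has a subgroup isomorphic to Qd(p) (the natural semidirect product of an elementary abelian group of order p² by SL₂(p)) if and only if n ≥ p²; and if n < p² then Qd(p) is not even involved in it. -/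
theorem result {p : ℕ} [Fact p.Prime] (hp : p ≠ 2) (n : ℕ) : ((∃ H : Subgroup (alternatingGroup (Fin n)), Nonempty (↥H ≃* ↥(Cfsg.qd p))) ↔ p ^ 2 ≤ n) ∧ (n < p ^ 2 → ¬ Cfsg.Involves ↥(Cfsg.qd p) ↥(alternatingGroup (Fin n))) := by
  have hp' : p.Prime := Fact.out
  have A : n < p ^ 2 → ¬ Cfsg.Involves ↥(Cfsg.qd p) ↥(alternatingGroup (Fin n)) := by
    rintro hn ⟨L, R, hR, ⟨e⟩⟩
    obtain ⟨P⟩ : Nonempty (Sylow p L) := inferInstance
    have hf : Function.Surjective (e.toMonoidHom.comp (QuotientGroup.mk' _)) :=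
      e.surjective.comp (QuotientGroup.mk'_surjective _)
    obtain ⟨⟨-, h1⟩, h2, -⟩ := S3074.result p hp (P.mapSurjective hf)
    obtain ⟨Q, hQ⟩ := ((P.isPGroup'.map L.subtype).map (alternatingGroup (Fin n)).subtype).exists_le_sylow
    have h3 := H1.isMulCommutative_iff.1 ((sylow_perm_comm_iff Q).2 (by simpa using hn))
    erw [(center_eq_top_iff (G := P.mapSurjective hf)).2 ⟨⟨?_⟩⟩, card_top, h2] at h1
    · simpa using (Nat.pow_right_injective hp'.one_lt (h1.trans (pow_one p).symm))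
    rintro ⟨_, x, hx, rfl⟩ ⟨_, y, hy, rfl⟩
    have : x * y = y * x := Subtype.ext (Subtype.ext (h3 _ (hQ ⟨_, ⟨x, hx, rfl⟩, rfl⟩) _
      (hQ ⟨_, ⟨y, hy, rfl⟩, rfl⟩)))
    exact Subtype.ext (((map_mul _ _ _).symm.trans (congrArg _ this)).trans (map_mul _ _ _))
  refine ⟨⟨fun ⟨H, ⟨e⟩⟩ => not_lt.1 fun k => A k ⟨H, ⊥, by rw [bot_subgroupOf]; infer_instance,
    ⟨(QuotientGroup.quotientMulEquivOfEq (bot_subgroupOf H)).trans
      (QuotientGroup.quotientBot.trans e)⟩⟩, fun hn => ?_⟩, A⟩
  obtain ⟨e⟩ : Nonempty ((Fin 2 → ZMod p) ↪ Fin n) :=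
    Function.Embedding.nonempty_of_card_le (by simpa using hn)
  let _ : MulAction (qdOver (ZMod p)) (Fin 2 → ZMod p) :=
    { smul := fun M v => H9.Qd.vec M + (H9.Qd.lin M).1.mulVec v
      one_smul := fun v => by
        change H9.Qd.vec 1 + (H9.Qd.lin 1).1.mulVec v = v
        simp
      mul_smul := fun M N v => by
        change H9.Qd.vec _ + (H9.Qd.lin _).1.mulVec v = H9.Qd.vec M + (H9.Qd.lin M).1.mulVec
          (H9.Qd.vec N + (H9.Qd.lin N).1.mulVec v)
        rw [H9.Qd.vec_mul, Matrix.mulVec_add, add_assoc, map_mul, Matrix.mulVec_mulVec]; rfl }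
  let f := (viaEmbeddingHom e).comp (MulAction.toPermHom (qdOver (ZMod p)) (Fin 2 → ZMod p))
  have hf : Function.Injective f := (viaEmbeddingHom_injective e).comp (by
    rw [injective_iff_map_eq_one]
    intro M hM
    have h1 : ∀ v, H9.Qd.vec M + (H9.Qd.lin M).1.mulVec v = v := fun v => congrArg (· v) hM
    have h2 : H9.Qd.vec M = 0 := by simpa using h1 0
    refine H9.Qd.ext (by simp [h2]) (Subtype.ext ?_)
    simpa [h2] using Matrix.ext_iff_mulVec.2 fun v => (show (H9.Qd.lin M).1.mulVec v = (1 : Matrix _ _ _).mulVec v by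
      simpa [h2] using h1 v))
  clear_value f
  have h1 : ∀ M, f M ∈ alternatingGroup (Fin n) := fun M => by
    rw [← H9.Qd.mk_vec_lin M, ← H9.Qd.tr_mul_blk, map_mul]
    refine mul_mem (mem_alt_of_odd (Odd.of_dvd_nat (hp'.odd_of_ne_two hp)
      (orderOf_dvd_of_pow_eq_one (n := p) ?_))) ?_
    · rw [← map_pow, ← map_pow, ← ofAdd_nsmul, show p • H9.Qd.vec M = 0 by ext; simp, ofAdd_zero,
        map_one, map_one]
    · generalize H9.Qd.lin M = s
      induction s using Matrix.SL2.transvection_induction with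
      | htransvec i j hij c =>
        refine mem_alt_of_odd (Odd.of_dvd_nat (hp'.odd_of_ne_two hp) (orderOf_dvd_of_pow_eq_one (n := p) ?_))
        rw [← map_pow, ← map_pow, H9.transvection_pow_char, map_one, map_one]
      | hmul a b ha hb => rw [map_mul, map_mul]; exact mul_mem ha hb
  exact ⟨(f.codRestrict _ h1).range, ⟨(MonoidHom.ofInjective
    ((MonoidHom.injective_codRestrict _ _ _).2 hf)).symm⟩⟩

end Cfsg.Agent.S3835
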