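import Cfsg.Statements.S3862
import Cfsg.Agent.H3.Critical

set_option autoImplicit false
open Cfsg

namespace Cfsg.Agent.S3862

open scoped commutatorElement

theorem key {G : Type*} [Group G] {D : Subgroup G} (hsq : ∀ x ∈ D, x * x ∈ Subgroup.center G)
    {g y : G} (hg : g ∈ Subgroup.normalizer (D : Set G)) (hy : y ∈ D) (k : ℕ) :
    ∃ d ∈ D, (y⁻¹ * (g ^ k * y * (g ^ k)⁻¹)) * (y⁻¹ * (g ^ k * y * (g ^ k)⁻¹)) =
      ((y⁻¹ * (g * y * g⁻¹)) * (y⁻¹ * (g * y * g⁻¹))) ^ k * ⁅(y⁻¹ * (g * y * g⁻¹))⁻¹, d⁆ := by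
  have hn : ∀ k : ℕ, ∀ a ∈ D, g ^ k * a * (g ^ k)⁻¹ ∈ D := fun k a ha =>
    (Subgroup.mem_normalizer_iff.1 (pow_mem hg k) a).1 ha
  have hc : ∀ a ∈ D, ∀ b ∈ D, ⁅a, b⁆ ∈ Subgroup.center G := by
    intro a ha b hb
    have : ⁅a, b⁆ = (a * a) * ((a⁻¹ * b) * (a⁻¹ * b)) * (b⁻¹ * b⁻¹) := by
      rw [commutatorElement_def]; group
    rw [this]
    exact mul_mem (mul_mem (hsq a ha) (hsq _ (mul_mem (inv_mem ha) hb))) (hsq _ (inv_mem hb))
  set x := y⁻¹ * (g * y * g⁻¹) with hx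
  have hxD : x ∈ D := mul_mem (inv_mem hy) (by simpa using hn 1 y hy)
  induction k with
  | zero => exact ⟨1, one_mem _, by simp⟩
  | succ k ih =>
    obtain ⟨d, hd, ih⟩ := ih
    set P := y⁻¹ * (g ^ k * y * (g ^ k)⁻¹) with hP
    have hPD : P ∈ D := mul_mem (inv_mem hy) (hn k y hy)
    have huD : g * P * g⁻¹ ∈ D := by simpa using hn 1 P hPD
    have e1 : y⁻¹ * (g ^ (k + 1) * y * (g ^ (k + 1))⁻¹) = x * (g * P * g⁻¹) := by
      rw [hx, hP, pow_succ']; group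
    have e2 : (g * P * g⁻¹) * (g * P * g⁻¹) = P * P := by
      have := Subgroup.mem_center_iff.1 (hsq P hPD) g
      calc _ = g * (P * P) * g⁻¹ := by group
        _ = _ := by rw [this]; group
    refine ⟨g * P * g⁻¹ * d, mul_mem huD hd, ?_⟩
    rw [e1]
    set u := g * P * g⁻¹
    have e3 : ⁅x⁻¹, u * d⁆ = ⁅x⁻¹, u⁆ * ⁅x⁻¹, d⁆ := by
      have := Subgroup.mem_center_iff.1 (hc _ (inv_mem hxD) _ hd) u
      calc ⁅x⁻¹, u * d⁆ = ⁅x⁻¹, u⁆ * (u * ⁅x⁻¹, d⁆) * u⁻¹ := by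
            simp only [commutatorElement_def]; group
        _ = _ := by rw [this]; group
    have e4 := Subgroup.mem_center_iff.1 (hc _ (inv_mem hxD) _ huD) ((x * x) ^ k)
    calc x * u * (x * u) = x * x * ⁅x⁻¹, u⁆ * (u * u) := by
          simp only [commutatorElement_def]; group
      _ = x * x * (⁅x⁻¹, u⁆ * (x * x) ^ k) * ⁅x⁻¹, d⁆ := by rw [e2, ih]; group
      _ = _ := by rw [← e4, e3, pow_succ']; simp only [mul_assoc]

/-- If every 2-element of the finite group G that is conjugate to its inverse lies in the centre of G, then G has a normal 2-complement. -/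
theorem result {G : Type*} [Group G] [Finite G] (h : ∀ x : G, (∃ j : ℕ, orderOf x = 2 ^ j) → IsConj x x⁻¹ → x ∈ Subgroup.center G) : Cfsg.HasNormalPComplement 2 G := by
  refine H3.frobenius_npc' fun T hT _ g hg hc => ?_
  obtain ⟨D, -, hN, h4, -, -, hD⟩ := H3.exists_critical_small_amb hT
  have h4' : ∀ x ∈ D, x ^ 4 = 1 := fun x hx => by
    rcases h4 x hx with h | h
    · rw [show 4 = 2 * 2 from rfl, pow_mul, h, one_pow]
    · exact h.2
  have hord : ∀ x : G, x ^ 4 = 1 → ∃ j, orderOf x = 2 ^ j := fun x hx => by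
    obtain ⟨i, -, e⟩ := (Nat.dvd_prime_pow Nat.prime_two (m := 2)).1 (orderOf_dvd_of_pow_eq_one hx)
    exact ⟨i, e⟩
  have hsq : ∀ x ∈ D, x * x ∈ Subgroup.center G := fun x hx => by
    have h1 : x * x * (x * x) = 1 := by rw [← h4' x hx]; simp only [pow_succ, pow_zero]; group
    refine h _ (hord _ (h4' _ (mul_mem hx hx))) ?_
    rw [inv_eq_of_mul_eq_one_right h1]
  refine hD g hg hc ?_
  rw [Subgroup.mem_centralizer_iff]
  intro y hy
  have hodd : Odd (orderOf g) := (Nat.coprime_two_right).1 hc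
  obtain ⟨d, hd, e⟩ := key hsq (hN hg) hy (orderOf g)
  set x := y⁻¹ * (g * y * g⁻¹) with hx
  have hxD : x ∈ D := mul_mem (inv_mem hy) ((Subgroup.mem_normalizer_iff.1 (hN hg) y).1 hy)
  have h1 : x * x * (x * x) = 1 := by rw [← h4' x hxD]; simp only [pow_succ, pow_zero]; group
  obtain ⟨m, hm⟩ := hodd
  have h2 : (x * x) ^ orderOf g = x * x := by
    rw [hm, pow_succ, pow_mul, sq, h1, one_pow, one_mul]
  rw [h2, pow_orderOf_eq_one] at e
  have h3 : d * x * d⁻¹ = x⁻¹ := by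
    have e' : x * x * ⁅x⁻¹, d⁆ = 1 := by rw [← e]; group
    rw [commutatorElement_def] at e'
    calc d * x * d⁻¹ = x⁻¹ * (x * x * (x⁻¹ * d * x⁻¹⁻¹ * d⁻¹)) := by group
      _ = _ := by rw [e', mul_one]
  have hz := h x (hord x (h4' x hxD)) (isConj_iff.2 ⟨d, h3⟩)
  have h5 : ∀ k : ℕ, g ^ k * y * (g ^ k)⁻¹ = y * x ^ k := by
    intro k
    induction k with
    | zero => simp
    | succ k ih =>
      have h6 := Subgroup.mem_center_iff.1 (pow_mem hz k) g⁻¹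
      calc g ^ (k + 1) * y * (g ^ (k + 1))⁻¹ = g * (g ^ k * y * (g ^ k)⁻¹) * g⁻¹ := by
            rw [pow_succ']; group
        _ = g * y * (x ^ k * g⁻¹) := by rw [ih]; group
        _ = y * (y⁻¹ * (g * y * g⁻¹)) * x ^ k := by rw [← h6]; group
        _ = _ := by rw [← hx, pow_succ', mul_assoc]
  have h6 := h5 (orderOf g)
  rw [pow_orderOf_eq_one, one_mul, inv_one, mul_one, left_eq_mul] at h6
  have h7 : x = 1 := by
    have h8 := (pow_gcd_eq_one.2 ⟨h6, h4' x hxD⟩ : x ^ Nat.gcd (orderOf g) 4 = 1)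
    have h9 : Nat.gcd (orderOf g) 4 = 1 := (Nat.Coprime.pow_right 2 hc : (orderOf g).Coprime (2 ^ 2))
    rwa [h9, pow_one] at h8
  calc y * g = y * x * g := by rw [h7, mul_one]
    _ = g * y := by rw [hx]; group

end Cfsg.Agent.S3862
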