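import Cfsg.Statements.S3868
import Cfsg.Agent.H23.IrrAb
import Cfsg.Agent.H28.CharP
import Mathlib

set_option autoImplicit false
open Cfsg

namespace Cfsg.Agent.S3868

open Subgroup

/-- Structure of the non-simple minimal non-p-closed groups. Call a finite group p-closed when its Sylow p-subgroups are normal, and minimal non-p-closed when it is not p-closed but every proper subgroup and every proper quotient is. If such a group G is not simple, then there is a prime q ≠ p such that G has order p · q^e, where e is the multiplicative order of q modulo p, and G has a normal subgroup A of order q^e that is elementary abelian and is a minimal normal subgroup of G (so G is the semidirect product of A by a group of order p acting irreducibly). -/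
theorem result {G : Type*} [Group G] [Finite G] {p : ℕ} [Fact p.Prime]
    (hnc : ¬ Cfsg.IsPClosed p G) (hsub : ∀ H : Subgroup G, H ≠ ⊤ → Cfsg.IsPClosed p ↥H)
    (hquo : ∀ (N : Subgroup G) [N.Normal], N ≠ ⊥ → Cfsg.IsPClosed p (G ⧸ N)) (hns : ¬ IsSimpleGroup G) :
    ∃ q : ℕ, q.Prime ∧ q ≠ p ∧ Nat.card G = p * q ^ orderOf (q : ZMod p) ∧
      ∃ A : Subgroup G, A.Normal ∧ Nat.card ↥A = q ^ orderOf (q : ZMod p) ∧ Cfsg.IsElementaryAbelian q A ∧
        ∀ B : Subgroup G, B.Normal → B ≤ A → B = ⊥ ∨ B = A := by
  have hp : p.Prime := Fact.out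
  have h1 : ∀ N : Subgroup G, N.Normal → IsPGroup p N → N = ⊥ := fun N _ hN => by_contra fun h =>
    hnc (H23.isPClosed_iff.2 (H23.piClosed_of_quotient N ((H23.piNum_singleton_iff hp Nat.card_pos.ne').2
      (IsPGroup.iff_card.1 hN)) (H23.isPClosed_iff.1 (hquo N h))))
  have h2 : ∀ N : Subgroup G, N.Normal → N ≠ ⊤ → (Nat.card N).Coprime p := fun N _ hN => by
    obtain ⟨P⟩ : Nonempty (Sylow p N) := inferInstance
    have := hsub N hN P
    have := P.characteristic_of_normal this
    have h := h1 ((P : Subgroup N).map N.subtype) inferInstance (P.2.map _)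
    have h3 := P.not_dvd_index
    rw [H1.map_subtype_eq_bot_iff.1 h, index_bot] at h3
    exact ((Nat.Prime.coprime_iff_not_dvd hp).2 h3).symm
  have hG : p ∣ Nat.card G := by_contra fun h => hnc (H28.isPClosed_top.1 (H28.isPClosed_of_not_dvd (by simpa)))
  obtain ⟨x, hx⟩ := exists_prime_orderOf_dvd_card' (G := G) p hG
  have x1 : x ≠ 1 := by rintro rfl; simp [hp.ne_one.symm] at hx
  have : Nontrivial G := ⟨x, 1, x1⟩
  obtain ⟨N, n1, n2, n3⟩ := H1.exists_minimal_normal (G := G)
  have n4 : N ≠ ⊤ := by rintro rfl; exact hns ⟨fun H a => n3 H a le_top⟩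
  refine H23.min_struct (h2 N n1 n4) n3 hx (fun h => ?_) fun K hK x2 y hy => ?_
  · have h3 : centralizer (N : Set G) = ⊤ := by_contra fun e => by
      have := H3.coprime_card_subgroup_iff.1 (h2 _ inferInstance e) x h
      simp [hx, hp.ne_one] at this
    obtain ⟨P⟩ : Nonempty (Sylow p G) := inferInstance
    have h4 := hquo N n2 (P.mapSurjective (QuotientGroup.mk'_surjective N))
    have h5 := h4.comap (QuotientGroup.mk' N)
    rw [Sylow.coe_mapSurjective, H1.comap_map_mk'] at h5
    have h6 : (P : Subgroup G) ⊔ N = ⊤ := by_contra fun e => by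
      have := (h2 _ h5 e).coprime_dvd_left (card_dvd_of_le le_sup_left)
      exact (Nat.Prime.coprime_iff_not_dvd hp).1 this.symm (P.dvd_card_of_dvd_card hG)
    have := h1 P (H1.normal_of_top_le_normalizer (h6 ▸ sup_le le_normalizer (H2.le_normalizer_of_le_centralizer
      (le_centralizer_iff.1 (h3 ▸ le_top))))) P.2
    exact P.ne_bot_of_dvd_card hG this
  · obtain ⟨P, hP⟩ := H23.exists_mem_sylow (p := p) (x := (⟨x, x2⟩ : K)) ⟨1, by simpa using hx⟩
    obtain ⟨k, hk⟩ := P.2 ⟨_, mul_mem ((hsub K hK P).conj_mem _ hP ⟨y, hy⟩) (inv_mem hP)⟩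
    exact ⟨k, congrArg (fun z : P => ((z : K) : G)) hk⟩

end Cfsg.Agent.S3868
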