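import Cfsg.Statements.S3869
import Cfsg.Agent.H23.IrrAb
import Cfsg.Agent.H28.CharP
import Mathlib

set_option autoImplicit false
open Cfsg

namespace Cfsg.Agent.S3869

open Subgroup

/-- Let p and q be distinct primes and G a finite non-abelian group with a normal elementary abelian q-subgroup A that is a minimal normal subgroup of G and has index p. Then A has order q^e with e the multiplicative order of q modulo p, and G is minimal non-p-closed: its Sylow p-subgroups are not normal, while in every proper subgroup and in every proper quotient of G the Sylow p-subgroups are normal. -/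
theorem result {G : Type*} [Group G] [Finite G] {p q : ℕ} [Fact p.Prime] (hq : q.Prime) (hpq : q ≠ p)
    (hna : ¬ IsMulCommutative G) (A : Subgroup G) [A.Normal] (hA : Cfsg.IsElementaryAbelian q A) (hidx : A.index = p)
    (hmin : ∀ B : Subgroup G, B.Normal → B ≤ A → B = ⊥ ∨ B = A) :
    Nat.card ↥A = q ^ orderOf (q : ZMod p) ∧ ¬ Cfsg.IsPClosed p G ∧ (∀ H : Subgroup G, H ≠ ⊤ → Cfsg.IsPClosed p ↥H) ∧
      ∀ (N : Subgroup G) [N.Normal], N ≠ ⊥ → Cfsg.IsPClosed p (G ⧸ N) := by
  have hp : p.Prime := Fact.out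
  have := Fact.mk hq
  have hc : (Nat.card A).Coprime p := (H2.coprime_card_of_isPGroup (H1.isPGroup_of_isElementaryAbelian hA)
    ((Nat.coprime_primes hp hq).2 hpq.symm)).symm
  have h1 : ∀ x : G, orderOf x = p → zpowers x ⊔ A = ⊤ := fun x hx => by
    rcases (Nat.dvd_prime hp).1 (hidx ▸ index_dvd_of_le (le_sup_right : A ≤ zpowers x ⊔ A)) with h | h
    · exact index_eq_one.1 h
    have h2 := relIndex_mul_index (le_sup_right : A ≤ zpowers x ⊔ A)
    rw [h, hidx, mul_eq_right₀ hp.ne_zero, relIndex_eq_one] at h2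
    have := H3.coprime_card_subgroup_iff.1 hc x (h2 (mem_sup_left (mem_zpowers x)))
    simp [hx, hp.ne_one] at this
  have hAA := le_centralizer_iff_isMulCommutative.2 hA.1
  have h2 : ∀ x : G, orderOf x = p → x ∉ centralizer (A : Set G) := fun x hx h => hna (by
    have e : (⊤ : Subgroup G) ≤ centralizer ((⊤ : Subgroup G) : Set G) := by
      rw [← h1 x hx, H1.centralizer_sup]
      exact sup_le (le_inf (le_centralizer_iff_isMulCommutative.2 inferInstance) (zpowers_le.2 h))
        (le_inf (le_centralizer_iff.1 (zpowers_le.2 h)) hAA)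
    exact ⟨⟨fun a b => e (mem_top b) a (mem_top a)⟩⟩)
  have h3 : ∀ x : G, orderOf x = p → ∀ W ≤ A, x ∈ normalizer (W : Set G) → W = ⊥ ∨ W = A := fun x hx W a b =>
    hmin W (H1.normal_of_top_le_normalizer (h1 x hx ▸ sup_le (zpowers_le.2 b) (H2.le_normalizer_of_le_centralizer
      (hAA.trans (H1.centralizer_anti a))))) a
  have h4 : ∀ H : Subgroup G, H ⊓ A = ⊥ → IsPGroup p H := fun H h => by
    have h5 := H1.relIndex_mul_card_inf A H
    rw [inf_comm, h, card_bot, mul_one] at h5
    obtain ⟨k, -, hk⟩ := (Nat.dvd_prime_pow (m := 1) hp).1 (by simpa [hidx, h5] using relIndex_dvd_index_of_normal A H)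
    exact IsPGroup.of_card hk
  obtain ⟨x, hx⟩ := exists_prime_orderOf_dvd_card' (G := G) p (hidx ▸ A.index_dvd_card)
  have hn : ∀ {H : Subgroup G}, H ≤ normalizer (A : Set G) := by simp [normalizer_eq_top]
  refine ⟨H23.card_eq_pow_orderOf hq hpq hA hx (hn (mem_top x)) (h2 x hx) (h3 x hx), fun h => ?_, fun H hH => ?_,
    fun N _ hN => ?_⟩
  · obtain ⟨P, hP⟩ := H23.exists_mem_sylow (p := p) (x := x) ⟨1, by simpa using hx⟩
    have := h P
    exact h2 x hx (commutator_eq_bot_iff_le_centralizer.1 (H1.commutator_eq_bot_of_normal_of_coprime _ _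
      (H2.coprime_card_of_isPGroup P.2 hc).symm) hP)
  · by_cases hd : p ∣ Nat.card H
    swap
    · exact H28.isPClosed_of_not_dvd hd
    obtain ⟨y, hy, y1⟩ := H28.exists_orderOf_eq_of_dvd_card hd
    refine H28.isPClosed_of_isPGroup (h4 H ((h3 y y1 _ inf_le_right (zpowers_le.1 (H1.le_normalizer_inf
      ((zpowers_le.2 hy).trans le_normalizer) hn))).resolve_right fun e => hH ?_))
    exact eq_top_iff.2 (h1 y y1 ▸ sup_le (zpowers_le.2 hy) (inf_eq_right.1 e))
  · rcases hmin (N ⊓ A) inferInstance inf_le_right with e | e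
    · obtain ⟨y, hy, y1⟩ := H28.exists_orderOf_eq_of_isPGroup (h4 N e) hN
      exact (h2 y y1 (commutator_eq_bot_iff_le_centralizer.1 (eq_bot_iff.2 (e ▸ commutator_le_inf N A)) hy)).elim
    · obtain ⟨k, -, hk⟩ := (Nat.dvd_prime_pow (m := 1) hp).1 (by
        simpa [hidx] using index_dvd_of_le (inf_eq_right.1 e))
      exact H28.isPClosed_top.1 (H28.isPClosed_of_isPGroup ((IsPGroup.of_card (G := G ⧸ N) hk).to_subgroup _))

end Cfsg.Agent.S3869
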