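import Cfsg.Statements.S3870
import Cfsg.Agent.H1.Fitting
import Cfsg.Agent.H23.Syl

set_option autoImplicit false
open Cfsg

namespace Cfsg.Agent.S3870

open Subgroup
open scoped Pointwise

/-- Let G be a finite simple group whose Sylow p-subgroups are not normal but such that every proper subgroup of G has a normal Sylow p-subgroup. Then any two distinct Sylow p-subgroups of G intersect trivially, and for every Sylow p-subgroup P the normalizer of every non-identity subgroup of P lies in the normalizer of P. -/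
theorem result {G : Type*} [Group G] [Finite G] [IsSimpleGroup G] {p : ℕ} [Fact p.Prime]
    (hnc : ¬ Cfsg.IsPClosed p G) (hsub : ∀ H : Subgroup G, H ≠ ⊤ → Cfsg.IsPClosed p ↥H) :
    (∀ P Q : Sylow p G, P ≠ Q → (P : Subgroup G) ⊓ (Q : Subgroup G) = ⊥) ∧
      ∀ (P : Sylow p G) (R : Subgroup G), R ≤ P → R ≠ ⊥ →
        Subgroup.normalizer (R : Set G) ≤ Subgroup.normalizer ((P : Subgroup G) : Set G) := by
  have hti : ∀ D : Subgroup G, D ≠ ⊥ → ∀ P Q : Sylow p G, D ≤ P → D ≤ Q → P = Q := by
    intro D
    induction D using WellFoundedGT.induction with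
    | ind D ih =>
    intro hD P Q hP hQ
    by_contra hne
    have hlt : ∀ R S : Sylow p G, R ≠ S → D ≤ R → D ≤ S → D < R := fun R S h h1 h2 =>
      lt_of_le_of_ne h1 fun e => h (Sylow.ext (R.is_maximal' S.isPGroup' (e ▸ h2)).symm)
    have hN : normalizer (D : Set G) ≠ ⊤ := by
      intro h
      rcases (H1.normal_of_top_le_normalizer h.ge).eq_bot_or_eq_top with h | h
      · exact hD h
      · exact (hlt P Q hne hP hQ).not_ge (h ▸ le_top)
    obtain ⟨T⟩ : Nonempty (Sylow p (normalizer (D : Set G))) := inferInstance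
    have hT := hsub _ hN T
    obtain ⟨S, hS⟩ := (H1.isPGroup_sylow_map T).exists_le_sylow
    have key : ∀ R R' : Sylow p G, R ≠ R' → D ≤ R → D ≤ R' → R = S := by
      intro R R' h h1 h2
      have h3 := H1.lt_normalizer_inf_of_isPGroup R.isPGroup' (hlt R R' h h1 h2)
      refine ih _ h3 (fun e => hD (le_bot_iff.1 (e ▸ h3.le))) R S inf_le_right (le_trans ?_ hS)
      rw [H1.le_map_subtype_iff]
      refine ⟨inf_le_left, H1.le_sylow_of_le_normalizer' T
        R.isPGroup'.to_inf_right.comap_subtype ?_⟩
      exact le_top.trans (normalizer_eq_top _).ge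
    exact hne ((key P Q hne hP hQ).trans (key Q P (Ne.symm hne) hQ hP).symm)
  refine ⟨fun P Q h => ?_, fun P R hR hR0 g hg => ?_⟩
  · by_contra h0
    exact h (hti _ h0 P Q inf_le_left inf_le_right)
  · rw [← H23.smul_eq_iff]
    refine hti R hR0 _ _ ?_ hR
    rw [H23.sylow_coe_smul, ← H1.conj_smul_eq_of_mem_normalizer hg]
    exact pointwise_smul_le_pointwise_smul_iff.2 hR

end Cfsg.Agent.S3870
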