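import Cfsg.Statements.S3872
import Cfsg.Agent.H4.Der
import Cfsg.Agent.H4.TwoCyclic

set_option autoImplicit false
open Cfsg

namespace Cfsg.Agent.S3872

/-- Say that a finite group is p-exponent closed when its elements of order dividing p form a subgroup. Let G be a finite p-group that is not p-exponent closed, but all of whose proper subgroups and proper quotients are. Then G is generated by two elements, has nilpotency class at least p, has exponent p², has cyclic center, and has order at least p^(p+1). -/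
theorem result {G : Type*} [Group G] [Finite G] {p : ℕ} [Fact p.Prime] (hG : IsPGroup p G)
    (hnc : ¬ (∃ H : Subgroup G, (H : Set G) = {g : G | g ^ p = 1})) (hsub : ∀ K : Subgroup G, K ≠ ⊤ → (∃ H : Subgroup ↥K, (H : Set ↥K) = {g : ↥K | g ^ p = 1}))
    (hquo : ∀ (N : Subgroup G) [N.Normal], N ≠ ⊥ → (∃ H : Subgroup (G ⧸ N), (H : Set (G ⧸ N)) = {g : (G ⧸ N) | g ^ p = 1})) :
    (∃ x y : G, Subgroup.closure ({x, y} : Set G) = ⊤) ∧ (⊤ : Subgroup G).lowerCentralSeries (p - 1) ≠ ⊥ ∧
      Monoid.exponent G = p ^ 2 ∧ IsCyclic ↥(Subgroup.center G) ∧ p ^ (p + 1) ≤ Nat.card G := by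
  open H4 Subgroup in
  have hp : p.Prime := Fact.out
  obtain ⟨x, y, hx, hy, hxy⟩ : ∃ x y : G, x ^ p = 1 ∧ y ^ p = 1 ∧ (x * y) ^ p ≠ 1 := by
    by_contra hc
    push Not at hc
    exact hnc ⟨⟨⟨⟨{g | g ^ p = 1}, fun ha hb => hc _ _ ha hb⟩, one_pow p⟩, fun ha => by simpa using ha⟩, rfl⟩
  have ht : closure ({x, y} : Set G) = ⊤ := by
    by_contra h
    obtain ⟨H, hH⟩ := hsub _ h
    have e : ∀ g, g ∈ H ↔ g ^ p = 1 := fun g => Set.ext_iff.1 hH g
    exact hxy (congrArg Subtype.val ((e _).1 (H.mul_mem ((e ⟨x, mem_closure_pair_left x y⟩).2 (Subtype.ext hx))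
      ((e ⟨y, mem_closure_pair_right x y⟩).2 (Subtype.ext hy)))))
  have hq : ∀ z ∈ center G, z ≠ 1 → ∀ g : G, g ^ p ∈ zpowers z := fun z hz h1 g => by
    have : (zpowers z).Normal := normal_of_le_center (zpowers_le.2 hz)
    obtain ⟨H, hH⟩ := hquo (zpowers z) (by simpa using h1)
    have e : ∀ g, g ∈ H ↔ g ^ p = 1 := fun g => Set.ext_iff.1 hH g
    have : g ∈ H.comap (QuotientGroup.mk' _) := closure_pair_le (H := H.comap (QuotientGroup.mk' _))
      ((e _).2 (by rw [← map_pow, hx, map_one])) ((e _).2 (by rw [← map_pow, hy, map_one])) (ht ▸ mem_top g)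
    exact (QuotientGroup.eq_one_iff _).1 ((e _).1 this)
  have hl : LL G (p - 1) ≠ ⊥ := fun e => hxy (by
    simpa using mul_pow_eq_one_of_lcs (hG.to_subgroup ⊤) (by have := hp.pos; omega) e (k := 1) (mem_top x) (mem_top y)
      (by simpa using hx) (by simpa using hy))
  refine ⟨⟨x, y, ht⟩, hl, ?_, topEquiv.isCyclic.1 (isCyclic_of_unique (hG.to_subgroup (center G))
    (fun a b ha hb => ?_) ⊤ inferInstance), ?_⟩
  · obtain ⟨z, -, hz, ho⟩ := exists_mem_center_orderOf_eq hG hl
    have h1 : Monoid.exponent G ∣ p ^ 2 := Monoid.exponent_dvd_of_forall_pow_eq_one fun g => by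
      obtain ⟨m, hm⟩ := mem_zpowers_iff.1 <| hq z hz (fun e => hp.one_lt.ne (by rw [← ho, e, orderOf_one])) g
      rw [sq, pow_mul, ← hm, ← zpow_natCast, ← zpow_mul, mul_comm, zpow_mul, zpow_natCast, ← ho,
        pow_orderOf_eq_one, one_zpow]
    obtain ⟨k, hk, e⟩ := (Nat.dvd_prime_pow hp).1 h1
    rw [e]
    congr 1
    by_contra hne
    exact hxy (orderOf_dvd_iff_pow_eq_one.1 ((Monoid.order_dvd_exponent _).trans (e ▸
      (pow_dvd_pow p (by omega : k ≤ 1)).trans (pow_one p).dvd)))
  · have key : ∀ a : center G, orderOf a = p → zpowers (a : G) = zpowers ((x * y) ^ p) := fun a ha => by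
      have h1 := zpowers_le.2 (hq a a.2 (fun e => hp.one_lt.ne (by rw [← ha, ← orderOf_coe, e, orderOf_one])) (x * y))
      refine (eq_of_le_of_card_ge h1 ?_).symm
      rw [Nat.card_zpowers (a : G), orderOf_coe, ha]
      simpa using card_mul_le_of_lt hG (bot_lt_iff_ne_bot.2 (zpowers_ne_bot.2 hxy))
    exact map_injective (center G).subtype_injective (by simp [key a ha, key b hb])
  · have key : ∀ i, LL G (i + 1) ≠ ⊥ → p ^ (i + 2) * Nat.card (LL G (i + 1)) ≤ Nat.card G := fun i => by
      induction i with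
      | zero => exact fun h => by simpa [mul_comm] using hall_der (i := 0) (N := ⊤) hG le_rfl h
      | succ i ih =>
        intro h
        have h1 : LL G (i + 1) ≠ ⊥ := fun e => h (le_bot_iff.1 (e ▸ LL_le (i + 1).le_succ))
        have := hG.isNilpotent
        have h2 := card_mul_le_of_lt hG (commutator_top_lt_of_nilpotent h1)
        exact le_trans (by rw [pow_succ, mul_assoc, mul_comm p]; exact Nat.mul_le_mul_left _ h2) (ih h1)
    obtain ⟨i, rfl⟩ : ∃ i, p = i + 2 := ⟨p - 2, by have := hp.two_le; omega⟩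
    have := card_mul_le_of_lt hG (bot_lt_iff_ne_bot.2 hl)
    exact le_trans (by rw [pow_succ]; exact Nat.mul_le_mul_left _ (by simpa using this)) (key i hl)

end Cfsg.Agent.S3872
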