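import Cfsg.Statements.S3873
import Cfsg.Agent.H23.IrrAb
import Cfsg.Agent.H28.CharP
import Mathlib

set_option autoImplicit false
open Cfsg

namespace Cfsg.Agent.S3873

open Subgroup

/-- Say that a finite group is p-exponent closed when its elements of order dividing p form a subgroup. Let G be a finite group that is not p-exponent closed, but all of whose proper subgroups and proper quotients are, and suppose G is neither simple nor a p-group. Then there is a prime q ≠ p such that G has order p · q^e, where e is the multiplicative order of q modulo p, and G has a normal elementary abelian subgroup of order q^e that is a minimal normal subgroup of G. -/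
theorem result {G : Type*} [Group G] [Finite G] {p : ℕ} [Fact p.Prime]
    (hnc : ¬ (∃ H : Subgroup G, (H : Set G) = {g : G | g ^ p = 1})) (hsub : ∀ K : Subgroup G, K ≠ ⊤ → (∃ H : Subgroup ↥K, (H : Set ↥K) = {g : ↥K | g ^ p = 1}))
    (hquo : ∀ (N : Subgroup G) [N.Normal], N ≠ ⊥ → (∃ H : Subgroup (G ⧸ N), (H : Set (G ⧸ N)) = {g : (G ⧸ N) | g ^ p = 1}))
    (hns : ¬ IsSimpleGroup G) (hnp : ¬ IsPGroup p G) :
    ∃ q : ℕ, q.Prime ∧ q ≠ p ∧ Nat.card G = p * q ^ orderOf (q : ZMod p) ∧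
      ∃ A : Subgroup G, A.Normal ∧ Nat.card ↥A = q ^ orderOf (q : ZMod p) ∧ Cfsg.IsElementaryAbelian q A ∧
        ∀ B : Subgroup G, B.Normal → B ≤ A → B = ⊥ ∨ B = A := by
  have hp : p.Prime := Fact.out
  have h1 : ∀ K : Subgroup G, K ≠ ⊤ → ∀ x ∈ K, ∀ y ∈ K, x ^ p = 1 → y ^ p = 1 → (x * y) ^ p = 1 := fun K hK x hx y hy a b => by
    obtain ⟨H, hH⟩ := hsub K hK
    have e : ∀ z : K, z ∈ H ↔ (z : G) ^ p = 1 := fun z => by
      rw [← SetLike.mem_coe, hH]; exact Subtype.ext_iff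
    exact (e (⟨x, hx⟩ * ⟨y, hy⟩)).1 (mul_mem ((e _).2 a) ((e _).2 b))
  have h2 : ∀ K : Subgroup G, (∀ x, x ^ p = 1 → x ∈ K) → K = ⊤ := fun K h => by_contra fun e =>
    hnc ⟨⟨⟨⟨{g | g ^ p = 1}, fun a b => h1 K e _ (h _ a) _ (h _ b) a b⟩, one_pow p⟩, fun a => by simpa using a⟩, rfl⟩
  have : Nontrivial G := by
    by_contra h
    rw [not_nontrivial_iff_subsingleton] at h
    exact hnp fun g => ⟨0, Subsingleton.elim _ _⟩
  obtain ⟨N, n1, n2, n3⟩ := H1.exists_minimal_normal (G := G)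
  have n4 : N ≠ ⊤ := by rintro rfl; exact hns ⟨fun H a => n3 H a le_top⟩
  have h3 : IsPGroup p (G ⧸ N) := by
    obtain ⟨H, hH⟩ := hquo N n2
    have e : ∀ z, z ∈ H ↔ z ^ p = 1 := fun z => by rw [← SetLike.mem_coe, hH]; rfl
    have := h2 (H.comap (QuotientGroup.mk' N)) fun x hx => (e _).2 (by rw [← map_pow, hx, map_one])
    intro g
    obtain ⟨g, rfl⟩ := QuotientGroup.mk'_surjective N g
    exact ⟨1, by rw [pow_one]; exact (e _).1 (show g ∈ H.comap _ from this ▸ mem_top g)⟩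
  have h4 : (Nat.card N).Coprime p := by
    refine ((Nat.Prime.coprime_iff_not_dvd hp).2 fun h => ?_).symm
    obtain ⟨y, hy, y1⟩ := H28.exists_orderOf_eq_of_dvd_card h
    let M : Subgroup G := ⟨⟨⟨{g | g ∈ N ∧ g ^ p = 1}, fun a b => ⟨mul_mem a.1 b.1, h1 N n4 _ a.1 _ b.1 a.2 b.2⟩⟩,
      one_mem _, one_pow p⟩, fun a => ⟨inv_mem a.1, by simpa using a.2⟩⟩
    rcases n3 M ⟨fun a b g => ⟨n1.conj_mem _ b.1 g, by rw [conj_pow, b.2]; simp⟩⟩ (fun a b => b.1) with e | e
    · have : y ∈ M := ⟨hy, y1 ▸ pow_orderOf_eq_one y⟩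
      rw [e, mem_bot] at this
      simp [this, hp.ne_one.symm] at y1
    · refine hnp fun g => ?_
      obtain ⟨k, hk⟩ := h3 g
      exact ⟨k + 1, by rw [pow_succ, pow_mul]; exact (show g ^ p ^ k ∈ M from e ▸ (QuotientGroup.eq_one_iff _).1 hk).2⟩
  obtain ⟨x, hx, hc⟩ : ∃ x : G, x ^ p = 1 ∧ x ∉ centralizer (N : Set G) := by
    by_contra! h
    have h5 := h2 _ h
    obtain ⟨P⟩ : Nonempty (Sylow p G) := inferInstance
    have h6 : (P : Subgroup G) ⊔ N = ⊤ := by
      obtain ⟨k, hk⟩ := IsPGroup.iff_card.1 h3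
      refine index_eq_one.1 (Nat.eq_one_of_dvd_coprimes (a := (P : Subgroup G).index) (b := p ^ k)
        (H3.sylow_index_coprime P |>.pow_right k) (index_dvd_of_le le_sup_left) (hk ▸ index_dvd_of_le le_sup_right))
    have := H1.normal_of_top_le_normalizer (h6 ▸ sup_le le_normalizer (H2.le_normalizer_of_le_centralizer
      (le_centralizer_iff.1 (h5 ▸ le_top))))
    have h7 := h2 P fun x hx => by
      obtain ⟨k, -, hk⟩ := (Nat.dvd_prime_pow (m := 1) hp).1 (by simpa using orderOf_dvd_of_pow_eq_one hx)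
      obtain ⟨g, hg⟩ := H23.exists_conj_mem_sylow P ⟨k, hk⟩
      simpa [mul_assoc] using this.conj_mem' _ hg g
    exact hnp ((h7 ▸ P.2 : IsPGroup p (⊤ : Subgroup G)).of_equiv topEquiv)
  refine H23.min_struct h4 n3 (orderOf_eq_prime hx (by rintro rfl; exact hc (one_mem _))) hc fun K hK x2 y hy => ⟨1, ?_⟩
  rw [pow_one]
  exact h1 K hK _ (mul_mem (mul_mem hy x2) (inv_mem hy)) _ (inv_mem x2) (by rw [conj_pow, hx]; simp) (by simp [hx])

end Cfsg.Agent.S3873
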