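import Cfsg.Statements.S3875
import Cfsg.Agent.S0999
import Cfsg.Agent.H11.SL
import Cfsg.Agent.H11.LowDim

set_option autoImplicit false
open Cfsg

namespace Cfsg.Agent.S3875



open Subgroup

theorem five (p : ℕ) [hp : Fact p.Prime] (h2 : p ≠ 2) (h3 : p ≠ 3) : 5 ≤ p := by
  have := hp.out.two_le
  by_contra h
  have : p = 4 := by omega
  subst this
  exact absurd hp.out (by norm_num)

theorem card_psl_p {F : Type*} [Field F] [Fintype F] (p : ℕ) [hp : Fact p.Prime] (h2 : p ≠ 2)
    (hF : Fintype.card F = p) :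
    Nat.card (Matrix.ProjectiveSpecialLinearGroup (Fin 2) F) = p * (p ^ 2 - 1) / 2 := by
  have h := H11.card_psl_two (F := F)
  rw [hF] at h
  obtain ⟨k, hk⟩ := hp.out.odd_of_ne_two h2
  have : Nat.gcd 2 (p - 1) = 2 := Nat.gcd_eq_left ⟨k, by omega⟩
  rw [this] at h
  omega

theorem low (p : ℕ) [hp : Fact p.Prime] (h2 : p ≠ 2) (m : ℕ)
    (hleast : ∀ k : ℕ, IsPrimePow k → k % p = 1 → m ≤ k) (n : ℕ) :
    ∀ (H : Type) [Group H] [Finite H], Nat.card H = n → ¬ IsPClosed p H →
      min (p * m) (p * (p ^ 2 - 1) / 2) ≤ n := by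
  induction n using Nat.strong_induction_on with
  | _ n ih =>
  intro H _ _ hn hH
  by_contra hlt
  rw [not_le, lt_min_iff] at hlt
  have hp1 := hp.out.one_lt
  have hsub : ∀ K : Subgroup H, K ≠ ⊤ → IsPClosed p K := fun K hK => by
    by_contra h
    have hl : Nat.card K < n := by
      have h1 := K.card_mul_index
      have h3 : 1 < K.index := one_lt_index_of_ne_top hK
      have h4 : 0 < Nat.card K := Nat.card_pos
      nlinarith
    have := ih _ hl K rfl h
    rw [min_le_iff] at this
    omega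
  have hquo : ∀ (N : Subgroup H) [N.Normal], N ≠ ⊥ → IsPClosed p (H ⧸ N) := fun N _ hN => by
    by_contra h
    have hl : Nat.card (H ⧸ N) < n := by
      have h1 := N.card_mul_index
      have h3 : 1 < Nat.card N := (one_lt_card_iff_ne_bot N).2 hN
      have h4 : 0 < N.index := Nat.pos_of_ne_zero index_ne_zero_of_finite
      change N.index < n
      nlinarith
    have := ih _ hl _ rfl h
    rw [min_le_iff] at this
    omega
  obtain ⟨P, hP⟩ : ∃ P : Sylow p H, ¬ (P : Subgroup H).Normal := not_forall.1 hH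
  set s := Nat.card (Sylow p H) with hs
  have hsi : ∀ R : Sylow p H, s = (normalizer (R : Set H)).index := fun R =>
    R.card_eq_index_normalizer
  have hsm : s % p = 1 := by
    have := card_sylow_modEq_one p H
    rwa [Nat.ModEq, Nat.mod_eq_of_lt hp1] at this
  have hs1 : s ≠ 1 := fun h => hP (by
    rw [hsi P, index_eq_one] at h
    exact normalizer_eq_top_iff.1 h)
  have hsp : p + 1 ≤ s := by
    have := Nat.div_add_mod s p
    rcases Nat.eq_zero_or_pos (s / p) with h | h
    · rw [h] at this; omega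
    · nlinarith
  obtain ⟨k, hk⟩ := P.isPGroup'.exists_card_eq
  have hPs : p ^ k * s ≤ n := by
    have h1 := (normalizer (P : Set H)).card_mul_index
    have h3 : Nat.card (P : Subgroup H) ≤ Nat.card (normalizer (P : Set H)) :=
      card_le_of_le le_normalizer
    rw [← hsi P, hn] at h1
    rw [← h1, ← hk]
    exact Nat.mul_le_mul_right _ h3
  have hk0 : k ≠ 0 := by
    rintro rfl
    rw [pow_zero, card_eq_one] at hk
    exact hP (hk ▸ normal_bot)
  have hk1 : k = 1 := by
    by_contra h
    have h3 : p ^ 2 ≤ p ^ k := Nat.pow_le_pow_right (by omega) (by omega)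
    have h4 : p * (p ^ 2 - 1) / 2 ≤ p * p ^ 2 :=
      (Nat.div_le_self _ _).trans (Nat.mul_le_mul_left _ (Nat.sub_le _ _))
    nlinarith
  subst hk1
  rw [pow_one] at hk hPs
  have hpp : ¬ IsPrimePow s := fun h => by
    have := hleast s h hsm
    nlinarith
  by_cases hsimp : IsSimpleGroup H
  · have hc : ¬ IsCyclic H := fun h => hP (by
      letI := h.isMulCommutative
      exact ⟨fun x hx g => by rwa [mul_comm' g x, mul_inv_cancel_right]⟩)
    have hd : p ∣ Nat.card H := hk ▸ card_subgroup_dvd_card _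
    have hb : Nat.card H < p ^ 3 := by
      have h4 : p * (p ^ 2 - 1) / 2 ≤ p * p ^ 2 :=
        (Nat.div_le_self _ _).trans (Nat.mul_le_mul_left _ (Nat.sub_le _ _))
      rw [hn]; nlinarith
    rcases Cfsg.Agent.S0999.result hc p hp.out hd hb with ⟨F, _, _, hF, -, ⟨e⟩⟩ | ⟨j, F, _, _, hF, hj, h3, ⟨e⟩⟩
    · have := Nat.card_congr e.toEquiv
      rw [card_psl_p p h2 hF] at this
      omega
    · have h4 := Nat.card_congr e.toEquiv
      have h := H11.card_psl_two (F := F)
      have hj0 : j ≠ 0 := by rintro rfl; omega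
      have hg : Nat.gcd 2 (Fintype.card F - 1) = 1 := by
        rw [hF]
        refine (Nat.coprime_two_left.2 ?_)
        have : Even (2 ^ j) := (Nat.even_pow' hj0).2 even_two
        have h0 : 0 < 2 ^ j := by positivity
        obtain ⟨c, hc⟩ := this
        exact ⟨c - 1, by omega⟩
      rw [hg, one_mul, ← h4, hn, hF] at h
      have h5 := five p h2 (by omega)
      obtain ⟨c, rfl⟩ : ∃ c, p = c + 5 := ⟨p - 5, by omega⟩
      have h6 : 2 ^ j = c + 4 := by omega
      rw [h6] at h
      have h7 : (c + 4) ^ 2 - 1 = c ^ 2 + 8 * c + 15 := by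
        rw [Nat.sub_eq_iff_eq_add (by nlinarith)]; ring
      have h8 : (c + 5) ^ 2 - 1 = c ^ 2 + 10 * c + 24 := by
        rw [Nat.sub_eq_iff_eq_add (by nlinarith)]; ring
      rw [h7] at h
      have h9 := hlt.2
      rw [h8, Nat.lt_div_iff_mul_lt' ?_] at h9
      · nlinarith
      · rw [← h8]
        obtain ⟨d, hd⟩ := hp.out.odd_of_ne_two h2
        rw [hd]
        refine Dvd.dvd.mul_left ⟨2 * d ^ 2 + 2 * d, ?_⟩ _
        rw [Nat.sub_eq_iff_eq_add (by nlinarith)]; ring
  · haveI : Nontrivial H := by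
      by_contra h
      haveI := not_nontrivial_iff_subsingleton.1 h
      exact hP ⟨fun x hx g => by rwa [Subsingleton.elim (g * x * g⁻¹) x]⟩
    obtain ⟨N0, hN0, hb0, ht0⟩ : ∃ N : Subgroup H, N.Normal ∧ N ≠ ⊥ ∧ N ≠ ⊤ := by
      by_contra h
      push Not at h
      exact hsimp ⟨fun N hN => by by_cases hb : N = ⊥; exacts [Or.inl hb, Or.inr (h N hN hb)]⟩
    obtain ⟨N, hNle, hN⟩ := Finite.exists_le_minimal (p := fun N : Subgroup H => N.Normal ∧ N ≠ ⊥) ⟨hN0, hb0⟩
    haveI := hN.prop.1
    have hNt : N ≠ ⊤ := fun h => ht0 (top_le_iff.1 (h ▸ hNle))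
    have hPN : (P : Subgroup H) ⊔ N = ⊤ := by
      by_contra h
      have h1 := (hquo N hN.prop.2 (P.mapSurjective (QuotientGroup.mk'_surjective N))).comap
        (QuotientGroup.mk' N)
      rw [Sylow.coe_mapSurjective, comap_map_eq, QuotientGroup.ker_mk'] at h1
      have h3 := hsub _ h (P.subtype (le_sup_left : (P : Subgroup H) ≤ (P : Subgroup H) ⊔ N))
      rw [Sylow.coe_subtype, normal_subgroupOf_iff_le_normalizer le_sup_left] at h3
      have h4 := P.normalizer_sup_eq_top' (le_sup_left : (P : Subgroup H) ≤ (P : Subgroup H) ⊔ N)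
      exact hP (normalizer_eq_top_iff.1 ((sup_eq_left.2 h3).symm.trans h4))
    have hidx : ∀ K : Subgroup H, K ⊔ N = ⊤ → N.relIndex K = N.index := fun K hK => by
      rw [← relIndex_sup_right, hK, relIndex_top_right]
    have hNi : N.index = p := by
      have h1 : N.index ∣ p := by
        have := relIndex_dvd_card N (P : Subgroup H)
        rwa [hidx _ hPN, hk] at this
      rcases (Nat.dvd_prime hp.out).1 h1 with h | h
      · exact absurd (index_eq_one.1 h) hNt
      · exact h
    have hsN : s ∣ Nat.card N := by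
      have h1 := N.card_mul_index
      have h3 := (P : Subgroup H).card_mul_index
      rw [hNi] at h1
      rw [hk, ← h1, mul_comm] at h3
      rw [← Nat.eq_of_mul_eq_mul_right (by omega) h3, hsi P]
      exact index_dvd_of_le le_normalizer
    obtain ⟨q, hq, hqs⟩ := Nat.exists_prime_and_dvd hs1
    haveI := Fact.mk hq
    have hqp : q ≠ p := by
      rintro rfl
      obtain ⟨c, hc⟩ := hqs
      rw [hc, Nat.mul_mod_right] at hsm
      omega
    obtain ⟨Q⟩ : Nonempty (Sylow q N) := inferInstance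
    have hF := Q.normalizer_sup_eq_top
    set Q' := (Q : Subgroup N).map N.subtype with hQ'
    by_cases hK : normalizer (Q' : Set H) = ⊤
    · have hQb : Q' ≠ ⊥ := fun h => Q.ne_bot_of_dvd_card (hqs.trans hsN)
        ((map_eq_bot_iff_of_injective _ N.subtype_injective).1 h)
      have h1 : Q' = N := hN.eq_of_le ⟨normalizer_eq_top_iff.1 hK, hQb⟩ (map_subtype_le _)
      obtain ⟨j, hj⟩ := (Q.isPGroup'.map N.subtype).exists_card_eq
      rw [← hQ', h1] at hj
      rw [hj] at hsN
      obtain ⟨i, -, hi⟩ := (Nat.dvd_prime_pow hq).1 hsN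
      refine hpp ⟨q, i, hq.prime, Nat.pos_of_ne_zero ?_, hi.symm⟩
      rintro rfl
      exact hs1 (by simpa using hi)
    · set K := normalizer (Q' : Set H) with hKd
      have hpK : p ∣ Nat.card K := by
        rw [← hNi, ← hidx _ hF]; exact relIndex_dvd_card _ _
      obtain ⟨R⟩ : Nonempty (Sylow p K) := inferInstance
      have hR := hsub K hK R
      obtain ⟨R', hR'⟩ := (R.isPGroup'.map K.subtype).exists_le_sylow
      have hRe : (R : Subgroup K).map K.subtype = R' := by
        refine eq_of_le_of_card_ge hR' ?_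
        rw [Nat.card_congr (Sylow.equiv R' P).toEquiv, hk, card_map_of_injective K.subtype_injective]
        exact Nat.le_of_dvd Nat.card_pos (R.dvd_card_of_dvd_card hpK)
      have hKR : K ≤ normalizer (R' : Set H) := by
        have h1 : ((R' : Subgroup H).subgroupOf K).Normal := by
          rw [← hRe, subgroupOf, comap_map_eq_self_of_injective K.subtype_injective]; exact hR
        exact (normal_subgroupOf_iff_le_normalizer (hRe ▸ map_subtype_le _)).1 h1
      have h1 : q ∣ Q'.index :=
        hqs.trans ((hsi R' ▸ index_dvd_of_le hKR).trans (index_dvd_of_le le_normalizer))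
      rw [hQ', index_map_subtype, hNi] at h1
      rcases (Nat.Prime.dvd_mul hq).1 h1 with h | h
      · exact Q.not_dvd_index h
      · exact hqp ((Nat.prime_dvd_prime_iff_eq hq hp.out).1 h)

theorem ex2 (p : ℕ) [hp : Fact p.Prime] (h2 : p ≠ 2) (h3 : p ≠ 3) :
    ∃ (H : Type) (_ : Group H) (_ : Finite H), Nat.card H = p * (p ^ 2 - 1) / 2 ∧ ¬ IsPClosed p H := by
  have h5 := five p h2 h3
  have hc := card_psl_p (F := ZMod p) p h2 (ZMod.card p)
  refine ⟨Matrix.ProjectiveSpecialLinearGroup (Fin 2) (ZMod p), inferInstance, inferInstance, hc, fun h => ?_⟩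
  haveI := H11.psl2_simple (F := ZMod p) (by rw [ZMod.card]; omega)
  obtain ⟨P⟩ : Nonempty (Sylow p (Matrix.ProjectiveSpecialLinearGroup (Fin 2) (ZMod p))) := inferInstance
  obtain ⟨d, hd⟩ := hp.out.odd_of_ne_two h2
  have he : p * (p ^ 2 - 1) / 2 = p * (d * (p + 1)) := by
    have : p ^ 2 - 1 = 2 * (d * (p + 1)) := by
      rw [Nat.sub_eq_iff_eq_add (by nlinarith), hd]; ring
    rw [this, mul_left_comm, Nat.mul_div_cancel_left _ two_pos]
  rw [he] at hc
  rcases (h P).eq_bot_or_eq_top with hb | ht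
  · exact P.ne_bot_of_dvd_card (hc ▸ dvd_mul_right _ _) hb
  · obtain ⟨k, hk⟩ := P.isPGroup'.exists_card_eq
    rw [ht, card_top, hc] at hk
    have h1 : p + 1 ∣ p ^ k := hk ▸ (dvd_mul_left _ _).mul_left _
    have h4 : Nat.Coprime (p + 1) (p ^ k) := Nat.Coprime.pow_right _ (by simp)
    have := h4.eq_one_of_dvd h1
    omega

theorem ex1 (p : ℕ) [hp : Fact p.Prime] (m : ℕ) (hm : IsPrimePow m) (hm1 : m % p = 1) :
    ∃ (H : Type) (_ : Group H) (_ : Finite H), Nat.card H = p * m ∧ ¬ IsPClosed p H := by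
  obtain ⟨q, k, hq, hk, rfl⟩ := (isPrimePow_nat_iff m).1 hm
  haveI := Fact.mk hq
  let F := GaloisField q k
  have hF : Nat.card F = q ^ k := GaloisField.card q k hk.ne'
  have hd : p ∣ Nat.card Fˣ := by
    rw [Nat.card_units, hF]
    exact (Nat.modEq_iff_dvd' (Nat.one_le_pow _ _ hq.pos)).1
      (by rw [Nat.ModEq, hm1, Nat.mod_eq_of_lt hp.out.one_lt])
  obtain ⟨z, hz⟩ := exists_prime_orderOf_dvd_card' p hd
  let φ : zpowers z →* MulAut (Multiplicative F) :=
    { toFun := fun u => AddEquiv.toMultiplicative (DistribMulAction.toAddEquiv F (u : Fˣ))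
      map_one' := by ext; simp
      map_mul' := fun u v => by ext; simp [mul_smul] }
  refine ⟨Multiplicative F ⋊[φ] zpowers z, inferInstance,
    Finite.of_equiv _ SemidirectProduct.equivProd.symm, ?_, fun h => ?_⟩
  · rw [SemidirectProduct.card, Nat.card_zpowers, hz, mul_comm]
    congr 1
  · let x : Multiplicative F ⋊[φ] zpowers z := SemidirectProduct.inr ⟨z, mem_zpowers z⟩
    have hx : IsPGroup p (zpowers x) := by
      refine IsPGroup.of_card (n := 1) ?_
      rw [Nat.card_zpowers, pow_one, orderOf_injective _ SemidirectProduct.inr_injective,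
        ← hz, Subgroup.orderOf_mk]
    obtain ⟨P, hP⟩ := hx.exists_le_sylow
    let a : Multiplicative F ⋊[φ] zpowers z := SemidirectProduct.inl (Multiplicative.ofAdd 1)
    have h1 : a * x * a⁻¹ * x⁻¹ ∈ (P : Subgroup _) :=
      mul_mem ((h P).conj_mem _ (hP (mem_zpowers x)) a) (inv_mem (hP (mem_zpowers x)))
    have h3 : a * x * a⁻¹ * x⁻¹ = SemidirectProduct.inl (Multiplicative.ofAdd (1 - (z : F))) := by
      ext
      · simp [a, x, φ, sub_eq_add_neg, Units.smul_def]
      · simp [a, x, -ofAdd_sub]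
    obtain ⟨j, hj⟩ := P.isPGroup' ⟨_, h1⟩
    have h4 := congrArg Subtype.val hj
    simp only [SubmonoidClass.coe_pow, h3, OneMemClass.coe_one] at h4
    rw [← map_pow, map_eq_one_iff _ SemidirectProduct.inl_injective, ← ofAdd_nsmul,
      ofAdd_eq_one, nsmul_eq_mul, mul_eq_zero] at h4
    rcases h4 with h4 | h4
    · rw [CharP.cast_eq_zero_iff F q] at h4
      have := (Nat.prime_dvd_prime_iff_eq hq hp.out).1 (hq.dvd_of_dvd_pow h4)
      subst this
      rw [Nat.pow_mod, Nat.mod_self, zero_pow hk.ne', Nat.zero_mod] at hm1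
      omega
    · have : z = 1 := Units.ext (sub_eq_zero.1 h4).symm
      rw [this, orderOf_one] at hz
      exact hp.out.one_lt.ne hz

/-- Let p be an odd prime and let m be the least prime power congruent to 1 modulo p. Then the least order of a finite group whose Sylow p-subgroups are not normal is the smaller of p · m and p(p² − 1)/2: every finite group whose Sylow p-subgroups are not normal has at least that order, and some group of exactly that order has non-normal Sylow p-subgroups. -/
theorem result (p : ℕ) [Fact p.Prime] (hp : p ≠ 2) (m : ℕ) (hm : IsPrimePow m) (hm1 : m % p = 1)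
    (hleast : ∀ k : ℕ, IsPrimePow k → k % p = 1 → m ≤ k) :
    (∀ (H : Type) [Group H] [Finite H], ¬ Cfsg.IsPClosed p H → min (p * m) (p * (p ^ 2 - 1) / 2) ≤ Nat.card H) ∧
      ∃ (H : Type) (_ : Group H) (_ : Finite H), Nat.card H = min (p * m) (p * (p ^ 2 - 1) / 2) ∧ ¬ Cfsg.IsPClosed p H := by
  exact ⟨fun H _ _ hH => low p hp m hleast _ H rfl hH, by
    by_cases hle : p * m ≤ p * (p ^ 2 - 1) / 2
    · rw [min_eq_left hle]; exact ex1 p m hm hm1
    · rw [min_eq_right (le_of_not_ge hle)]
      refine ex2 p hp ?_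
      rintro rfl
      have := hleast 4 ⟨2, 2, Nat.prime_two.prime, by norm_num, by norm_num⟩ (by norm_num)
      omega⟩

end Cfsg.Agent.S3875
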