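import Cfsg.Statements.S3889
import Cfsg.Agent.H1.Fitting

set_option autoImplicit false
open Cfsg

namespace Cfsg.Agent.S3889

open Subgroup

/-- A finite abelian group that is the union of a family of proper subgroups any two of which intersect trivially is elementary abelian: its exponent is a prime. -/
theorem result {G : Type*} [CommGroup G] [Finite G] (𝓑 : Set (Subgroup G)) (hprop : ∀ B ∈ 𝓑, B ≠ ⊤)
    (hcov : ∀ g : G, ∃ B ∈ 𝓑, g ∈ B) (hdisj : ∀ B ∈ 𝓑, ∀ C ∈ 𝓑, B ≠ C → B ⊓ C = ⊥) :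
    (Monoid.exponent G).Prime := by
  obtain ⟨B₀, hB₀, -⟩ := hcov 1
  haveI : Nontrivial G := by
    by_contra h
    rw [not_nontrivial_iff_subsingleton] at h
    exact hprop B₀ hB₀ (Subsingleton.elim _ _)
  obtain ⟨p, hp, hd⟩ := Nat.exists_prime_and_dvd (Finite.one_lt_card (α := G)).ne'
  haveI := Fact.mk hp
  obtain ⟨x, hx⟩ := exists_prime_orderOf_dvd_card' p hd
  have hx1 : x ≠ 1 := by rintro rfl; exact hp.one_lt.ne (by simpa using hx)
  have hxp : x ^ p = 1 := hx ▸ pow_orderOf_eq_one x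
  obtain ⟨B, hB, hxB⟩ := hcov x
  have h1 : ∀ y, y ∉ B → y ^ p = 1 := by
    intro y hy
    obtain ⟨C, hC, hyC⟩ := hcov (x * y)
    obtain ⟨D, hD, hyD⟩ := hcov y
    have hne : C ≠ D := by
      rintro rfl
      have hxC : x ∈ C := (mul_mem_cancel_right hyD).1 hyC
      have : B = C := by
        by_contra h
        exact hx1 (mem_bot.1 (hdisj B hB C hC h ▸ mem_inf.2 ⟨hxB, hxC⟩))
      exact hy (this ▸ hyD)
    rw [← mem_bot, ← hdisj C hC D hD hne]
    refine mem_inf.2 ⟨?_, pow_mem hyD p⟩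
    have := pow_mem hyC p
    rwa [mul_pow, hxp, one_mul] at this
  obtain ⟨z, hz⟩ : ∃ z, z ∉ B := by
    by_contra! h
    exact hprop B hB (eq_top_iff.2 fun z _ => h z)
  have h2 : ∀ y : G, y ^ p = 1 := by
    intro y
    by_cases hy : y ∈ B
    · have := h1 (y * z) fun h => hz ((mul_mem_cancel_left hy).1 h)
      rwa [mul_pow, h1 z hz, mul_one] at this
    · exact h1 y hy
  have : Monoid.exponent G = p := Nat.dvd_antisymm (Monoid.exponent_dvd_of_forall_pow_eq_one h2)
    (hx ▸ Monoid.order_dvd_exponent x)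
  rwa [this]

end Cfsg.Agent.S3889
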