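import Cfsg.Statements.S3890
import Cfsg.Agent.H23.Cover

set_option autoImplicit false
open Cfsg

namespace Cfsg.Agent.S3890

open Subgroup
open scoped Pointwise

/-- A cover of a group is a finite set of proper subgroups whose union is the whole group; it is minimal when no cover has fewer members, and nilpotent when all its members are nilpotent. Let G be a finite group with trivial center admitting a nilpotent minimal cover 𝓐, and let P be an abelian Sylow p-subgroup of G that is not normal. Then either P is elementary abelian of order greater than p, or P is a Sylow p-subgroup of some member A of 𝓐, the normalizer N of P is a maximal subgroup of G, N meets each of its conjugates by elements outside N in a subgroup of order prime to p, and the centralizer of P equals A. -/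
theorem result {G : Type*} [Group G] [Finite G] (hZ : Subgroup.center G = ⊥) (𝓐 : Finset (Subgroup G))
    (h𝓐 : ((∀ A ∈ 𝓐, A ≠ ⊤) ∧ (∀ g : G, ∃ A ∈ 𝓐, g ∈ A)) ∧ (∀ 𝓑 : Finset (Subgroup G), (∀ A ∈ 𝓑, A ≠ ⊤) ∧ (∀ g : G, ∃ A ∈ 𝓑, g ∈ A) → 𝓐.card ≤ 𝓑.card) ∧ (∀ A ∈ 𝓐, Group.IsNilpotent ↥A)) {p : ℕ} [Fact p.Prime] (P : Sylow p G) (hab : IsMulCommutative ↥(P : Subgroup G))
    (hnn : ¬ (P : Subgroup G).Normal) :
    (Cfsg.IsElementaryAbelian p (P : Subgroup G) ∧ p < Nat.card ↥(P : Subgroup G)) ∨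
    (∃ A ∈ 𝓐, (P : Subgroup G) ≤ A ∧ ¬ p ∣ ((P : Subgroup G).subgroupOf A).index ∧
      IsCoatom (Subgroup.normalizer ((P : Subgroup G) : Set G)) ∧
      (∀ g : G, g ∉ Subgroup.normalizer ((P : Subgroup G) : Set G) →
        ¬ p ∣ Nat.card ↥(Subgroup.normalizer ((P : Subgroup G) : Set G) ⊓
          (Subgroup.normalizer ((P : Subgroup G) : Set G)).map (MulAut.conj g).toMonoidHom)) ∧
      Subgroup.centralizer ((P : Subgroup G) : Set G) = A) := by
  by_cases hne : Cfsg.IsElementaryAbelian p (P : Subgroup G) ∧ p < Nat.card ↥(P : Subgroup G)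
  · exact Or.inl hne
  obtain ⟨⟨A, hA, hPA, hC⟩, h2, h3⟩ := H23.NMC.main hZ h𝓐 P hab hne hnn
  refine Or.inr ⟨A, hA, hPA, fun h => P.not_dvd_index (h.trans (relIndex_dvd_index_of_le hPA)),
    H23.isCoatom_normalizer_of hnn h2, fun g hg hd => hg ?_, hC⟩
  obtain ⟨x, hx⟩ := exists_prime_orderOf_dvd_card' p hd
  rw [← orderOf_coe] at hx
  have hxp : IsPGroup p (zpowers (x : G)) := H23.isPGroup_zpowers ⟨1, by rw [hx, pow_one]⟩
  rw [← H23.smul_eq_iff]
  refine (h3 _ x (fun e => ?_) ?_ ?_).symm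
  · rw [e, orderOf_one] at hx
    exact (Fact.out : p.Prime).one_lt.ne hx
  · exact H1.le_sylow_of_le_normalizer' P hxp (zpowers_le.2 x.2.1) (mem_zpowers _)
  · refine H1.le_sylow_of_le_normalizer' (g • P) hxp (zpowers_le.2 ?_) (mem_zpowers _)
    rw [H23.sylow_coe_smul, ← H1.conj_smul_normalizer]
    exact x.2.2

end Cfsg.Agent.S3890
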