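import Cfsg.Statements.S3892
import Cfsg.Agent.H23.Cover2
import Mathlib.GroupTheory.SpecificGroups.Alternating.Simple
import Mathlib.GroupTheory.Perm.ViaEmbedding

set_option autoImplicit false
open Cfsg

namespace Cfsg.Agent.S3892

open Subgroup H23 MulAction Equiv

theorem gen {m : ℕ} (hm : 5 ≤ m) {G : Type*} [Group G] [MulAction G (Fin (m + 1))]
    (f : alternatingGroup (Fin m) →* G)
    (hf : ∀ g x, f g • x = Perm.viaEmbeddingHom (Fin.succEmb m) g.1 x)
    (hne : stabilizer G (0 : Fin (m + 1)) ≠ ⊤) (𝓐 : Finset (Subgroup G)) : ¬ NMC 𝓐 := by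
  intro h
  have key : ∀ g : alternatingGroup (Fin m), (∀ x, g.1 x ≠ x) → ∀ x : Fin (m + 1), f g • x = x ↔ x = 0 := by
    intro g hg x
    rw [hf, Perm.viaEmbeddingHom_apply]
    induction x using Fin.cases with
    | zero => exact iff_of_true (Perm.viaEmbedding_apply_of_notMem _ _ _ (by simp)) rfl
    | succ x =>
      refine iff_of_false (fun e => hg x ?_) (Fin.succ_ne_zero x)
      exact Fin.succ_injective _ ((Perm.viaEmbedding_apply g.1 (Fin.succEmb m) x).symm.trans e)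
  obtain ⟨k, rfl⟩ : ∃ k, m = k + 3 := ⟨m - 3, by omega⟩
  let d : alternatingGroup (Fin (k + 3)) := ⟨finRotate _ * finRotate _, by
    rw [Perm.mem_alternatingGroup, map_mul, Int.units_mul_self]⟩
  have hd : ∀ x, d.1 x ≠ x := fun x e => by
    change finRotate _ (finRotate _ x) = x at e
    rw [finRotate_apply, finRotate_apply, add_assoc, add_eq_left] at e
    exact absurd (congrArg Fin.val e) (by simp [Fin.val_add, Nat.mod_eq_of_lt])
  obtain ⟨A, hA, hmem⟩ := h.eq_of_unique_fixed hne (key d hd)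
  haveI := alternatingGroup.isSimpleGroup (α := Fin (k + 3)) (by simpa using hm)
  have hle : normalClosure {d} ≤ A.comap f := by
    rw [normalClosure, closure_le]
    intro y hy
    obtain ⟨_, rfl, hc⟩ := Group.mem_conjugatesOfSet_iff.1 hy
    obtain ⟨c, rfl⟩ := isConj_iff.1 hc
    refine hmem _ (key _ fun x e => hd (c.1⁻¹ x) ?_)
    exact Perm.eq_inv_iff_eq.2 e
  have htop : A.comap f = ⊤ := by
    rcases (normalClosure_normal (s := {d})).eq_bot_or_eq_top with e | e
    · have : d = 1 := mem_bot.1 (e ▸ subset_normalClosure rfl)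
      exact absurd (by rw [this]; rfl) (hd 0)
    · exact eq_top_iff.2 (e ▸ hle)
  have hinj : Function.Injective f := fun a b e => Subtype.ext
    (Perm.viaEmbeddingHom_injective (Fin.succEmb _) (Equiv.ext fun x => by rw [← hf, ← hf, e]))
  have h1 : Group.IsNilpotent (alternatingGroup (Fin (k + 3))) := by
    have := (H1.isNilpotent_map_iff hinj).1 (H1.isNilpotent_of_le (map_comap_le f A) hA)
    rw [htop] at this
    exact Group.nilpotent_of_mulEquiv topEquiv
  have h2 := (IsSimpleGroup.comm_iff_isSolvable (G := alternatingGroup (Fin (k + 3)))).2 inferInstance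
  have h3 : center (alternatingGroup (Fin (k + 3))) = ⊤ := eq_top_iff.2 fun a _ => mem_center_iff.2 fun b => h2 b a
  rw [alternatingGroup.center_eq_bot (by simp; omega)] at h3
  exact bot_ne_top h3

theorem small {G : Type*} [Group G] [Finite G] (h3 : (Nat.card G).factorization 3 = 1) {c c' : G}
    (hc : c ^ 3 = 1) (hc' : c' ^ 3 = 1) (hne : c * c' ≠ c' * c) {M : Subgroup G} (hM : M ≠ ⊤)
    (h1 : ∀ y, y * c = c * y → y ∈ M) (h2 : ∀ y, y * c' = c' * y → y ∈ M) (𝓐 : Finset (Subgroup G)) :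
    ¬ NMC 𝓐 := by
  intro h
  obtain ⟨P⟩ : Nonempty (Sylow 3 G) := inferInstance
  haveI : IsCyclic P := isCyclic_of_prime_card (p := 3) (by rw [P.card_eq_multiplicity, h3]; rfl)
  have key : ∀ A ∈ 𝓐, ∀ c ∈ A, c ^ 3 = 1 → A ≤ centralizer {c} := fun A hA c hc h3 =>
    le_centralizer_of_nilpotent P inferInstance (h.2.2 A hA) hc fun ⟨x, hx⟩ => ⟨1, Subtype.ext (by
      obtain ⟨k, rfl⟩ := mem_zpowers_iff.1 hx
      change (c ^ k) ^ 3 ^ 1 = 1
      rw [pow_one, ← zpow_natCast, ← zpow_mul, mul_comm, zpow_mul, zpow_natCast, h3, one_zpow])⟩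
  obtain ⟨A, hA, hcA⟩ := h.1.2 c
  obtain ⟨B, hB, hcB⟩ := h.1.2 c'
  obtain rfl := h.eq_of_le hA hB hM (fun y hy => h1 y (H24.mem_cent.1 (key A hA c hcA hc hy)))
    (fun y hy => h2 y (H24.mem_cent.1 (key B hB c' hcB hc' hy)))
  exact hne (H24.mem_cent.1 (key A hA c' hcB hc' hcA))

theorem fact60 : (60 : ℕ).factorization 3 = 1 := by
  rw [show (60 : ℕ) = 3 ^ 1 * 20 by norm_num, Nat.factorization_mul (by norm_num) (by norm_num)]
  simp [Nat.prime_three.factorization, Nat.factorization_eq_zero_of_not_dvd]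

theorem fact24 : (24 : ℕ).factorization 3 = 1 := by
  rw [show (24 : ℕ) = 3 ^ 1 * 8 by norm_num, Nat.factorization_mul (by norm_num) (by norm_num)]
  simp [Nat.prime_three.factorization, Nat.factorization_eq_zero_of_not_dvd]

theorem a5 (𝓐 : Finset (Subgroup (alternatingGroup (Fin 5)))) : ¬ NMC 𝓐 := by
  have h1 : swap 0 1 * swap 1 2 ∈ alternatingGroup (Fin 5) := Perm.mem_alternatingGroup.2 (by decide)
  have h2 : swap 0 1 * swap 1 3 ∈ alternatingGroup (Fin 5) := Perm.mem_alternatingGroup.2 (by decide)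
  refine small (by rw [nat_card_alternatingGroup]; simpa [Nat.factorial] using fact60)
    (c := ⟨_, h1⟩) (c' := ⟨_, h2⟩)
    (Subtype.ext (by simp only [SubmonoidClass.mk_pow]; decide))
    (Subtype.ext (by simp only [SubmonoidClass.mk_pow]; decide))
    (fun e => absurd (congrArg Subtype.val e) (by simp only [MulMemClass.mk_mul_mk]; decide))
    (M := stabilizer _ (4 : Fin 5)) (fun e => ?_) (fun y hy => ?_) (fun y hy => ?_) 𝓐
  · have : (⟨swap 0 1 * swap 1 4, Perm.mem_alternatingGroup.2 (by decide)⟩ : alternatingGroup (Fin 5)) ∈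
      stabilizer _ (4 : Fin 5) := e ▸ mem_top _
    exact absurd this (by decide)
  · have : ∀ y : Perm (Fin 5), Perm.sign y = 1 → y * (swap 0 1 * swap 1 2) = swap 0 1 * swap 1 2 * y →
      y 4 = 4 := by decide +kernel
    exact this y.1 y.2 (congrArg Subtype.val hy)
  · have : ∀ y : Perm (Fin 5), Perm.sign y = 1 → y * (swap 0 1 * swap 1 3) = swap 0 1 * swap 1 3 * y →
      y 4 = 4 := by decide +kernel
    exact this y.1 y.2 (congrArg Subtype.val hy)

theorem s4 (𝓐 : Finset (Subgroup (Perm (Fin 4)))) : ¬ NMC 𝓐 := by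
  refine small (by rw [Nat.card_perm]; simpa [Nat.factorial] using fact24)
    (c := swap 0 1 * swap 1 2) (c' := swap 0 1 * swap 1 3) (by decide) (by decide) (by decide)
    (M := alternatingGroup _) (fun e => ?_) ?_ ?_ 𝓐
  · exact absurd (Perm.mem_alternatingGroup.1 (e ▸ mem_top (swap 0 1))) (by decide)
  · simp only [Perm.mem_alternatingGroup]; decide +kernel
  · simp only [Perm.mem_alternatingGroup]; decide +kernel

theorem s5 (𝓐 : Finset (Subgroup (Perm (Fin 5)))) : ¬ NMC 𝓐 := by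
  intro h
  obtain ⟨A, hA, hmem⟩ := h.eq_of_unique_fixed (ω := (0 : Fin 5)) (fun e => absurd
    (e ▸ mem_top (swap 0 1) : swap 0 1 ∈ stabilizer (Perm (Fin 5)) (0 : Fin 5)) (by decide))
    (u := swap 1 2 * swap 2 3 * swap 3 4) (by decide)
  have h1 := hmem (swap 1 2 * swap 2 3 * swap 3 4) (by decide)
  have h2 := hmem (swap 1 2 * swap 2 4 * swap 4 3) (by decide)
  refine absurd (comm_of_mem_nilpotent hA h1 (A.mul_mem h1 h2) ?_) (by decide)
  refine Nat.Coprime.coprime_dvd_left (k := 4) (orderOf_dvd_of_pow_eq_one (by decide))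
    (Nat.Coprime.coprime_dvd_right (m := 3) (orderOf_dvd_of_pow_eq_one (by decide)) (by decide))

/-- A cover of a group is a finite set of proper subgroups whose union is the whole group; it is minimal when no cover has fewer members, and nilpotent when all its members are nilpotent. The alternating groups of degree at least 5 and the symmetric groups of degree at least 4 have no nilpotent minimal cover. -/
theorem result (n : ℕ) :
    (5 ≤ n → ¬ ∃ 𝓐 : Finset (Subgroup ↥(alternatingGroup (Fin n))), ((∀ A ∈ 𝓐, A ≠ ⊤) ∧ (∀ g : ↥(alternatingGroup (Fin n)), ∃ A ∈ 𝓐, g ∈ A)) ∧ (∀ 𝓑 : Finset (Subgroup ↥(alternatingGroup (Fin n))), (∀ A ∈ 𝓑, A ≠ ⊤) ∧ (∀ g : ↥(alternatingGroup (Fin n)), ∃ A ∈ 𝓑, g ∈ A) → 𝓐.card ≤ 𝓑.card) ∧ (∀ A ∈ 𝓐, Group.IsNilpotent ↥A)) ∧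
    (4 ≤ n → ¬ ∃ 𝓐 : Finset (Subgroup (Equiv.Perm (Fin n))), ((∀ A ∈ 𝓐, A ≠ ⊤) ∧ (∀ g : (Equiv.Perm (Fin n)), ∃ A ∈ 𝓐, g ∈ A)) ∧ (∀ 𝓑 : Finset (Subgroup (Equiv.Perm (Fin n))), (∀ A ∈ 𝓑, A ≠ ⊤) ∧ (∀ g : (Equiv.Perm (Fin n)), ∃ A ∈ 𝓑, g ∈ A) → 𝓐.card ≤ 𝓑.card) ∧ (∀ A ∈ 𝓐, Group.IsNilpotent ↥A)) := by
  have hs : ∀ (m : ℕ) (g : alternatingGroup (Fin m)),
      Perm.viaEmbeddingHom (Fin.succEmb m) g.1 ∈ alternatingGroup (Fin (m + 1)) := fun m g =>
    Perm.mem_alternatingGroup.2 ((@Perm.sign_extendDomain _ _ _ _ _ _ g.1 _ (Classical.decPred _) _).trans g.2)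
  refine ⟨fun hn ⟨𝓐, h⟩ => ?_, fun hn ⟨𝓐, h⟩ => ?_⟩
  · rcases hn.eq_or_lt with rfl | hn
    · exact a5 𝓐 h
    obtain ⟨m, rfl⟩ : ∃ m, n = m + 3 := ⟨n - 3, by omega⟩
    refine gen (m := m + 2) (by omega) (((Perm.viaEmbeddingHom (Fin.succEmb _)).comp
      (alternatingGroup _).subtype).codRestrict _ (hs _)) (fun _ _ => rfl) (fun e => ?_) 𝓐 h
    have : (⟨finRotate _ * finRotate _, by
      rw [Perm.mem_alternatingGroup, map_mul, Int.units_mul_self]⟩ : alternatingGroup (Fin (m + 3))) ∈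
        stabilizer _ (0 : Fin (m + 3)) := e ▸ mem_top _
    change finRotate _ (finRotate _ 0) = 0 at this
    rw [finRotate_apply, finRotate_apply] at this
    exact absurd (congrArg Fin.val this) (by simp [Fin.val_add, Nat.mod_eq_of_lt])
  · rcases hn.eq_or_lt with rfl | hn
    · exact s4 𝓐 h
    rcases (show 5 ≤ n from hn).eq_or_lt with rfl | hn
    · exact s5 𝓐 h
    obtain ⟨m, rfl⟩ : ∃ m, n = m + 2 := ⟨n - 2, by omega⟩
    refine gen (m := m + 1) (by omega) ((Perm.viaEmbeddingHom (Fin.succEmb _)).comp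
      (alternatingGroup _).subtype) (fun _ _ => rfl) (fun e => ?_) 𝓐 h
    have : swap 0 1 ∈ stabilizer (Perm (Fin (m + 2))) (0 : Fin (m + 2)) := e ▸ mem_top _
    simp at this

end Cfsg.Agent.S3892
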