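import Cfsg.Statements.S3893
import Cfsg.Agent.H23.SzCent
import Cfsg.Agent.H23.Cover

set_option autoImplicit false
open Cfsg

namespace Cfsg.Agent.S3893

open H23 H23.Sz Subgroup in
theorem aux {F : Type*} [Field F] [Tits F] [Finite F] [Big F] {G : Type*} [Group G] [Model F G]
    (𝓐 : Finset (Subgroup G)) : ¬ NMC 𝓐 := by
  intro h
  have key : ∀ A ∈ 𝓐, ∀ x ∈ A, x ≠ 1 → ∃ z, z ≠ 1 ∧ z ∈ centralizer {x} ∧ A ≤ centralizer {z} := by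
    intro A hA x hx h1
    haveI := h.2.2 A hA
    haveI : Nontrivial A := ⟨⟨x, hx⟩, 1, fun e => h1 (congrArg Subtype.val e)⟩
    obtain ⟨⟨z, hz⟩, z1⟩ := ne_bot_iff_exists_ne_one.1 (Group.IsNilpotent.center_ne_bot A)
    exact ⟨z, fun e => z1 (Subtype.ext (Subtype.ext e)),
      H24.mem_cent.2 (congrArg Subtype.val (mem_center_iff.1 hz ⟨x, hx⟩)).symm,
      fun y hy => H24.mem_cent.2 (congrArg Subtype.val (mem_center_iff.1 hz ⟨y, hy⟩))⟩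
  obtain ⟨k, hk⟩ := exists_unit_ne_one (F := F)
  obtain ⟨A, hA, h1⟩ := h.1.2 (T (0 : F) 1)
  obtain ⟨A', hA', h2⟩ := h.1.2 (M k)
  obtain ⟨z, z1, z2, z3⟩ := key A hA _ h1 T01_ne_one
  obtain ⟨y, y1, y2, y3⟩ := key A' hA' _ h2 (by simpa [M_eq_one] using hk)
  have h3 : A ≤ Q F G := z3.trans (centralizer_le_Q (centralizer_le_Q (T_mem_Q 0 1) T01_ne_one z2) z1)
  rw [centralizer_M hk] at y2
  obtain ⟨l, rfl⟩ := y2
  rw [centralizer_M (by simpa [M_eq_one] using y1)] at y3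
  have := h.eq_of_le hA hA' (isCoatom_B (F := F)).1 (h3.trans Q_le_B) (y3.trans H_le_B)
  subst this
  obtain ⟨a, b, e⟩ := h3 h2
  exact hk (T_eq_M e.symm).2.2

/-- A cover of a group is a finite set of proper subgroups whose union is the whole group; it is minimal when no cover has fewer members, and nilpotent when all its members are nilpotent. The Suzuki groups Sz(q), q = 2^(2m+1) with m ≥ 1, have no nilpotent minimal cover. -/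
theorem result {F : Type*} [Field F] [Fintype F] (m : ℕ) (hm : 1 ≤ m) (hF : Fintype.card F = 2 ^ (2 * m + 1)) :
    ¬ ∃ 𝓐 : Finset (Subgroup ↥(Cfsg.Lie.Sz F (2 ^ (m + 1)))), ((∀ A ∈ 𝓐, A ≠ ⊤) ∧ (∀ g : ↥(Cfsg.Lie.Sz F (2 ^ (m + 1))), ∃ A ∈ 𝓐, g ∈ A)) ∧ (∀ 𝓑 : Finset (Subgroup ↥(Cfsg.Lie.Sz F (2 ^ (m + 1)))), (∀ A ∈ 𝓑, A ≠ ⊤) ∧ (∀ g : ↥(Cfsg.Lie.Sz F (2 ^ (m + 1))), ∃ A ∈ 𝓑, g ∈ A) → 𝓐.card ≤ 𝓑.card) ∧ (∀ A ∈ 𝓐, Group.IsNilpotent ↥A) := by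
  letI := H23.Sz.titsOfCard hF
  haveI := H23.Sz.big_of_card_eq hm hF
  letI := H23.Sz.lieModel hF
  have hq : Nat.card F = 2 ^ (2 * m + 1) := by rw [Nat.card_eq_fintype_card, hF]
  rintro ⟨𝓐, h⟩
  exact aux (F := F) 𝓐 h

end Cfsg.Agent.S3893
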