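import Cfsg.Statements.S3894
import Cfsg.Agent.H23.Cover2
import Cfsg.Agent.H27.PSL2Max2

set_option autoImplicit false
open Cfsg

namespace Cfsg.Agent.S3894

open Subgroup H23 H27 MulAction Matrix
open scoped Pointwise LinearAlgebra.Projectivization MatrixGroups

section two
variable {F : Type*} [Field F]

theorem sq_of_swap {g : PG F} {x y : P1 F} (hxy : x ≠ y) (h1 : g • x = y) (h2 : g • y = x) :
    g * g = 1 := by
  obtain ⟨c, rfl, rfl⟩ := exists_smul_inf_aff_zero hxy
  rw [← conj_smul_iff] at h1 h2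
  rw [← sq, ← conj_pow_eq_one_iff c, sq]
  generalize c⁻¹ * g * c = k at h1 h2
  induction k using Matrix.ProjGenLinGroup.induction_on with | mk k =>
  rw [smul_inf_eq_aff] at h1
  rw [smul_aff_eq_inf] at h2
  rw [← map_mul, pg_mk_eq_one_iff]
  simp only [gl_mul_apply]
  simp only [mul_zero, zero_add] at h1 h2
  rw [h1, h2]
  exact ⟨by ring, by ring, by ring⟩

theorem fixes_of_comm {y g : PG F} {a b : P1 F} (hab : a ≠ b) (h : ∀ x, y • x = x ↔ x = a ∨ x = b)
    (hy : y * y ≠ 1) (hc : g * y = y * g) : g • a = a := by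
  rcases pair_cases_of_comm hab h hc with e | e
  · exact e.1
  have h1 := sq_of_swap hab e.1 e.2
  have h2 := sq_of_swap (g := g * y) hab (by rw [mul_smul, (h a).2 (Or.inl rfl), e.1])
    (by rw [mul_smul, (h b).2 (Or.inr rfl), e.2])
  rw [mul_assoc, ← mul_assoc y g y, ← hc, ← mul_assoc, ← mul_assoc, h1, one_mul] at h2
  exact absurd h2 hy

variable [Fintype F]

theorem exists_fixing (x : P1 F) {r : ℕ} (hr : r.Prime)
    (h : Nat.gcd 2 (Fintype.card F - 1) * r ∣ Fintype.card F * (Fintype.card F - 1)) :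
    ∃ y ∈ PS F, y • x = x ∧ orderOf y = r := by
  haveI := Fact.mk hr
  rw [← card_stabilizer_PS x] at h
  obtain ⟨y, hy⟩ := exists_prime_orderOf_dvd_card' r
    (Nat.dvd_of_mul_dvd_mul_left (Nat.gcd_pos_of_pos_left _ two_pos) h)
  exact ⟨y, y.2.2, y.2.1, by rw [orderOf_coe, hy]⟩

theorem fpf_torus (p : ℕ) [Fact p.Prime] [CharP F p] (h4 : Fintype.card F % 4 = 1) {g : PG F}
    (hg : ∀ x : P1 F, g • x ≠ x) : ∃ a : PG F, g ∈ zpowers a ∧ Odd (orderOf (a ^ 2)) ∧
      ∀ x : P1 F, (a ^ 2) • x ≠ x := by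
  have h5 : 5 ≤ Fintype.card F := by have := Fintype.one_lt_card (α := F); omega
  have hgp : g ^ p ≠ 1 := fun e => by
    obtain ⟨x, hx⟩ := exists_fixed_of_pow_p p e
    exact hg x hx
  obtain ⟨a, s, hT, hga⟩ := exists_isTorus p hgp
  have ha2 : a * a ≠ 1 := fun e => by
    have := Nat.le_of_dvd two_pos (orderOf_dvd_of_pow_eq_one (sq a ▸ e))
    rcases hT.ord with h | h <;> omega
  have hfree : ∀ c ∈ zpowers a, ∀ x : P1 F, c • x = x → c = 1 := fun c hc x hx => by
    by_contra h1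
    by_cases hp : c ^ p = 1
    · have := (fix_unip_of_fixed p h1 hp hx (g • x)).1 (by
        rw [← mul_smul, (commute_of_mem_zpowers hc hga).eq, mul_smul, hx])
      exact hg x this
    obtain ⟨y, hxy, hf⟩ := fix_ss_of_fixed p hp hx
    rcases pair_cases_of_comm hxy hf (commute_of_mem_zpowers (mem_zpowers a) hc).eq with e | e
    · exact hg x (zpowers_le_of_mem (H := stabilizer (PG F) x) e.1 hga)
    · exact ha2 (sq_of_swap hxy e.1 e.2)
  have hd : orderOf a ∣ Fintype.card F + 1 := by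
    rw [← index_stabilizer_PG (inf F), index_stabilizer,
      show orbit (PG F) (inf F) = Set.univ from Set.eq_univ_of_forall exists_smul_inf]
    refine dvd_ncard_of_index_stabilizer (G := zpowers a) Set.univ (fun _ _ _ => trivial) fun x _ => ?_
    rw [(eq_bot_iff_forall _).2 fun c (hc : c ∈ stabilizer (zpowers a) x) =>
      Subtype.ext (hfree c c.2 x hc), index_bot, Nat.card_zpowers]
  have ho : orderOf a = Fintype.card F + 1 := by
    rcases hT.ord with h | h
    · rw [h, show Fintype.card F + 1 = Fintype.card F - 1 + 2 by omega, Nat.dvd_add_right dvd_rfl] at hd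
      have := Nat.le_of_dvd two_pos hd
      omega
    · exact h
  have h2 : orderOf (a ^ 2) = (Fintype.card F + 1) / 2 := by
    rw [orderOf_pow_of_dvd two_ne_zero (by rw [ho]; omega), ho]
  refine ⟨a, hga, by rw [h2, Nat.odd_iff]; omega, fun x hx => ha2 ?_⟩
  rw [← sq]
  exact hfree _ (pow_mem (mem_zpowers a) 2) x hx

theorem aux2 (h4 : 4 ≤ Fintype.card F) (G : Subgroup (PG F)) (hG : PS F ≤ G)
    (𝓐 : Finset (Subgroup G)) : ¬ NMC 𝓐 := by
  intro h
  obtain ⟨p, hchar⟩ := CharP.exists F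
  have hp : p.Prime := CharP.char_is_prime F p
  haveI := Fact.mk hp
  have hpq := char_dvd_card (F := F) p
  have hcop : ∀ r, r ∣ Fintype.card F - 1 → p.Coprime r := fun r hr =>
    Nat.Coprime.coprime_dvd_right hr (Nat.Coprime.coprime_dvd_left hpq
      ((Nat.coprime_self_sub_right (by omega)).2 (Nat.coprime_one_right _)))
  have hu : ∀ x : P1 F, ∃ u : G, orderOf u = p ∧ ∀ z, u • z = z ↔ z = x := fun x => by
    obtain ⟨u, hu, hx, ho⟩ := exists_fixing x hp
      (by rw [mul_comm]; exact mul_dvd_mul hpq (Nat.gcd_dvd_right _ _))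
    exact ⟨⟨u, hG hu⟩, by rw [← orderOf_coe, ho], fix_unip_of_fixed p
      (by rintro rfl; exact hp.one_lt.ne (by simpa using ho)) (ho ▸ pow_orderOf_eq_one u) hx⟩
  choose u ou hu using hu
  have hne : ∀ x : P1 F, stabilizer G x ≠ ⊤ := fun x e => by
    obtain ⟨y, hy⟩ : ∃ y : P1 F, y ≠ x := by
      by_cases e : x = inf F
      exacts [⟨aff 0, e ▸ (inf_ne_aff 0).symm⟩, ⟨_, Ne.symm e⟩]
    exact hy ((hu y x).1 (e ▸ mem_top (u y) : u y ∈ stabilizer G x)).symm
  have hy : ∀ r : ℕ, r.Prime → Nat.gcd 2 (Fintype.card F - 1) * r ∣ Fintype.card F - 1 →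
      ∃ (y : G) (b : P1 F), orderOf y = r ∧ inf F ≠ b ∧ (∀ z, y • z = z ↔ z = inf F ∨ z = b) ∧
        ∀ A : Subgroup G, Group.IsNilpotent A → y ∈ A → ∀ x, u x ∉ A := fun r hr hd => by
    obtain ⟨y, hy, hx, ho⟩ := exists_fixing (inf F) hr (hd.mul_left _)
    have hc := hcop r ((dvd_mul_left _ _).trans hd)
    obtain ⟨b, hb, hf⟩ := fix_ss_of_fixed p (h := y) (fun e => hr.one_lt.ne'
      (Nat.Coprime.eq_one_of_dvd hc.symm (ho ▸ orderOf_dvd_of_pow_eq_one e))) hx
    have ho' : orderOf (⟨y, hG hy⟩ : G) = r := by rw [← orderOf_coe, ho]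
    refine ⟨⟨y, hG hy⟩, b, ho', hb, hf, fun A hA hyA x hx => ?_⟩
    have h1 := comm_of_mem_nilpotent hA hx hyA (by rwa [ou, ho'])
    have h2 : y • x = x := le_stabilizer_of_nilpotent hA hx (hu x) hyA
    rcases pair_cases_of_comm (y := (⟨y, hG hy⟩ : G)) hb hf h1 with e | e
    · exact hb (((hu x _).1 e.1).trans ((hu x _).1 e.2).symm)
    · rcases (hf x).1 h2 with rfl | rfl
      · exact hb (((hu _ _).2 rfl).symm.trans e.1)
      · exact hb (e.2.symm.trans ((hu _ _).2 rfl))
  by_cases hq : Fintype.card F % 4 = 1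
  · obtain ⟨y, b, oy, hb, hf, hn⟩ := hy 2 Nat.prime_two
      (by rw [gcd_two_of_odd (Nat.odd_iff.2 (by omega))]; omega)
    obtain ⟨A', hA', hyA⟩ := h.1.2 y
    refine h.false_of_replace u hu hne (fun A => ∃ g ∈ A, Odd (orderOf g) ∧ ∀ x : P1 F, g • x ≠ x)
      (fun g => ?_) (fun A ⟨g, hg, _, hg'⟩ ω hle => hg' ω (hle hg)) hA' ?_ (hn A' (h.2.2 _ hA') hyA)
    · by_cases hfix : ∃ x : P1 F, g • x = x
      · exact Or.inl hfix
      push Not at hfix
      obtain ⟨a, hga, ha1, ha2⟩ := fpf_torus p hq (g := g) hfix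
      obtain ⟨c, hc⟩ := exists_zpowers_eq (C := (zpowers a).subgroupOf G)
        (isCyclic_of_injective ((G.subtype.comp ((zpowers a).subgroupOf G).subtype).codRestrict
          (zpowers a) fun x => x.2) fun x y e => Subtype.ext (Subtype.ext (congrArg (fun t : zpowers a => t.1) e)))
      obtain ⟨A, hA, hcA⟩ := h.1.2 c
      have hle : (zpowers a).subgroupOf G ≤ A := hc ▸ zpowers_le_of_mem hcA
      exact Or.inr ⟨A, hA, ⟨⟨a ^ 2, hG (sq_mem_PS a)⟩, hle (pow_mem (mem_zpowers a) 2),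
        by rwa [← orderOf_coe], ha2⟩, hle hga⟩
    · rintro ⟨g, hg, hgo, hg'⟩
      have h1 := comm_of_mem_nilpotent (h.2.2 _ hA') hg hyA (by rw [oy]; exact Nat.coprime_two_right.2 hgo)
      exact hg' _ (smul_eq_of_odd hgo (sq_smul_of_pair (pair_cases_of_comm hb hf h1)))
  · obtain ⟨r, hr, hr2, hd⟩ : ∃ r : ℕ, r.Prime ∧ Odd r ∧
        Nat.gcd 2 (Fintype.card F - 1) * r ∣ Fintype.card F - 1 := by
      rcases gcd_cases (F := F) with ⟨h1, h2⟩ | ⟨h1, h2⟩ <;> rw [h2]
      · rw [Nat.odd_iff] at h1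
        obtain ⟨r, hr, hd⟩ := Nat.exists_prime_and_dvd (show (Fintype.card F - 1) / 2 ≠ 1 by omega)
        refine ⟨r, hr, Odd.of_dvd_nat (Nat.odd_iff.2 (by omega)) hd, ?_⟩
        rw [show Fintype.card F - 1 = 2 * ((Fintype.card F - 1) / 2) by omega]
        exact mul_dvd_mul_left 2 hd
      · rw [Nat.even_iff] at h1
        obtain ⟨r, hr, hd⟩ := Nat.exists_prime_and_dvd (show Fintype.card F - 1 ≠ 1 by omega)
        exact ⟨r, hr, Odd.of_dvd_nat (Nat.odd_iff.2 (by omega)) hd, by rwa [one_mul]⟩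
    obtain ⟨y, b, oy, hb, hf, hn⟩ := hy r hr hd
    obtain ⟨A', hA', hyA⟩ := h.1.2 y
    obtain ⟨A, hA, huA⟩ := h.1.2 (u (inf F))
    have hy2 : (y : PG F) * y ≠ 1 := fun e => by
      have : r ∣ 2 := oy ▸ orderOf_dvd_of_pow_eq_one (Subtype.ext (by rw [sq]; exact e))
      rw [(Nat.prime_dvd_prime_iff_eq hr Nat.prime_two).1 this] at hr2
      exact absurd hr2 (by decide)
    have := h.eq_of_le hA hA' (hne (inf F)) (le_stabilizer_of_nilpotent (h.2.2 _ hA) huA (hu _))
      (le_stabilizer_of_nilpotent_pair (h.2.2 _ hA') hyA (oy ▸ hr2) hb hf fun g hg =>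
        fixes_of_comm hb hf hy2 (congrArg Subtype.val hg))
    exact hn A' (h.2.2 _ hA') hyA _ (this ▸ huA)

end two

section three
variable {F : Type*} [Field F] {m : ℕ}

/-- inverse transpose -/
def tau : GL (Fin m) F →* GL (Fin m) F where
  toFun g := ⟨(g⁻¹ : GL (Fin m) F).1ᵀ, g.1ᵀ, by rw [← transpose_mul]; simp, by rw [← transpose_mul]; simp⟩
  map_one' := Units.ext (by simp)
  map_mul' g h := Units.ext (by simp [Matrix.mul_inv_rev])

/-- the regular unipotent element -/
def uM (F : Type*) [Field F] (m : ℕ) : Matrix (Fin (m + 1)) (Fin (m + 1)) F :=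
  1 + Matrix.of fun i j => if j.1 = i.1 + 1 then 1 else 0

theorem det_uM : (uM F m).det = 1 := by
  rw [Matrix.det_of_isUpperTriangular]
  · simp [uM]
  · intro i j hij
    have h1 : j.1 < i.1 := hij
    simp only [uM, Matrix.add_apply, Matrix.of_apply]
    rw [Matrix.one_apply_ne (show i ≠ j from fun e => by omega), if_neg (by omega), add_zero]

theorem uM_castSucc (v : Fin (m + 1) → F) (i : Fin m) :
    (uM F m *ᵥ v) i.castSucc = v i.castSucc + v i.succ := by
  rw [uM, Matrix.add_mulVec, Matrix.one_mulVec, Pi.add_apply]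
  congr 1
  simp only [Matrix.mulVec, dotProduct, Matrix.of_apply]
  rw [Finset.sum_eq_single i.succ] <;> simp [Fin.ext_iff]
  intro b hb hb'
  exact absurd hb' hb

theorem uM_last (v : Fin (m + 1) → F) : (uM F m *ᵥ v) (Fin.last m) = v (Fin.last m) := by
  rw [uM, Matrix.add_mulVec, Matrix.one_mulVec, Pi.add_apply, add_eq_left]
  simp only [Matrix.mulVec, dotProduct, Matrix.of_apply]
  refine Finset.sum_eq_zero fun j _ => ?_
  rw [if_neg (by have := j.2; simp; omega), zero_mul]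

theorem uMT_succ (v : Fin (m + 1) → F) (i : Fin m) :
    ((uM F m)ᵀ *ᵥ v) i.succ = v i.succ + v i.castSucc := by
  rw [uM, transpose_add, transpose_one, Matrix.add_mulVec, Matrix.one_mulVec, Pi.add_apply]
  congr 1
  simp only [Matrix.mulVec, dotProduct, Matrix.of_apply, transpose_apply]
  rw [Finset.sum_eq_single i.castSucc] <;> simp [Fin.ext_iff]
  intro b hb hb'
  exact absurd hb'.symm hb

theorem uMT_zero (v : Fin (m + 1) → F) : ((uM F m)ᵀ *ᵥ v) 0 = v 0 := by
  rw [uM, transpose_add, transpose_one, Matrix.add_mulVec, Matrix.one_mulVec, Pi.add_apply, add_eq_left]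
  simp [Matrix.mulVec, dotProduct]

/-- a coordinate point -/
def pt (F : Type*) [Field F] (k : Fin m) : ℙ F (Fin m → F) :=
  Projectivization.mk F (Pi.single k 1) (by simp)

theorem gl_fix_iff (g : GL (Fin m) F) {v : Fin m → F} (hv : v ≠ 0) :
    g • Projectivization.mk F v hv = Projectivization.mk F v hv ↔ ∃ c : F, c • v = g.1 *ᵥ v := by
  rw [Projectivization.smul_mk, Projectivization.mk_eq_mk_iff']
  rfl

theorem fix_unique {g : GL (Fin m) F} {k : Fin m}
    (h1 : g.1 *ᵥ Pi.single k 1 = Pi.single k 1)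
    (h2 : ∀ (v : Fin m → F) (c : F), v ≠ 0 → c • v = g.1 *ᵥ v → ∀ i, i ≠ k → v i = 0)
    (x : ℙ F (Fin m → F)) :
    g • x = x ↔ x = pt F k := by
  constructor
  · induction x using Projectivization.ind with | h v hv =>
    rw [gl_fix_iff, pt, Projectivization.mk_eq_mk_iff']
    rintro ⟨c, hc⟩
    refine ⟨v k, funext fun i => ?_⟩
    by_cases hi : i = k
    · simp [hi]
    · simp [hi, h2 v c hv hc i hi]
  · rintro rfl
    exact (gl_fix_iff _ _).2 ⟨1, by rw [h1, one_smul]⟩

/-- the regular unipotent element of `SL` -/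
def uS (F : Type*) [Field F] (m : ℕ) : SL(m + 1, F) := ⟨uM F m, det_uM⟩

theorem fix_uS (x : ℙ F (Fin (m + 1) → F)) : (SpecialLinearGroup.toGL (uS F m) : GL _ F) • x = x ↔
    x = pt F 0 := by
  refine fix_unique (funext fun i => ?_) (fun v c hv hc => ?_) x
  · change (uM F m *ᵥ _) i = _
    induction i using Fin.lastCases with
    | last => rw [uM_last]
    | cast i => rw [uM_castSucc]; simp
  change c • v = uM F m *ᵥ v at hc
  by_cases h1 : c = 1
  · intro i hi
    obtain ⟨i, rfl⟩ := Fin.exists_succ_eq.2 hi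
    have := congrFun hc i.castSucc
    rw [uM_castSucc, h1, one_smul] at this
    exact left_eq_add.1 this
  · refine (hv (funext fun i => ?_)).elim
    have key : ∀ i, c * v i = v i → v i = 0 := fun i h => by
      by_contra h0
      exact h1 (mul_left_eq_self₀.1 h |>.resolve_right h0)
    induction i using Fin.reverseInduction with
    | last => exact key _ (by have := congrFun hc (Fin.last m); rwa [uM_last] at this)
    | cast i ih =>
      have := congrFun hc i.castSucc
      rw [uM_castSucc, ih] at this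
      exact key _ (by simpa using this)

theorem fix_uST (x : ℙ F (Fin (m + 1) → F)) : tau (SpecialLinearGroup.toGL (uS F m) : GL _ F)⁻¹ • x = x ↔
    x = pt F (Fin.last m) := by
  refine fix_unique (funext fun i => ?_) (fun v c hv hc => ?_) x
  · change ((uM F m)ᵀ *ᵥ _) i = _
    induction i using Fin.cases with
    | zero => rw [uMT_zero]
    | succ i => rw [uMT_succ]; simp [Pi.single_eq_of_ne (Fin.castSucc_ne_last i)]
  change c • v = (uM F m)ᵀ *ᵥ v at hc
  by_cases h1 : c = 1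
  · intro i hi
    obtain ⟨i, rfl⟩ := Fin.exists_castSucc_eq.2 hi
    have := congrFun hc i.succ
    rw [uMT_succ, h1, one_smul] at this
    exact left_eq_add.1 this
  · refine (hv (funext fun i => ?_)).elim
    have key : ∀ i, c * v i = v i → v i = 0 := fun i h => by
      by_contra h0
      exact h1 (mul_left_eq_self₀.1 h |>.resolve_right h0)
    induction i using Fin.induction with
    | zero => exact key _ (by have := congrFun hc 0; rwa [uMT_zero] at this)
    | succ i ih =>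
      have := congrFun hc i.succ
      rw [uMT_succ, ih] at this
      exact key _ (by simpa using this)

/-- a transvection -/
def tS (F : Type*) [Field F] {i j : Fin m} (h : i ≠ j) : SL(m, F) :=
  ⟨transvection i j 1, det_transvection_of_ne i j h 1⟩

theorem aux3 [Finite F] (G : Subgroup (ProjGenLinGroup (Fin (m + 3)) F))
    (hG : ∀ g : SL(m + 3, F), ProjGenLinGroup.mk (SpecialLinearGroup.toGL g) ∈ G)
    (𝓐 : Finset (Subgroup G)) : ¬ NMC 𝓐 := by
  intro h
  set u : GL (Fin (m + 3)) F := SpecialLinearGroup.toGL (uS F (m + 2))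
  have h0 : Fin.last (m + 2) ≠ 0 := by simp
  have h1 : Fin.last (m + 2) ≠ 1 := by simp [Fin.ext_iff]
  set t : GL (Fin (m + 3)) F := SpecialLinearGroup.toGL (tS F h1)
  have hs : ∀ (g : SL(m + 3, F)) (x : ℙ F (Fin (m + 3) → F)), (⟨_, hG g⟩ : G) • x =
      (SpecialLinearGroup.toGL g : GL _ F) • x := fun g x => by
    induction x using Projectivization.ind with | h v hv =>
    exact (Projectivization.PGL.mk_smul_mk _ hv).trans (Projectivization.smul_mk _ _).symm
  have hne : stabilizer G (pt F (0 : Fin (m + 3))) ≠ ⊤ :=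
    fun e => by
      have : (SpecialLinearGroup.toGL (tS F h0) : GL _ F) • pt F 0 = pt F 0 := (hs _ _).symm.trans
        (e ▸ mem_top _ : (⟨_, hG (tS F h0)⟩ : G) ∈ stabilizer G (pt F (0 : Fin (m + 3))))
      obtain ⟨c, hc⟩ := (gl_fix_iff _ _).1 this
      have := congrFun hc (Fin.last _)
      change _ = (transvection _ _ (1 : F) *ᵥ _) _ at this
      simp [transvection, Matrix.add_mulVec, h0, Matrix.single_mulVec] at this
  obtain ⟨A, hA, hmem⟩ := h.eq_of_unique_fixed hne (u := ⟨_, hG (uS F (m + 2))⟩) fun x => by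
    rw [hs]; exact fix_uS _
  have ht : t • pt F (0 : Fin (m + 3)) = pt F (0 : Fin (m + 3)) := by
    refine (gl_fix_iff _ _).2 ⟨1, ?_⟩
    change _ = transvection _ _ (1 : F) *ᵥ _
    rw [transvection, Matrix.add_mulVec, Matrix.single_mulVec, Matrix.one_mulVec]
    simp
  have hu1 := hmem ⟨_, hG (uS F (m + 2))⟩ fun x => by rw [hs]; exact fix_uS _
  have e : (SpecialLinearGroup.toGL (tS F h1 * uS F (m + 2) * (tS F h1)⁻¹) : GL _ F) = t * u * t⁻¹ := by
    rw [map_mul, map_mul, map_inv]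
  have hu2 := hmem ⟨_, hG (tS F h1 * uS F (m + 2) * (tS F h1)⁻¹)⟩ fun x => by
    rw [hs, e, mul_smul, mul_smul, smul_eq_iff_eq_inv_smul, fix_uS, inv_smul_eq_iff, ht]
  let B : Subgroup (GL (Fin (m + 3)) F) := (A.map G.subtype).comap ProjGenLinGroup.mk
  have hB : Group.IsNilpotent B := H1.isNilpotent_of_map_of_ker_le_centralizer ProjGenLinGroup.mk
    (H1.isNilpotent_of_le (map_comap_le _ _) (H1.isNilpotent_map hA _))
    (fun g hg y _ => mem_center_iff.1 (ProjGenLinGroup.mk_eq_one.1 hg.1) y)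
  have k1 : u ∈ B := ⟨_, hu1, rfl⟩
  have k2 : t * u * t⁻¹ ∈ B := ⟨_, hu2, congrArg ProjGenLinGroup.mk e⟩
  have k3 := le_stabilizer_of_nilpotent (H1.isNilpotent_map hB tau) (mem_map_of_mem tau (inv_mem k1))
    fix_uST (mem_map_of_mem tau (inv_mem k2))
  rw [mem_stabilizer_iff, conj_inv, map_mul, map_mul, mul_smul, mul_smul, smul_eq_iff_eq_inv_smul,
    ← map_inv tau t, fix_uST] at k3
  obtain ⟨c, hc⟩ := (gl_fix_iff _ _).1 k3
  have := congrFun hc 1
  change _ = ((transvection _ _ (1 : F))ᵀ *ᵥ _) _ at this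
  simp [transvection, Matrix.add_mulVec, h1.symm, Matrix.single_mulVec] at this

end three

/-- A cover of a group is a finite set of proper subgroups whose union is the whole group; it is minimal when no cover has fewer members, and nilpotent when all its members are nilpotent. Let F be a finite field with q elements and n ≥ 3, or n = 2 and q ≥ 4. Then no subgroup of PGL_n(F) = GL_n(F)/Z(GL_n(F)) containing the image of SL_n(F) has a nilpotent minimal cover. -/
theorem result {F : Type*} [Field F] [Fintype F] (n : ℕ) (hn : 3 ≤ n ∨ (n = 2 ∧ 4 ≤ Fintype.card F))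
    (G : Subgroup (GL (Fin n) F ⧸ Subgroup.center (GL (Fin n) F)))
    (hG : ((Matrix.SpecialLinearGroup.toGL : Matrix.SpecialLinearGroup (Fin n) F →* GL (Fin n) F).range).map
      (QuotientGroup.mk' (Subgroup.center (GL (Fin n) F))) ≤ G) :
    ¬ ∃ 𝓐 : Finset (Subgroup ↥G), ((∀ A ∈ 𝓐, A ≠ ⊤) ∧ (∀ g : ↥G, ∃ A ∈ 𝓐, g ∈ A)) ∧ (∀ 𝓑 : Finset (Subgroup ↥G), (∀ A ∈ 𝓑, A ≠ ⊤) ∧ (∀ g : ↥G, ∃ A ∈ 𝓑, g ∈ A) → 𝓐.card ≤ 𝓑.card) ∧ (∀ A ∈ 𝓐, Group.IsNilpotent ↥A) := by
  rintro ⟨𝓐, h⟩
  rcases hn with hn | ⟨rfl, hq⟩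
  · obtain ⟨m, rfl⟩ : ∃ m, n = m + 3 := ⟨n - 3, by omega⟩
    exact aux3 (m := m) G (fun g => hG ⟨_, ⟨g, rfl⟩, rfl⟩) 𝓐 h
  · exact aux2 hq G (by rintro _ ⟨g, rfl⟩; exact hG ⟨_, ⟨g, rfl⟩, rfl⟩) 𝓐 h

end Cfsg.Agent.S3894
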