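import Cfsg.Statements.S3903
import Cfsg.Agent.S4039
import Cfsg.Agent.S4040
import Cfsg.Agent.H24.ClassSize
import Cfsg.Agent.H23.Syl
import Cfsg.Agent.H1.Fitting

set_option autoImplicit false
open Cfsg

namespace Cfsg.Agent.S3903

open Subgroup H24
open scoped Pointwise

theorem cent_pgroup {G : Type*} [Group G] [Finite G] (N : Subgroup G)
    (h : ∀ x : G, x ∉ N → IsPrimePow (orderOf x)) {x : G} (hx : x ∉ N) {p : ℕ} (hp : p.Prime)
    (hpx : p ∣ orderOf x) : IsPGroup p (centralizer ({x} : Set G)) := by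
  haveI := Fact.mk hp
  obtain ⟨r, a, hr, ha, hra⟩ := (isPrimePow_nat_iff _).1 (h x hx)
  obtain rfl : p = r := (Nat.prime_dvd_prime_iff_eq hp hr).1 (hp.dvd_of_dvd_pow (hra ▸ hpx))
  rw [IsPGroup.iff_card]
  refine ⟨_, Nat.eq_prime_pow_of_unique_prime_dvd Nat.card_pos.ne' fun {q} hq hqd => ?_⟩
  by_contra hqp
  haveI := Fact.mk hq
  obtain ⟨y, hy⟩ := exists_prime_orderOf_dvd_card' q hqd
  have hy' : orderOf (y : G) = q := by rw [orderOf_coe, hy]
  have hc : Commute x y := (mem_cent_iff_commute.1 y.2).symm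
  have hcop : (orderOf x).Coprime (orderOf (y : G)) := by
    rw [hy', ← hra]
    exact Nat.Coprime.pow_left _ ((Nat.coprime_primes hp hq).2 (Ne.symm hqp))
  have h1 : x * y ∉ N := fun hm => hx ((zpowers_le_of_mem hm) (mem_zpowers_mul_left hc hcop))
  obtain ⟨s, b, hs, hb, hsb⟩ := (isPrimePow_nat_iff _).1 (h _ h1)
  rw [hc.orderOf_mul_eq_mul_orderOf_of_coprime hcop, hy'] at hsb
  have e1 := (Nat.prime_dvd_prime_iff_eq hp hs).1 (hp.dvd_of_dvd_pow (hsb ▸ hpx.mul_right q))
  have e2 := (Nat.prime_dvd_prime_iff_eq hq hs).1 (hq.dvd_of_dvd_pow (hsb ▸ dvd_mul_left q _))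
  exact hqp (e2.trans e1.symm)

theorem card_diff {G : Type*} [Group G] [Finite G] (S N : Subgroup G) :
    Nat.card {x : G // x ∈ S ∧ x ∉ N} + Nat.card (S ⊓ N : Subgroup G) = Nat.card S := by
  classical
  have e1 : Nat.card {x : G // x ∈ S ∧ x ∉ N} = ((S : Set G) \ N).ncard := rfl
  have e2 : Nat.card (S ⊓ N : Subgroup G) = ((S : Set G) ∩ N).ncard := rfl
  have e3 : Nat.card S = (S : Set G).ncard := rfl
  rw [e1, e2, e3, add_comm, Set.ncard_inter_add_ncard_sdiff_eq_ncard]

/-- Let N be a proper normal subgroup of the finite group G such that every element x of G outside N has prime power order and has centralizer C_G(x) a maximal subgroup of G. Then N is solvable. -/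
theorem result {G : Type*} [Group G] [Finite G] (N : Subgroup G) [N.Normal] (hN : N ≠ ⊤)
    (h : ∀ x : G, x ∉ N → IsPrimePow (orderOf x) ∧ IsCoatom (Subgroup.centralizer ({x} : Set G))) : Group.IsSolvable ↥N := by
  by_contra hns
  have hG : ¬ Group.IsSolvable G := fun h => hns inferInstance
  have h2 : ∀ x : G, x ∉ N → IsPGroup 2 (centralizer ({x} : Set G)) := fun x hx => by
    obtain ⟨p, a, hp, ha, hpa⟩ := (isPrimePow_nat_iff _).1 (h x hx).1
    have hP := cent_pgroup N (fun x hx => (h x hx).1) hx hp (hpa ▸ dvd_pow_self p ha.ne')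
    haveI := Fact.mk hp
    rcases hp.eq_two_or_odd' with rfl | ho
    · exact hP
    · obtain ⟨n, hn⟩ := IsPGroup.iff_card.1 hP
      exact absurd (Cfsg.Agent.S4040.result _ (h x hx).2 hP.isNilpotent (hn ▸ ho.pow)) hG
  have hsyl : ∀ x : G, x ∉ N → ∃ P : Sylow 2 G, (P : Subgroup G) = centralizer {x} := fun x hx => by
    obtain ⟨P, hP⟩ := (h2 x hx).exists_le_sylow
    refine ⟨P, ?_⟩
    by_contra hne
    have := (h x hx).2.2 _ (lt_of_le_of_ne hP (Ne.symm hne))
    have h3 : IsPGroup 2 G := (this ▸ P.isPGroup').of_equiv topEquiv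
    haveI := h3.isNilpotent
    exact hG inferInstance
  obtain ⟨x, hx⟩ : ∃ x, x ∉ N := by
    by_contra hc
    push Not at hc
    exact hN (eq_top_iff.2 fun x _ => hc x)
  obtain ⟨P, hP⟩ := hsyl x hx
  set S : Subgroup G := (P : Subgroup G) with hS
  have hco : IsCoatom S := hP ▸ (h x hx).2
  have hsup : S ⊔ N = ⊤ := by
    by_contra hne
    have : S ⊔ N = S := by
      by_contra h3
      exact hne (hco.2 _ (lt_of_le_of_ne le_sup_left (Ne.symm h3)))
    have hle : N ≤ S := this ▸ le_sup_right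
    haveI := (P.isPGroup'.to_le hle).isNilpotent
    exact hns inferInstance
  let Z : Subgroup G := S ⊓ centralizer (S : Set G)
  have hcount : Nat.card {y : G // y ∈ (⊤ : Subgroup G) ∧ y ∉ N} ≤
      Nat.card (G ⧸ S) * Nat.card {y : G // y ∈ Z ∧ y ∉ N} := by
    rw [← Nat.card_prod]
    refine Nat.card_le_card_of_surjective (fun a => ⟨a.1.out * a.2.1 * a.1.out⁻¹, mem_top _,
      fun hm => a.2.2.2 (by simpa [mul_assoc] using (‹N.Normal›.conj_mem _ hm a.1.out⁻¹))⟩) ?_
    rintro ⟨y, -, hy⟩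
    obtain ⟨Q, hQ⟩ := hsyl y hy
    obtain ⟨g, rfl⟩ := MulAction.exists_smul_eq G P Q
    obtain ⟨s, hs⟩ := QuotientGroup.mk_out_eq_mul S g
    have hyS : g⁻¹ * y * g ∈ S := H23.mem_sylow_smul.1 (hQ ▸ self_mem_cent y)
    have hyC : g⁻¹ * y * g ∈ centralizer (S : Set G) := fun t ht => by
      have : g * t * g⁻¹ ∈ ((g • P : Sylow 2 G) : Subgroup G) :=
        H23.mem_sylow_smul.2 (by simpa [mul_assoc] using ht)
      rw [hQ, mem_cent] at this
      calc t * (g⁻¹ * y * g) = g⁻¹ * (g * t * g⁻¹ * y) * g := by group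
        _ = g⁻¹ * y * g * t := by rw [this]; group
    refine ⟨⟨(g : G ⧸ S), ⟨g⁻¹ * y * g, ⟨hyS, hyC⟩, fun hm => hy ?_⟩⟩, Subtype.ext ?_⟩
    · simpa [mul_assoc] using ‹N.Normal›.conj_mem _ hm g
    · have := hyC s s.2
      change (g : G ⧸ S).out * (g⁻¹ * y * g) * ((g : G ⧸ S).out)⁻¹ = y
      rw [hs]
      calc g * s * (g⁻¹ * y * g) * (g * s)⁻¹ = g * (s * (g⁻¹ * y * g)) * (g * s)⁻¹ := by group
        _ = y := by rw [this]; group
  have e1 := card_diff ⊤ N
  have e2 := card_diff S N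
  have e3 := H1.card_sup_mul_card_inf (H := S) (N := N) le_normalizer_of_normal
  rw [hsup, card_top] at e3
  rw [top_inf_eq, card_top] at e1
  have e4 := card_eq_card_quotient_mul_card_subgroup S
  have hle : Nat.card {y : G // y ∈ S ∧ y ∉ N} ≤ Nat.card {y : G // y ∈ Z ∧ y ∉ N} := by
    have hq : 0 < Nat.card (G ⧸ S) := Nat.card_pos
    have hs : 0 < Nat.card S := Nat.card_pos
    generalize Nat.card {y : G // y ∈ S ∧ y ∉ N} = a at *
    generalize Nat.card {y : G // y ∈ Z ∧ y ∉ N} = b at *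
    generalize Nat.card {y : G // y ∈ (⊤ : Subgroup G) ∧ y ∉ N} = c at *
    generalize Nat.card (G ⧸ S) = q at *
    generalize Nat.card (S ⊓ N : Subgroup G) = d at *
    generalize Nat.card S = s at *
    generalize Nat.card N = n at *
    generalize Nat.card G = g at *
    subst e4
    have e5 : q * d = n := Nat.eq_of_mul_eq_mul_left hs (by rw [← e3]; ring)
    have e6 : c = q * a := by
      have : c + q * d = q * a + q * d := by rw [e5, e1, ← e5, ← e2]; ring
      omega
    exact Nat.le_of_mul_le_mul_left (e6 ▸ hcount) hq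
  have hsub : ∀ y ∈ S, y ∉ N → y ∈ Z := by
    have : {y : G | y ∈ Z ∧ y ∉ N} = {y : G | y ∈ S ∧ y ∉ N} :=
      Set.eq_of_subset_of_ncard_le (fun y hy => ⟨hy.1.1, hy.2⟩) hle
    intro y hy hyN
    have h3 : y ∈ {y : G | y ∈ S ∧ y ∉ N} := ⟨hy, hyN⟩
    rw [← this] at h3
    exact h3.1
  have hxS : x ∈ S := hP ▸ self_mem_cent x
  have hab : S ≤ Z := fun y hy => by
    by_cases hyN : y ∈ N
    · have h3 := hsub (y * x) (S.mul_mem hy hxS) fun hm => hx ((N.mul_mem_cancel_left hyN).1 hm)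
      simpa using Z.mul_mem h3 (Z.inv_mem (hsub x hxS hx))
    · exact hsub y hy hyN
  haveI hcomm : IsMulCommutative S := H1.isMulCommutative_iff.2 fun a ha b hb => (hab hb).2 a ha
  haveI := P.isPGroup'.isNilpotent
  refine hG (Cfsg.Agent.S4039.result S hco this ?_)
  have : Group.nilpotencyClass S ≤ 1 := by
    rw [← Subgroup.upperCentralSeries_eq_top_iff_nilpotencyClass_le, Subgroup.upperCentralSeries_one]
    exact eq_top_iff.2 fun a _ => mem_center_iff.2 fun b => hcomm.is_comm.comm b a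
  omega

end Cfsg.Agent.S3903
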