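import Cfsg.Statements.S3914
import Cfsg.Agent.H23.CjB
import Cfsg.Agent.S0204
import Cfsg.Agent.S3909
import Cfsg.Agent.H19.Ab2b

set_option autoImplicit false
open Cfsg

namespace Cfsg.Agent.S3914

/-- Let G be a finite group in which any two abelian subgroups of the same order are conjugate. If M is a non-abelian simple normal subgroup of G, then M is isomorphic to SL₂(2^f) with f ∈ {2, 3, 5}, or to PSL₂(q) for a prime power q ≥ 5 with q ≡ 3 or 5 (mod 8), or to the first Janko group J₁. -/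
theorem result {G : Type*} [Group G] [Finite G] (hB : ∀ A B : Subgroup G, IsMulCommutative ↥A → IsMulCommutative ↥B → Nat.card ↥A = Nat.card ↥B → ∃ g : G, B = A.map (MulAut.conj g).toMonoidHom) (M : Subgroup G) [M.Normal] (hs : IsSimpleGroup ↥M) (hna : ¬ IsMulCommutative ↥M) :
    (∃ (F : Type) (_ : Field F) (_ : Fintype F), (Fintype.card F = 2 ^ 2 ∨ Fintype.card F = 2 ^ 3 ∨ Fintype.card F = 2 ^ 5) ∧
        Nonempty (↥M ≃* Matrix.SpecialLinearGroup (Fin 2) F)) ∨
    (∃ (F : Type) (_ : Field F) (_ : Fintype F), 5 ≤ Fintype.card F ∧ (Fintype.card F % 8 = 3 ∨ Fintype.card F % 8 = 5) ∧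
        Nonempty (↥M ≃* Matrix.ProjectiveSpecialLinearGroup (Fin 2) F)) ∨
    Cfsg.Spor.IsoJ1 ↥M := by
  have h : H23.AbCj G := hB
  have hM : H17.GS.Sim M := ⟨hs, hna⟩
  obtain ⟨E, hE⟩ := Cfsg.Agent.S0204.result (G := M) fun hc => hna (H19.comm_of_cyclic hc)
  have hE' : IsElementaryAbelian 2 (E.map M.subtype) := by
    haveI := hE.isMulCommutative
    refine ⟨inferInstance, ?_⟩
    rintro _ ⟨x, hx, rfl⟩
    exact congrArg (fun y : E => (y.1 : G)) (show (⟨x, hx⟩ : E) ^ 2 = 1 from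
      hE.exponent_two ▸ Monoid.pow_exponent_eq_one _)
  obtain ⟨S⟩ : Nonempty (Sylow 2 G) := inferInstance
  have hS := H19.syl_sylow_top S
  have h2 : ∀ x ∈ (S : Subgroup G), x ^ 2 = 1 := fun x hx => h.pow_eq_one Nat.prime_two hE'
    (by rw [Subgroup.card_map_of_injective M.subtype_injective, hE.card_four]; rfl) (hS.pi.elt hx)
  have hSE : IsElementaryAbelian 2 (S : Subgroup G) :=
    ⟨⟨⟨fun a b => (Commute.of_orderOf_dvd_two (fun x : (S : Subgroup G) =>
      orderOf_dvd_of_pow_eq_one (Subtype.ext (h2 x x.2))) a b).eq⟩⟩, h2⟩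
  have hSM : (S : Subgroup G) ≤ M := fun x hx => by
    rcases eq_or_ne x 1 with rfl | x1
    · exact one_mem _
    obtain ⟨y, hy⟩ := exists_prime_orderOf_dvd_card' (G := E) 2 (hE.card_four ▸ by decide)
    exact (Cfsg.Agent.S3909.result hB M).1 x ⟨y.1, y.1.2, by
      rw [Subgroup.orderOf_coe, Subgroup.orderOf_coe, hy, orderOf_eq_prime (h2 x hx) x1]⟩
  rcases H17.GS.ab_cases hM (H17.GS.abS_of_sylow S hSE.1 M) with ⟨F, _, _, ⟨m, hm, hF⟩, ⟨e⟩⟩ |
    ⟨F, _, _, h8, h5, e⟩ | k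
  · haveI := charP_of_card_eq_prime_pow hF
    obtain ⟨e'⟩ := H19.psl2_sl2 F
    refine .inl ⟨F, inferInstance, inferInstance, ?_, ⟨e.trans e'⟩⟩
    rcases hm.eq_or_lt with rfl | hm
    · exact .inl hF
    have h3 := H11.card_psl_two (F := F)
    have h4 : Odd ((2 ^ m) ^ 2 - 1) := Nat.Even.sub_odd (Nat.one_le_pow _ _ (by positivity))
      (by simp [Nat.even_pow]; omega) odd_one
    rw [hF, ← Nat.card_congr e.toEquiv, (Nat.coprime_two_left.2 (Nat.Even.sub_odd Nat.one_le_two_pow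
      (by simp [Nat.even_pow]; omega) odd_one) : Nat.gcd _ _ = 1), one_mul] at h3
    have h5 := hS.of_le hSM le_top
    rcases (h.cj Nat.prime_two hS hSE.1).sylow_cases S hSE (Nat.dvd_antisymm
      (h5.pi.dvd_of_dvd_mul (H19.PiN.of_not_dvd h4.not_two_dvd_nat) (h3 ▸ H19.card_dvd hSM))
      (h5.dvd (H19.PiN.prime_pow Nat.prime_two m) (h3 ▸ dvd_mul_right _ _))) hm
      (H23.isSolvable_normalizer_two S) with rfl | ⟨rfl, -⟩
    · exact .inr (.inl hF)
    · exact .inr (.inr hF)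
  · exact .inr (.inl ⟨F, _, _, h5, h8, e⟩)
  · exact .inr (.inr (h.isoJ1 hM k fun k => S.not_dvd_index (k.trans (Subgroup.index_dvd_of_le hSM))))

end Cfsg.Agent.S3914
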