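import Cfsg.Statements.S3921
import Cfsg.Agent.H5.L2C
import Cfsg.Agent.H1.Wielandt
import Cfsg.Agent.H7.ZStar
import Cfsg.Agent.S2476
-- import your own Cfsg.Agent.* helpers here

set_option autoImplicit false
open Cfsg

namespace Cfsg.Agent.S3921
open H5

open H19 H17.GS Subgroup

section
variable {G : Type*} [Group G] [Finite G] {t u : G}
  (h : ∀ H : Subgroup G, ¬ IsCyclic H → C(H) ≤ H)
include h

theorem four (t2 : orderOf t = 2) (u2 : orderOf u = 2) (e : t * u = u * t) (n : t ≠ u) :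
    C[t] ⊓ C[u] ≤ zpowers t ⊔ zpowers u ∧ #(C[t] ⊓ C[u]) ≤ 4 := by
  have a := (el1_zpowers Nat.prime_two (mem_top t) t2).sup2
    (el1_zpowers Nat.prime_two (mem_top u) u2) (by rwa [cent_zpowers, zpowers_le, mem_cent1])
    fun e => ((mem_zp (mul_self_of_two u2)).1 (e ▸ mem_zpowers t)).elim (ne_one_of_two t2) n
  have := h _ a.not_cyc
  rw [cent_sup, cent_zpowers, cent_zpowers] at this
  exact ⟨this, (card_le this).trans a.card.le⟩

theorem pg (t2 : orderOf t = 2) (u2 : orderOf u = 2) (e : t * u = u * t) (n : t ≠ u) : PG 2 C[t] := by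
  have uC : u ∈ C[t] := mem_cent1.2 e.symm
  have uQ : u ∈ Oc {2} C[t] := by
    rw [← pCore_map_eq Nat.prime_two]
    refine ⟨⟨u, uC⟩, by_contra fun a => ?_, rfl⟩
    obtain ⟨⟨y, y0⟩, y1, y2, y3⟩ := H1.exists_odd_inverted (Subtype.ext (mul_self_of_two u2)) a
    rw [orderOf_mk] at y2
    replace y3 : u * y * u⁻¹ = y⁻¹ := congrArg Subtype.val y3
    have o : OG (zpowers y) := og_iff.2 (by rwa [Nat.card_zpowers])
    obtain ⟨x, x1, w, w1, k⟩ := (mem_sup_of_norm (zpowers_le.2 (mem_norm_iff_cj.2 (by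
      rw [cj_zpowers, y3, zpowers_inv])))).1 (h (zpowers y ⊔ zpowers u) (fun c => y1 (Subtype.ext
        (o.eq_one (mem_zpowers y) (by
          rw [← eq_inv_iff_mul_eq_one, ← y3, mem_cent.1 (comm_iff_le_cent.1 (comm_of_cyclic c)
            (mem_sup_left (mem_zpowers y))) u (mem_sup_right (mem_zpowers u)),
            mul_inv_cancel_right])))) (cents_symm (sup_le (zpowers_le.2 (by rwa [cent_zpowers]))
              (zpowers_le.2 (by rwa [cent_zpowers]))) (mem_zpowers t)))
    rcases (mem_zp (mul_self_of_two u2)).1 w1 with a | a <;> rw [a] at k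
    · exact ne_one_of_two t2 (o.eq_one (by rwa [k, mul_one]) (mul_self_of_two t2))
    · refine n (k.trans (mul_eq_right.2 (o.eq_one x1 ?_)))
      rw [eq_mul_inv_of_mul_eq k.symm, inv_eq_of_mul_eq_one_left (mul_self_of_two u2), mul_assoc,
        ← mul_assoc u, ← e, mul_assoc, mul_self_of_two u2, mul_one, mul_self_of_two t2]
  have hN := Oc_normal {2} C[t]
  have hP := Oc_pi {2} C[t]
  have hH : ∀ K, K ⊴ C[t] → PG 2 K → K ≤ Oc {2} C[t] := fun K => le_Oc
  generalize Oc {2} C[t] = Q at *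
  have kQ : H20.clsL C[t] {u} ⊆ Q := by
    rintro _ ⟨_, rfl, g, hg, rfl⟩; exact conj_mem_of_norm (hN.2 hg) uQ
  have d : Disjoint (H20.clsL C[t] {u}) ((u * ·) '' H20.clsL C[t] {u}) := by
    rw [Set.disjoint_left]
    rintro a a0 ⟨b, b0, (e' : u * b = a)⟩
    have k : ∀ {a}, a ∈ H20.clsL C[t] {u} → a * a = 1 ∧ a ≠ 1 ∧ a ≠ t := by
      rintro _ ⟨_, rfl, g, hg, rfl⟩
      refine ⟨by rw [conj_mul, mul_self_of_two u2]; simp, by simpa using ne_one_of_two u2,
        fun a => n ?_⟩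
      rwa [mul_inv_eq_iff_eq_mul, ← mem_cent1.1 hg, mul_right_inj, eq_comm] at a
    have i := fun {a : G} => @inv_eq_of_mul_eq_one_left _ _ a a
    obtain ⟨x, x1, w, w1, rfl⟩ := (mem_sup_of_norm (zpowers_le.2 (cent1_le_norm_zpowers t uC))).1
      ((four h t2 u2 e n).1 ⟨hN.1 (kQ b0), mem_cent1.2 (by
        rw [e', ← i (k a0).1, ← e', mul_inv_rev, i (k b0).1, i (mul_self_of_two u2)])⟩)
    rcases (mem_zp (mul_self_of_two t2)).1 x1 with x1 | x1 <;>
      rcases (mem_zp (mul_self_of_two u2)).1 w1 with w1 | w1 <;> rw [x1, w1] at b0 e'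
    exacts [(k b0).2.1 (mul_one _), (k a0).2.1 (by rw [← e', one_mul, mul_self_of_two u2]),
      (k b0).2.2 (mul_one _), (k a0).2.2 (by rw [← e', e, ← mul_assoc, mul_self_of_two u2, one_mul])]
  have c1 := Set.ncard_le_ncard (Set.union_subset kQ (t := (u * ·) '' H20.clsL C[t] {u}) (by
    rintro _ ⟨x, hx, rfl⟩; exact mul_mem uQ (kQ hx)))
  rw [Set.ncard_union_eq d, Set.ncard_image_of_injective _ (mul_right_injective u), ncard_clsL,
    ← Nat.card_coe_set_eq, SetLike.coe_sort_coe] at c1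
  have c2 := card_inf_mul_relIndex C[u] C[t]
  have c3 := card_mul_relIndex hN.1
  have c4 := (four h t2 u2 e n).2
  rw [inf_comm] at c2
  have c5 : Q.relIndex C[t] ≤ 2 := by
    have := card_pos Q
    nlinarith
  refine hP.of_relIndex' hN.1 fun p hp d => ?_
  have := Nat.le_of_dvd (relIndex_pos _ _) d
  have := hp.two_le
  change p = 2
  omega

end


/-- Say that a group has self-centralizing non-cyclic subgroups when every non-cyclic subgroup H satisfies C_G(H) ≤ H. A non-abelian finite simple group has self-centralizing non-cyclic subgroups if and only if it is isomorphic to PSL₂(q) with q = 4, q = 9, or q a prime of the form 2^k + 1 or 2^k − 1. -/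
theorem result {G : Type*} [Group G] [Finite G] [IsSimpleGroup G] (hna : ¬ IsMulCommutative G) :
    (∀ H : Subgroup G, ¬ IsCyclic ↥H → Subgroup.centralizer (H : Set G) ≤ H) ↔ ∃ (F : Type) (_ : Field F) (_ : Fintype F),
      (Fintype.card F = 4 ∨ Fintype.card F = 9 ∨ ((Fintype.card F).Prime ∧ ∃ k : ℕ, Fintype.card F = 2 ^ k + 1 ∨ Fintype.card F = 2 ^ k - 1)) ∧
      Nonempty (G ≃* Matrix.ProjectiveSpecialLinearGroup (Fin 2) F) := by
  have hs := not_sol_of_simple hna
  refine ⟨fun h => ?_, fun ⟨F, _, _, a, e⟩ H h c hc => ?_⟩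
  · have k : ∀ t : G, orderOf t = 2 → ∃ u, orderOf u = 2 ∧ t * u = u * t ∧ t ≠ u := fun t ht => by
      by_contra! H
      have n := fun (K : Subgroup G) [K.Normal] a => simple_h0 hs K a (normalizer_eq_top _)
      exact ne_one_of_two ht ((n _ (sol_of_ab inferInstance)).le (H7.zstar_mem_center
        (sSup_eq_bot.2 fun K ⟨_, c⟩ => n K (H20.odd_solvable _ (Nat.coprime_two_right.1 c)))
        ⟨ht, fun g e => (H _ (by rwa [orderOf_conj']) e).symm⟩))
    have hc : CIT G := fun t ht => let ⟨u, a, b, c⟩ := k t ht; pg h ht a b c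
    obtain ⟨n, o, b⟩ : ∃ n, H5.Ord G (2 ^ n) ∧ ∀ k, 2 ^ k ∣ Nat.card G → k ≤ n + 1 := by
      obtain ⟨S, hS⟩ := exists_syl 2 (⊤ : Subgroup G)
      obtain ⟨t, t1, t2⟩ := exists_orderOf_eq_prime Nat.prime_two ((hS.pi.infl C(S)).dvd_of_ne_bot
        (hS.pi.center_ne_bot fun e => hs ((H1.isSolvable_congr topEquiv).1
          (OG.sol (e ▸ hS).pi'_of_eq_bot))))
      obtain rfl := hS.max (le_cent1_iff.2 t1.2) le_top (hc t t2)
      obtain ⟨u, u2, e, n⟩ := k t t2
      obtain ⟨a, b⟩ := H10.exists_cyc_of_centralizer hS.pi.isPGroup (s := ⟨u, mem_cent1.2 e.symm⟩)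
        (le_trans (by
          rw [inf_comm, ← card_subgroupOf]
          exact card_le fun y hy => mem_cent1.2 (congrArg Subtype.val (mem_cent1.1 hy)))
          (four h t2 u2 e n).2)
      obtain ⟨n, c⟩ := (hS.pi.elt a.2).exists_pow (orderOf_pos _).ne'
      refine ⟨n, ⟨a, c⟩, fun k d => (Nat.pow_dvd_pow_iff_le_right one_lt_two).1
        ((hS.dvd (PiN.prime_pow Nat.prime_two k) (card_top (G := G) ▸ d)).trans ?_)⟩
      rw [← (zpowers a).card_mul_index, Nat.card_zpowers, ← orderOf_coe, c, pow_succ]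
      exact mul_dvd_mul_left _ b
    have m : ∀ {a k}, 2 ^ n ∣ a → Odd a ∨ a = 2 ^ k → n ≤ k := fun a b => b.elim (fun c => by
      cases n
      exacts [Nat.zero_le _, (not_two_mul_dvd c (pow_succ' 2 _ ▸ a)).elim])
      fun b => (Nat.pow_dvd_pow_iff_le_right one_lt_two).1 (b ▸ a)
    rcases hc.simple hs with a | a | a | a
    · obtain ⟨j, a, l⟩ := a.l2
      obtain ⟨c, e⟩ := l.even (by omega)
      have := b j (c ▸ dvd_mul_right _ _)
      have : n ≤ 1 := by
        rcases (e _).1 o with d | d | d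
        exacts [m d (.inr rfl), m d (.inl (odd_pow_sub (by omega))), m d (.inl (odd_pow_add (by omega)))]
      obtain rfl : j = 2 := by omega
      obtain ⟨F, _, _, a, e⟩ := l
      exact ⟨F, _, _, .inl a, e⟩
    · obtain ⟨j, a, l⟩ := szM_of a
      obtain ⟨c, e⟩ := l.data a
      have := b _ (by rw [c, ← pow_mul, mul_assoc]; exact dvd_mul_right _ _)
      have : n ≤ 2 := by
        rcases (e _).1 o with d | d | d | d
        exacts [m d (.inr rfl), m d (.inl (odd_pow_sub (by omega))), m d (.inl (sz_odd a).1),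
          m d (.inl (sz_odd a).2)]
      omega
    · rcases a.l2 with ⟨F, _, _, a, e⟩ | ⟨q, k, a, -, d, F, _, _, rfl, e⟩
      exacts [⟨F, _, _, .inr (.inl a), e⟩, ⟨F, _, _, .inr (.inr ⟨a, k, by omega⟩), e⟩]
    · have := b 6 (by rw [l34_card a]; decide)
      obtain ⟨F, _, _, a, ⟨e⟩⟩ := a
      haveI : CharP F 2 := charP_of_card_eq_prime_pow (f := 2) a
      have := (Set.ext_iff.1 (S2476.result (F := F) 2) 8).1
        ((ord_congr e).1 (o.of_dvd (pow_dvd_pow 2 (show 3 ≤ n by omega))))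
      simp [a] at this
  obtain ⟨q, p, l, hp, d, e, k⟩ : ∃ q p, L2 q G ∧ p.Prime ∧ (q = p ∨ q = p ^ 2) ∧ Odd q ∧
      ∃ k, q = 2 ^ k + 1 ∨ q + 1 = 2 ^ k := by
    have l : L2 (Fintype.card F) G := ⟨F, _, _, rfl, e⟩
    rcases a with a | a | ⟨a, k, b⟩
    · exact ⟨5, 5, l2_four.1 (a ▸ l), Nat.prime_five, .inl rfl, by decide, 2, .inl rfl⟩
    · exact ⟨9, 3, a ▸ l, Nat.prime_three, .inr rfl, by decide, 3, .inl rfl⟩
    refine ⟨_, _, l, a, .inl rfl, a.odd_of_ne_two fun e => hs (isSolvable_of_primes_subset_pair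
      Nat.prime_two Nat.prime_three fun r r1 r2 => ?_), k, by have := a.pos; omega⟩
    rw [(L2.even (m := 1) (show L2 2 G from e ▸ l) le_rfl).1] at r2
    have := Nat.le_of_dvd (by decide) r2
    interval_cases r <;> simp_all (config := {decide := true})
  have pq : p ∣ q := by rcases d with rfl | rfl <;> simp
  by_cases c1 : c = 1
  · exact c1 ▸ one_mem _
  have hH : H ≤ C[c] := le_cent1_iff.2 hc
  by_cases cp : c ^ p = 1
  · haveI := Fact.mk hp
    have a := l.cent_pg hp pq (orderOf_eq_prime cp c1)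
    obtain ⟨j, b⟩ := (a.of_le hH).exists_card
    have j2 : 2 ≤ j := by
      rcases j with _ | _ | j
      exacts [(h (card_eq_one.1 b ▸ cyc_bot)).elim, (h (cyclic_of_prime (by simpa [b]))).elim, by omega]
    refine (eq_of_le_of_card_ge hH ((Nat.le_of_dvd e.pos (l.pg_dvd hp pq a)).trans ?_)).ge
      (mem_cent1.2 rfl)
    refine b ▸ le_trans ?_ (Nat.pow_le_pow_right hp.pos j2)
    rcases d with rfl | rfl
    exacts [Nat.le_self_pow two_ne_zero _, le_rfl]
  obtain ⟨a, s, T, m⟩ := l.exists_tor hp pq cp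
  by_cases c2 : c * c = 1
  swap
  · exact (h (cyc_mono (cyc_zpowers a) (hH.trans (T.cent m c2)))).elim
  have c3 := orderOf_eq_prime ((pow_two c).trans c2) c1
  have hc : CIT G := cit_iff.2 fun r r1 r2 o => by
    obtain ⟨f, hf⟩ : ∃ f, q = p ^ f := d.elim (⟨1, by simpa using ·⟩) (⟨2, ·⟩)
    obtain ⟨k, hk⟩ := k
    have n : ∀ k, ¬ r ∣ 2 ^ k := fun k a =>
      r2 ((Nat.prime_dvd_prime_iff_eq r1 Nat.prime_two).1 (r1.dvd_of_dvd_pow a))
    have := r1.two_le
    have := hp.two_le.trans (Nat.le_of_dvd e.pos pq)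
    rcases ((l.odd hp hf e).2 _).1 o with ⟨x, a⟩ | ⟨x, a⟩ | ⟨x, a⟩
    · exact not_two_mul_dvd (e.of_dvd_nat pq) ⟨x, a⟩
    all_goals
      rw [Nat.odd_iff] at e
      rw [mul_assoc] at a
      rcases k with _ | _ | k
      · omega
      · rcases x with _ | x
        exacts [by omega, by nlinarith [show 2 * (r * (x + 1)) ≤ 2 by omega]]
      have := n (k + 1)
      rcases hk with hk | hk <;> simp only [pow_succ] at * <;>
        first | omega | exact this ⟨2 * x, by rw [mul_left_comm]; omega⟩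
  refine (inf_le_right (a := zpowers a)) ((el1_zpowers Nat.prime_two m c3).le_of_cyc (cyc_zpowers a)
    inf_le_left ((((hc c c3).of_le hH).infr _).dvd_of_ne_bot fun b => h ?_) (mem_zpowers c))
  have := card_inf_mul_relIndex (zpowers a) H
  have := T.relIndex m c1 hH
  have := card_pos H
  rw [b, card_bot] at *
  by_cases h1 : #H = 1
  exacts [card_eq_one.1 h1 ▸ cyc_bot, cyclic_of_prime (by rw [show #H = 2 by omega]; decide)]

end Cfsg.Agent.S3921
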