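import Cfsg.Statements.S3922
import Cfsg.Agent.H25.Ito4

set_option autoImplicit false
open Cfsg

namespace Cfsg.Agent.S3922
open _root_.H25 Subgroup

/-- A finite group whose conjugacy classes have exactly three distinct sizes (1 and two further values) is solvable. -/
theorem result {G : Type*} [Group G] [Finite G] (n₁ n₂ : ℕ) (h12 : n₂ < n₁) (h2 : 1 < n₂)
    (h : ∀ x : G, (Subgroup.centralizer ({x} : Set G)).index = 1 ∨ (Subgroup.centralizer ({x} : Set G)).index = n₂ ∨
      (Subgroup.centralizer ({x} : Set G)).index = n₁)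
    (h₁ : ∃ x : G, (Subgroup.centralizer ({x} : Set G)).index = n₁) (h₂ : ∃ x : G, (Subgroup.centralizer ({x} : Set G)).index = n₂) :
    Group.IsSolvable G := by
  refine Ito.Two.solv _ rfl fun x y z hx hy hz => ?_
  have k : ∀ x : G, x ∉ center G → H24.cs x = n₂ ∨ H24.cs x = n₁ := fun x hx =>
    (h x).resolve_left (mt H24.cs_eq_one_iff.1 hx)
  have : H24.cs x = H24.cs y ∨ H24.cs x = H24.cs z ∨ H24.cs y = H24.cs z := by
    have := k x hx
    have := k y hy
    have := k z hz
    omega
  exact this.imp Ito.card_cent_eq (Or.imp Ito.card_cent_eq Ito.card_cent_eq)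

end Cfsg.Agent.S3922
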