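import Cfsg.Statements.S4016
import Cfsg.Agent.H23.PAb

set_option autoImplicit false
open Cfsg

namespace Cfsg.Agent.S4016

open Subgroup H19

/-- Let G be a finite group and p a prime such that a Sylow p-subgroup P of G is cyclic and every subgroup of G of order prime to p is abelian. Then G has a normal p-complement or P is normal in G. -/
theorem result {G : Type*} [Group G] [Finite G] {p : ℕ}
    [Fact p.Prime] (P : Sylow p G) (hcyc : IsCyclic P)
    (hab : ∀ H : Subgroup G, ¬ p ∣ Nat.card H → IsMulCommutative H) :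
    Cfsg.HasNormalPComplement p G ∨ (P : Subgroup G).Normal := by
  have hp : p.Prime := Fact.out
  have hP := syl_sylow_top P
  by_cases h : N((P : Subgroup G)) ≤ C((P : Subgroup G))
  · exact .inl ⟨P, _, inferInstance, MonoidHom.ker_transferSylow_isComplement' P h⟩
  have hab' : ∀ H : Subgroup G, PiG {p}ᶜ H → Ab H := fun H hH => hab H ((piN_compl_singleton hp).1 hH)
  have p2 : p ≠ 2 := by
    rintro rfl
    refine h (hcyc.normalizer_le_centralizer ((Nat.minFac_eq_two_iff _).2 ?_))
    exact (hP.pi.dvd_of_ne_bot fun e => h (by rw [e, cent_bot]; exact le_top)).trans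
      (card_subgroup_dvd_card _)
  haveI := H23.sol_of_pab hp p2 G (fun T hT _ => hab' T (hT.sing_ne p2.symm)) fun H _ hH _ => hab' H hH
  have hS : Syl p (P : Subgroup G) N((P : Subgroup G)) := hP.of_le le_normalizer le_top
  obtain ⟨E, hE⟩ := hS.exists_compl le_rfl
  have hE' := (hE.hall_right hS).pi
  have hD := ab_cent_dprod (comm_of_cyclic hcyc) hE.right_le (hP.pi.coprime hE')
  have h1 : (P : Subgroup G) ≤ ⁅(P : Subgroup G), E⁆ := by
    rcases cyc_total hcyc hP.pi hD.left_le hD.right_le with e | e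
    · exact hD.sup.ge.trans (sup_le e le_rfl)
    · refine (h (hE.sup.ge.trans (sup_le (comm_iff_le_cent.1 (comm_of_cyclic hcyc)) ?_))).elim
      exact cents_symm (commg_eq_bot.1 ((inf_eq_right.2 e).symm.trans hD.inf))
  have h2 : E ≤ C(Oc {p}ᶜ (⊤ : Subgroup G)) := cents_of_comm (hab' _ ((Oc_pi _ _).sup hE'
    (le_top.trans (Oc_norm _ _)))) le_sup_right le_sup_left
  have h3 : (P : Subgroup G) ≤ C(Oc {p}ᶜ (⊤ : Subgroup G)) := h1.trans ((commutator_mono le_rfl h2).trans
    (commg_le_right (norms_cent (le_top.trans (Oc_norm _ _)))))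
  have h4 : (P : Subgroup G) ≤ Fit ⊤ := le_trans (le_inf le_top (cents_symm (Fit_le_of_Oc fun q hq => by
    rcases eq_or_ne q p with rfl | e
    · exact cents_of_comm (comm_of_cyclic hcyc) (Oc_le_hall hP) le_rfl
    · exact (Oc_mono (by simpa using e.symm) _).trans (cents_symm h3)))) (cent_Fit_le inferInstance)
  exact .inr (le_antisymm (hP.pi.le_Oc_of_le_Fit h4) (Oc_le_hall hP) ▸ (Oc_normal _ _).normal)

end Cfsg.Agent.S4016
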