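import Cfsg.Statements.S4017
import Cfsg.Agent.H23.PAb

set_option autoImplicit false
open Cfsg

namespace Cfsg.Agent.S4017

open Subgroup H19

theorem count {G : Type*} [Group G] [Finite G] {p q a : ℕ} (hp : p.Prime) (hq : q.Prime) (hpq : p ≠ q)
    {T R : Subgroup G} (hT : #T ∣ q ^ a) (hR : PG p R) (hn : R ≤ N(T)) (hc : ¬ T ≤ C(R))
    (h : q ^ a - 1 ≤ p) : p = q ^ a - 1 ∧ #T = q ^ a ∧ T ⊓ C(R) = ⊥ := by
  obtain ⟨j, hj, e⟩ := (Nat.dvd_prime_pow hq).1 hT
  obtain ⟨i, hi, f⟩ := (Nat.dvd_prime_pow hq).1 (e ▸ card_dvd (inf_le_left : T ⊓ C(R) ≤ T))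
  have h1 : i < j := hi.lt_of_ne fun g => hc (inf_eq_left.1 (eq_of_le_of_card_eq inf_le_left (by
    rw [e, f, g])))
  have h2 := (H20.JT.modEq_cent hR hp hn).symm
  rw [e, f, Nat.modEq_iff_dvd' (Nat.pow_le_pow_right hq.pos hi), ← Nat.add_sub_cancel' hi, pow_add,
    ← Nat.mul_sub_one] at h2
  have h3 := Nat.one_lt_pow (show j - i ≠ 0 by omega) hq.one_lt
  have h4 := Nat.le_of_dvd (by omega) ((((Nat.coprime_primes hp hq).2 hpq).pow_right i).dvd_of_dvd_mul_left h2)
  have h5 := Nat.pow_le_pow_right hq.pos (show j - i ≤ a by omega)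
  have h6 := Nat.pow_right_injective hq.two_le (show q ^ (j - i) = q ^ a by omega)
  exact ⟨by omega, by rw [e]; congr 1; omega, card_eq_one.1 (by rw [f, show i = 0 by omega, pow_zero])⟩

/-- Let G be a finite group and let p and q be distinct primes dividing the order of G, with p odd. Suppose that p divides the order of every proper subgroup of G that is neither a q-group nor of order prime to q. Let q^a be the q-part of the order of G. If p > q^a − 1, or if p = q^a − 1 and the Sylow p-subgroups of G are abelian, then p and q are the only primes dividing the order of G. -/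
theorem result {G : Type*} [Group G] [Finite G]
    {p q : ℕ} (hp : p.Prime) (hq : q.Prime) (hpq : p ≠ q) (hp2 : p ≠ 2)
    (hpG : p ∣ Nat.card G) (hqG : q ∣ Nat.card G)
    (hmix : ∀ H : Subgroup G, H ≠ ⊤ → ¬ IsPGroup q H → q ∣ Nat.card H → p ∣ Nat.card H)
    (hlarge : q ^ (Nat.card G).factorization q - 1 < p ∨
      (p = q ^ (Nat.card G).factorization q - 1 ∧ ∀ P : Sylow p G, IsMulCommutative P)) :
    ∀ r : ℕ, r.Prime → r ∣ Nat.card G → r = p ∨ r = q := by
  intro r hr hrG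
  by_contra hc
  push Not at hc
  haveI := Fact.mk hq
  have key : ∀ H : Subgroup G, PiG {p}ᶜ H → q ∣ #H → PG q H := fun H h1 h2 => by
    have h3 := (piN_compl_singleton hp).1 h1
    exact pG_iff.2 (by_contra fun h => h3 (hmix H (fun e => h3 (by rwa [e, card_top])) h h2))
  obtain ⟨S⟩ : Nonempty (Sylow q G) := inferInstance
  have hS := syl_sylow_top S
  have hSq : q ∣ #(S : Subgroup G) := hS.sdvd_card hq (by rwa [card_top])
  have h1 : ¬ HasNormalPComplement q G := fun ⟨P, K, _, h⟩ => by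
    have hP := syl_sylow_top P
    have hK : PiG {q}ᶜ K := by rw [PiG, ← h.index_eq_card, ← relIndex_top_right]; exact hP.idx
    obtain ⟨R, hR, hn⟩ := inv_syl_exists r (K := K) le_normalizer_of_normal (hK.coprime' hP.pi)
      (.inl hP.pi.sol)
    have h2 := hR.sdvd_card hr (((Nat.Prime.dvd_mul hr).1 (h.card_mul_card ▸ hrG)).resolve_right
      fun e => hc.2 (hP.pi.eq_of_dvd hr e))
    exact hc.2 ((key _ ((hR.pi.sing_ne hc.1).sup (hP.pi.sing_ne hpq.symm) hn) ((hP.sdvd_card hq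
      (by rwa [card_top])).trans (card_dvd le_sup_right))).eq_of_dvd hr (h2.trans (card_dvd le_sup_left)))
  have h2 : ¬ Group.IsSolvable G := fun _ => by
    obtain ⟨H, hH⟩ := exists_hall {p}ᶜ (M := (⊤ : Subgroup G)) inferInstance
    exact hc.2 ((key H hH.pi (hH.prime_dvd hq hpq.symm (by rwa [card_top]))).eq_of_dvd hr
      (hH.prime_dvd hr hc.1 (by rwa [card_top])))
  obtain ⟨T, hT, T1, g, hg, go, hg'⟩ : ∃ T : Subgroup G, IsPGroup q T ∧ T ≠ ⊥ ∧ ∃ g ∈ N(T),
      (orderOf g).Coprime q ∧ g ∉ C(T) := by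
    by_contra h; push Not at h; exact h1 (H3.frobenius_npc' h)
  replace hT := pG_iff.2 hT
  obtain ⟨R, hR⟩ := exists_syl p (zpowers g)
  have hRT := hR.le.trans (zpowers_le.2 hg)
  have h3 : ¬ T ≤ C(R) := fun e => hg' (zpowers_le.1 (le_of_exists_syl fun l hl hd => by
    rcases eq_or_ne l p with rfl | f
    · exact ⟨R, hR, cents_symm e⟩
    obtain ⟨Q, hQ⟩ := exists_syl l (zpowers g)
    obtain rfl := (key _ ((hT.sing_ne hpq.symm).sup (hQ.pi.sing_ne f) (hQ.le.trans (zpowers_le.2 hg)))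
      ((hT.dvd_of_ne_bot T1).trans (card_dvd le_sup_left))).eq_of_dvd hl
      ((hQ.sdvd_card hl hd).trans (card_dvd le_sup_right))
    exact (hl.coprime_iff_not_dvd.1 go.symm (Nat.card_zpowers g ▸ hd)).elim))
  have hle : q ^ (Nat.card G).factorization q - 1 ≤ p := by omega
  have hd : ∀ U : Subgroup G, PG q U → #U ∣ q ^ (Nat.card G).factorization q := fun U hU =>
    S.card_eq_multiplicity ▸ hS.card_dvd le_top hU
  obtain ⟨h4, h5, h6⟩ := count hp hq hpq (hd T hT) hR.pi hRT h3 hle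
  obtain ⟨-, h7, -⟩ := count hp hq hpq (hd Z(T) (hT.infl _)) hR.pi (hRT.trans (norm_le_norm_center T))
    (fun e => hT.center_ne_bot T1 (eq_bot_iff.2 (h6 ▸ le_inf inf_le_left e))) hle
  have h8 : Ab T := eq_of_le_of_card_eq inf_le_left (h7.trans h5.symm) ▸ comm_center T
  have h9 : Syl q T ⊤ := hS.of_card le_top (h5.trans S.card_eq_multiplicity.symm)
  obtain rfl : q = 2 := by_contra fun e => hp2 (hp.even_iff.1 (h4 ▸ Nat.Odd.sub_odd
    (hq.odd_of_ne_two e).pow odd_one))
  have hA : H17.GS.AbS (⊤ : Subgroup G) := fun U hU _ =>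
    let ⟨_, _, e⟩ := h9.sle_cj le_top hU; comm_mono (comm_cj.2 h8) e
  exact h2 (H23.sol_of_pab hp hp2 G hA fun H _ h3 h4 => hA H (key H h3 h4) le_top)

end Cfsg.Agent.S4017
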