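import Cfsg.Statements.S4018
import Cfsg.Agent.H3.Transfer
import Cfsg.Agent.H23.Syl
import Cfsg.Agent.H23.Count
import Cfsg.Agent.H23.Elem
import Cfsg.Agent.H1.Fitting
import Mathlib.LinearAlgebra.Matrix.Charpoly.FiniteField

set_option autoImplicit false
open Cfsg

namespace Cfsg.Agent.S4018

open Subgroup H24
open scoped Pointwise

theorem no_friendship {X : Type*} [Finite X] [Nonempty X] (R : X → X → Prop)
    (hs : ∀ x y, R x y → R y x) (hi : ∀ x, ¬ R x x) {k : ℕ} (hk : 3 ≤ k)
    (hd : ∀ x, Nat.card {y // R x y} = k) (hu : ∀ x y, x ≠ y → Nat.card {z // R x z ∧ R y z} = 1) :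
    False := by
  classical
  haveI := Fintype.ofFinite X
  obtain ⟨l, hl, hlk⟩ := Nat.exists_prime_and_dvd (show k - 1 ≠ 1 by omega)
  haveI := Fact.mk hl
  have hk1 : (k : ZMod l) = 1 := by
    have : ((k - 1 : ℕ) : ZMod l) = 0 := (ZMod.natCast_eq_zero_iff _ _).2 hlk
    rw [Nat.cast_sub (by omega), Nat.cast_one, sub_eq_zero] at this
    exact this
  let A : Matrix X X (ZMod l) := Matrix.of fun x y => if R x y then 1 else 0
  let J : Matrix X X (ZMod l) := Matrix.of fun _ _ => 1
  have hc : ∀ (Q : X → Prop) [DecidablePred Q],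
      (∑ z, if Q z then (1 : ZMod l) else 0) = Nat.card {z // Q z} := fun Q _ => by
    rw [Finset.sum_boole, Nat.card_eq_fintype_card, Fintype.card_subtype]
  have hAJ : A * J = J := by
    ext x y
    simp only [A, J, Matrix.mul_apply, Matrix.of_apply, mul_one]
    rw [hc, hd, hk1]
  have hAA : A * A = J := by
    ext x y
    simp only [A, J, Matrix.mul_apply, Matrix.of_apply]
    have : ∀ z, ((if R x z then (1 : ZMod l) else 0) * if R z y then 1 else 0) =
        if R x z ∧ R y z then 1 else 0 := fun z => by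
      by_cases h1 : R x z <;> by_cases h2 : R z y
      · simp [h1, h2, hs _ _ h2]
      · have : ¬ R y z := fun h => h2 (hs _ _ h)
        simp [h2, this]
      · simp [h1]
      · simp [h1]
    simp only [this]
    rw [hc (fun z => R x z ∧ R y z)]
    by_cases hxy : x = y
    · subst hxy
      simp only [and_self]
      rw [hd, hk1]
    · rw [hu x y hxy, Nat.cast_one]
  have hJJ : J * J = J := calc J * J = A * A * J := by rw [hAA]
    _ = J := by rw [mul_assoc, hAJ, hAJ]
  have hn : (Fintype.card X : ZMod l) = 1 := by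
    obtain ⟨x⟩ := ‹Nonempty X›
    simpa [J, Matrix.mul_apply] using congrFun (congrFun hJJ x) x
  have hpow : ∀ m, A ^ (m + 2) = J := fun m => by
    induction m with
    | zero => rw [sq, hAA]
    | succ m ih => rw [add_right_comm, pow_succ', ih, hAJ]
  have h1 := ZMod.trace_pow_card A
  obtain ⟨m, rfl⟩ : ∃ m, l = m + 2 := ⟨l - 2, by have := hl.two_le; omega⟩
  rw [hpow] at h1
  simp [Matrix.trace, A, J, hi, hn] at h1

variable {G : Type*} [Group G] [Finite G]

/-- The hypotheses on a Sylow `3`-subgroup. -/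
structure Hyp (P : Sylow 3 G) (m : ℕ) : Prop where
  card : Nat.card P = m
  ab : ∀ a ∈ (P : Subgroup G), ∀ b ∈ (P : Subgroup G), a * b = b * a
  hN : Nat.card (normalizer ((P : Subgroup G) : Set G)) = 4 * m
  hC : Nat.card (centralizer ((P : Subgroup G) : Set G)) = 2 * m
  ti : ∀ g : G, ∀ x ∈ centralizer ((P : Subgroup G) : Set G), x ≠ 1 →
    g * x * g⁻¹ ∈ centralizer ((P : Subgroup G) : Set G) →
      g ∈ normalizer (centralizer ((P : Subgroup G) : Set G) : Set G)

theorem Hyp.smul {P : Sylow 3 G} {m : ℕ} (h : Hyp P m) (g : G) : Hyp (g • P) m where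
  card := by rw [← h.card]; exact H1.card_conj_smul g _
  ab a ha b hb := by
    have := h.ab _ (H23.mem_sylow_smul.1 ha) _ (H23.mem_sylow_smul.1 hb)
    calc a * b = g * (g⁻¹ * a * g * (g⁻¹ * b * g)) * g⁻¹ := by group
      _ = b * a := by rw [this]; group
  hN := by rw [H23.sylow_coe_smul, ← H1.conj_smul_normalizer, H1.card_conj_smul, h.hN]
  hC := by rw [H23.sylow_coe_smul, ← H1.conj_smul_centralizer, H1.card_conj_smul, h.hC]
  ti a x hx hx1 hax := by
    rw [H23.sylow_coe_smul, ← H1.conj_smul_centralizer] at hx hax ⊢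
    rw [← H1.conj_smul_normalizer]
    rw [H1.mem_conj_smul_iff] at hx hax ⊢
    refine h.ti _ _ hx (fun e => hx1 ?_) (by simpa [mul_assoc] using hax)
    calc x = g * (g⁻¹ * x * g) * g⁻¹ := by group
      _ = 1 := by rw [e]; group

theorem Hyp.odd {P : Sylow 3 G} {m : ℕ} (h : Hyp P m) : Odd m := by
  obtain ⟨n, hn⟩ := P.isPGroup'.exists_card_eq
  rw [← h.card, hn]; exact Odd.pow (by decide)

theorem Hyp.le {P : Sylow 3 G} {m : ℕ} (h : Hyp P m) :
    (P : Subgroup G) ≤ centralizer ((P : Subgroup G) : Set G) := fun a ha b hb => h.ab b hb a ha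

theorem Hyp.relIndex {P : Sylow 3 G} {m : ℕ} (h : Hyp P m) :
    (P : Subgroup G).relIndex (centralizer ((P : Subgroup G) : Set G)) = 2 := by
  have := H1.relIndex_mul_card h.le
  rw [h.hC, h.card] at this
  exact Nat.eq_of_mul_eq_mul_right h.odd.pos this

theorem Hyp.relIndex' {P : Sylow 3 G} {m : ℕ} (h : Hyp P m) :
    (centralizer ((P : Subgroup G) : Set G)).relIndex (normalizer ((P : Subgroup G) : Set G)) = 2 := by
  have := H1.relIndex_mul_card (centralizer_le_normalizer ((P : Subgroup G) : Set G))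
  rw [h.hC, h.hN] at this
  have := h.odd.pos
  nlinarith

theorem mul_mem_of_relIndex_two {H K : Subgroup G} (h : H.relIndex K = 2) {a b : G} (ha : a ∈ K)
    (hb : b ∈ K) (ha' : a ∉ H) (hb' : b ∉ H) : a * b ∈ H :=
  (mul_mem_iff_of_index_two (H := H.subgroupOf K) h (a := ⟨a, ha⟩) (b := ⟨b, hb⟩)).2
    (iff_of_false ha' hb')

theorem Hyp.notMem {P : Sylow 3 G} {m : ℕ} (h : Hyp P m) {u : G} (hu : orderOf u = 2) :
    u ∉ (P : Subgroup G) := fun hm => by
  have := orderOf_dvd_natCard _ hm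
  rw [hu, h.card] at this
  exact h.odd.not_two_dvd_nat this

theorem Hyp.eq_one {P : Sylow 3 G} {m : ℕ} (h : Hyp P m) {x : G} (hx : x ∈ (P : Subgroup G))
    (h2 : x ^ 2 = 1) : x = 1 := by
  by_contra hc
  exact h.notMem (orderOf_eq_prime h2 hc) hx

theorem Hyp.unique {P : Sylow 3 G} {m : ℕ} (h : Hyp P m) {u v : G} (hu : orderOf u = 2)
    (hv : orderOf v = 2) (hu' : u ∈ centralizer ((P : Subgroup G) : Set G))
    (hv' : v ∈ centralizer ((P : Subgroup G) : Set G)) : u = v := by
  have h1 := mul_mem_of_relIndex_two h.relIndex hu' hv' (h.notMem hu) (h.notMem hv)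
  have u2 : u * u = 1 := by rw [← sq, ← hu, pow_orderOf_eq_one]
  have v2 : v * v = 1 := by rw [← sq, ← hv, pow_orderOf_eq_one]
  have h2 : u * v * v = v * (u * v) := hv' _ h1
  have h3 : u * v = 1 := h.eq_one h1 (by
    rw [sq, mul_assoc, ← h2, mul_assoc u v v, v2, mul_one, u2])
  rw [← inv_eq_of_mul_eq_one_right h3, inv_eq_of_mul_eq_one_right u2]

theorem Hyp.exists_inv {P : Sylow 3 G} {m : ℕ} (h : Hyp P m) :
    ∃ t ∈ centralizer ((P : Subgroup G) : Set G), orderOf t = 2 := by
  obtain ⟨t, ht⟩ := exists_prime_orderOf_dvd_card' (G := centralizer ((P : Subgroup G) : Set G)) 2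
    (by rw [h.hC]; exact dvd_mul_right _ _)
  exact ⟨t, t.2, by rw [orderOf_coe, ht]⟩

theorem Hyp.conj_eq {P : Sylow 3 G} {m : ℕ} (h : Hyp P m) {t g : G}
    (ht : t ∈ centralizer ((P : Subgroup G) : Set G)) (ot : orderOf t = 2)
    (hg : g ∈ normalizer (centralizer ((P : Subgroup G) : Set G) : Set G)) : g ∈ centralizer {t} := by
  have := h.unique (by rw [H24.orderOf_conj, ot]) ot (H1.conj_mem_of_mem_normalizer hg ht) ht
  exact mem_cent_iff_conj.2 this

section
variable {m : ℕ} (hall : ∀ P : Sylow 3 G, Hyp P m) [IsSimpleGroup G]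
  (heven : ∀ H : Subgroup G, H ≠ ⊤ → 2 ∣ Nat.card H → Nat.card H ∣ 4 * m)
include hall

theorem not_comm : ¬ ∀ a b : G, a * b = b * a := fun hc => by
  obtain ⟨P⟩ : Nonempty (Sylow 3 G) := inferInstance
  have := (hall P).relIndex'
  rw [show centralizer ((P : Subgroup G) : Set G) = ⊤ from eq_top_iff.2 fun a _ b _ => hc b a,
    relIndex_top_left] at this
  omega

theorem normalizer_zpowers_ne_top {y : G} (hy : y ≠ 1) : normalizer (zpowers y : Set G) ≠ ⊤ := fun e => by
  rcases (normalizer_eq_top_iff.1 e).eq_bot_or_eq_top with h | h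
  · exact hy (zpowers_eq_bot.1 h)
  · refine not_comm hall fun a b => ?_
    obtain ⟨i, rfl⟩ := mem_zpowers_iff.1 (h ▸ mem_top a : a ∈ zpowers y)
    obtain ⟨j, rfl⟩ := mem_zpowers_iff.1 (h ▸ mem_top b : b ∈ zpowers y)
    exact zpow_mul_comm y i j

include heven

theorem cent_eq {P : Sylow 3 G} {t : G} (ht : t ∈ centralizer ((P : Subgroup G) : Set G))
    (ot : orderOf t = 2) : centralizer {t} = normalizer ((P : Subgroup G) : Set G) := by
  have h1 : normalizer ((P : Subgroup G) : Set G) ≤ centralizer {t} := fun g hg =>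
    (hall P).conj_eq ht ot (H1.normalizer_le_normalizer_centralizer _ hg)
  have h2 : centralizer {t} ≠ ⊤ := fun e => normalizer_zpowers_ne_top hall (y := t)
    (by rintro rfl; simp at ot)
    (eq_top_iff.2 (e ▸ H1.centralizer_zpowers t ▸ centralizer_le_normalizer _))
  refine (eq_of_le_of_card_ge h1 ?_).symm
  rw [(hall P).hN]
  exact Nat.le_of_dvd (by have := (hall P).odd.pos; omega)
    (heven _ h2 (ot ▸ orderOf_dvd_natCard _ (self_mem_cent t)))

theorem ti {P : Sylow 3 G} {g x : G} (hx : x ∈ centralizer ((P : Subgroup G) : Set G)) (h1 : x ≠ 1)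
    (hg : g * x * g⁻¹ ∈ centralizer ((P : Subgroup G) : Set G)) :
    g ∈ normalizer ((P : Subgroup G) : Set G) := by
  obtain ⟨t, ht, ot⟩ := (hall P).exists_inv
  rw [← cent_eq hall heven ht ot]
  exact (hall P).conj_eq ht ot ((hall P).ti g x hx h1 hg)

theorem ti' {P Q : Sylow 3 G} {x : G} (hx : x ∈ centralizer ((P : Subgroup G) : Set G)) (h1 : x ≠ 1)
    (hQ : x ∈ centralizer ((Q : Subgroup G) : Set G)) : P = Q := by
  obtain ⟨g, rfl⟩ := MulAction.exists_smul_eq G P Q
  rw [H23.sylow_coe_smul, ← H1.conj_smul_centralizer, H1.mem_conj_smul_iff] at hQ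
  have := ti hall heven (g := g⁻¹) hx h1 (by simpa using hQ)
  exact (H23.smul_eq_iff.2 (inv_mem_iff.1 this)).symm

theorem card_sylow_two (S : Sylow 2 G) : Nat.card S = 4 := by
  obtain ⟨P⟩ : Nonempty (Sylow 3 G) := inferInstance
  obtain ⟨n, hn⟩ := S.isPGroup'.exists_card_eq
  have h4 : 2 ^ 2 ∣ Nat.card S := S.pow_dvd_card_of_pow_dvd_card
    (dvd_trans ⟨m, (hall P).hN⟩ (card_subgroup_dvd_card _))
  have hne : (S : Subgroup G) ≠ ⊤ := fun e => by
    have h3 : IsPGroup 2 G := (e ▸ S.isPGroup').of_equiv topEquiv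
    haveI := h3.center_nontrivial
    rcases (inferInstance : (center G).Normal).eq_bot_or_eq_top with h | h
    · exact (center G).nontrivial_iff_ne_bot.1 this h
    · exact not_comm hall fun a b => mem_center_iff.1 (h ▸ mem_top b : b ∈ center G) a
  refine Nat.dvd_antisymm ?_ h4
  refine Nat.Coprime.dvd_of_dvd_mul_right ?_ (heven _ hne (dvd_trans (by norm_num) h4))
  rw [hn]
  exact Nat.Coprime.pow_left _ (Nat.coprime_two_left.2 (hall P).odd)

theorem sq_eq_one {y : G} (hy : y ^ 4 = 1) : y ^ 2 = 1 := by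
  by_contra hc
  have ho : orderOf y = 2 ^ 2 := orderOf_eq_prime_pow (p := 2) (n := 1) hc hy
  obtain ⟨S, hS⟩ := exists_sylow_mem ho
  have h4 := card_sylow_two hall heven S
  have hcyc : IsCyclic S := isCyclic_of_orderOf_eq_card (⟨y, hS⟩ : S) (by
    rw [← orderOf_coe, ho, h4]; rfl)
  have h2 : (Nat.card G).minFac = 2 := (Nat.minFac_eq_two_iff _).2
    (dvd_trans (by rw [h4]; norm_num) (card_subgroup_dvd_card (S : Subgroup G)))
  have hc' := hcyc.isComplement' (P := S) h2
  rcases (inferInstance : (MonoidHom.transferSylow S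
    (hcyc.normalizer_le_centralizer h2)).ker.Normal).eq_bot_or_eq_top with h | h
  · rw [h, isComplement'_bot_left] at hc'
    haveI := hcyc
    exact not_comm hall fun a b => H1.isMulCommutative_iff.1 (inferInstance : IsMulCommutative S)
      a (hc' ▸ mem_top a) b (hc' ▸ mem_top b)
  · rw [h, isComplement'_top_left] at hc'
    rw [hc', card_bot] at h4
    omega

theorem exists_sylow {u : G} (hu : orderOf u = 2) :
    ∃ Q : Sylow 3 G, u ∈ centralizer ((Q : Subgroup G) : Set G) := by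
  obtain ⟨P⟩ : Nonempty (Sylow 3 G) := inferInstance
  obtain ⟨t, ht, ot⟩ := (hall P).exists_inv
  obtain ⟨S, hS⟩ := exists_sylow_mem (p := 2) (k := 1) ot
  have h4 := card_sylow_two hall heven S
  have u2 : u ^ 2 = 1 := by rw [← hu, pow_orderOf_eq_one]
  obtain ⟨g, hg⟩ : ∃ g : G, g⁻¹ * u * g ∈ zpowers t := by
    by_contra hc
    push Not at hc
    have hr : (zpowers t).relIndex (S : Subgroup G) = 2 := by
      have := H1.relIndex_mul_card (zpowers_le_of_mem hS)
      rw [Nat.card_zpowers, ot, h4] at this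
      omega
    have ho : Odd (S : Subgroup G).index := Nat.odd_iff.2 (Nat.two_dvd_ne_zero.1 S.not_dvd_index)
    obtain ⟨M, hM, hi, -⟩ := H3.thompson_transfer ho hr hc
      (fun k g _ => by rw [pow_mul, u2, one_pow, mul_one, inv_mul_cancel]; exact one_mem _)
      ⟨1, by rw [pow_one, u2]⟩
    rcases hM.eq_bot_or_eq_top with h | h
    · rw [h, index_bot] at hi
      have := Nat.le_of_dvd Nat.card_pos (card_subgroup_dvd_card (S : Subgroup G))
      omega
    · rw [h, index_top] at hi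
      omega
  refine ⟨g • P, ?_⟩
  rw [H23.sylow_coe_smul, ← H1.conj_smul_centralizer, H1.mem_conj_smul_iff]
  exact zpowers_le_of_mem ht hg

theorem inverts {P : Sylow 3 G} {v : G} (hv : orderOf v = 2)
    (hN : v ∈ normalizer ((P : Subgroup G) : Set G)) (hC : v ∉ centralizer ((P : Subgroup G) : Set G))
    {c : G} (hc : c ∈ centralizer ((P : Subgroup G) : Set G)) : c * v * (c * v) = 1 := by
  have v2 : v * v = 1 := by rw [← sq, ← hv, pow_orderOf_eq_one]
  have vi : v⁻¹ = v := inv_eq_of_mul_eq_one_right v2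
  have key : ∀ x ∈ (P : Subgroup G), x * v * (x * v) = 1 := fun x hx => by
    have h1 : v * x * v⁻¹ ∈ (P : Subgroup G) := H1.conj_mem_of_mem_normalizer hN hx
    have h2 := (hall P).ab _ hx _ h1
    rw [vi] at h1 h2
    by_contra hne
    obtain ⟨Q, hQ⟩ := exists_sylow hall heven hv
    have h3 : x * (v * x * v) ∈ centralizer {v} := by
      rw [mem_cent]
      calc x * (v * x * v) * v = (v * v) * x * v * x * (v * v) := by rw [v2]; group; simp [sq, mul_assoc, v2]
        _ = v * (v * x * v * x) := by rw [v2]; simp [mul_assoc, ← mul_assoc v v, v2]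
        _ = v * (x * (v * x * v)) := by rw [h2]
    rw [cent_eq hall heven hQ hv] at h3
    have h4 : x * (v * x * v) ∈ (P : Subgroup G) := mul_mem hx h1
    have h5 : x * (v * x * v) ∈ (Q : Subgroup G) := by
      have := (P.isPGroup'.to_le (zpowers_le_of_mem h4)).inf_normalizer_sylow Q
      have h6 : x * (v * x * v) ∈ zpowers (x * (v * x * v)) ⊓ normalizer ((Q : Subgroup G) : Set G) :=
        ⟨mem_zpowers _, h3⟩
      exact (this.le h6).2
    have := ti' hall heven ((hall P).le h4) (by simpa [mul_assoc] using hne) ((hall Q).le h5)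
    exact hC (this ▸ hQ)
  by_cases hcP : c ∈ (P : Subgroup G)
  · exact key c hcP
  obtain ⟨t, ht, ot⟩ := (hall P).exists_inv
  have t2 : t * t = 1 := by rw [← sq, ← ot, pow_orderOf_eq_one]
  have h1 := mul_mem_of_relIndex_two (hall P).relIndex hc ht hcP ((hall P).notMem ot)
  have h2 : v * t = t * v := mem_cent.1 (cent_eq hall heven ht ot ▸ hN)
  have h3 : c * t * t = t * (c * t) := ht _ h1
  have h4 := key _ h1
  rw [mul_assoc c t t, t2, mul_one] at h3
  calc c * v * (c * v) = c * v * (t * (c * t) * v) := by rw [← h3]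
    _ = c * (v * t) * (c * t * v) := by group
    _ = 1 := by rw [h2, ← h4]; group

theorem degree {u : G} (hu : orderOf u = 2) :
    Nat.card {v : G // orderOf v = 2 ∧ u ≠ v ∧ u * v = v * u} = 2 * m := by
  obtain ⟨P, hP⟩ := exists_sylow hall heven hu
  have hc := cent_eq hall heven hP hu
  obtain ⟨S, hS⟩ := exists_sylow_mem (p := 2) (k := 1) hu
  have h4 := card_sylow_two hall heven S
  obtain ⟨v, hvS, hv⟩ : ∃ v ∈ (S : Subgroup G), v ∉ zpowers u := by
    by_contra hh
    push Not at hh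
    have := card_le_of_le (show (S : Subgroup G) ≤ zpowers u from hh)
    rw [Nat.card_zpowers, hu, h4] at this
    omega
  have ov : orderOf v = 2 := orderOf_eq_prime (sq_eq_one hall heven
    (orderOf_dvd_iff_pow_eq_one.1 (h4 ▸ orderOf_dvd_natCard _ hvS))) fun e => hv (e ▸ one_mem _)
  have hvN : v ∈ normalizer ((P : Subgroup G) : Set G) := hc ▸ mem_cent.2
    (H1.isMulCommutative_iff.1 (IsPGroup.isMulCommutative_of_card_eq_prime_sq (p := 2) h4) v hvS u hS)
  have hvC : v ∉ centralizer ((P : Subgroup G) : Set G) := fun h =>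
    hv ((hall P).unique hu ov hP h ▸ mem_zpowers u)
  have v2 : v * v = 1 := by rw [← sq, ← ov, pow_orderOf_eq_one]
  rw [← (hall P).hC]
  refine Nat.card_congr ⟨fun w => ⟨w.1 * v, mul_mem_of_relIndex_two (hall P).relIndex'
    (hc ▸ mem_cent.2 w.2.2.2.symm) hvN (fun h => w.2.2.1 ((hall P).unique hu w.2.1 hP h)) hvC⟩,
    fun c => ⟨c.1 * v, orderOf_eq_prime (by rw [sq]; exact inverts hall heven ov hvN hvC c.2)
      fun e => hvC ?_, fun e => hvC ?_, ?_⟩, fun w => Subtype.ext ?_, fun c => Subtype.ext ?_⟩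
  · rw [← inv_eq_of_mul_eq_one_right e]; exact inv_mem c.2
  · exact (Subgroup.mul_mem_cancel_left _ c.2).1 (e ▸ hP)
  · exact (mem_cent.1 (hc ▸ mul_mem (centralizer_le_normalizer _ c.2) hvN)).symm
  · simp [mul_assoc, v2]
  · simp [mul_assoc, v2]

theorem friend {s t : G} (hs : orderOf s = 2) (ht : orderOf t = 2) (hne : s ≠ t) :
    ∃! u : G, orderOf u = 2 ∧ (s ≠ u ∧ s * u = u * s) ∧ (t ≠ u ∧ t * u = u * t) := by
  have s2 : s * s = 1 := by rw [← sq, ← hs, pow_orderOf_eq_one]
  have t2 : t * t = 1 := by rw [← sq, ← ht, pow_orderOf_eq_one]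
  have si : s⁻¹ = s := inv_eq_of_mul_eq_one_right s2
  have tin : t⁻¹ = t := inv_eq_of_mul_eq_one_right t2
  have hst : s * t ≠ 1 := fun e => hne (si ▸ inv_eq_of_mul_eq_one_right e)
  refine existsUnique_of_exists_of_unique ?_ ?_
  · have e1 : s * (s * t) * s⁻¹ = (s * t)⁻¹ := by rw [mul_inv_rev, si, tin, ← mul_assoc, s2, one_mul]
    have e2 : t * (s * t) * t⁻¹ = (s * t)⁻¹ := by rw [mul_inv_rev, si, tin]; simp [mul_assoc, t2]
    by_cases h4 : (s * t) ^ 4 = 1
    · have h2 := sq_eq_one hall heven h4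
      have hc : s * t = t * s := by
        rw [sq, ← eq_inv_iff_mul_eq_one, mul_inv_rev, si, tin] at h2; exact h2
      refine ⟨s * t, orderOf_eq_prime h2 hst, ⟨fun e => ?_, by rw [mul_assoc, ← hc]⟩,
        fun e => ?_, by rw [← mul_assoc, ← hc]⟩
      · rw [left_eq_mul.1 e] at ht; simp at ht
      · rw [right_eq_mul.1 e] at hs; simp at hs
    have hsN : s ∈ normalizer (zpowers (s * t) : Set G) := H1.mem_normalizer_of_conj_mem fun a ha => by
      obtain ⟨k, rfl⟩ := mem_zpowers_iff.1 ha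
      rw [← conj_zpow, e1]
      exact zpow_mem (inv_mem (mem_zpowers _)) k
    have hd : orderOf (s * t) ∣ 4 * m := (orderOf_dvd_natCard _ (le_normalizer (mem_zpowers _))).trans
      (heven _ (normalizer_zpowers_ne_top hall hst) (hs ▸ orderOf_dvd_natCard _ hsN))
    obtain ⟨P⟩ : Nonempty (Sylow 3 G) := inferInstance
    obtain ⟨n, hn⟩ := P.isPGroup'.exists_card_eq
    rw [(hall P).card] at hn
    rw [orderOf_dvd_iff_pow_eq_one, pow_mul, ← orderOf_dvd_iff_pow_eq_one, hn] at hd
    obtain ⟨j, -, hj⟩ := (Nat.dvd_prime_pow Nat.prime_three).1 hd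
    obtain ⟨Q, hQ⟩ := exists_sylow_mem hj
    obtain ⟨u, hu, ou⟩ := (hall Q).exists_inv
    have key : ∀ w : G, w * (s * t) * w⁻¹ = (s * t)⁻¹ → w ≠ u ∧ w * u = u * w := fun w hw => by
      have h1 : w * (s * t) ^ 4 * w⁻¹ = ((s * t) ^ 4)⁻¹ := by rw [← conj_pow, hw, inv_pow]
      refine ⟨fun e => h4 ((hall Q).eq_one hQ ?_), mem_cent.1 (cent_eq hall heven hu ou ▸
        ti hall heven ((hall Q).le hQ) h4 (h1 ▸ inv_mem ((hall Q).le hQ)))⟩
      rw [e, ← hu _ hQ, mul_inv_cancel_right, eq_inv_iff_mul_eq_one] at h1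
      rw [sq, h1]
    exact ⟨u, ou, key s e1, key t e2⟩
  · have key : ∀ u : G, orderOf u = 2 ∧ (s ≠ u ∧ s * u = u * s) ∧ (t ≠ u ∧ t * u = u * t) →
        ∃ Q : Sylow 3 G, u ∈ centralizer ((Q : Subgroup G) : Set G) ∧
          s * t ∈ centralizer ((Q : Subgroup G) : Set G) := fun u hu => by
      obtain ⟨Q, hQ⟩ := exists_sylow hall heven hu.1
      have hc := cent_eq hall heven hQ hu.1
      exact ⟨Q, hQ, mul_mem_of_relIndex_two (hall Q).relIndex' (hc ▸ mem_cent.2 hu.2.1.2)
        (hc ▸ mem_cent.2 hu.2.2.2) (fun h => hu.2.1.1 ((hall Q).unique hs hu.1 h hQ))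
        (fun h => hu.2.2.1 ((hall Q).unique ht hu.1 h hQ))⟩
    intro u v hu hv
    obtain ⟨Q, h1, h2⟩ := key u hu
    obtain ⟨R, h3, h4⟩ := key v hv
    obtain rfl := ti' hall heven h2 hst h4
    exact (hall Q).unique hu.1 hv.1 h1 h3

end

/-- Let G be a finite group with an abelian Sylow 3-subgroup P such that the normalizer of P has order 4·#P, the centralizer C of P has order 2·#P, C meets each of its conjugates by elements outside its normalizer trivially, and every proper subgroup of G of even order has order dividing 4·#P. Then G is not simple. -/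
theorem result {G : Type*} [Group G] [Finite G]
    (P : Sylow 3 G) (hab : IsMulCommutative P)
    (hN : Nat.card (Subgroup.normalizer ((P : Subgroup G) : Set G)) = 4 * Nat.card P)
    (hC : Nat.card (Subgroup.centralizer (P : Set G)) = 2 * Nat.card P)
    (hTI : Cfsg.IsTISubset (Subgroup.centralizer (P : Set G) : Set G))
    (heven : ∀ H : Subgroup G, H ≠ ⊤ → 2 ∣ Nat.card H → Nat.card H ∣ 4 * Nat.card P) :
    ¬ IsSimpleGroup G := by
  intro hG
  have h0 : Hyp P (Nat.card P) := ⟨rfl, H1.isMulCommutative_iff.1 hab, hN, hC, fun g x hx h1 hg => by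
    by_contra hc
    exact h1 (hTI g hc x hx hg)⟩
  have hall : ∀ Q : Sylow 3 G, Hyp Q (Nat.card P) := fun Q => by
    obtain ⟨g, rfl⟩ := MulAction.exists_smul_eq G P Q
    exact h0.smul g
  obtain ⟨t, -, ot⟩ := h0.exists_inv
  haveI : Nonempty {u : G // orderOf u = 2} := ⟨⟨t, ot⟩⟩
  have h3 : Nat.card P ≠ 1 := fun e => by
    have e' : (P : Subgroup G) = ⊥ := card_eq_one.1 e
    have := h0.relIndex'
    rw [e', show centralizer ((⊥ : Subgroup G) : Set G) = ⊤ by simp, relIndex_top_left] at this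
    omega
  refine no_friendship (X := {u : G // orderOf u = 2}) (fun u v => u.1 ≠ v.1 ∧ u.1 * v.1 = v.1 * u.1)
    (fun x y h => ⟨h.1.symm, h.2.symm⟩) (fun x h => h.1 rfl) (k := 2 * Nat.card P)
    (by have := h0.odd.pos; omega) (fun u => ?_) (fun u v huv => ?_)
  · rw [← degree hall heven u.2]
    exact Nat.card_congr (Equiv.subtypeSubtypeEquivSubtypeInter _ fun v => u.1 ≠ v ∧ u.1 * v = v * u.1)
  · obtain ⟨w, hw, hu⟩ := friend hall heven u.2 v.2 (fun e => huv (Subtype.ext e))
    exact Nat.card_eq_one_iff_exists.2 ⟨⟨⟨w, hw.1⟩, hw.2⟩, fun z => Subtype.ext (Subtype.ext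
      (hu _ ⟨z.1.2, z.2⟩))⟩

end Cfsg.Agent.S4018
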