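import Cfsg.Statements.S4024
import Cfsg.Agent.H23.EqOrd2
import Cfsg.Agent.H1.PSolv

set_option autoImplicit false
open Cfsg

namespace Cfsg.Agent.S4024

open Subgroup Cfsg

theorem mem_of_conj {G : Type*} [Group G] [Finite G] {p : ℕ} [hp : Fact p.Prime]
    (hC : ∀ H K : Subgroup G, IsPGroup p H → IsPGroup p K → Nat.card H = Nat.card K →
      ∃ g : G, K = H.map (MulAut.conj g).toMonoidHom) {K : Subgroup G} (hK : K.Normal) {z : G}
    (hz : z ∈ K) (oz : orderOf z = p) (u : G) (hu : u ^ p = 1) : u ∈ K := by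
  by_cases h1 : u = 1
  · rw [h1]; exact one_mem _
  have ou := orderOf_eq_prime hu h1
  obtain ⟨g, hg⟩ := hC (zpowers z) (zpowers u) (H24.isPGroup_zpowers (k := 1) (by simpa using oz))
    (H24.isPGroup_zpowers (k := 1) (by simpa using ou))
    (by rw [Nat.card_zpowers, Nat.card_zpowers, oz, ou])
  obtain ⟨y, hy, rfl⟩ : u ∈ (zpowers z).map (MulAut.conj g).toMonoidHom := hg ▸ mem_zpowers u
  exact hK.conj_mem _ (zpowers_le_of_mem hz hy) g

/-- Let p be an odd prime and G a finite group in which any two p-subgroups of the same order are conjugate, with Sylow p-subgroup P. If H is a normal p-solvable subgroup of G whose order is divisible by p, then P is abelian, and either P ≤ H or P is cyclic. -/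
theorem result {G : Type*} [Group G] [Finite G]
    {p : ℕ} [Fact p.Prime] (hp : p ≠ 2) (hC : ∀ H K : Subgroup G, IsPGroup p H → IsPGroup p K → Nat.card H = Nat.card K →
      ∃ g : G, K = H.map (MulAut.conj g).toMonoidHom) (P : Sylow p G)
    (H : Subgroup G) [H.Normal] (hsolv : Cfsg.IsPSolvable p H) (hdiv : p ∣ Nat.card H) :
    IsMulCommutative P ∧ ((P : Subgroup G) ≤ H ∨ IsCyclic P) := by
  have hpp : p.Prime := Fact.out
  have hle : (∀ x : P, x ^ p = 1) → (P : Subgroup G) ≤ H := fun h x hx => by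
    obtain ⟨z, hz⟩ := exists_prime_orderOf_dvd_card' p hdiv
    exact mem_of_conj hC ‹_› z.2 (by rw [orderOf_coe, hz]) x (congrArg Subtype.val (h ⟨x, hx⟩))
  rcases H23.eqIso_cases P.isPGroup' (H23.eqIso_of_conj hC P.isPGroup') with h | h | h | h
  · exact ⟨inferInstance, Or.inr h⟩
  · exact ⟨h.1, Or.inl (hle h.2)⟩
  · exact absurd h.1 hp
  exfalso
  obtain ⟨z, a, b, oz, ha, hb, hw⟩ := H23.exists_inverting_of_cube hC P h.2.2.1 h.2.1 h.2.2.2
  set O := pPrimeCore p G
  have hO : (Nat.card O).Coprime p := H1.pPrimeCore_coprime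
  let f := QuotientGroup.mk' O
  haveI : (H.map f).Normal := Subgroup.Normal.map ‹_› f (QuotientGroup.mk'_surjective O)
  have hne : H.map f ≠ ⊥ := fun e => by
    have := card_dvd_of_le (H1.map_mk'_eq_bot_iff.1 e)
    exact hpp.coprime_iff_not_dvd.1 hO.symm (hdiv.trans this)
  obtain ⟨M, hMH, hMn, hM, hmin⟩ := H1.exists_minimal_normal_le (H.map f) hne
  have hMp : IsPGroup p M := by
    rcases H1.isPGroup_or_coprime_of_minimal_normal
      (H1.isPSolvable_of_le hMH (H1.isPSolvable_map hsolv f)) hmin with h | h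
    · exact h
    · have := H1.le_pPrimeCore hMn h
      rw [H1.pPrimeCore_quotient_pPrimeCore, le_bot_iff] at this
      exact absurd this hM
  obtain ⟨n, hn⟩ := IsPGroup.iff_card.1 hMp
  have hpM : p ∣ Nat.card (M.comap f) := by
    rw [H1.card_comap_mk', hn]
    refine (dvd_pow_self p ?_).mul_right _
    rintro rfl
    exact hM (card_eq_one.1 (by simpa using hn))
  obtain ⟨u, hu⟩ := exists_prime_orderOf_dvd_card' p hpM
  have key := mem_of_conj hC (hMn.comap f) u.2 (by rw [orderOf_coe, hu])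
  have hwM : f ((a * b * a) ^ 2) ∈ M :=
    (pow_mem (mul_mem (mul_mem (key a ha) (key b hb)) (key a ha)) 2 : _ ∈ M.comap f)
  have h1 : f ((a * b * a) ^ 2) * f z * (f ((a * b * a) ^ 2))⁻¹ = (f z)⁻¹ := by
    rw [← map_inv, ← map_mul, ← map_mul, hw, map_inv]
  have h2 := H23.sq_eq_one_of_odd_inverts h1 (((hpp.odd_of_ne_two hp).pow (n := n)).of_dvd_nat
    (hn ▸ orderOf_dvd_natCard _ hwM))
  rw [← map_pow] at h2
  have h3 := orderOf_dvd_natCard _ ((QuotientGroup.eq_one_iff _).1 h2)
  rw [Nat.Coprime.orderOf_pow (oz ▸ (Nat.coprime_primes hpp Nat.prime_two).2 hp), oz] at h3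
  exact hpp.coprime_iff_not_dvd.1 hO.symm h3

end Cfsg.Agent.S4024
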