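import Cfsg.Statements.S4033
import Cfsg.Agent.H25.Ito3

set_option autoImplicit false
open Cfsg

namespace Cfsg.Agent.S4033
open _root_.H25 Subgroup

open H19 H25.Ito in
theorem aux {G : Type*} [Group G] [Finite G] {p q : ℕ} (hp : p.Prime) (hq : q.Prime) (qp : q ≠ p)
    (h : ∀ s (x : G), s.Prime → s ≠ p → s ≠ q → PiE {s} x → x ∈ center G) (P Q : Subgroup G)
    (hP : H19.Syl p P ⊤) (hQ : H19.Syl q Q ⊤) : ∃ A : Subgroup G, A ≤ center G ∧
      #(P ⊔ Q) = #P * #Q ∧ (P ⊔ Q).Normal ∧ (P ⊔ Q) ⊓ A = ⊥ ∧ (P ⊔ Q) ⊔ A = ⊤ := by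
  have hZ : Ab (center G) := by infer_instance
  have hA : Hall {p, q}ᶜ (Oc {p, q}ᶜ (center G)) ⊤ :=
    (nil_Oc_hall (nil_of_ab hZ) _).of_idx le_top (by
      rw [compl_compl]
      exact piN_relIndex fun s x _ hs e => h s x hs (fun a => e (.inl a)) fun a => e (.inr a))
  have hn : Oc {p, q}ᶜ (center G) ⊴ ⊤ := (normalIn_top (H := center G)).Oc _
  obtain ⟨K, hK⟩ := hA.exists_compl hn.norm
  have hH := hK.hall_right hA
  rw [compl_compl] at hH
  have kn : ⊤ ≤ N(K) := by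
    rw [← hK.sup]
    exact sup_le (norms_of_cents ((Oc_le _ _).trans (center_le_cent K))) le_normalizer
  have le : P ⊔ Q ≤ K := sup_le (hH.le_of_normal kn le_top (hP.pi.sing (.inl rfl)))
    (hH.le_of_normal kn le_top (hQ.pi.sing (.inr rfl)))
  have h1 : Hall {p, q} (P ⊔ Q) ⊤ := hall_of_syl le_top (hH.pi.of_le le) fun s _ hs _ => by
    rcases hs with rfl | rfl
    · exact ⟨P, hP, le_sup_left⟩
    · exact ⟨Q, hQ, le_sup_right⟩
  have e : P ⊔ Q = K := h1.eq_of_le hH le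
  refine ⟨_, Oc_le {p, q}ᶜ _, ?_, by rw [e]; exact NormalIn.normal ⟨le_top, kn⟩,
    by rw [e, inf_comm]; exact hK.inf, by rw [e, sup_comm]; exact hK.sup⟩
  have h2 := hP.of_le le_sup_left (le_top (a := P ⊔ Q))
  have h3 := hQ.of_le le_sup_right (le_top (a := P ⊔ Q))
  rw [← h2.card_mul]
  congr 1
  have h4 : PiN {q} (P.relIndex (P ⊔ Q)) := fun r hr hd =>
    ((h1.pi.relIndex P) r hr hd).resolve_left (h2.idx r hr hd)
  refine Nat.dvd_antisymm (h3.dvd h4 (h2.card_mul ▸ Nat.dvd_mul_left _ _)) ?_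
  exact hQ.pi.dvd_of_dvd_mul (b := #P) (hP.pi.sing_ne qp.symm) (by
    rw [mul_comm, h2.card_mul]; exact card_dvd le_sup_right)

/-- Let G be a finite group and p a prime, and suppose the conjugacy classes of p-regular elements of G (elements of order prime to p) have exactly two distinct sizes. Then either G has an abelian p-complement (an abelian subgroup of order prime to p and p-power index), or there are a prime q ≠ p, a Sylow p-subgroup P, a Sylow q-subgroup Q and a central subgroup A such that PQ is a normal subgroup of order #P·#Q and G is the internal direct product PQ × A. -/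
theorem result {G : Type*} [Group G] [Finite G] {p : ℕ} (hp : p.Prime)
    (h2 : Set.ncard (Set.range fun x : {x : G // (orderOf x).Coprime p} => (ConjClasses.mk (x : G)).carrier.ncard) = 2) :
    (∃ H : Subgroup G, IsMulCommutative H ∧ ¬ p ∣ Nat.card H ∧ ∃ k : ℕ, H.index = p ^ k) ∨
    (∃ (q : ℕ) (_ : Fact q.Prime) (P : Sylow p G) (Q : Sylow q G) (A : Subgroup G), q ≠ p ∧
        A ≤ Subgroup.center G ∧ Nat.card ↥((P : Subgroup G) ⊔ (Q : Subgroup G)) = Nat.card P * Nat.card Q ∧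
        ((P : Subgroup G) ⊔ (Q : Subgroup G)).Normal ∧
        ((P : Subgroup G) ⊔ (Q : Subgroup G)) ⊓ A = ⊥ ∧ ((P : Subgroup G) ⊔ (Q : Subgroup G)) ⊔ A = ⊤) := by
  haveI := Fact.mk hp
  obtain ⟨a, b, ab, e⟩ := Set.ncard_eq_two.1 h2
  have m : ∀ x : G, H19.PiE {p}ᶜ x → H24.cs x = a ∨ H24.cs x = b := fun x hx => by
    have : (ConjClasses.mk x).carrier.ncard ∈ ({a, b} : Set ℕ) := e ▸ ⟨⟨x, hx.coprime_prime hp⟩, rfl⟩
    rwa [← Nat.card_coe_set_eq, H24.card_carrier_mk] at this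
  have m1 := m 1 H19.PiN.e_one
  rw [H24.cs_one] at m1
  rcases Ito.two_reg hp (fun x y hx hy h3 h4 => Ito.card_cent_eq (by
      have := m x hx
      have := m y hy
      have := mt H24.cs_eq_one_iff.1 h3
      have := mt H24.cs_eq_one_iff.1 h4
      change H24.cs x = H24.cs y
      omega)) with ⟨B, h1, h3⟩ | ⟨q, hq, qp, h3⟩
  · have h4 := h3.idx
    rw [compl_compl, relIndex_top_right] at h4
    exact .inl ⟨B, h1, (H19.piN_compl_singleton hp).1 h3.pi, h4.exists_pow index_ne_zero_of_finite⟩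
  · haveI := Fact.mk hq
    obtain ⟨P⟩ : Nonempty (Sylow p G) := inferInstance
    obtain ⟨Q⟩ : Nonempty (Sylow q G) := inferInstance
    obtain ⟨A, hA⟩ := aux hp hq qp h3 P Q (H19.syl_sylow_top P) (H19.syl_sylow_top Q)
    exact .inr ⟨q, inferInstance, P, Q, A, qp, hA⟩

end Cfsg.Agent.S4033
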