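import Cfsg.Statements.S4042
import Cfsg.Agent.H8.FS9

set_option autoImplicit false
open Cfsg

namespace Cfsg.Agent.S4042

/-- Let G be a finite group and π the set of primes dividing its order. Let a finite group A act on G by automorphisms so that the identity is the only element of G fixed by every element of A, and suppose A has a cyclic Hall π-subgroup and a normal π-complement (a normal subgroup whose order is divisible by no prime of π and whose index is divisible only by primes of π). Then G is solvable. -/
theorem result {G A : Type*} [Group G] [Finite G]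
    [Group A] [Finite A] (φ : A →* MulAut G) (hfpf : ∀ g : G, (∀ a : A, φ a g = g) → g = 1)
    (hHall : ∃ H : Subgroup A, Cfsg.IsPiHall {r : ℕ | r.Prime ∧ r ∣ Nat.card G} H ∧ IsCyclic H)
    (hcomp : ∃ K : Subgroup A, K.Normal ∧ (∀ r : ℕ, r.Prime → r ∣ Nat.card K → ¬ r ∣ Nat.card G) ∧
      ∀ r : ℕ, r.Prime → r ∣ K.index → r ∣ Nat.card G) :
    Group.IsSolvable G := by
  exact H8.FS.main.s4042 φ hfpf hHall hcomp

end Cfsg.Agent.S4042
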