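import Cfsg.Statements.S4078
import Cfsg.Agent.H1.Fla4

set_option autoImplicit false
open Cfsg

namespace Cfsg.Agent.S4078

/-- For an element x of a finite group G let Sol(x) be the set of y ∈ G such that x and y generate a solvable subgroup. Then G is solvable if and only if Sol(x) is (the carrier of) a subgroup of G for every x ∈ G. -/
theorem result {G : Type*} [Group G] [Finite G] :
    Group.IsSolvable G ↔ ∀ x : G, ∃ H : Subgroup G, (H : Set G) = {y : G | Group.IsSolvable ↥(Subgroup.closure ({x, y} : Set G))} := by
  exact ⟨fun _ x => ⟨⊤, (Set.eq_univ_of_forall fun y =>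
    (inferInstance : Group.IsSolvable (Subgroup.closure ({x, y} : Set G)))).symm⟩, H1.solvable_of_sol_subgroup⟩

end Cfsg.Agent.S4078
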