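import Cfsg.Statements.S4081
import Cfsg.Agent.H24.Affine
import Cfsg.Agent.H5.Burnside
import Cfsg.Agent.H17.Jordan

set_option autoImplicit false
open Cfsg

namespace Cfsg.Agent.S4081

open Subgroup H9 H24.NF Polynomial

variable {G : Type*} [Group G] {p q : ℕ} [hp : Fact p.Prime] [hq : Fact q.Prime] {V : Subgroup G}

/-- automorphisms acting on a characteristic elementary abelian subgroup -/
def autRep (hV : IsElementaryAbelian p V) [h : V.Characteristic] :
    MulAut G →* (EA hV ≃ₗ[ZMod p] EA hV) where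
  toFun α := AddEquiv.toLinearEquiv
    { toFun v := EA.mk hV (α v.val) ((characteristic_iff_le_comap.1 h α) v.val_mem)
      invFun v := EA.mk hV (α⁻¹ v.val) ((characteristic_iff_le_comap.1 h α⁻¹) v.val_mem)
      left_inv v := EA.ext (α.symm_apply_apply _)
      right_inv v := EA.ext (α.apply_symm_apply _)
      map_add' v w := EA.ext (α.map_mul _ _) } fun c x => ZMod.map_smul _ c x
  map_one' := rfl
  map_mul' _ _ := rfl

theorem val_autRep (hV : IsElementaryAbelian p V) [V.Characteristic] (α : MulAut G) (v : EA hV) :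
    (autRep hV α v).val = α v.val := rfl

theorem prim_of [Finite G] (hpq : p ≠ q) (hV : IsElementaryAbelian p V) [V.Characteristic] (h0 : V ≠ ⊥) {x : G}
    (hx : orderOf x = q) (hc : V ⊔ zpowers x = ⊤) (hf : ∀ v ∈ V, v ≠ 1 → x * v * x⁻¹ ≠ v)
    (h1 : ∀ v ∈ V, ∀ w ∈ V, v ≠ 1 → w ≠ 1 → ∃ α : MulAut G, α v = w)
    (h2 : ∀ y, orderOf y = q → ∃ α : MulAut G, α x = y) : orderOf (p : ZMod q) = q - 1 := by
  obtain ⟨v, hv⟩ := ne_bot_iff_exists_ne_one.1 h0
  have hv' : EA.mk hV v v.2 ≠ 0 := fun e => hv (Subtype.ext (congrArg EA.val e))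
  have : Nontrivial (EA hV) := ⟨_, _, hv'⟩
  let ρ := (autRep hV).rangeRestrict
  let ψ := ρ.comp MulAut.conj
  have ht : Tr (autRep hV).range.subtype := fun a b ha hb =>
    (h1 _ a.val_mem _ b.val_mem (mt EA.val_eq_one.1 ha) (mt EA.val_eq_one.1 hb)).elim
      fun α e => ⟨ρ α, EA.ext e⟩
  have h3 : ∀ α g, ρ α * ψ g * (ρ α)⁻¹ = ψ (α g) := fun α g => by
    rw [← map_inv, MonoidHom.comp_apply, ← map_mul, ← map_mul]
    exact congrArg ρ (MulEquiv.ext fun y => by simp)
  have h4 : ∀ g, ψ g ∈ zpowers (ψ x) := fun g => by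
    have : ⊤ ≤ (zpowers (ψ x)).comap ψ := hc ▸ sup_le (fun u hu => by
      rw [mem_comap, show ψ u = 1 from Subtype.ext (LinearEquiv.ext fun a => EA.ext (by
        change u * a.val * u⁻¹ = a.val
        rw [IsElementaryAbelian.comm hV hu a.val_mem, mul_inv_cancel_right]))]
      exact one_mem _) (zpowers_le_of_mem (mem_zpowers _))
    exact this (mem_top g)
  have : (zpowers (ψ x)).Normal := ⟨by
    rintro _ ⟨k, rfl⟩ γ
    obtain ⟨α, rfl⟩ := (autRep hV).rangeRestrict_surjective γ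
    simp only [← map_zpow]
    exact h3 α _ ▸ h4 _⟩
  have hK := ht.dom (A := zpowers (ψ x)) inferInstance
  let := hK.isField.toField
  have h5 : orderOf (ψ x) = q := orderOf_eq_prime (by rw [← map_pow, ← hx, pow_orderOf_eq_one,
    map_one]) fun e => hf v v.2 (by simpa using hv) (congrArg (fun γ : (autRep hV).range =>
      ((γ : EA hV ≃ₗ[ZMod p] EA hV) (EA.mk hV v v.2)).val) e)
  obtain ⟨u, hu⟩ := IsCyclic.exists_ofOrder_eq_natCard (α := (ZMod q)ˣ)
  rw [Nat.card_eq_fintype_card, ZMod.card_units, ← orderOf_units] at hu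
  obtain ⟨α, hα⟩ := h2 (x ^ (u : ZMod q).val) (by
    rw [Nat.Coprime.orderOf_pow (by rw [hx]; exact (ZMod.val_coe_unit_coprime u).symm), hx])
  obtain ⟨i, hi⟩ := FiniteField.exists_forall_apply_eq_pow (ZMod p) p
    (Alg (autRep hV).range.subtype (zpowers (ψ x))) (nm_Alg.aut (ρ α))
  have h6 := congrArg Subtype.val (hi ⟨_, R_mem_Alg (mem_zpowers (ψ x))⟩)
  rw [Nm.aut_apply, ← map_mul, ← map_mul, h3, hα] at h6
  replace h6 : R (autRep hV).range.subtype (ψ (x ^ (u : ZMod q).val)) =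
    R (autRep hV).range.subtype (ψ x) ^ (Nat.card (ZMod p) ^ i) := h6
  rw [← map_pow, map_pow ψ,
    (R_inj (subtype_injective _)).eq_iff, pow_eq_pow_iff_modEq, h5, ← ZMod.natCast_eq_natCast_iff,
    ZMod.natCast_zmod_val, Nat.card_zmod, Nat.cast_pow] at h6
  have h7 : (p : ZMod q) ≠ 0 := fun e => hpq ((Nat.prime_dvd_prime_iff_eq hq.1 hp.1).1
    ((ZMod.natCast_eq_zero_iff _ _).1 e)).symm
  exact Nat.dvd_antisymm (ZMod.orderOf_dvd_card_sub_one h7) (hu ▸ h6 ▸ orderOf_pow_dvd _)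

theorem exists_aut [Finite G] [V.Normal] (hV : IsElementaryAbelian p V) {x : G}
    (hc : V.IsComplement' (zpowers x)) {j : ℕ} (hj : (orderOf x).Coprime j) (φ : EA hV ≃+ EA hV)
    (hφ : ∀ a b : EA hV, b.val = x * a.val * x⁻¹ → (φ b).val = x ^ j * (φ a).val * (x ^ j)⁻¹) :
    ∃ α : MulAut G, (∀ a, α a.val = (φ a).val) ∧ α x = x ^ j := by
  let f : V →* G := ⟨⟨fun v => (φ (EA.mk hV v v.2)).val, by
    rw [EA.val_eq_one, φ.map_eq_zero_iff]; rfl⟩, fun v w => by
      rw [← EA.val_add, ← map_add]; rfl⟩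
  let := IsCyclic.commGroup (α := zpowers x)
  let g : zpowers x →* G := (zpowers x).subtype.comp (powMonoidHom j)
  have h1 : ∀ (k : ℕ) (a b : EA hV), b.val = x ^ k * a.val * (x ^ k)⁻¹ →
      (φ b).val = (x ^ k) ^ j * (φ a).val * ((x ^ k) ^ j)⁻¹ := fun k => by
    induction k with
    | zero => intro a b e; simp [EA.ext (by simpa using e : b.val = a.val)]
    | succ k ih =>
      intro a b e
      rw [hφ (EA.mk hV _ (Normal.conj_mem ‹_› _ a.val_mem (x ^ k))) b (by
        rw [e, EA.val_mk]; group), ih a _ rfl, pow_succ', (Commute.self_pow x k).mul_pow]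
      group
  let e := SemidirectProduct.mulEquivSubgroup hc
  let F := (SemidirectProduct.lift f g (φ := (V.normalizerMonoidHom).comp
    (inclusion (V.normalizer_eq_top ▸ le_top))) fun y => MonoidHom.ext fun v => by
      obtain ⟨k, hk⟩ := mem_powers_iff_mem_zpowers.2 y.2
      refine (h1 k (EA.mk hV v v.2) _ (by rw [show x ^ k = y from hk]; rfl)).trans ?_
      rw [show x ^ k = y from hk]; rfl).comp e.symm.toMonoidHom
  have h2 : ∀ a : EA hV, F a.val = (φ a).val := fun a => by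
    rw [show a.val = e (.inl ⟨_, a.val_mem⟩) by simp [e]]
    simp [F, f]
  have h3 : F x = x ^ j := by
    rw [show F x = F (e (.inr ⟨x, mem_zpowers x⟩)) by simp [e]]
    simp [F, g]
  refine ⟨MulEquiv.ofBijective F (Finite.injective_iff_surjective.2 ?_).bijective_of_finite, h2, h3⟩
  rw [← MonoidHom.range_eq_top, eq_top_iff, ← hc.sup_eq_top]
  refine sup_le (fun v hv => ⟨(φ.symm (EA.mk hV v hv)).val, by simp [h2]⟩) (zpowers_le_of_mem ?_)
  obtain ⟨m, hm⟩ := exists_pow_eq_self_of_coprime hj.symm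
  exact ⟨x ^ m, by rw [map_pow, h3, hm]⟩

theorem back [Finite G] [V.Normal] (hpq : p ≠ q) (hV : IsElementaryAbelian p V) (h0 : V ≠ ⊥) {x : G}
    (hx : orderOf x = q) (hc : V.IsComplement' (zpowers x))
    (hf : ∀ v ∈ V, v ≠ 1 → x * v * x⁻¹ ≠ v) (ho : orderOf (p : ZMod q) = q - 1) :
    (∀ v ∈ V, ∀ w ∈ V, v ≠ 1 → w ≠ 1 → ∃ α : MulAut G, α v = w) ∧ ∃ α : MulAut G, α x = x ^ p := by
  obtain ⟨v, hv⟩ := ne_bot_iff_exists_ne_one.1 h0
  have : Nontrivial (EA hV) := ⟨EA.mk hV v v.2, 0, fun e => hv (Subtype.ext (congrArg EA.val e))⟩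
  let r := EA.rep hV (H := ⊤) V.normalizer_eq_top.ge
  set T := r ⟨x, trivial⟩
  have h1 : ∀ (k : ℕ) a, ((T ^ k) a).val = x ^ k * a.val * (x ^ k)⁻¹ := fun k a => by
    rw [← map_pow]; rfl
  have h2 : aeval T (cyclotomic q (ZMod p)) = 0 := LinearMap.ext fun a => by_contra fun e => by
    have e1 := congrArg (fun f => aeval T f a) ((mul_comm _ _).trans
      (cyclotomic_prime_mul_X_sub_one (ZMod p) q))
    simp only [map_mul, map_sub, aeval_X, map_one, map_pow, Module.End.mul_apply,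
      LinearMap.sub_apply, Module.End.one_apply] at e1
    rw [show (T ^ q) a = a from EA.ext (by rw [h1, ← hx, pow_orderOf_eq_one]; simp), sub_self,
      sub_eq_zero] at e1
    exact hf _ (EA.val_mem _) (mt EA.val_eq_one.1 e) (congrArg EA.val e1)
  have h3 : ¬ p ∣ q := fun e => hpq ((Nat.prime_dvd_prime_iff_eq hp.1 hq.1).1 e)
  have h4 := ZMod.irreducible_of_dvd_cyclotomic_of_natDegree h3 dvd_rfl (by
    rw [natDegree_cyclotomic, Nat.totient_prime hq.1, ← orderOf_units, ZMod.coe_unitOfCoprime, ho])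
  have hK : Dom (Algebra.adjoin (ZMod p) {T}) := fun y hy a ha e => by
    rw [Algebra.adjoin_singleton_eq_range_aeval] at hy
    obtain ⟨f, rfl⟩ := hy
    rcases (EuclideanDomain.dvd_or_coprime _ f h4) with ⟨g, rfl⟩ | ⟨s, t, e'⟩
    · simp [h2]
    · have := congrArg (fun f => aeval T f a) e'
      simp only [map_add, map_mul, h2, mul_zero, zero_add, Module.End.mul_apply, map_one,
        Module.End.one_apply] at this
      exact absurd (by rw [← this, show aeval T f a = 0 from e, map_zero]) ha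
  set K := Algebra.adjoin (ZMod p) {T}
  let := hK.isField.toField
  let t : K := ⟨T, Algebra.self_mem_adjoin_singleton _ _⟩
  have h5 : ∀ a b : EA hV, b.val = x * a.val * x⁻¹ → b = t • a := fun a b e => EA.ext e
  refine ⟨fun v hv w hw v1 w1 => ?_, ?_⟩
  · have v0 : EA.mk hV v hv ≠ 0 := fun e => v1 (congrArg EA.val e)
    have w0 : EA.mk hV w hw ≠ 0 := fun e => w1 (congrArg EA.val e)
    obtain ⟨φ, hφ⟩ := Submodule.exists_linearEquiv_restrict_eq
      ((LinearEquiv.toSpanNonzeroSingleton K _ _ v0).symm.trans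
        (LinearEquiv.toSpanNonzeroSingleton K _ _ w0))
    obtain ⟨α, h6, -⟩ := exists_aut hV hc (j := 1) (by simp) φ.toAddEquiv fun a b e => by
      rw [h5 a b e, pow_one]; exact congrArg EA.val (φ.map_smul t a)
    refine ⟨α, (h6 (EA.mk hV v hv)).trans (congrArg EA.val (?_ : φ _ = EA.mk hV w hw))⟩
    have := hφ (LinearEquiv.toSpanNonzeroSingleton K _ _ v0 1)
    rw [LinearEquiv.trans_apply, LinearEquiv.symm_apply_apply,
      LinearEquiv.toSpanNonzeroSingleton_one, LinearEquiv.toSpanNonzeroSingleton_one] at this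
    exact this.symm
  · have : CharP K p := charP_of_injective_algebraMap (algebraMap (ZMod p) K).injective p
    let b := (Module.finBasis K (EA hV)).equivFun
    obtain ⟨α, -, h6⟩ := exists_aut hV hc (j := p) (hx ▸ (Nat.coprime_primes hq.1 hp.1).2 hpq.symm)
      ((b.toAddEquiv.trans (AddEquiv.piCongrRight fun _ => (frobeniusEquiv K p).toAddEquiv)).trans
        b.toAddEquiv.symm) fun a c e => by
        rw [h5 a c e, ← h1]
        refine congrArg EA.val ((b.symm_apply_eq.2 (funext fun i => ?_)).trans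
          (b.symm.map_smul (t ^ p) _))
        simp [frobenius_def, mul_pow]
    exact ⟨α, h6⟩

theorem compl [Finite G] (hpq : p ≠ q) (P : Sylow p G) {n : ℕ} (h : Nat.card G = p ^ n * q) {x : G}
    (hx : orderOf x = q) : (P : Subgroup G).IsComplement' (zpowers x) := by
  have h1 : Nat.card P = p ^ n := by
    rw [P.card_eq_multiplicity, h, Nat.factorization_mul (pow_ne_zero _ hp.1.ne_zero) hq.1.ne_zero,
      hp.1.factorization_pow, hq.1.factorization]
    simp [hpq.symm]
  exact isComplement'_of_coprime (by rw [h1, Nat.card_zpowers, hx, h]) (by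
    rw [h1, Nat.card_zpowers, hx]; exact ((Nat.coprime_primes hp.1 hq.1).2 hpq).pow_left n)

theorem fwd [Finite G] (hpq : p ≠ q) {a b : G} (ha : orderOf a = p) (hb : orderOf b = q)
    (key : ∀ g, g = 1 ∨ (∃ α : MulAut G, α a = g) ∨ ∃ α : MulAut G, α b = g) (M : Subgroup G)
    [M.Normal] (hM : IsPGroup p M) (h0 : M ≠ ⊥) : ∃ n, 1 ≤ n ∧ Nat.card G = p ^ n * q ∧
      (∀ P : Sylow p G, (P : Subgroup G).Normal ∧ IsElementaryAbelian p (P : Subgroup G)) ∧
      orderOf (p : ZMod q) = q - 1 ∧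
      ∀ x y : G, orderOf x = q → orderOf y = p → x * y * x⁻¹ ≠ y := by
  have k0 : ∀ g : G, orderOf g = 1 ∨ orderOf g = p ∨ orderOf g = q := fun g =>
    (key g).imp orderOf_eq_one_iff.2 (Or.imp (fun ⟨α, e⟩ => by rw [← e, α.orderOf_eq, ha])
      fun ⟨α, e⟩ => by rw [← e, α.orderOf_eq, hb])
  have k1 : ∀ {r : ℕ} {c : G}, orderOf c = r → r.Prime → ∀ g h : G, orderOf g = r → orderOf h = r →
      ∃ α : MulAut G, α g = h := fun {r c} _ hr g h e e' => by
    have := hr.one_lt
    rcases key g with rfl | ⟨α, rfl⟩ | ⟨α, rfl⟩ <;> rcases key h with rfl | ⟨β, rfl⟩ | ⟨β, rfl⟩ <;>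
      simp only [orderOf_one, MulEquiv.orderOf_eq] at e e' <;>
      first | omega | exact ⟨β * α⁻¹, by simp⟩
  have k2 : ∀ (P : Subgroup G), IsPGroup p P → ∀ g ∈ P, g ≠ 1 → orderOf g = p := fun P hP g hg e => by
    obtain ⟨k, hk⟩ := IsPGroup.iff_orderOf.1 hP ⟨g, hg⟩
    rw [orderOf_mk] at hk
    rcases k0 g with h | h | h
    · exact absurd (orderOf_eq_one_iff.1 h) e
    · exact h
    · exact absurd ((Nat.prime_dvd_prime_iff_eq hq.1 hp.1).1
        (hq.1.dvd_of_dvd_pow (hk ▸ h.symm.dvd))).symm hpq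
  have k3 : ∀ (P : Sylow p G) (g : G), g ∈ (P : Subgroup G) ↔ g ^ p = 1 := fun P g => by
    by_cases e : g = 1
    · simp [e]
    refine ⟨fun h => k2 P P.2 g h e ▸ pow_orderOf_eq_one g, fun h => ?_⟩
    obtain ⟨m, hm⟩ := ne_bot_iff_exists_ne_one.1 h0
    obtain ⟨α, rfl⟩ := k1 ha hp.1 m g (k2 M hM m m.2 (by simpa using hm)) (orderOf_eq_prime h e)
    have := Normal.map ‹M.Normal› α.toMonoidHom α.surjective
    exact (hM.map α.toMonoidHom).le_sylow_of_normal P (mem_map_of_mem _ m.2)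
  have k4 : ∀ P : Sylow p G, (P : Subgroup G).Characteristic := fun P =>
    characteristic_iff_le_comap.2 fun α g hg => (k3 P _).2 (by
      rw [MulEquiv.coe_toMonoidHom, ← map_pow, (k3 P g).1 hg, map_one])
  have k5 : ∀ x y : G, orderOf x = q → orderOf y = p → x * y * x⁻¹ ≠ y := fun x y hx hy e => by
    have := (show Commute x y from mul_inv_eq_iff_eq_mul.1 e).orderOf_mul_eq_mul_orderOf_of_coprime
      (by rw [hx, hy]; exact (Nat.coprime_primes hq.1 hp.1).2 hpq.symm)
    have := k0 (x * y)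
    have := hp.1.two_le
    have := hq.1.two_le
    rw [hx, hy] at *
    rcases ‹_ ∨ _› with h | h | h <;> nlinarith
  have a1 : a ≠ 1 := fun e => hp.1.one_lt.ne (by rw [← ha, e, orderOf_one])
  have k6 : ∀ P : Sylow p G, (P : Subgroup G) ≠ ⊥ := fun P e =>
    a1 ((eq_bot_iff_forall _).1 e a ((k3 P a).2 (ha ▸ pow_orderOf_eq_one a)))
  have k7 : ∀ P : Sylow p G, IsElementaryAbelian p (P : Subgroup G) := fun P => by
    have := (nontrivial_iff_ne_bot _).2 (k6 P)
    obtain ⟨z, hz⟩ := (nontrivial_iff_exists_ne 1).1 P.2.center_nontrivial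
    refine ⟨⟨⟨fun y w => Subtype.ext ?_⟩⟩, fun g => (k3 P g).1⟩
    by_cases e : (y : G) = 1
    · simp [e]
    obtain ⟨α, hα⟩ := k1 ha hp.1 z y (k2 P P.2 _ z.1.2 (by simpa using hz)) (k2 P P.2 _ y.2 e)
    have := congrArg (fun u : P => α u) (mem_center_iff.1 z.2
      ⟨_, characteristic_iff_le_comap.1 (k4 P) α.symm w.2⟩)
    simpa [hα] using this.symm
  obtain ⟨P⟩ : Nonempty (Sylow p G) := inferInstance
  have := k4 P
  have k8 : ¬ q ^ 2 ∣ Nat.card G := fun e => by
    obtain ⟨B, hB⟩ := Sylow.exists_subgroup_card_pow_prime q e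
    have := (nontrivial_iff_ne_bot _).2 (k6 P)
    have := IsPGroup.isMulCommutative_of_card_eq_prime_sq hB
    have := H24.isCyclic_of_fpf ((P : Subgroup G).normalizerMonoidHom.comp
      (inclusion (le_top.trans (normalizer_eq_top _).ge))) (fun (u : B) hu v e => by_contra fun e' => by
        obtain ⟨k, hk⟩ := IsPGroup.iff_orderOf.1 (IsPGroup.of_card hB) u
        rw [← orderOf_coe] at hk
        refine k5 u v ?_ (k2 P P.2 v v.2 (by simpa using e')) (congrArg Subtype.val e)
        rcases k0 u with h | h | h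
        · simp [hu] at h
        · exact absurd ((Nat.prime_dvd_prime_iff_eq hp.1 hq.1).1
            (hp.1.dvd_of_dvd_pow (hk ▸ h.symm.dvd))) hpq
        · exact h) ⊤ inferInstance
    obtain ⟨g, hg⟩ := IsCyclic.exists_ofOrder_eq_natCard (α := (⊤ : Subgroup B))
    rw [card_top, hB, ← orderOf_coe, ← orderOf_coe] at hg
    have := hq.1.two_le
    rcases k0 g with h | h | h <;> rw [hg] at h
    · nlinarith
    · exact Nat.Prime.not_prime_pow le_rfl (h ▸ hp.1)
    · nlinarith
  obtain ⟨n, hn⟩ := P.2.exists_card_eq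
  have k9 : Nat.card G = p ^ n * q := by
    have e := (P : Subgroup G).card_mul_index
    have h1 := Nat.eq_prime_pow_of_unique_prime_dvd (p := q) (P : Subgroup G).index_ne_zero_of_finite
      fun {r} hr h => by
        have := Fact.mk hr
        obtain ⟨g, hg⟩ := exists_prime_orderOf_dvd_card' r (h.trans (index_dvd_card _))
        rcases k0 g with h' | h' | h' <;> rw [hg] at h'
        · exact absurd h' hr.one_lt.ne'
        · exact absurd (h' ▸ h) P.not_dvd_index
        · exact h'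
    generalize (P : Subgroup G).index.primeFactorsList.length = k at h1
    rw [hn, h1] at e
    have : k ≠ 0 := by
      rintro rfl
      exact hpq ((Nat.prime_dvd_prime_iff_eq hq.1 hp.1).1 (hq.1.dvd_of_dvd_pow
        (by simpa [← e, hb] using orderOf_dvd_natCard b))).symm
    have : ¬ 2 ≤ k := fun h => k8 (e ▸ (pow_dvd_pow q h).mul_left _)
    rw [← e, show k = 1 by omega, pow_one]
  refine ⟨n, Nat.pos_of_ne_zero ?_, k9, fun P => ⟨by have := k4 P; infer_instance, k7 P⟩,
    prim_of hpq (k7 P) (k6 P) hb (compl hpq P k9 hb).sup_eq_top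
      (fun v hv e => k5 b v hb (k2 P P.2 v hv e)) (fun v hv w hw e e' =>
        k1 ha hp.1 v w (k2 P P.2 v hv e) (k2 P P.2 w hw e')) fun y => k1 hb hq.1 b y hb, k5⟩
  rintro rfl
  exact k6 P (card_eq_one.1 hn)

theorem three_iff [Finite G] (hpq : p ≠ q) {a b : G} (ha : orderOf a = p) (hb : orderOf b = q) :
    Nat.card (MulAction.orbitRel.Quotient (MulAut G) G) = 3 ↔
      ∀ g, g = 1 ∨ (∃ α : MulAut G, α a = g) ∨ ∃ α : MulAut G, α b = g := by
  let π := Quotient.mk (MulAction.orbitRel (MulAut G) G)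
  have h1 : ∀ g h, π g = π h ↔ ∃ α : MulAut G, α h = g := fun g h => Quotient.eq
  have h2 : ∀ g h, orderOf g ≠ orderOf h → π g ≠ π h := fun g h e e' =>
    ((h1 g h).1 e').elim fun α e' => e (e' ▸ α.orderOf_eq h)
  have h3 : ({π 1, π a, π b} : Set _).ncard = 3 := Set.ncard_eq_three.2 ⟨_, _, _,
    h2 _ _ (by simpa [ha] using hp.1.one_lt.ne), h2 _ _ (by simpa [hb] using hq.1.one_lt.ne),
    h2 _ _ (by rwa [ha, hb]), rfl⟩
  rw [← h3, eq_comm, ← Set.eq_univ_iff_ncard, Set.eq_univ_iff_forall, Quotient.forall]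
  refine forall_congr' fun g => ?_
  simp only [Set.mem_insert_iff, Set.mem_singleton_iff]
  exact or_congr ((h1 _ _).trans (by simp [eq_comm])) (or_congr (h1 _ _) (h1 _ _))

/-- Let G be a finite group whose order is not a prime power. Then the automorphism group of G has exactly three orbits on G if and only if there are distinct primes p, q with #G = pⁿ·q (n ≥ 1) such that G has a normal elementary abelian Sylow p-subgroup P, p is a primitive root modulo q (the multiplicative order of p mod q is q − 1), and every element of order q of G acts on P without non-identity fixed points. -/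
theorem result {G : Type*} [Group G] [Finite G] (hnpp : ¬ IsPrimePow (Nat.card G)) (hnt : Nat.card G ≠ 1) :
    Nat.card (MulAction.orbitRel.Quotient (MulAut G) G) = 3 ↔
    ∃ (p q n : ℕ) (_ : Fact p.Prime) (_ : Fact q.Prime), p ≠ q ∧ 1 ≤ n ∧ Nat.card G = p ^ n * q ∧
      (∀ P : Sylow p G, (P : Subgroup G).Normal ∧ Cfsg.IsElementaryAbelian p (P : Subgroup G)) ∧
      orderOf (p : ZMod q) = q - 1 ∧
      ∀ x y : G, orderOf x = q → orderOf y = p → x * y * x⁻¹ ≠ y := by
  refine ⟨fun h => ?_, ?_⟩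
  · obtain ⟨p, hp, h1⟩ := Nat.exists_prime_and_dvd hnt
    obtain ⟨q, hq, h2, hpq⟩ : ∃ q, q.Prime ∧ q ∣ Nat.card G ∧ p ≠ q := by
      by_contra e
      push Not at e
      exact hnpp (isPrimePow_iff_unique_prime_dvd.2 ⟨p, ⟨hp, h1⟩, fun q h => (e q h.1 h.2).symm⟩)
    have := Fact.mk hp
    have := Fact.mk hq
    obtain ⟨a, ha⟩ := exists_prime_orderOf_dvd_card' p h1
    obtain ⟨b, hb⟩ := exists_prime_orderOf_dvd_card' q h2
    have key := (three_iff hpq ha hb).1 h
    have k : ∀ r : ℕ, r.Prime → r ∣ Nat.card G → r = p ∨ r = q := fun r hr h => by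
      have := Fact.mk hr
      obtain ⟨g, hg⟩ := exists_prime_orderOf_dvd_card' r h
      rcases key g with rfl | ⟨α, rfl⟩ | ⟨α, rfl⟩
      · exact absurd hg (by simpa using hr.one_lt.ne)
      · exact Or.inl (by rw [← hg, α.orderOf_eq, ha])
      · exact Or.inr (by rw [← hg, α.orderOf_eq, hb])
    have := H5.isSolvable_of_primes_subset_pair hp hq k
    have : Nontrivial G := Finite.one_lt_card_iff_nontrivial.1 (by have := Nat.card_pos (α := G); omega)
    obtain ⟨M, r, hr, -, _, h3, h4, -⟩ := H1.exists_minimal_normal_elementary_le (⊤ : Subgroup G)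
      top_ne_bot inferInstance
    have h5 := H1.isPGroup_of_isElementaryAbelian h4
    have := Fact.mk hr
    rcases k r hr ((h5.card_eq_or_dvd.resolve_left (mt card_eq_one.1 h3)).trans
      (card_subgroup_dvd_card M)) with rfl | rfl
    · obtain ⟨n, h⟩ := fwd hpq ha hb key M h5 h3
      exact ⟨_, _, n, inferInstance, inferInstance, hpq, h⟩
    · obtain ⟨n, h⟩ := fwd hpq.symm hb ha (fun g => (key g).imp_right Or.symm) M h5 h3
      exact ⟨_, _, n, inferInstance, inferInstance, hpq.symm, h⟩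
  rintro ⟨p, q, n, hp, hq, hpq, hn, hc, h1, h2, h3⟩
  obtain ⟨P⟩ : Nonempty (Sylow p G) := inferInstance
  obtain ⟨_, h4⟩ := h1 P
  obtain ⟨a, ha⟩ := exists_prime_orderOf_dvd_card' (G := G) p
    (hc ▸ (dvd_pow_self p (by omega)).mul_right _)
  obtain ⟨x, hx⟩ := exists_prime_orderOf_dvd_card' (G := G) q (hc ▸ dvd_mul_left _ _)
  have c := compl hpq P hc hx
  have haP : a ∈ (P : Subgroup G) := by
    obtain ⟨Q, hQ⟩ := (IsPGroup.of_card (n := 1) (by
      rw [Nat.card_zpowers, ha, pow_one]) : IsPGroup p (zpowers a)).exists_le_sylow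
    have := P.unique_of_normal ‹_›
    exact Subsingleton.elim Q P ▸ hQ (mem_zpowers a)
  have a1 : a ≠ 1 := fun e => hp.1.one_lt.ne (by rw [← ha, e, orderOf_one])
  have h5 : ∀ y : G, orderOf y = q → ∀ v ∈ (P : Subgroup G), v ≠ 1 → y * v * y⁻¹ ≠ v :=
    fun y hy v hv e => h3 y v hy (orderOf_eq_prime (h4.2 v hv) e)
  obtain ⟨k1, β, k2⟩ := back hpq h4 (fun e => a1 ((eq_bot_iff_forall _).1 e a haP)) hx c (h5 x hx) h2
  refine (three_iff hpq ha hx).2 fun g => or_iff_not_imp_left.2 fun g1 => ?_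
  by_cases e : g ∈ (P : Subgroup G)
  · exact Or.inl (k1 a haP g e a1 g1)
  have h6 : g ^ q ∈ (P : Subgroup G) := by
    have := (P : Subgroup G).pow_index_mem g
    rwa [c.symm.index_eq_card, Nat.card_zpowers, hx] at this
  have h7 : orderOf g = q := orderOf_eq_prime (by_contra fun e' => h5 (g ^ p) (orderOf_eq_prime
    (by rw [← pow_mul, mul_comm, pow_mul, h4.2 _ h6]) fun e'' => e ?_) _ h6 e' (by group)) g1
  swap
  · obtain ⟨m, hm⟩ := exists_pow_eq_self_of_coprime (x := g) (n := q) ((Nat.coprime_primes hq.1 hp.1).2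
      hpq.symm |>.coprime_dvd_right (orderOf_dvd_of_pow_eq_one e''))
    exact hm ▸ pow_mem h6 m
  obtain ⟨h, -, h8⟩ := H17.exists_conj_le_sylow (p := q) (H := ⊤) (P := zpowers x) (Q := zpowers g)
    le_top (by
      rw [card_top, hc, Nat.factorization_mul (pow_ne_zero _ hp.1.ne_zero) hq.1.ne_zero,
        hp.1.factorization_pow, hq.1.factorization, Nat.card_zpowers, hx]
      simp [hpq]) le_top (IsPGroup.of_card (n := 1) (by rw [Nat.card_zpowers, h7, pow_one]))
  obtain ⟨k, hk⟩ := mem_powers_iff_mem_zpowers.2 (h8 g (mem_zpowers g))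
  have h9 : (k : ZMod q) ≠ 0 := fun e' => g1 (by
    obtain ⟨m, rfl⟩ := (ZMod.natCast_eq_zero_iff _ _).1 e'
    simpa [pow_mul, ← hx, eq_comm] using hk)
  have h10 : (p : ZMod q) ≠ 0 := fun e => hpq ((Nat.prime_dvd_prime_iff_eq hq.1 hp.1).1
    ((ZMod.natCast_eq_zero_iff _ _).1 e)).symm
  obtain ⟨i, hi⟩ : Units.mk0 _ h9 ∈ Submonoid.powers (Units.mk0 _ h10) := by
    rw [mem_powers_iff_mem_zpowers, (card_eq_iff_eq_top (zpowers (Units.mk0 _ h10))).1 (by
      rw [Nat.card_zpowers, ← orderOf_units, Units.val_mk0, h2, Nat.card_eq_fintype_card,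
        ZMod.card_units])]
    trivial
  have h11 : ∀ i : ℕ, (β ^ i) x = x ^ p ^ i := fun i => by
    induction i with
    | zero => simp
    | succ i ih => rw [pow_succ', MulAut.mul_apply, ih, map_pow, k2, ← pow_mul, pow_succ']
  refine Or.inr ⟨MulAut.conj h⁻¹ * β ^ i, ?_⟩
  rw [MulAut.mul_apply, h11, (pow_eq_pow_iff_modEq (m := k)).2 (by
    rw [hx, ← ZMod.natCast_eq_natCast_iff]; simpa using congrArg Units.val hi),
    show x ^ k = _ from hk]
  simp [mul_assoc]

end Cfsg.Agent.S4081
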