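import Cfsg.Statements.S4085
import Cfsg.Agent.H24.CsAux
import Cfsg.Agent.H23.Cyc

set_option autoImplicit false
open Cfsg

namespace Cfsg.Agent.S4085

open H24 Subgroup

section
variable {G : Type*} [Group G] [Finite G]

def adj (x y : G) : Prop := x ∈ zpowers y ∨ y ∈ zpowers x

def tw (x : G) : Set G := {y | y ≠ 1 ∧ ∀ z, adj y z ↔ adj x z}

def NP (n : ℕ) : Prop := ∃ r s : ℕ, r.Prime ∧ s.Prime ∧ r ≠ s ∧ r ∣ n ∧ s ∣ n

theorem adj_self (x : G) : adj x x := Or.inl (mem_zpowers x)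

theorem mem_iff {w a b : G} (ha : a ∈ zpowers w) (hb : b ∈ zpowers w) :
    a ∈ zpowers b ↔ orderOf a ∣ orderOf b :=
  ⟨orderOf_dvd_of_mem_zpowers, H23.mem_zpowers_of_orderOf_dvd (H23.isCyclic_zpowers w) ha hb⟩

theorem exists_ord (w : G) {c : ℕ} (h : c ∣ orderOf w) : ∃ z ∈ zpowers w, orderOf z = c :=
  ⟨w ^ (orderOf w / c), npow_mem_zpowers _ _, orderOf_pow_orderOf_div (orderOf_pos w).ne' h⟩

theorem arith {d f n : ℕ} (h0 : n ≠ 0) (h1 : d ≠ 1) (h2 : d ∣ f) (h3 : f ∣ n) (h4 : ¬ f ∣ d)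
    (h5 : NP n) : ∃ c, c ∣ n ∧ ¬ ((c ∣ d ∨ d ∣ c) ↔ (c ∣ f ∨ f ∣ c)) := by
  obtain ⟨k, rfl⟩ := h2
  have hf : d * k ≠ 0 := ne_zero_of_dvd_ne_zero h0 h3
  obtain ⟨r, hr, hrk⟩ := Nat.exists_prime_and_dvd (show k ≠ 1 by rintro rfl; simp at h4)
  by_cases h6 : ∃ s, s.Prime ∧ s ≠ r ∧ s ∣ d
  · obtain ⟨s, hs, hsr, hsd⟩ := h6
    refine ⟨r ^ (d * k).factorization r, (Nat.ordProj_dvd _ _).trans h3, fun h => ?_⟩
    rcases h.2 (Or.inl (Nat.ordProj_dvd _ _)) with h | h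
    · exact Nat.pow_succ_factorization_not_dvd hf hr (pow_succ r _ ▸ mul_dvd_mul h hrk)
    · exact hsr ((Nat.prime_dvd_prime_iff_eq hs hr).1 (hs.dvd_of_dvd_pow (hsd.trans h)))
  push Not at h6
  obtain ⟨s, hs, hsr, hsn⟩ : ∃ s, s.Prime ∧ s ≠ r ∧ s ∣ n := by
    obtain ⟨a, b, ha, hb, hab, h7, h8⟩ := h5
    exact (em (a = r)).elim (fun e => ⟨b, hb, e ▸ hab.symm, h8⟩) fun e => ⟨a, ha, e, h7⟩
  by_cases h7 : s ∣ d * k
  · refine ⟨s, hsn, fun h => ?_⟩
    rcases h.2 (Or.inl h7) with h | h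
    · exact h6 s hs hsr h
    · exact h6 s hs hsr (((Nat.dvd_prime hs).1 h).resolve_left h1 ▸ dvd_rfl)
  · refine ⟨d * s, ((Nat.Prime.coprime_iff_not_dvd hs).2 (h6 s hs hsr)).symm.mul_dvd_of_dvd_of_dvd
      ((dvd_mul_right _ _).trans h3) hsn, fun h => ?_⟩
    rcases h.1 (Or.inr (dvd_mul_right _ _)) with h | h
    · exact h7 ((dvd_mul_left _ _).trans h)
    · exact hsr ((Nat.prime_dvd_prime_iff_eq hr hs).1 (hrk.trans
        (Nat.dvd_of_mul_dvd_mul_left (Nat.pos_of_ne_zero (left_ne_zero_of_mul hf)) h))).symm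

theorem plain_aux {w x y : G} (hw : NP (orderOf w)) (hx : x ∈ zpowers w) (hy : y ∈ zpowers w)
    (h1 : x ≠ 1) (h2 : x ∈ zpowers y) (h : ∀ z, adj y z ↔ adj x z) : y ∈ zpowers x := by
  by_contra h3
  obtain ⟨c, hc, h4⟩ := arith (orderOf_pos w).ne' (mt orderOf_eq_one_iff.1 h1)
    (orderOf_dvd_of_mem_zpowers h2) (orderOf_dvd_of_mem_zpowers hy) (mt (mem_iff hy hx).2 h3) hw
  obtain ⟨z, hz, rfl⟩ := exists_ord w hc
  have := h z
  rw [adj, adj, mem_iff hy hz, mem_iff hz hy, mem_iff hx hz, mem_iff hz hx] at this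
  tauto

theorem NP.of_dvd {m n : ℕ} (h : NP m) (h' : m ∣ n) : NP n :=
  have ⟨r, s, h1, h2, h3, h4, h5⟩ := h
  ⟨r, s, h1, h2, h3, h4.trans h', h5.trans h'⟩

theorem gen_subset {x : G} (h1 : x ≠ 1) : {y | zpowers y = zpowers x} ⊆ tw x := fun y hy =>
  ⟨fun e => h1 (zpowers_eq_bot.1 (hy.symm.trans (zpowers_eq_bot.2 e))), fun z => by
    rw [adj, adj, hy, ← zpowers_le, ← zpowers_le (g := x), hy]⟩

theorem plain {x v : G} (hv : NP (orderOf v)) (hx : x ∈ zpowers v) (h1 : x ≠ 1) :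
    tw x = {y | zpowers y = zpowers x} := by
  refine subset_antisymm (fun y hy => ?_) (gen_subset h1)
  obtain ⟨w, hw, h2, h3⟩ : ∃ w, NP (orderOf w) ∧ x ∈ zpowers w ∧ y ∈ zpowers w := by
    rcases (hy.2 v).2 (Or.inl hx) with h | h
    · exact ⟨v, hv, hx, h⟩
    · exact ⟨y, hv.of_dvd (orderOf_dvd_of_mem_zpowers h), zpowers_le.2 h hx, mem_zpowers y⟩
  rcases (hy.2 x).2 (adj_self x) with h | h
  · exact le_antisymm (zpowers_le.2 h)
      (zpowers_le.2 (plain_aux hw h3 h2 hy.1 h fun z => (hy.2 z).symm))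
  · exact le_antisymm (zpowers_le.2 (plain_aux hw h2 h3 h1 h hy.2)) (zpowers_le.2 h)

theorem ncard_gen (x : G) : {y | zpowers y = zpowers x}.ncard = (orderOf x).totient := by
  classical
  have := Fintype.ofFinite G
  haveI := H23.isCyclic_zpowers x
  rw [← IsCyclic.card_orderOf_eq_totient (α := zpowers x) (by simp [Fintype.card_zpowers]),
    ← Set.ncard_coe_finset, ← Set.ncard_image_of_injective _ Subtype.val_injective]
  congr 1
  ext y
  simp only [Set.mem_setOf_eq, Set.mem_image, Finset.coe_filter, Finset.mem_univ, true_and]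
  refine ⟨fun h => ⟨⟨y, h ▸ mem_zpowers y⟩, ?_, rfl⟩, ?_⟩
  · rw [← Subgroup.orderOf_coe, ← Nat.card_zpowers, h, Nat.card_zpowers]
  · rintro ⟨y, h, rfl⟩
    exact le_antisymm (zpowers_le.2 y.2) (zpowers_le.2 ((mem_iff (mem_zpowers x) y.2).2
      (by rw [← h, Subgroup.orderOf_coe])))

theorem ncard_plain {x v : G} (hv : NP (orderOf v)) (hx : x ∈ zpowers v) (h1 : x ≠ 1) :
    (tw x).ncard = (orderOf x).totient := by rw [plain hv hx h1, ncard_gen]

theorem pp_of_not_NP {n : ℕ} (h0 : n ≠ 0) (h : ¬ NP n) : ∃ r k : ℕ, r.Prime ∧ n = r ^ k := by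
  by_cases h1 : n = 1
  · exact ⟨2, 0, Nat.prime_two, h1⟩
  obtain ⟨r, hr, hd⟩ := Nat.exists_prime_and_dvd h1
  exact ⟨r, _, hr, Nat.eq_prime_pow_of_unique_prime_dvd h0 fun {s} hs h2 =>
    by_contra fun e => h ⟨s, r, hs, hr, e, h2, hd⟩⟩

theorem ncard_tw_le {u v : G} (h1 : u ≠ 1) (h2 : u ∈ zpowers v) (h3 : v ∉ tw u) :
    (tw u).ncard ≤ (orderOf v).totient := by
  by_cases hv : NP (orderOf v)
  · rw [ncard_plain hv h2 h1]
    exact Nat.le_of_dvd (Nat.totient_pos.2 (orderOf_pos v))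
      (Nat.totient_dvd_of_dvd (orderOf_dvd_of_mem_zpowers h2))
  obtain ⟨r, k, hr, hk⟩ := pp_of_not_NP (orderOf_pos v).ne' hv
  have hv1 : v ≠ 1 := by rintro rfl; exact h1 (by simpa using h2)
  obtain ⟨k, rfl⟩ : ∃ j, k = j + 1 := Nat.exists_eq_succ_of_ne_zero
    (by rintro rfl; exact hv1 (orderOf_eq_one_iff.1 hk))
  obtain ⟨t, ht, ot⟩ := exists_ord v (hk ▸ pow_dvd_pow r (Nat.le_succ k))
  have h4 : tw u ⊆ (zpowers t : Set G) := fun y hy => by
    have h5 : v ∉ zpowers y := fun h5 => by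
      by_cases hn : NP (orderOf y)
      · have := (plain hn (zpowers_le.2 h5 h2) h1).le hy
        exact h3 (gen_subset h1 (le_antisymm (zpowers_le.2 (this ▸ h5)) (zpowers_le.2 h2)))
      obtain ⟨s, j, hs, hj⟩ := pp_of_not_NP (orderOf_pos y).ne' hn
      refine h3 ⟨hv1, fun z => ⟨?_, fun h => ?_⟩⟩
      · rintro (h | h)
        exacts [Or.inl (zpowers_le.2 h h2), (hy.2 z).1 (Or.inr (zpowers_le.2 h5 h))]
      rcases (hy.2 z).2 h with h | h
      · exact Or.inl (zpowers_le.2 h h5)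
      obtain ⟨a, -, ha⟩ := (Nat.dvd_prime_pow hs).1 (hj ▸ orderOf_dvd_of_mem_zpowers h)
      obtain ⟨b, -, hb⟩ := (Nat.dvd_prime_pow hs).1 (hj ▸ orderOf_dvd_of_mem_zpowers h5)
      rw [adj, mem_iff h5 h, mem_iff h h5, ha, hb]
      exact (le_total b a).imp (pow_dvd_pow s) (pow_dvd_pow s)
    have h6 := ((hy.2 v).2 (Or.inl h2)).resolve_right h5
    obtain ⟨a, ha, e⟩ := (Nat.dvd_prime_pow hr).1 (hk ▸ orderOf_dvd_of_mem_zpowers h6)
    refine (mem_iff h6 ht).2 (e ▸ ot ▸ pow_dvd_pow r (Nat.le_of_lt_succ (ha.lt_of_ne fun e' => h5 ?_)))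
    exact (mem_iff (mem_zpowers v) h6).2 (by rw [hk, e, e'])
  refine (Set.ncard_le_ncard h4).trans ?_
  rw [← Nat.card_coe_set_eq, SetLike.coe_sort_coe, Nat.card_zpowers, ot, hk,
    Nat.totient_prime_pow_succ hr]
  exact Nat.le_mul_of_pos_right _ (Nat.sub_pos_of_lt hr.one_lt)

theorem tot_le_tw {v : G} (h : v ≠ 1) : (orderOf v).totient ≤ (tw v).ncard :=
  ncard_gen v ▸ Set.ncard_le_ncard (gen_subset h)

end

theorem tot_chain {a b : ℕ} (h0 : b ≠ 0) (h : a ∣ b) (h1 : ¬ b ∣ a) (h2 : b.totient ≤ a.totient) :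
    b = 2 * a ∧ ¬ 2 ∣ a := by
  obtain ⟨k, rfl⟩ := h
  have ha : a ≠ 0 := left_ne_zero_of_mul h0
  have hk : k ≠ 0 := right_ne_zero_of_mul h0
  have h3 := Nat.totient_gcd_mul_totient_mul a k
  have h4 : 0 < a.totient := Nat.totient_pos.2 (Nat.pos_of_ne_zero ha)
  have hg : 0 < a.gcd k := Nat.gcd_pos_of_pos_left _ (Nat.pos_of_ne_zero ha)
  have h5 : k.totient * a.gcd k ≤ (a.gcd k).totient := by
    refine Nat.le_of_mul_le_mul_left ?_ h4
    rw [← mul_assoc, ← h3, mul_comm a.totient]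
    exact Nat.mul_le_mul_left _ h2
  have h6 : 0 < k.totient := Nat.totient_pos.2 (Nat.pos_of_ne_zero hk)
  have h7 : a.gcd k = 1 := by
    by_contra h7
    have := Nat.totient_lt (a.gcd k) (by omega)
    nlinarith
  rw [h7, Nat.totient_one, mul_one] at h5
  obtain rfl | rfl := Nat.totient_eq_one_iff.1 (le_antisymm h5 h6)
  · simp at h1
  · exact ⟨mul_comm _ _, fun h => by simpa using Nat.eq_one_of_dvd_coprimes h7 h dvd_rfl⟩

theorem main {G H : Type*} [Group G] [Finite G] [Group H] [Finite H] (e : G ≃ H) (h1 : e 1 = 1)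
    (he : ∀ x y : G, adj x y ↔ adj (e x) (e y)) {p q : ℕ} (hp : p.Prime) (hq : q.Prime)
    (hpq : p < q) {g : G} (hg : orderOf g = p * q) : ∃ h : H, orderOf h = p * q := by
  have ne : ∀ x, e x ≠ 1 ↔ x ≠ 1 := fun x => by rw [← h1, e.injective.ne_iff]
  have mt : ∀ x y, e y ∈ tw (e x) ↔ y ∈ tw x := fun x y =>
    and_congr (ne y) ⟨fun h z => by rw [he, he, h], fun h z => by
      obtain ⟨z, rfl⟩ := e.surjective z; rw [← he, ← he, h]⟩
  have ct : ∀ x, (tw (e x)).ncard = (tw x).ncard := fun x => by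
    rw [← Set.ncard_image_of_injective _ e.injective]
    congr 1
    ext y
    obtain ⟨y, rfl⟩ := e.surjective y
    rw [mt, e.injective.mem_set_image]
  have cop := (Nat.coprime_primes hp hq).2 hpq.ne
  have ng : NP (orderOf g) := ⟨p, q, hp, hq, hpq.ne, hg ▸ dvd_mul_right _ _, hg ▸ dvd_mul_left _ _⟩
  obtain ⟨a, ha, oa⟩ := exists_ord g (hg ▸ dvd_mul_right p q)
  obtain ⟨b, hb, ob⟩ := exists_ord g (hg ▸ dvd_mul_left q p)
  have a1 : a ≠ 1 := fun h => hp.one_lt.ne' (oa ▸ orderOf_eq_one_iff.2 h)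
  have b1 : b ≠ 1 := fun h => hq.one_lt.ne' (ob ▸ orderOf_eq_one_iff.2 h)
  have g1 : g ≠ 1 := by rintro rfl; exact a1 (by simpa using ha)
  have nab : ¬ adj a b := by
    rw [adj, mem_iff ha hb, mem_iff hb ha, oa, ob, Nat.prime_dvd_prime_iff_eq hp hq,
      Nat.prime_dvd_prime_iff_eq hq hp]
    omega
  have ta := ncard_plain ng ha a1
  have tb := ncard_plain ng hb b1
  have tg := ncard_plain ng (mem_zpowers g) g1
  rw [← ct, oa, Nat.totient_prime hp] at ta
  rw [← ct, ob, Nat.totient_prime hq] at tb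
  rw [← ct, hg, Nat.totient_mul cop, Nat.totient_prime hp, Nat.totient_prime hq] at tg
  rw [he] at nab
  have h2 : e a ∈ zpowers (e g) := ((he a g).1 (Or.inl ha)).resolve_right fun h => by
    have h3 := (ncard_tw_le ((ne g).2 g1) h fun h3 => nab ((h3.2 _).2 ((he g b).1 (Or.inr hb)))).trans
      (tot_le_tw ((ne a).2 a1))
    rw [ta, tg] at h3
    have := hp.two_le
    obtain ⟨p, rfl⟩ : ∃ k, p = k + 2 := ⟨p - 2, by omega⟩
    obtain ⟨q, rfl⟩ : ∃ k, q = k + 3 := ⟨q - 3, by omega⟩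
    simp at h3
  have h3 : e b ∈ zpowers (e g) := ((he b g).1 (Or.inl hb)).resolve_right fun h =>
    nab (Or.inl (zpowers_le.2 h h2))
  have ng' : NP (orderOf (e g)) := by
    by_contra h
    obtain ⟨s, j, hs, hj⟩ := pp_of_not_NP (orderOf_pos _).ne' h
    obtain ⟨i, -, hi⟩ := (Nat.dvd_prime_pow hs).1 (hj ▸ orderOf_dvd_of_mem_zpowers h2)
    obtain ⟨k, -, hk⟩ := (Nat.dvd_prime_pow hs).1 (hj ▸ orderOf_dvd_of_mem_zpowers h3)
    rw [adj, mem_iff h2 h3, mem_iff h3 h2, hi, hk] at nab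
    exact nab ((le_total i k).imp (pow_dvd_pow s) (pow_dvd_pow s))
  have h4 : ∀ z, e z ∈ zpowers (e g) → z ∈ zpowers g := fun z hz => by
    by_contra h4
    have h5 := ((he z g).2 (Or.inl hz)).resolve_left h4
    have z1 : z ≠ 1 := by rintro rfl; exact h4 (one_mem _)
    have nz := ng.of_dvd (orderOf_dvd_of_mem_zpowers h5)
    have t1 := ncard_plain nz (mem_zpowers z) z1
    have t2 := ncard_plain ng' hz ((ne z).2 z1)
    have t3 := ncard_plain ng' (mem_zpowers _) ((ne g).2 g1)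
    have t4 := ncard_plain ng (mem_zpowers g) g1
    rw [ct] at t2 t3
    have l1 := Nat.le_of_dvd (Nat.totient_pos.2 (orderOf_pos _))
      (Nat.totient_dvd_of_dvd (orderOf_dvd_of_mem_zpowers hz))
    obtain ⟨e1, e2⟩ := tot_chain (orderOf_pos z).ne' (orderOf_dvd_of_mem_zpowers h5)
      (fun h => h4 ((mem_iff (mem_zpowers z) h5).2 h)) (by omega)
    obtain ⟨t, ht, ot⟩ := exists_ord z (e1 ▸ dvd_mul_right 2 _)
    have t1' : t ≠ 1 := fun h => by rw [h, orderOf_one] at ot; omega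
    have ntg : ¬ adj t g := by
      rw [adj, mem_iff ht h5, mem_iff h5 ht, ot, hg]
      rintro (h | h)
      · exact e2 (hg ▸ h)
      · have := Nat.le_of_dvd two_pos h
        have := hp.two_le
        nlinarith
    have h6 := ((he t z).1 (Or.inl ht)).resolve_left fun h =>
      ntg ((he t g).2 (Or.inl (zpowers_le.2 hz h)))
    have t5 := ncard_plain nz ht t1'
    rw [← ct, ot] at t5
    have l2 := (tot_le_tw ((ne t).2 t1')).trans t5.le
    have l3 := Nat.le_of_dvd (Nat.totient_pos.2 (orderOf_pos _))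
      (Nat.totient_dvd_of_dvd (orderOf_dvd_of_mem_zpowers h6))
    have l4 := Nat.le_of_dvd (Nat.totient_pos.2 (orderOf_pos _))
      (Nat.totient_dvd_of_dvd (orderOf_dvd_of_mem_zpowers h5))
    rw [ct, t4] at tg
    have := hp.two_le
    have : 2 ≤ (p - 1) * (q - 1) := by
      calc 2 = 1 * 2 := rfl
        _ ≤ _ := Nat.mul_le_mul (by omega) (by omega)
    simp at l2
    omega
  have pr : ∀ {a b : G} {p q : ℕ}, p.Prime → q.Prime → p ≠ q → orderOf g = p * q → orderOf a = p →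
      a ∈ zpowers g → e a ∈ zpowers (e g) → e b ∈ zpowers (e g) → ¬ adj (e a) (e b) →
      orderOf (e a) = p := by
    intro a b p q hp hq hpq hg oa ha ha' hb' nab
    have a1 : a ≠ 1 := fun h => hp.one_lt.ne' (oa ▸ orderOf_eq_one_iff.2 h)
    obtain ⟨r, hr, hd⟩ := Nat.exists_prime_and_dvd (orderOf_eq_one_iff.not.2 ((ne a).2 a1))
    obtain ⟨w, hw, ow⟩ := exists_ord _ hd
    obtain ⟨z, rfl⟩ := e.surjective w
    have z1 : z ≠ 1 := (ne z).1 fun h => hr.one_lt.ne' (ow ▸ orderOf_eq_one_iff.2 h)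
    have hz := h4 z (zpowers_le.2 ha' hw)
    have h5 := (he z a).2 (Or.inl hw)
    have h6 : zpowers (e z) = zpowers (e a) := by
      refine (plain ng' ha' ((ne a).2 a1)).le ((mt _ _).2 (gen_subset a1 ?_))
      have h7 : a ∈ zpowers z := h5.elim (fun h => (mem_iff ha hz).2 (oa ▸ (((Nat.dvd_prime hp).1
        (oa ▸ orderOf_dvd_of_mem_zpowers h)).resolve_left (orderOf_eq_one_iff.not.2 z1)) ▸ dvd_rfl)) id
      refine le_antisymm (zpowers_le.2 ?_) (zpowers_le.2 h7)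
      obtain ⟨k, hk⟩ := oa ▸ orderOf_dvd_of_mem_zpowers h7
      have h8 := orderOf_dvd_of_mem_zpowers hz
      rw [hk, hg] at h8
      rcases (Nat.dvd_prime hq).1 (Nat.dvd_of_mul_dvd_mul_left hp.pos h8) with rfl | rfl
      · exact (mem_iff hz ha).2 (by rw [hk, oa, mul_one])
      have h9 : zpowers (e z) = zpowers (e g) := (plain ng' (mem_zpowers _) ((ne g).2 g1)).le
        ((mt _ _).2 (gen_subset g1 (le_antisymm (zpowers_le.2 hz)
          (zpowers_le.2 ((mem_iff (mem_zpowers g) hz).2 (by rw [hk, hg]))))))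
      exact absurd (Or.inr (zpowers_le.2 hw (h9 ▸ hb'))) nab
    have h7 := ncard_plain ng' ha' ((ne a).2 a1)
    rw [ct, ncard_plain ng ha a1, oa, ← Nat.card_zpowers, ← h6, Nat.card_zpowers, ow,
      Nat.totient_prime hp, Nat.totient_prime hr] at h7
    rw [← Nat.card_zpowers, ← h6, Nat.card_zpowers, ow]
    have := hp.two_le
    have := hr.two_le
    omega
  have oa' := pr hp hq hpq.ne hg oa ha h2 h3 nab
  have ob' := pr hq hp hpq.ne' (hg.trans (mul_comm _ _)) ob hb h3 h2 fun h => nab h.symm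
  obtain ⟨i, hi⟩ := h2
  obtain ⟨j, hj⟩ := h3
  refine ⟨e a * e b, ?_⟩
  rw [Commute.orderOf_mul_eq_mul_orderOf_of_coprime (hi ▸ hj ▸ Commute.zpow_zpow_self _ _ _)
    (oa' ▸ ob' ▸ cop), oa', ob']

theorem main' {G H : Type*} [Group G] [Finite G] [Group H] [Finite H] (e : G ≃ H)
    (he : ∀ x y : G, adj x y ↔ adj (e x) (e y)) {p q : ℕ} (hp : p.Prime) (hq : q.Prime)
    (hpq : p ≠ q) {g : G} (hg : orderOf g = p * q) : ∃ h : H, orderOf h = p * q := by
  classical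
  have h1 : ∀ y, adj (e 1) y := fun y => by
    obtain ⟨y, rfl⟩ := e.surjective y
    exact (he 1 y).1 (Or.inl (one_mem _))
  have h2 : ∀ x y, adj (Equiv.swap (e 1) 1 x) y ↔ adj x y := fun x y => by
    rw [Equiv.swap_apply_def]
    split_ifs with h h
    · exact iff_of_true (Or.inl (one_mem _)) (h ▸ h1 y)
    · exact iff_of_true (h1 y) (h ▸ Or.inl (one_mem _))
    · rfl
  have h3 : ∀ x y, adj x y ↔ adj ((e.trans (Equiv.swap (e 1) 1)) x) ((e.trans (Equiv.swap (e 1) 1)) y) :=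
    fun x y => by
    rw [he, Equiv.trans_apply, Equiv.trans_apply, h2]
    exact or_comm.trans ((h2 _ _).symm.trans or_comm)
  rcases hpq.lt_or_gt with h | h
  · exact main _ (by simp) h3 hp hq h hg
  · exact mul_comm p q ▸ main _ (by simp) h3 hq hp h (hg.trans (mul_comm _ _))

/-- Let G and H be finite groups whose power graphs are isomorphic: there is a bijection e : G → H such that, for all x, y, one of x, y is a power of the other exactly when one of e(x), e(y) is a power of the other. Then G and H have the same prime graph: for distinct primes p, q, G has an element of order pq if and only if H does. -/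
theorem result {G H : Type*} [Group G] [Finite G] [Group H] [Finite H] (e : G ≃ H)
    (he : ∀ x y : G, (x ∈ Subgroup.zpowers y ∨ y ∈ Subgroup.zpowers x) ↔
      (e x ∈ Subgroup.zpowers (e y) ∨ e y ∈ Subgroup.zpowers (e x)))
    {p q : ℕ} (hp : p.Prime) (hq : q.Prime) (hpq : p ≠ q) :
    (∃ g : G, orderOf g = p * q) ↔ (∃ h : H, orderOf h = p * q) := by
  exact ⟨fun ⟨g, hg⟩ => main' e he hp hq hpq hg, fun ⟨g, hg⟩ => main' e.symm
    (fun x y => by simpa [adj] using (he (e.symm x) (e.symm y)).symm) hp hq hpq hg⟩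

end Cfsg.Agent.S4085
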