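import Cfsg.Statements.S4107
import Cfsg.Agent.H24.Camina

set_option autoImplicit false
open Cfsg

namespace Cfsg.Agent.S4107


/-- Let G be a finite group and N a proper non-trivial normal subgroup such that for every x outside N all elements of the coset xN have the same order as x. Then N ≤ F(G) or F(G) ≤ N, where F(G) is the Fitting subgroup; and if N is properly contained in F(G) then F(G) has prime-power order. -/
theorem result {G : Type*} [Group G] [Finite G] (N : Subgroup G) [N.Normal] (hN1 : N ≠ ⊥) (hN2 : N ≠ ⊤)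
    (heq : ∀ x : G, x ∉ N → ∀ n ∈ N, orderOf (x * n) = orderOf x) :
    (N ≤ Cfsg.fittingSubgroup G ∨ Cfsg.fittingSubgroup G ≤ N) ∧
    (N < Cfsg.fittingSubgroup G → IsPrimePow (Nat.card (Cfsg.fittingSubgroup G))) := by
  constructor
  · by_cases h : fittingSubgroup G ≤ N
    · exact Or.inr h
    obtain ⟨p, hp, h1, -⟩ := H24.fitting_of_eqOrd hN1 heq h
    haveI : Fact p.Prime := ⟨hp⟩
    exact Or.inl (H1.le_fitting inferInstance h1.isNilpotent)
  · intro h
    obtain ⟨p, hp, -, h2⟩ := H24.fitting_of_eqOrd hN1 heq h.not_ge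
    haveI : Fact p.Prime := ⟨hp⟩
    obtain ⟨k, hk⟩ := IsPGroup.iff_card.mp h2
    refine ⟨p, k, hp.prime, Nat.pos_of_ne_zero ?_, hk.symm⟩
    rintro rfl
    rw [pow_zero, Subgroup.card_eq_one] at hk
    exact not_lt_bot (hk ▸ h)

end Cfsg.Agent.S4107
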