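import Cfsg.Statements.S4108
import Cfsg.Agent.H24.Camina

set_option autoImplicit false
open Cfsg

namespace Cfsg.Agent.S4108

open Subgroup

/-- Let G be a finite group, p a prime and N a proper non-trivial normal p-subgroup such that for every x outside N all elements of the coset xN have the same order as x. Then every non-trivial subgroup H of G of order prime to p acts fixed-point-freely on N: NH is a Frobenius group with complement H and kernel N. -/
theorem result {G : Type*} [Group G] [Finite G] (N : Subgroup G) [N.Normal] (hN1 : N ≠ ⊥) (hN2 : N ≠ ⊤)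
    (heq : ∀ x : G, x ∉ N → ∀ n ∈ N, orderOf (x * n) = orderOf x)
    (p : ℕ) [Fact p.Prime] (hNp : IsPGroup p N) :
    ∀ H : Subgroup G, H ≠ ⊥ → (Nat.card H).Coprime p →
      Cfsg.IsFrobeniusComplement (H.subgroupOf (N ⊔ H)) ∧ Cfsg.frobeniusKernel (H.subgroupOf (N ⊔ H)) = (N.subgroupOf (N ⊔ H) : Set ↥(N ⊔ H)) := by
  intro H hH hc
  have hd : N ⊓ H = ⊥ := disjoint_iff.mp (disjoint_of_coprime_natCard
    (H1.coprime_card_of_isPGroup hNp hc))
  have h1 : (N.subgroupOf (N ⊔ H)).IsComplement' (H.subgroupOf (N ⊔ H)) :=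
    H1.isComplement'_of_inf_eq_bot_of_sup_eq_top le_normalizer_of_normal
      (by rw [subgroupOf, subgroupOf, ← comap_inf, hd, MonoidHom.comap_bot, ker_subtype])
      (by rw [← subgroupOf_sup le_sup_left le_sup_right, subgroupOf_self])
  have h2 := H24.isFrobeniusComplement_of_fpf h1
    (by rw [Ne, subgroupOf_eq_bot, disjoint_iff, inf_eq_left.mpr le_sup_left]; exact hN1)
    (by rw [Ne, subgroupOf_eq_bot, disjoint_iff, inf_eq_left.mpr le_sup_right]; exact hH)
    (fun a ha ha1 n hn h => by
      have h3 : (a : G) * n * (a : G)⁻¹ = n := congrArg Subtype.val h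
      rw [mul_inv_eq_iff_eq_mul] at h3
      refine Subtype.ext (H24.eq_one_of_orderOf_mul (heq a (fun h4 => ha1 (Subtype.ext ?_)) n hn) h3
        (((H1.coprime_card_of_isPGroup hNp hc).symm.coprime_dvd_left (H.orderOf_dvd_natCard ha)).coprime_dvd_right
          (N.orderOf_dvd_natCard hn)))
      exact mem_bot.mp (hd ▸ mem_inf.mpr ⟨h4, ha⟩))
  exact ⟨h2, H24.frobeniusKernel_eq_of_isComplement h1 h2⟩

end Cfsg.Agent.S4108
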