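import Cfsg.Statements.S4113
import Cfsg.Agent.H24.Camina

set_option autoImplicit false
open Cfsg

namespace Cfsg.Agent.S4113

open Subgroup

/-- Let G be a finite group, M ≤ N non-trivial proper normal subgroups, and H a subgroup with HM = G and H ∩ M = 1. Then every element of G outside N acts fixed-point-freely on M (C_G(x) ≤ N for every x ∈ M, x ≠ 1) if and only if H ∩ gHg⁻¹ ≤ H ∩ N for every g outside H, with H proper and non-trivial and H ∩ N proper in H. -/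
theorem result {G : Type*} [Group G] [Finite G] (N M : Subgroup G) [N.Normal] [M.Normal] (hMN : M ≤ N) (hM1 : M ≠ ⊥) (hN2 : N ≠ ⊤)
    (H : Subgroup G) (hHM : H ⊔ M = ⊤) (hHM' : H ⊓ M = ⊥) :
    (∀ x ∈ M, x ≠ 1 → Subgroup.centralizer ({x} : Set G) ≤ N) ↔
      (H ≠ ⊥ ∧ H ≠ ⊤ ∧ H ⊓ N < H ∧ ∀ g : G, g ∉ H → H ⊓ H.map (MulAut.conj g).toMonoidHom ≤ N) := by
  have hmem : ∀ {x : G}, x ∈ H → x ∈ M → x = 1 := fun h1 h2 => mem_bot.mp (hHM' ▸ mem_inf.mpr ⟨h1, h2⟩)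
  have hdec : ∀ g : G, ∃ m ∈ M, ∃ h ∈ H, m * h = g := fun g =>
    mem_sup_of_normal_left.mp (by rw [sup_comm, hHM]; trivial)
  constructor
  · intro h
    have h1 : ¬ H ≤ N := fun h1 => hN2 (by rw [eq_top_iff, ← hHM]; exact sup_le h1 hMN)
    refine ⟨fun h2 => h1 (h2 ▸ bot_le), fun h2 => hM1 (by rwa [h2, top_inf_eq] at hHM'),
      inf_lt_left.mpr h1, ?_⟩
    rintro g hg x ⟨hx, y, hy, hxy⟩
    obtain ⟨m, hm, k, hk, rfl⟩ := hdec g
    refine h m hm (by rintro rfl; exact hg (by simpa using hk)) ?_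
    have h2 : x = m * (k * y * k⁻¹) * m⁻¹ := by rw [← hxy]; simp [mul_assoc]
    have h3 : x * (k * y * k⁻¹)⁻¹ = 1 := by
      refine hmem (mul_mem hx (inv_mem (mul_mem (mul_mem hk hy) (inv_mem hk)))) ?_
      rw [h2, mul_assoc, mul_assoc, ← mul_assoc (k * y * k⁻¹)]
      exact mul_mem hm (‹M.Normal›.conj_mem _ (inv_mem hm) _)
    rw [mul_inv_eq_one] at h3
    rw [← h3] at h2
    rw [H24.mem_cent]
    exact (eq_mul_inv_iff_mul_eq.mp h2)
  · rintro ⟨-, -, -, h⟩ x hx hx1 c hc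
    by_contra hcN
    have key : ∀ k ∈ H, k ∉ N → ∀ m ∈ M, m * k = k * m → m = 1 := by
      intro k hk hkN m hm hmk
      by_contra hm1
      exact hkN (h m (fun h => hm1 (hmem h hm)) ⟨hk, k, hk, by simp [hmk]⟩)
    obtain ⟨m, hm, k, hk, rfl⟩ := hdec c
    have hkN : k ∉ N := fun h => hcN (mul_mem (hMN hm) h)
    let f : M → M := fun v => ⟨v * (k * v⁻¹ * k⁻¹), mul_mem v.2 (‹M.Normal›.conj_mem _ (inv_mem v.2) _)⟩
    have hf : Function.Injective f := by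
      intro v w hvw
      have h1 : (v : G) * (k * v⁻¹ * k⁻¹) = w * (k * w⁻¹ * k⁻¹) := congrArg Subtype.val hvw
      have := key k hk hkN ((w : G)⁻¹ * v) (mul_mem (inv_mem w.2) v.2) (by
        calc (w : G)⁻¹ * v * k = w⁻¹ * (v * (k * v⁻¹ * k⁻¹)) * k * v := by simp [mul_assoc]
          _ = _ := by rw [h1]; simp [mul_assoc])
      exact Subtype.ext (inv_mul_eq_one.mp this).symm
    obtain ⟨v, hv⟩ := Finite.surjective_of_injective hf ⟨m, hm⟩
    have h1 : (v : G) * (k * v⁻¹ * k⁻¹) = m := congrArg Subtype.val hv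
    rw [H24.mem_cent, ← h1] at hc
    have := key k hk hkN ((v : G)⁻¹ * x * v) (‹M.Normal›.conj_mem' _ hx _) (by
      calc (v : G)⁻¹ * x * v * k = v⁻¹ * (x * (v * (k * v⁻¹ * k⁻¹) * k)) * v := by simp [mul_assoc]
        _ = _ := by rw [← hc]; simp [mul_assoc])
    apply hx1
    simpa [mul_assoc, inv_mul_eq_iff_eq_mul] using this

end Cfsg.Agent.S4113
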