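import Cfsg.Statements.S4115
import Cfsg.Agent.H24.TIHall

set_option autoImplicit false
universe u
open Cfsg

namespace Cfsg.Agent.S4115

open Subgroup H28

/-- Let G be a finite group and H a subgroup that meets each of its conjugates by elements outside N_G(H) trivially and whose order is coprime to its index in N_G(H). Then H has a normal complement in N_G(H) if and only if H has a normal complement in G. Moreover, if H is not normal in G and has a normal complement in N_G(H), then H is isomorphic to a Frobenius complement of some finite Frobenius group. -/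
theorem result {G : Type u} [Group G] [Finite G] (H : Subgroup G)
    (hTI : Cfsg.IsTISubset (H : Set G)) (hHall : (Nat.card H).Coprime (H.subgroupOf (Subgroup.normalizer (H : Set G))).index) :
    ((∃ K : Subgroup (Subgroup.normalizer (H : Set G)), K.Normal ∧ K.IsComplement' (H.subgroupOf (Subgroup.normalizer (H : Set G)))) ↔
      (∃ N : Subgroup G, N.Normal ∧ N.IsComplement' H)) ∧
    (¬ H.Normal → (∃ K : Subgroup (Subgroup.normalizer (H : Set G)), K.Normal ∧ K.IsComplement' (H.subgroupOf (Subgroup.normalizer (H : Set G)))) →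
      ∃ (F : Type u) (_ : Group F) (_ : Finite F) (C : Subgroup F), Cfsg.IsFrobeniusComplement C ∧ Nonempty (H ≃* C)) := by
  have h : H24.TH H := ⟨hTI, hHall⟩
  have h1 : (∃ K : Subgroup (𝐍 H), K.Normal ∧ K.IsComplement' (H.subgroupOf (𝐍 H))) →
      ∃ N : Subgroup G, N.Normal ∧ N.IsComplement' H := fun ⟨K, a, b⟩ =>
    h.compl (map_subtype_le K) (le_normalizer_map_subtype K) (by
      have := congrArg (map (𝐍 H).subtype) b.disjoint.eq_bot
      rwa [map_inf _ _ _ (subtype_injective _), H28.map_subtype_subgroupOf le_normalizer,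
        Subgroup.map_bot] at this)
      (by
      have := congrArg (map (𝐍 H).subtype) b.sup_eq_top
      rwa [Subgroup.map_sup, H28.map_subtype_subgroupOf le_normalizer, H28.map_subtype_top] at this)
  refine ⟨⟨h1, fun ⟨N, a, b⟩ => ⟨N.subgroupOf _, inferInstance, H3.isComplement'_of_normal ?_ ?_⟩⟩,
    fun hn hK => ?_⟩
  · rw [subgroupOf, subgroupOf, ← comap_inf, b.disjoint.eq_bot]; exact bot_subgroupOf _
  · refine eq_top_iff.2 fun x _ => ?_
    obtain ⟨⟨n, y⟩, e, -⟩ := b.existsUnique x
    have h2 : (n : G) ∈ 𝐍 H := (Subgroup.mul_mem_cancel_right _ (le_normalizer y.2)).1 (e ▸ x.2)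
    exact (show (⟨n, h2⟩ * ⟨y, le_normalizer y.2⟩ : 𝐍 H) = x from Subtype.ext e) ▸
      mul_mem (mem_sup_left n.2) (mem_sup_right y.2)
  · obtain ⟨N, a, b⟩ := h1 hK
    obtain ⟨V, _, _, _, φ, hφ⟩ := h.fpf (le_normalizer_of_normal (H := N))
      (b.index_eq_card ▸ h.coprime) fun e => hn (normal_iff_top_le.2 (b.sup_eq_top.ge.trans
        (sup_le e le_normalizer)))
    haveI := (nontrivial_iff_ne_bot H).2 (h.ne_bot hn)
    exact ⟨_, inferInstance, Finite.of_equiv _ SemidirectProduct.equivProd.symm, _,
      H24.sdp_isFrobeniusComplement φ hφ, ⟨MonoidHom.ofInjective SemidirectProduct.inr_injective⟩⟩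

end Cfsg.Agent.S4115
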