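import Cfsg.Statements.S4116
import Cfsg.Agent.H24.TIHall

set_option autoImplicit false
open Cfsg

namespace Cfsg.Agent.S4116

open Subgroup H28

/-- Let G be a finite group with a subgroup H whose order is coprime to its index (a Hall subgroup) and which meets each of its conjugates by elements outside N_G(H) trivially. Then every subgroup of G whose order is divisible only by primes dividing the order of H lies in a conjugate of H. -/
theorem result {G : Type*} [Group G] [Finite G] (H : Subgroup G)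
    (hHall : (Nat.card H).Coprime H.index) (hTI : Cfsg.IsTISubset (H : Set G))
    (K : Subgroup G) (hK : ∀ q : ℕ, q.Prime → q ∣ Nat.card K → q ∣ Nat.card H) :
    ∃ g : G, K ≤ H.map (MulAut.conj g).toMonoidHom := by
  by_contra! hcon
  have hπ := H2.isPiHallOf_top.2 (H2.isPiHall_of_coprime hHall)
  have h : H24.TH H := ⟨hTI, hHall.coprime_dvd_right ⟨_, (relIndex_mul_index le_normalizer).symm⟩⟩
  have h1 : ∀ g : G, ∀ x ∈ K, g⁻¹ * x * g ∈ 𝐍 H → g⁻¹ * x * g ∈ H := fun g x hx e =>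
    zpowers_le.1 (H2.le_of_isPiHallOf_of_le_normalizer' hπ le_top (fun q hq d => hK q hq (d.trans (by
      rw [Nat.card_zpowers, ← H24.orderOf_conj g]; simpa [mul_assoc] using K.orderOf_dvd_natCard hx)))
      (zpowers_le.2 e))
  have h2 : ∀ x ∈ K, x ≠ 1 → ∃ g : G, g⁻¹ * x * g ∈ H := fun x hx h0 => by
    obtain ⟨p, hp, d⟩ := Nat.exists_prime_and_dvd (mt orderOf_eq_one_iff.1 h0)
    haveI := Fact.mk hp
    obtain ⟨y, a, b⟩ := exists_orderOf_eq_of_dvd_card (p := p) (H := zpowers x) (by rwa [Nat.card_zpowers])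
    obtain ⟨g, -, c⟩ := H2.exists_conj_mem_of_not_dvd_relIndex (H24.isPGroup_zpowers (k := 1) (x := y)
      (by simpa using b)) le_top (hπ.2.2 p hp (hK p hp (d.trans (K.orderOf_dvd_natCard hx))))
    refine ⟨g, h1 g x hx (h.norm_le (zpowers_le.2 (c y (mem_zpowers y))) ?_ (centralizer_le_normalizer _ ?_))⟩
    · simpa [mul_assoc, inv_mul_eq_iff_eq_mul] using fun e => hp.one_lt.ne (by rw [← b, e, orderOf_one])
    · obtain ⟨k, rfl⟩ := mem_zpowers_iff.1 a
      rw [centralizer_zpowers, H24.mem_cent]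
      group
  have h3 : ∀ {a b x : G}, x ≠ 1 → a⁻¹ * x * a ∈ H → b⁻¹ * x * b ∈ H → b⁻¹ * a ∈ 𝐍 H :=
    fun {a b x} h0 c d => by_contra fun e => h0 (by
      simpa [mul_assoc, inv_mul_eq_iff_eq_mul] using hTI _ e _ c (by simpa [mul_assoc] using d))
  have h4 : ∀ x : K, x ≠ 1 → ∃ g : G, x ∈ (cj g H).subgroupOf K ∧
      IsFrobeniusComplement ((cj g H).subgroupOf K) := fun x h0 => by
    obtain ⟨g, hg⟩ := h2 x x.2 (by simpa using h0)
    refine ⟨g, mem_cj.2 hg, H24.isFrobeniusComplement_iff.2 ⟨fun e => h0 (mem_bot.1 (e ▸ mem_cj.2 hg)),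
      mt subgroupOf_eq_top.1 (hcon g), fun k y a b => or_iff_not_imp_right.2 fun c =>
        mem_cj.2 (h1 g k k.2 ?_)⟩⟩
    simpa [mul_assoc] using h3 (a := k * g) (b := g) (x := y) (by simpa using c)
      (by simpa [mul_assoc] using mem_cj.1 b) (mem_cj.1 a)
  have h5 : ∀ {C : Subgroup K}, IsFrobeniusComplement C → 2 * (frobeniusKernel C).ncard ≤ Nat.card K ∧
      1 < (frobeniusKernel C).ncard := fun {C} hC => by
    rw [← Nat.card_coe_set_eq, H24.card_frobeniusKernel hC, ← C.card_mul_index]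
    exact ⟨Nat.mul_le_mul_right _ ((one_lt_card_iff_ne_bot C).2 hC.1), one_lt_index_of_ne_top hC.2.1⟩
  haveI := (nontrivial_iff_ne_bot K).2 fun e => hcon 1 (e ▸ bot_le)
  obtain ⟨x, hx⟩ := exists_ne (1 : K)
  obtain ⟨g, -, a⟩ := h4 x hx
  obtain ⟨y, b, c⟩ := Set.exists_ne_of_one_lt_ncard (h5 a).2 1
  obtain ⟨g', d, e⟩ := h4 y c
  have h6 := Set.ncard_union_add_ncard_inter (frobeniusKernel ((cj g H).subgroupOf K))
    (frobeniusKernel ((cj g' H).subgroupOf K))
  have h7 := (Set.ncard_pos (s := frobeniusKernel ((cj g H).subgroupOf K) ∩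
    frobeniusKernel ((cj g' H).subgroupOf K))).2 ⟨1, Or.inl rfl, Or.inl rfl⟩
  rw [Set.eq_univ_of_forall (s := _ ∪ _) fun z => by_contra fun f => ?_, Set.ncard_univ] at h6
  · have := (h5 a).1
    have := (h5 e).1
    omega
  simp only [Set.mem_union, H24.mem_frobeniusKernel, not_or, not_forall, not_not] at f
  obtain ⟨⟨z0, u, f1⟩, -, v, f2⟩ := f
  have := h3 (a := v * g') (b := u * g) (x := z) (by simpa using z0)
    (by simpa [mul_assoc] using mem_cj.1 f2) (by simpa [mul_assoc] using mem_cj.1 f1)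
  refine (H24.mem_frobeniusKernel.1 b).resolve_left c (v⁻¹ * u) (mem_cj.2 ?_)
  simpa [mul_assoc] using conj_mem_of_mem_normalizer this (mem_cj.1 d)

end Cfsg.Agent.S4116
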