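import Cfsg.Statements.S4118
import Cfsg.Agent.H24.TIHall

set_option autoImplicit false
open Cfsg

namespace Cfsg.Agent.S4118

open Subgroup H28

/-- Let G be a finite group and H a non-normal subgroup meeting each of its conjugates by elements outside N_G(H) trivially, with the order of H coprime to its index in N_G(H); let π be the set of primes dividing the order of H and suppose G is π-separable (it has a chain of normal subgroups from 1 to G each of whose factors has order divisible only by primes in π or coprime to the order of H). Let O be the largest normal subgroup of G of order coprime to the order of H. Then G = O·N_G(H), O·H is normal in G, and G is solvable if and only if O is solvable and H has no subgroup isomorphic to SL₂(5). -/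
theorem result {G : Type*} [Group G] [Finite G] (H : Subgroup G)
    (hTI : Cfsg.IsTISubset (H : Set G)) (hnn : ¬ H.Normal)
    (hHall : (Nat.card H).Coprime (H.subgroupOf (Subgroup.normalizer (H : Set G))).index)
    (hsep : ∃ (n : ℕ) (M : Fin (n + 1) → Subgroup G), M 0 = ⊥ ∧ M (Fin.last n) = ⊤ ∧ Monotone M ∧ (∀ i, (M i).Normal) ∧
      ∀ i : Fin n, (∀ q : ℕ, q.Prime → q ∣ (M i.castSucc).relIndex (M i.succ) → q ∣ Nat.card H) ∨
        ((M i.castSucc).relIndex (M i.succ)).Coprime (Nat.card H))
    (O : Subgroup G) (hO : O = sSup {K : Subgroup G | K.Normal ∧ (Nat.card K).Coprime (Nat.card H)}) :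
    O ⊔ Subgroup.normalizer (H : Set G) = ⊤ ∧ (O ⊔ H).Normal ∧
    (Group.IsSolvable G ↔ Group.IsSolvable O ∧
      ∀ K : Subgroup G, K ≤ H → ¬ Nonempty (K ≃* Matrix.SpecialLinearGroup (Fin 2) (ZMod 5))) := by
  have h : H24.TH H := ⟨hTI, hHall⟩
  obtain rfl : O = pPrimeCore (Nat.card H) G := hO
  have h1 := h.sep hnn hsep
  have hc : (Nat.card (pPrimeCore (Nat.card H) G)).Coprime (Nat.card H) := H1.pPrimeCore_coprime
  have hm : ∀ K : Subgroup G, K.Normal → (Nat.card K).Coprime (Nat.card H) →
    K ≤ pPrimeCore (Nat.card H) G := fun K => H1.le_pPrimeCore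
  have : (pPrimeCore (Nat.card H) G).Normal := inferInstance
  generalize pPrimeCore (Nat.card H) G = O at *
  have nm : ∀ K, 𝐍 H ≤ 𝐍 K → (O ⊔ K).Normal := fun K a => normal_iff_top_le.2 (h1.ge.trans
    (sup_le (le_normalizer_of_le le_sup_left) (le_normalizer_sup le_normalizer_of_normal a)))
  refine ⟨h1, nm H le_rfl, fun hG => ⟨inferInstance, fun K _ ⟨e⟩ => ?_⟩, fun ⟨a, b⟩ => ?_⟩
  · haveI := (H1.isSolvable_congr e).1 inferInstance
    haveI : Nontrivial H24.SL25 := Finite.one_lt_card_iff_nontrivial.1 (by rw [H24.card_SL25]; omega)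
    exact Group.IsPerfect.not_isSolvable H24.SL25 ‹_›
  have hF := h.isFC hnn hc h1
  have hH : Group.IsSolvable H := by_contra fun e => by
    obtain ⟨S, -, ⟨f⟩⟩ := hF.exists_SL25 e
    exact b _ (map_subtype_le S) ⟨(equivMapOfInjective S _ H.subtype_injective).symm.trans f⟩
  obtain ⟨Q, q1, q2, q3⟩ := H3.exists_complement_rel le_normalizer le_rfl h.hall
  have q4 : Q ≤ 𝐍 H := q2 ▸ le_sup_right
  have q5 : (Nat.card Q).Coprime (Nat.card H) := q3 ▸ h.hall.symm
  have hQ : Group.IsSolvable Q := by
    by_cases h2 : 2 ∣ Nat.card H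
    · exact H24.solvable_of_coprime_two _ (q5.coprime_dvd_right h2)
    have c1 : H ≤ 𝐂 ⁅Q, Q⁆ := H2.le_of_forall_prime_relIndex fun p hp => by
      haveI := Fact.mk hp
      obtain ⟨P, a1, a2, a3, a4⟩ := H2.exists_invariant_sylow q4 q5 (Or.inr hH) p
      refine ⟨P, le_centralizer_comm.1 (H24.commutator_le_cent_of_cyclic ?_ a4), a3⟩
      haveI := (hF.ac.of_equiv (Q := H) topEquiv).isZGroup_odd
        ((Nat.prime_two.coprime_iff_not_dvd.2 h2).symm)
      haveI : IsZGroup P := IsZGroup.of_injective (inclusion_injective a1)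
      exact topEquiv.isCyclic.1 (a2.to_subgroup ⊤).isCyclic_of_isZGroup
    have c2 : ⁅Q, Q⁆ ≤ Q := commutator_le_of_le_normalizer le_normalizer
    have c3 : ⁅Q, Q⁆ ≤ O := le_sup_right.trans (hm _ (nm _ (q2.ge.trans (sup_le
      (le_normalizer_of_le_centralizer c1) (le_normalizer_commutator_left Q Q))))
      ((hc.mul_left (q5.coprime_dvd_left (card_dvd_of_le c2))).coprime_dvd_left
        (H1.card_sup_dvd' le_normalizer_of_normal)))
    haveI := H1.isSolvable_of_le c3 a
    haveI : Group.IsSolvable (_root_.commutator Q) := (H1.isSolvable_map_iff Q.subtype_injective).1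
      (by rwa [map_subtype_commutator])
    exact solvable_of_ker_le_range (_root_.commutator Q).subtype Abelianization.of (by simp)
  have := H1.isSolvable_sup (le_normalizer_of_normal (H := O)) (H1.isSolvable_sup q4 hQ hH) a
  rw [sup_comm Q, q2, sup_comm, h1] at this
  exact (H1.isSolvable_congr topEquiv).1 this

end Cfsg.Agent.S4118
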