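import Cfsg.Statements.S4124
import Cfsg.Agent.H8.FS9

set_option autoImplicit false
open Cfsg

namespace Cfsg.Agent.S4124

/-- Let the finite nilpotent group A act faithfully on the finite group G by automorphisms so that only the identity of G is fixed by every element of A. Then G is solvable. -/
theorem result {G A : Type*} [Group G] [Finite G] [Group A] [Finite A]
    [MulDistribMulAction A G] [FaithfulSMul A G] (hA : Group.IsNilpotent A)
    (hCF : ∀ g : G, (∀ a : A, a • g = g) → g = 1) : Group.IsSolvable G := by
  exact H8.FS.main.nil (MulDistribMulAction.toMulAut A G) hA hCF

end Cfsg.Agent.S4124
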