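import Cfsg.Statements.S4125
import Cfsg.Agent.H24.Baer

set_option autoImplicit false
open Cfsg

namespace Cfsg.Agent.S4125

open Subgroup Pointwise
open scoped commutatorElement

/-- Let G be a finite group and q a prime dividing its order such that every element of q-power order has a conjugacy class of prime-power size. Then G is q-solvable of q-length 1: there are normal subgroups K ≤ L of G with K of order prime to q, L/K a q-group and L of index prime to q. Moreover there is a prime p such that every element of q-power order has a class of p-power size (one prime serving for all of them), and for a Sylow q-subgroup Q: if p = q then Q is normal with a normal complement (a direct factor), while if p ≠ q then Q is abelian, the product of Q with the largest normal p-subgroup O_p(G) is normal in G, and G/O_{q'}(G) is solvable, where O_{q'}(G) is the largest normal subgroup of order prime to q. -/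
theorem result {G : Type*} [Group G] [Finite G] (q : ℕ) [Fact q.Prime] (hq : q ∣ Nat.card G)
    (hBaer : ∀ x : G, (∃ k : ℕ, orderOf x = q ^ k) → ∃ (r : ℕ) (a : ℕ), r.Prime ∧ (Subgroup.centralizer ({x} : Set G)).index = r ^ a) (Q : Sylow q G) :
    (∃ K L : Subgroup G, K.Normal ∧ L.Normal ∧ K ≤ L ∧ (Nat.card K).Coprime q ∧ (∃ m : ℕ, K.relIndex L = q ^ m) ∧ L.index.Coprime q) ∧
    ∃ p : ℕ, p.Prime ∧ (∀ x : G, (∃ k : ℕ, orderOf x = q ^ k) → ∃ a : ℕ, (Subgroup.centralizer ({x} : Set G)).index = p ^ a) ∧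
      (p = q → (Q : Subgroup G).Normal ∧ ∃ N : Subgroup G, N.Normal ∧ N.IsComplement' (Q : Subgroup G)) ∧
      (p ≠ q → IsMulCommutative (Q : Subgroup G) ∧ (Cfsg.pCore p G ⊔ (Q : Subgroup G)).Normal ∧
        ∀ _h : (Cfsg.pPrimeCore q G).Normal, Group.IsSolvable (G ⧸ Cfsg.pPrimeCore q G)) := by
  have hqp : q.Prime := Fact.out
  obtain ⟨m, hm⟩ := IsPGroup.iff_card.mp Q.isPGroup'
  by_cases hA : ∀ x : G, (∃ k : ℕ, orderOf x = q ^ k) → ∃ a : ℕ, H24.cs x = q ^ a
  · have h1 : (Q : Subgroup G) = pCore q G := by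
      refine le_antisymm (fun x hx => ?_) (H1.pCore_le_sylow Q)
      obtain ⟨k, hk⟩ := H24.orderOf_eq_pow_of_mem Q.isPGroup' hx
      obtain ⟨a, ha⟩ := hA x ⟨k, hk⟩
      exact H7.mem_pCore_of_cs hk ha.dvd
    haveI hQn : (Q : Subgroup G).Normal := h1 ▸ inferInstance
    set C := centralizer ((Q : Subgroup G) : Set G) with hC
    have h2 : pResidual q G ≤ C := by
      rw [H3.pResidual_le_iff]
      intro g hg
      refine H24.mem_of_forall_primePow g fun y hy r k hr hk => ?_
      haveI := Fact.mk hr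
      by_cases hrq : r = q
      · have h3 : orderOf y = 1 :=
          Nat.eq_one_of_dvd_coprimes (hg.pow_right k) (orderOf_dvd_of_mem_zpowers hy) (hrq ▸ hk.dvd)
        rw [orderOf_eq_one_iff.mp h3]; exact one_mem _
      obtain ⟨R, hR⟩ := H24.exists_sylow_mem hk
      have h3 : (Q : Subgroup G) ≤ centralizer ((R : Subgroup G) : Set G) :=
        H24.le_of_forall_conj_mem fun w hw => by
          obtain ⟨a, ha⟩ := hA w (H24.orderOf_eq_pow_of_mem Q.isPGroup' hw)
          exact H24.exists_conj_cent_of_cs_pow Q hrq R ha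
      exact le_centralizer_iff.mp h3 hR
    have h3 : HasNormalPComplement q C := by
      obtain ⟨S⟩ : Nonempty (Sylow q C) := inferInstance
      refine H3.hasNPC_of_normalizer_le_centralizer S fun x _ =>
        mem_centralizer_iff.mpr fun v hv => Subtype.ext (mem_centralizer_iff.mp x.2 v ?_)
      obtain ⟨k, hk⟩ := H24.orderOf_eq_pow_of_mem S.isPGroup' hv
      haveI := Sylow.unique_of_normal Q hQn
      obtain ⟨Q', hQ'⟩ := H24.exists_sylow_mem (x := (v : G)) ((orderOf_coe v).trans hk)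
      rwa [Subsingleton.elim Q' Q] at hQ'
    have h4 := H3.hasNPC_of_pResidual_le h2 h3
    have h5 := (H3.hasNPC_iff_isComplement' Q).mp h4
    refine ⟨⟨pResidual q G, ⊤, inferInstance, inferInstance, le_top, H3.hasNPC_iff_coprime.mp h4,
      ⟨m, by rw [relIndex_top_right, h5.symm.index_eq_card, hm]⟩, by simp⟩, q, hqp, hA,
      fun _ => ⟨hQn, _, inferInstance, h5⟩, fun h => absurd rfl h⟩
  push Not at hA
  obtain ⟨y, ⟨k, hy⟩, hy'⟩ := hA
  obtain ⟨p, b, hp, hb⟩ := hBaer y ⟨k, hy⟩
  haveI := Fact.mk hp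
  have hpq : p ≠ q := fun h => hy' b (h ▸ hb)
  have hb0 : b ≠ 0 := fun h => hy' 0 (by rw [pow_zero, ← pow_zero p, ← h]; exact hb)
  have hall : ∀ x : G, (∃ k : ℕ, orderOf x = q ^ k) → ∃ a : ℕ, H24.cs x = p ^ a := by
    rintro x ⟨j, hx⟩
    obtain ⟨r, a, hr, ha⟩ := hBaer x ⟨j, hx⟩
    by_cases ha0 : a = 0
    · exact ⟨0, by rw [pow_zero, ← pow_zero r, ← ha0]; exact ha⟩
    by_cases hrp : r = p
    · exact ⟨a, hrp ▸ ha⟩
    have hrq : r ≠ q := fun h => H24.baer_not_dvd hBaer hy hp hpq hb hb0 hx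
      (by rw [show H24.cs x = r ^ a from ha, h]; exact dvd_pow_self q ha0)
    exact absurd (H24.baer_two_primes hBaer hx hy hr hp hrp hrq hpq ha hb) (by tauto)
  set O := pCore p G with hO
  set f := QuotientGroup.mk' O with hf
  have hfs : Function.Surjective f := QuotientGroup.mk'_surjective O
  have hF : ∀ x ∈ (Q : Subgroup G), f x ∈ fittingSubgroup (G ⧸ O) ∧
      f x ∈ centralizer (fittingSubgroup (G ⧸ O) : Set (G ⧸ O)) := by
    intro x hx
    obtain ⟨a, ha⟩ := hall x (H24.orderOf_eq_pow_of_mem Q.isPGroup' hx)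
    exact H7.kazarin_fitting H1.pCore_quotient_pCore (ha ▸ H24.cs_map_dvd hfs x)
  have hdis : O ⊓ Q = ⊥ :=
    disjoint_iff.mp (IsPGroup.disjoint_of_ne p q hpq _ _ H1.pCore_isPGroup Q.isPGroup')
  have hQc : IsMulCommutative (Q : Subgroup G) := by
    refine H1.isMulCommutative_iff.mpr fun a ha c hc => ?_
    rw [← commutatorElement_eq_one_iff_mul_comm, ← mem_bot, ← hdis]
    refine mem_inf.mpr ⟨?_, mul_mem (mul_mem (mul_mem ha hc) (inv_mem ha)) (inv_mem hc)⟩
    have h1 : f ⁅a, c⁆ = 1 := by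
      rw [map_commutatorElement, commutatorElement_eq_one_iff_mul_comm]
      exact mem_centralizer_iff.mp (hF c hc).2 _ (hF a ha).1
    exact (QuotientGroup.eq_one_iff _).mp h1
  have hn1 : ((Q : Subgroup G).map f).Normal := by
    have h1 : (Q : Subgroup G).map f ≤ fittingSubgroup (G ⧸ O) := by
      rintro _ ⟨x, hx, rfl⟩; exact (hF x hx).1
    have h2 := H1.le_pCore_of_subnormal (H1.isSubnormal_of_le_of_isNilpotent h1
      H1.fitting_isNilpotent (Normal.isSubnormal inferInstance)) (Q.isPGroup'.map f)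
    rw [le_antisymm h2 (H1.pCore_le_sylow (Q.mapSurjective hfs))]
    infer_instance
  have hn2 : (O ⊔ Q).Normal := by
    have h1 := hn1.comap f
    rwa [comap_map_eq, hf, QuotientGroup.ker_mk', sup_comm] at h1
  obtain ⟨n, hn⟩ := IsPGroup.iff_card.mp (H1.pCore_isPGroup (p := p) (G := G))
  have hOc : (Nat.card O).Coprime q := by
    rw [hn]; exact ((Nat.coprime_primes hp hqp).mpr hpq).pow_left n
  refine ⟨⟨O, O ⊔ Q, inferInstance, hn2, le_sup_left, hOc, ?_,
    (H3.sylow_index_coprime Q).coprime_dvd_left (index_dvd_of_le le_sup_right)⟩, p, hp, hall,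
    fun h => absurd h hpq, fun _ => ⟨hQc, hn2, fun _ => ?_⟩⟩
  · obtain ⟨j, -, hj⟩ := (Nat.dvd_prime_pow hqp).mp (hm ▸ relIndex_dvd_card O (Q : Subgroup G))
    exact ⟨j, by rw [relIndex_sup_left, hj]⟩
  set g := QuotientGroup.mk' (pPrimeCore q G) with hg
  have hgs : Function.Surjective g := QuotientGroup.mk'_surjective _
  have h1 : O.map g = ⊥ := by
    rw [Subgroup.map_eq_bot_iff, hg, QuotientGroup.ker_mk']
    exact H1.le_pPrimeCore inferInstance hOc
  haveI : (Q.mapSurjective hgs : Subgroup (G ⧸ pPrimeCore q G)).Normal := by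
    have h2 := hn2.map g hgs
    rwa [Subgroup.map_sup, h1, bot_sup_eq] at h2
  refine H24.isSolvable_of_cs_pow (Q.mapSurjective hgs) ?_ H1.pPrimeCore_quotient_pPrimeCore hp ?_
  · exact Subgroup.map_isMulCommutative (Q : Subgroup G) g
  · rintro _ ⟨x, hx, rfl⟩
    obtain ⟨a, ha⟩ := hall x (H24.orderOf_eq_pow_of_mem Q.isPGroup' hx)
    exact ⟨a, ha ▸ H24.cs_map_dvd hgs x⟩

end Cfsg.Agent.S4125
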