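import Cfsg.Statements.S4127
import Cfsg.Agent.H24.ItoQF
import Cfsg.Agent.S4035
import Cfsg.Agent.H2.Factor

set_option autoImplicit false
open Cfsg

namespace Cfsg.Agent.S4127

open H24 H28 Subgroup


/-- Let G be a finite group, p a prime and p^a the largest power of p dividing the size of any conjugacy class of G. If some element of p-power order has a conjugacy class of size exactly p^a, then G has a normal p-complement. -/
theorem result {G : Type*} [Group G] [Finite G] (p : ℕ) [Fact p.Prime]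
    (a : ℕ) (hmax : ∀ y : G, ¬ p ^ (a + 1) ∣ (Subgroup.centralizer ({y} : Set G)).index)
    (hx : ∃ x : G, (∃ k : ℕ, orderOf x = p ^ k) ∧ (Subgroup.centralizer ({x} : Set G)).index = p ^ a) :
    Cfsg.HasNormalPComplement p G := by
  obtain ⟨x, ⟨k, hk⟩, hx⟩ := hx
  have hp : p.Prime := Fact.out
  have hxO : x ∈ pCore p G := by
    obtain ⟨P, hP⟩ := exists_sylow_mem hk
    have h2 : (P : Subgroup G).index.Coprime (centralizer ({x} : Set G)).index := by
      rw [hx]
      exact (((Nat.Prime.coprime_iff_not_dvd hp).2 P.not_dvd_index).symm).pow_right a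
    refine H1.le_pCore (N := normalClosure {x}) inferInstance
      (P.isPGroup'.to_le ((closure_le _).2 fun z hz => ?_)) (subset_normalClosure (s := {x}) rfl)
    obtain ⟨w, hw, hz'⟩ := Group.mem_conjugatesOfSet_iff.1 hz
    obtain ⟨g, rfl⟩ := isConj_iff.1 hz'
    rw [Set.mem_singleton_iff.1 hw]
    obtain ⟨u, hu, c, hc, rfl⟩ := H2.facIn_of_coprime_index h2 g (mem_top g)
    have : u * c * x * (u * c)⁻¹ = u * x * u⁻¹ := by rw [mul_assoc u, mem_cent.1 hc]; group
    exact this ▸ mul_mem (mul_mem hu hP) (inv_mem hu)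
  set C := centralizer ({x} : Set G) with hC
  obtain ⟨P⟩ : Nonempty (Sylow p C) := inferInstance
  obtain ⟨hn, H, hH, h1, h2, h3⟩ := S4035.result (G := C) (p := p) (fun y hy hd => by
    rw [← Nat.card_coe_set_eq, card_carrier_mk, cs_subgroup] at hd
    refine hmax (x * y) ?_
    rw [cent_mul_of_coprime (mem_cent_iff_commute.1 y.2).symm
      (by rw [hk, Subgroup.orderOf_coe]; exact hy.symm.pow_left k),
      ← relIndex_mul_index inf_le_left, inf_relIndex_left, hx, pow_succ']
    exact mul_dvd_mul_right hd _) P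
  have hi : ∃ j, H.index ∣ p ^ j := by
    obtain ⟨j, hj⟩ := IsPGroup.iff_card.1 P.isPGroup'
    exact ⟨j, by rw [← relIndex_top_right, ← h3, relIndex_sup_right, ← hj]; exact relIndex_dvd_card _ _⟩
  obtain ⟨j, hj⟩ := hi
  have hK : (Nat.card (H.map C.subtype)).Coprime p := by
    rw [card_subtype]; exact ((Nat.Prime.coprime_iff_not_dvd hp).2 h1).symm
  have h4 : H.map C.subtype ≤ 𝐂 (pCore p G) := by
    refine H2.thompson_PxQ (isPGroup_zpowers hk) hK ?_ _ rfl H1.pCore_isPGroup
      (fun g _ => mem_normalizer_of_normal _ g) (fun g _ => mem_normalizer_of_normal _ g) ?_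
    · rw [le_centralizer_comm, centralizer_zpowers]; exact map_subtype_le _
    · rw [centralizer_zpowers]
      rintro u ⟨hu, hu'⟩ _ ⟨v, hv, rfl⟩
      have h5 : (⟨u, hu'⟩ : C) ∈ (P : Subgroup C) :=
        ((H1.pCore_isPGroup.comap_subtype (K := C)).le_sylow_of_normal P) hu
      exact congrArg Subtype.val (commute_of_normal_of_disjoint H P hH hn
        (disjoint_iff.2 (inf_comm H _ ▸ h2)) v _ hv h5).eq
  haveI : (H.map C.subtype).Normal := ⟨fun u hu g => by
    have h5 : g * u * g⁻¹ ∈ C := mem_cent_comm.1 (mem_cent.2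
      (Normal.conj_mem inferInstance _ (h4 hu) g x hxO))
    refine ⟨⟨_, h5⟩, H3.pResidual_le_of_index_dvd_pow hj (H3.mem_pResidual ?_), rfl⟩
    rw [← Subgroup.orderOf_coe, orderOf_conj]
    exact H3.coprime_card_subgroup_iff.1 hK u hu⟩
  refine H3.hasNPC_of_forall_mem _ hK (H3.pResidual_le_iff.1
    (H3.pResidual_le_of_index_dvd_pow (k := j + a) ?_))
  rw [index_map_subtype, hx, pow_add]
  exact mul_dvd_mul_right hj _

end Cfsg.Agent.S4127
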