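import Cfsg.Statements.S4133
import Cfsg.Agent.H24.AbHall
import Cfsg.Agent.H24.Four3
import Cfsg.Agent.S4035
import Cfsg.Agent.H3.Transfer

set_option autoImplicit false
open Cfsg

namespace Cfsg.Agent.S4133


/-- Let G be a finite group all of whose Sylow subgroups are abelian, and let 2^a be the largest power of 2 dividing the size of any conjugacy class of G. If some element has a conjugacy class of size exactly 2^a, then G is solvable. -/
theorem result {G : Type*} [Group G] [Finite G]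
    (hA : ∀ (p : ℕ) [Fact p.Prime] (P : Sylow p G), IsMulCommutative (P : Subgroup G))
    (a : ℕ) (hmax : ∀ y : G, ¬ 2 ^ (a + 1) ∣ (Subgroup.centralizer ({y} : Set G)).index) (hx : ∃ x : G, (Subgroup.centralizer ({x} : Set G)).index = 2 ^ a) :
    Group.IsSolvable G := by
  open H24 H19 Subgroup in
  obtain ⟨x, hx⟩ := hx
  haveI : Fact (Nat.Prime 2) := ⟨Nat.prime_two⟩
  have ab : ∀ p (P : Subgroup G), p.Prime → PG p P → Ab P := fun p P hp h => by
    haveI := Fact.mk hp
    obtain ⟨S, hS, hle⟩ := h.exists_syl le_top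
    obtain ⟨S, rfl⟩ := hS.exists_sylow_top
    exact comm_mono (hA p S) hle
  have px : PiN {2} C[x].index := hx ▸ PiN.prime_pow Nat.prime_two a
  refine isSolvable_of_forall_perfect fun L hL pL => ?_
  have h1 : L ≤ C(normalClosure ({x} : Set G)) := by
    set N := C(normalClosure ({x} : Set G)) with hN
    obtain ⟨T, hT⟩ := exists_syl 2 (⊤ : Subgroup G)
    have sQ : Group.IsSolvable (G ⧸ N) := by
      refine sol_of_ab_hall _ (T.map (QuotientGroup.mk' N)) (C[x].map (QuotientGroup.mk' N)) ?_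
        (by haveI := ab 2 T Nat.prime_two hT.pi; infer_instance) ⟨le_top, ?_, ?_⟩
      · have := hT.map (QuotientGroup.mk' N)
        rwa [map_top_of_surjective _ (QuotientGroup.mk'_surjective N)] at this
      · rw [PiG, ← relIndex_ker, QuotientGroup.ker_mk']
        refine H25.Ito.piN_relIndex fun s u hu hs h2 pu => ?_
        obtain rfl : s = 2 := not_not.1 h2
        obtain ⟨S, hS, hle⟩ := (piG_zpowers.2 pu).exists_syl le_top
        refine le_cent1_iff.1 (normalClosure_le fun g => ?_)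
        have i1 := hS.idx
        rw [relIndex_top_right] at i1
        obtain ⟨t, ht, c, hc, rfl⟩ := H2.facIn_of_coprime_index (i1.coprime' px) g (mem_top g)
        have : t * c * x * (t * c)⁻¹ = t * x * t⁻¹ := by rw [mul_assoc t, mem_cent1.1 hc]; group
        have h3 : t ∈ C[u] := mem_cent1.2 (mul_comm_of_comm (ab 2 S hs hS.pi) ht (hle (mem_zpowers u)))
        exact this ▸ mul_mem (mul_mem h3 (mem_cent1_symm.1 hu)) (inv_mem h3)
      · rw [relIndex_top_right, compl_compl]
        exact px.dvd (index_map_dvd _ (QuotientGroup.mk'_surjective N))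
    have := sol_eq_bot_of_le_der (H := L.map (QuotientGroup.mk' N)) inferInstance
      (by rw [← map_commutator, pL])
    rwa [Subgroup.map_eq_bot_iff, QuotientGroup.ker_mk'] at this
  have h2 : L ⊓ C(L) = ⊥ := by_contra fun e => by
    obtain ⟨p, hp, hd⟩ := exists_prime_dvd_card e
    obtain ⟨z, hz, oz⟩ := exists_orderOf_eq_prime hp hd
    haveI := Fact.mk hp
    obtain ⟨P, hP⟩ := exists_sylow_mem (p := p) (x := (⟨z, hz.1⟩ : L)) (k := 1)
      (by rw [pow_one, ← oz, ← orderOf_coe])
    have h3 := H3.inf_commutator_inf_center_le P.card_coprime_index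
      (mem_inf.2 ⟨mem_inf.2 ⟨hP, by
        have : commutator L = ⊤ := by
          apply map_injective L.subtype_injective
          rw [commutator_def, map_commutator, ← MonoidHom.range_eq_map, range_subtype, pL]
        rw [this]; trivial⟩, H25.Ito.mem_center_sub.2 hz.2⟩)
    have h4 : Ab (P : Subgroup L) := ⟨⟨fun a b => Subtype.ext (Subtype.ext (mul_comm_of_comm
      (ab p _ hp (syl_sylow P).pi) ⟨a, a.2, rfl⟩ ⟨b, b.2, rfl⟩))⟩⟩
    rw [comm_iff_der.1 h4, mem_bot] at h3
    exact ne_one_of_prime hp oz (congrArg Subtype.val h3)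
  have hxL : L ≤ C[x] := h1.trans (cent_le_cent1 (subset_normalClosure rfl))
  obtain ⟨P⟩ : Nonempty (Sylow 2 L) := inferInstance
  have h3 := (Cfsg.Agent.S4035.result (G := L) (fun y _ => ?_) P).1
  · haveI := P.isPGroup'.isNilpotent
    refine sol_eq_bot_of_le_der (isSolvable_of_normal_of_quot (P : Subgroup L) inferInstance
      (H20.odd_solvable _ ?_)) pL.ge
    rw [← Nat.not_even_iff_odd, even_iff_two_dvd]
    exact P.not_dvd_index
  rw [← Nat.card_coe_set_eq, card_carrier_mk, cs_subgroup]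
  obtain ⟨y, hy⟩ := y
  obtain ⟨U, hU⟩ := exists_syl 2 C[x * y]
  have h4 : U ≤ C[y] ⊓ C[x] := fun u hu => by
    have e := mem_cent_iff_conj.1 (hU.le hu)
    have e1 : u * y * u⁻¹ * y⁻¹ = (u * x * u⁻¹)⁻¹ * x := by
      calc u * y * u⁻¹ * y⁻¹ = (u * x * u⁻¹)⁻¹ * (u * (x * y) * u⁻¹) * y⁻¹ := by group
        _ = _ := by rw [e]; group
    have e2 : u * y * u⁻¹ * y⁻¹ ∈ L ⊓ C(L) := mem_inf.2 ⟨mul_mem (hL.conj_mem y hy u) (inv_mem hy),
      cents_symm h1 (e1 ▸ mul_mem (inv_mem (conj_mem_normalClosure u x)) (subset_normalClosure rfl))⟩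
    rw [h2, mem_bot] at e2
    refine ⟨mem_cent_iff_conj.2 (mul_inv_eq_one.1 e2), mem_cent_iff_conj.2 ?_⟩
    rw [e2, eq_comm, inv_mul_eq_one] at e1
    exact e1
  intro h5
  change 2 ∣ C[y].relIndex L at h5
  have h6 := relIndex_dvd_of_norm' (H := C[y] ⊓ C[x]) (K := L) (normalIn_top.norms le_top)
    inf_le_right hxL
  rw [show (C[y] ⊓ C[x]).relIndex L = C[y].relIndex L by
    rw [← inf_relIndex_right, inf_assoc, inf_eq_right.2 hxL, inf_relIndex_right]] at h6
  have h7 := index_dvd_of_le h4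
  rw [← relIndex_mul_index (inf_le_right : C[y] ⊓ C[x] ≤ C[x]), hx, ← relIndex_mul_index hU.le,
    mul_comm (U.relIndex _)] at h7
  refine hmax (x * y) (PiN.dvd_of_dvd_mul (PiN.prime_pow Nat.prime_two _) hU.idx
    (Dvd.dvd.trans ?_ h7))
  rw [pow_succ']
  exact Nat.mul_dvd_mul_right (h5.trans h6) _

end Cfsg.Agent.S4133
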