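import Cfsg.Statements.S4137
import Cfsg.Agent.H24.Four4

set_option autoImplicit false
open Cfsg

namespace Cfsg.Agent.S4137


/-- Let G be a finite group with trivial centre and at most three distinct sizes of conjugacy classes other than 1. Then G is solvable or G is isomorphic to PSL₂(2^a) for some a ≥ 1. -/
theorem result {G : Type*} [Group G] [Finite G]
    (hZ : Subgroup.center G = ⊥) (h : Nat.card {n : ℕ | 1 < n ∧ ∃ x : G, (Subgroup.centralizer ({x} : Set G)).index = n} ≤ 3) :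
    Group.IsSolvable G ∨ ∃ a : ℕ, 0 < a ∧ Nonempty (G ≃* Matrix.ProjectiveSpecialLinearGroup (Fin 2) (GaloisField 2 a)) := by
  open H24 Subgroup in
  obtain ⟨a, b, c, hS⟩ : ∃ a b c : ℕ, ∀ g : G, g ≠ 1 → cs g = a ∨ cs g = b ∨ cs g = c := by
    have hf : {n : ℕ | 1 < n ∧ ∃ x : G, (centralizer ({x} : Set G)).index = n}.Finite :=
      (Set.finite_range fun x : G => cs x).subset fun n hn => hn.2
    rw [Nat.card_coe_set_eq, Set.ncard_eq_toFinset_card _ hf] at h
    have hm : ∀ g : G, g ≠ 1 → cs g ∈ hf.toFinset := fun g hg => by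
      rw [Set.Finite.mem_toFinset]
      exact ⟨one_lt_cs hZ hg, g, rfl⟩
    generalize hf.toFinset = s at h hm
    obtain ⟨t, ht, h3⟩ := Infinite.exists_superset_card_eq s 3 h
    obtain ⟨a, b, c, -, -, -, rfl⟩ := Finset.card_eq_three.1 h3
    exact ⟨a, b, c, fun g hg => by simpa using ht (hm g hg)⟩
  rcases sol_or_antichain hZ hS with h1 | h1
  · exact .inl h1
  rcases solvable_or_psl hZ fun t ht => ab_cent_of_antichain h1 ht with h2 | ⟨F, _, _, hF, ⟨e⟩⟩
  · exact .inl h2
  obtain ⟨n, -, hn⟩ := FiniteField.card F 2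
  haveI : Fact (Nat.Prime 2) := ⟨Nat.prime_two⟩
  haveI : Algebra (ZMod 2) F := ZMod.algebra F 2
  have φ := (GaloisField.algEquivGaloisFieldOfFintype 2 n hn).toRingEquiv
  exact .inr ⟨n, n.pos, ⟨e.trans (H11.pslCongr (Equiv.refl _) φ)⟩⟩

end Cfsg.Agent.S4137
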