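import Cfsg.Statements.S4138
import Cfsg.Agent.H24.ItoQF

set_option autoImplicit false
open Cfsg

namespace Cfsg.Agent.S4138

open H24 H28 Subgroup

variable {G : Type*} [Group G] [Finite G]

theorem le_of_index_inf_le {A B : Subgroup G} (h : (A ⊓ B).index ≤ A.index) : A ≤ B := by
  have h1 := relIndex_mul_index (inf_le_left : A ⊓ B ≤ A)
  have h2 : 0 < A.index := Nat.pos_of_ne_zero FiniteIndex.index_ne_zero
  have h3 : (A ⊓ B).relIndex A ≠ 0 := FiniteIndex.index_ne_zero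
  have : (A ⊓ B).relIndex A = 1 := by
    rcases hk : (A ⊓ B).relIndex A with _ | _ | k
    · exact absurd hk h3
    · rfl
    · rw [hk] at h1; nlinarith
  exact (relIndex_eq_one.1 this).trans inf_le_right

structure TT (m n : ℕ) (x y : G) : Prop where
  hmn : n < m
  hn : 1 < n
  cop : m.Coprime n
  top : ∀ z : G, cs z ≤ m
  sec : ∀ z : G, cs z < m → cs z ≤ n
  hx : cs x = n
  hy : cs y = m

namespace TT
variable {m n : ℕ} {x y : G} (h : TT m n x y)
include h

theorem ndvd : ¬ n ∣ m := fun h1 => h.hn.ne' (Nat.eq_one_of_dvd_coprimes h.cop h1 dvd_rfl)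

theorem eq_of_dvd {z : G} (hz : m ∣ cs z) : cs z = m :=
  le_antisymm (h.top z) (Nat.le_of_dvd (cs_pos z) hz)

theorem top_mul {w : G} (hw : (cs w).Coprime m) : cs (y * w) = cs y :=
  le_antisymm (h.hy ▸ h.top _) (cs_le_cs_mul_left (h.hy ▸ hw.symm))

theorem central {w : G} (hw : cs w ∣ n) (ho : IsPiElt {r | r ∣ m}ᶜ w) : w ∈ center G :=
  have := (h.cop.symm.of_dvd_left hw)
  central_of_cs_mul_eq (h.hy ▸ this.symm) (h.top_mul this)
    (h.hy ▸ Nat.coprime_of_dvd fun r hr h1 h2 => ho r hr h1 h2)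

theorem top_le {u v : G} (hu : cs u = m) (hc : Commute u v)
    (ho : (orderOf u).Coprime (orderOf v)) : centralizer ({u} : Set G) ≤ centralizer {v} :=
  le_of_index_inf_le (by rw [← cent_mul_of_coprime hc ho]; exact (h.top _).trans_eq hu.symm)

variable (hx : IsPiElt {r | r ∣ m} x)
include hx

theorem f1 {a : G} (ha : a ∈ centralizer {x}) (ho : IsPiElt {r | r ∣ m}ᶜ a) : a ∈ center G := by
  have hc := (mem_cent_iff_commute.1 ha).symm
  have h1 := cs_dvd_cs_mul_left hc (hx.coprime ho)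
  refine h.central (h.hx ▸ index_dvd_of_le (le_of_index_inf_le ?_)) ho
  rw [← cent_mul_of_coprime hc (hx.coprime ho)]
  exact (h.sec _ (lt_of_le_of_ne (h.top _) fun e => h.ndvd (h.hx ▸ e ▸ h1))).trans_eq h.hx.symm

theorem l2 {w : G} (hw : (cs w).Coprime n) (hw' : cs w ≠ m) : w ∈ center G := by
  have h1 : ∀ u : G, cs u ∣ cs w → cs (x * u) = cs x := fun u hu => by
    have h2 : (cs x).Coprime (cs u) := h.hx ▸ (hw.of_dvd_left hu).symm
    refine le_antisymm (h.hx ▸ h.sec _ (lt_of_le_of_ne (h.top _) fun e => hw' ?_))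
      (cs_le_cs_mul_left h2)
    have := cs_mul_dvd_of_coprime h2
    rw [e, h.hx] at this
    exact h.eq_of_dvd ((h.cop.dvd_of_dvd_mul_left this).trans hu)
  obtain ⟨a, b, ha, hb, rfl, -, ha', hb'⟩ := exists_piPart {r | r ∣ m} w
  have ha1 := cs_dvd_of_mem_zpowers ha
  have hb1 := cs_dvd_of_mem_zpowers hb
  refine mul_mem (central_of_cs_mul_eq (h.hx ▸ (hw.of_dvd_left ha1).symm) (h1 a ha1)
    (h.hx ▸ Nat.coprime_of_dvd fun r hr h2 h3 => hr.one_lt.ne'
      (Nat.eq_one_of_dvd_coprimes h.cop (ha' r hr h2) h3))) (h.f1 hx ?_ hb')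
  obtain ⟨N, _, hN, hN'⟩ := exists_normal_of_cs_mul_eq (h.hx ▸ h.hy ▸ h.cop)
    (h.top_mul (h.hx ▸ h.cop.symm))
  obtain ⟨M, _, hM, hM'⟩ := exists_normal_of_cs_mul_eq (h.hx ▸ (hw.of_dvd_left hb1).symm) (h1 b hb1)
  have : b * x * b⁻¹ * x⁻¹ ∈ N ⊓ M := ⟨hN' b, by simpa [mul_assoc] using inv_mem (hM' x)⟩
  rw [inf_eq_bot_of_coprime (Nat.Coprime.of_dvd hN hM (h.hx ▸ h.hy ▸ h.cop)), mem_bot,
    mul_inv_eq_one, mul_inv_eq_iff_eq_mul] at this
  exact mem_cent.2 this

theorem exists_X : ∃ X : Subgroup G, X.Normal ∧ x ∈ X ∧ X ≤ 𝐂 X ∧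
    ∀ r, r.Prime → r ∣ Nat.card X → r ∣ m := by
  obtain ⟨N, _, hN, hN'⟩ := exists_normal_of_cs_mul_eq (h.hx ▸ h.hy ▸ h.cop)
    (h.top_mul (h.hx ▸ h.cop.symm))
  have h1 : N ≤ centralizer {x} := le_of_coprime_of_normal fun r hr h1 h2 => hr.one_lt.ne'
    (Nat.eq_one_of_dvd_coprimes h.cop (h.hy ▸ h1.trans hN) (h.hx ▸ h2))
  have h2 : normalClosure {x} ≤ N ⊔ zpowers x := (closure_le _).2 fun z hz => by
    obtain ⟨w, hw, hz'⟩ := Group.mem_conjugatesOfSet_iff.1 hz
    obtain ⟨g, rfl⟩ := isConj_iff.1 hz'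
    rw [Set.mem_singleton_iff.1 hw]
    simpa using mul_mem_sup (hN' g) (mem_zpowers x)
  have h3 : normalClosure {x} ≤ centralizer {x} :=
    h2.trans (sup_le h1 (zpowers_le.2 (self_mem_cent x)))
  refine ⟨normalClosure {x}, inferInstance, subset_normalClosure rfl, ?_, fun r hr hd => ?_⟩
  · exact normalClosure_le_normal (Set.singleton_subset_iff.2 fun z hz => mem_cent.1 (h3 hz))
  · have := H2.card_sup_mul_card_inf (N := N) (H := zpowers x) fun g _ => mem_normalizer_of_normal N g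
    rcases (Nat.Prime.dvd_mul hr).1 (this ▸ (hd.trans (card_dvd_of_le h2)).mul_right _) with h4 | h4
    · exact h.hy ▸ h4.trans hN
    · exact hx r hr (Nat.card_zpowers x ▸ h4)

theorem f3 {w : G} (ho : IsPiElt {r | r ∣ m}ᶜ w) (hw : w ∉ center G) : cs w = m := by
  have hwx : w ∉ centralizer {x} := fun h1 => hw (h.f1 hx h1 ho)
  obtain ⟨X, _, hxX, hX, hX'⟩ := h.exists_X hx
  haveI := le_centralizer_self_iff.1 hX
  have hn : zpowers w ≤ 𝐍 X := fun g _ => mem_normalizer_of_normal X g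
  have hc : (Nat.card (zpowers w)).Coprime (Nat.card X) := by
    rw [Nat.card_zpowers]
    exact Nat.coprime_of_dvd fun r hr h1 h2 => ho r hr h1 (hX' r hr h2)
  have hs := Or.inl (b := Group.IsSolvable X) (H2.isSolvable_zpowers w)
  obtain ⟨v, hv, c, hc', e⟩ := H2.exists_commutator_mul_centralizer hn hc hs hxX
  have hVX : ⁅X, zpowers w⁆ ≤ X := commutator_le_left _ _
  have hcw : Commute c w := (hc'.2 w (mem_zpowers w)).symm
  have hco : (orderOf c).Coprime (orderOf w) := IsPiElt.coprime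
    (fun r hr hd => hX' r hr (hd.trans (X.orderOf_dvd_natCard hc'.1))) ho
  have hD := cent_mul_of_coprime hcw hco
  set D := centralizer ({c * w} : Set G)
  have e1 : D.relIndex X = Nat.card (⁅X, zpowers w⁆ : Subgroup G) := by
    have h1 : D ⊓ X = X ⊓ 𝐂 (zpowers w) := by
      rw [hD, centralizer_zpowers]
      exact le_antisymm (le_inf inf_le_right (inf_le_left.trans inf_le_right))
        (le_inf (le_inf (inf_le_left.trans fun z hz => mem_cent.2 (hX hc'.1 z hz)) inf_le_right)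
          inf_le_left)
    have h2 := H2.card_sup_mul_card_inf (N := ⁅X, zpowers w⁆) (H := X ⊓ 𝐂 (zpowers w))
      (le_normalizer_of_le_centralizer (inf_le_left.trans (hX.trans (centralizer_anti hVX))))
    rw [H2.commutator_sup_centralizer hn hc hs, eq_bot_iff.2 ((le_inf
      (inf_le_right.trans inf_le_right) inf_le_left).trans
      (H2.centralizer_inf_commutator_eq_bot hn hc).le), card_bot, mul_one] at h2
    have h3 := (D.subgroupOf X).index_mul_card
    rw [← inf_subgroupOf_right, H2.card_subgroupOf_of_le inf_le_right, h1, h2] at h3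
    rw [← inf_relIndex_right, h1]
    exact Nat.eq_of_mul_eq_mul_right Nat.card_pos h3
  have e2 : (centralizer {v}).relIndex D < Nat.card (⁅X, zpowers w⁆ : Subgroup G) := by
    rw [← card_conj_orbit]
    refine Set.ncard_lt_ncard (s := {y : G | ∃ x ∈ D, x * v * x⁻¹ = y})
      (t := ((⁅X, zpowers w⁆ : Subgroup G) : Set G)) ⟨?_, fun h1 => ?_⟩
    · rintro _ ⟨d, hd, rfl⟩
      refine conj_mem_of_mem_normalizer (le_normalizer_commutator (A := D)
        (fun g _ => mem_normalizer_of_normal X g) (le_normalizer_of_le_centralizer ?_) hd) hv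
      rw [hD, centralizer_zpowers]; exact inf_le_right
    · obtain ⟨d, -, hd⟩ := h1 (one_mem _)
      rw [conj_eq_one_iff] at hd
      rw [hd, one_mul] at e
      exact hwx (mem_cent_iff_commute.2 (e ▸ hcw.symm))
  have e3 : (centralizer {x}).relIndex D ≤ (centralizer {v}).relIndex D := by
    rw [← inf_relIndex_right (centralizer {v})]
    refine relIndex_le_of_le_left (fun z hz => ?_) FiniteIndex.index_ne_zero
    rw [e]
    exact cent_inf_le_cent_mul _ _ ⟨hz.1, (hD.le hz.2).1⟩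
  have e4 : D.relIndex X ≤ D.relIndex (centralizer {x}) :=
    relIndex_le_of_le_right (fun z hz => mem_cent.2 (hX hxX z hz)) FiniteIndex.index_ne_zero
  have e5 : (centralizer {x}).relIndex D * D.index = D.relIndex (centralizer {x}) * n := by
    rw [← h.hx, ← inf_relIndex_right, ← inf_relIndex_right D, relIndex_mul_index inf_le_right,
      relIndex_mul_index inf_le_right, inf_comm]
  have e6 : cs (c * w) = m := by
    refine le_antisymm (h.top _) (not_lt.1 fun h1 => ?_)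
    have h2 : D.index ≤ n := h.sec _ h1
    have := h.hn
    nlinarith
  by_contra h1
  exact hw (h.l2 hx (h.cop.of_dvd_left (e6 ▸ cs_dvd_cs_mul_right hcw hco)) h1)

theorem f4 {a : G} (ho : IsPiElt {r | r ∣ m} a) : cs a ≠ m := fun ha => by
  obtain ⟨r, hr, hrn⟩ := Nat.exists_prime_and_dvd h.hn.ne'
  have hrm : ¬ r ∣ m := fun h1 => hr.one_lt.ne' (Nat.eq_one_of_dvd_coprimes h.cop h1 hrn)
  haveI := Fact.mk hr
  obtain ⟨R, hR⟩ := not_dvd_cs_iff.1 (ha ▸ hrm)
  obtain ⟨w, hw, hw'⟩ : ∃ w ∈ (R : Subgroup G), w ∉ center G := by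
    by_contra h1
    push Not at h1
    exact not_dvd_index_of_sylow_le R (fun z hz => center_le_centralizer _ (h1 z hz)) (h.hx ▸ hrn)
  have hwo : IsPiElt {r | r ∣ m}ᶜ w := isPiElt_of_isPGroup hr R.isPGroup' hrm hw
  have h1 := h.top_le ha (mem_cent_iff_commute.1 (hR hw)).symm (ho.coprime hwo)
  have h2 : ∀ g ∈ centralizer ({a} : Set G), centralizer ({a} : Set G) ≤ centralizer {g} :=
    fun g hg => by
    obtain ⟨u, v, hu, hv, rfl, -, hu', hv'⟩ := exists_piPart {r | r ∣ m} g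
    refine (le_inf (h1.trans (h.top_le (h.f3 hx hwo hw') ?_ (IsPiElt.coprime hu' hwo).symm))
      (h.top_le ha ?_ (ho.coprime hv'))).trans (cent_inf_le_cent_mul _ _)
    · exact (mem_cent_iff_commute.1 (h1 (zpowers_le.2 hg hu))).symm
    · exact (mem_cent_iff_commute.1 (zpowers_le.2 hg hv)).symm
  refine (h.hn.trans h.hmn).ne' (ha ▸ cs_eq_one_iff.2 (mem_of_forall_primePow a ?_))
  intro b hb p k hp hk
  by_contra hb'
  haveI := Fact.mk hp
  have hpm : p ∣ m := ho.of_mem_zpowers hb p hp (hk ▸ dvd_pow_self p (by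
    rintro rfl; exact hb' (orderOf_eq_one_iff.1 hk ▸ one_mem _)))
  obtain ⟨P, hP⟩ := (not_dvd_cs_iff (x := x) (p := p)).1
    (h.hx ▸ fun h3 => hp.one_lt.ne' (Nat.eq_one_of_dvd_coprimes h.cop hpm h3))
  obtain ⟨g, hg⟩ := exists_conj_mem_sylow hk P
  have h3 : cs b = m := by
    by_contra h3
    exact hb' (h.l2 hx (h.cop.of_dvd_left (ha ▸ cs_dvd_of_mem_zpowers hb)) h3)
  have h4 : centralizer ({b} : Set G) ≤ centralizer {a} := le_of_index_inf_le (by
    rw [inf_eq_right.2 (cent_le_cent_of_mem_zpowers hb)]; exact (ha.trans h3.symm).le)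
  have h5 : g * x * g⁻¹ ∈ centralizer {b} := by
    have := congrArg (fun z => g * z * g⁻¹) (mem_cent.1 (hP hg))
    exact mem_cent.2 (by simpa [mul_assoc] using this.symm)
  exact h.ndvd (h.hx ▸ ha ▸ cs_conj g x ▸ index_dvd_of_le (h2 _ (h4 h5)))

theorem f5 {a : G} (ho : IsPiElt {r | r ∣ m} a) (ha : a ∉ center G) : cs a = n := by
  refine le_antisymm (h.sec _ (lt_of_le_of_ne (h.top _) (h.f4 hx ho))) (Nat.le_of_dvd (cs_pos a) ?_)
  refine (Nat.dvd_iff_prime_pow_dvd_dvd _ _).2 fun r k hr hk => ?_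
  rcases k.eq_zero_or_pos with rfl | hk0
  · simp
  have hrm : ¬ r ∣ m := fun h1 => hr.one_lt.ne'
    (Nat.eq_one_of_dvd_coprimes h.cop h1 ((dvd_pow_self r hk0.ne').trans hk))
  haveI := Fact.mk hr
  obtain ⟨T, h1, h2, h3⟩ := H2.exists_ambient_sylow r (centralizer ({a} : Set G))
  have h4 : T ≤ centralizer {x} := fun w hw => center_le_centralizer _ (by
    by_contra hw'
    have hwo : IsPiElt {r | r ∣ m}ᶜ w := isPiElt_of_isPGroup hr h2 hrm hw
    have h5 := h.f3 hx hwo hw'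
    exact ha (h.l2 hx (h.cop.of_dvd_left (h5 ▸ index_dvd_of_le (h.top_le h5
      (mem_cent_iff_commute.1 (h1 hw)) (ho.coprime hwo).symm))) (h.f4 hx ho)))
  have h5 : r ^ k ∣ T.index := hk.trans (h.hx ▸ index_dvd_of_le h4)
  rw [← relIndex_mul_index h1] at h5
  exact (((Nat.Prime.coprime_iff_not_dvd hr).2 h3).pow_left k).dvd_of_dvd_mul_left h5

theorem cases (z : G) : cs z = 1 ∨ cs z = n ∨ cs z = m := by
  obtain ⟨a, b, ha, hb, rfl, -, ha', hb'⟩ := exists_piPart {r | r ∣ m} z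
  by_cases h1 : b ∈ center G
  · rw [cs, cent_mul_center _ h1]
    by_cases h2 : a ∈ center G
    · exact Or.inl (cs_eq_one_iff.2 h2)
    · exact Or.inr (Or.inl (h.f5 hx ha' h2))
  · exact Or.inr (Or.inr (h.eq_of_dvd (h.f3 hx hb' h1 ▸ cs_dvd_of_mem_zpowers hb)))

omit hx in
theorem cases' (z : G) : cs z = 1 ∨ cs z = n ∨ cs z = m := by
  obtain ⟨a, b, -, hb, e, -, ha', hb'⟩ := exists_piPart {r | r ∣ m} x
  have h1 := h.central (h.hx ▸ cs_dvd_of_mem_zpowers hb) hb'
  exact TT.cases (x := a) ⟨h.hmn, h.hn, h.cop, h.top, h.sec,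
    by rw [cs, ← cent_mul_center _ h1, e]; exact h.hx, h.hy⟩ ha' z

end TT


/-- Let G be a finite group whose two largest conjugacy class sizes m > n > 1 are coprime, and let x, y ∈ G have classes of sizes n and m respectively. Then C_G(x) and C_G(y) are abelian, and G/Z(G) is a Frobenius group with kernel C_G(x)/Z(G) and complement C_G(y)/Z(G). -/
theorem result {G : Type*} [Group G] [Finite G] (m n : ℕ) (hmn : n < m) (hn : 1 < n)
    (hcop : m.Coprime n) (htop : ∀ z : G, (Subgroup.centralizer ({z} : Set G)).index ≤ m) (hsecond : ∀ z : G, (Subgroup.centralizer ({z} : Set G)).index < m → (Subgroup.centralizer ({z} : Set G)).index ≤ n)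
    (x y : G) (hx : (Subgroup.centralizer ({x} : Set G)).index = n) (hy : (Subgroup.centralizer ({y} : Set G)).index = m) :
    IsMulCommutative (Subgroup.centralizer ({x} : Set G)) ∧ IsMulCommutative (Subgroup.centralizer ({y} : Set G)) ∧
    Cfsg.IsFrobeniusComplement ((Subgroup.centralizer ({y} : Set G)).map (QuotientGroup.mk' (Subgroup.center G))) ∧
    Cfsg.frobeniusKernel ((Subgroup.centralizer ({y} : Set G)).map (QuotientGroup.mk' (Subgroup.center G))) =
      ((Subgroup.centralizer ({x} : Set G)).map (QuotientGroup.mk' (Subgroup.center G)) : Set (G ⧸ Subgroup.center G)) := by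
  have h : TT m n x y := ⟨hmn, hn, hcop, htop, hsecond, hx, hy⟩
  obtain ⟨p, hp, hpm⟩ := Nat.exists_prime_and_dvd (hn.trans hmn).ne'
  obtain ⟨q, hq, hqn⟩ := Nat.exists_prime_and_dvd hn.ne'
  have c : ∀ r, r.Prime → r ∣ m → ¬ r ∣ n := fun r hr h1 h2 =>
    hr.one_lt.ne' (Nat.eq_one_of_dvd_coprimes hcop h1 h2)
  obtain ⟨K, H, hq⟩ := exists_QF (G := G) {r | r ∣ m} ⟨p, hpm, hp, y, h.hy ▸ hpm⟩
    ⟨q, fun h1 => c q hq h1 hqn, hq, x, h.hx ▸ hqn⟩ fun r h1 s h2 hr hs z => by
      rcases h.cases' z with e | e | e <;> rw [e]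
      · exact Or.inl hr.not_dvd_one
      · exact Or.inl (c r hr h1)
      · exact Or.inr h2
  have h1 : n ∈ ({1, K.index, H.index} : Set ℕ) := hq.range_cs ▸ ⟨x, hx⟩
  have h2 : m ∈ ({1, K.index, H.index} : Set ℕ) := hq.range_cs ▸ ⟨y, hy⟩
  have h3 := hq.index_lt
  simp only [Set.mem_insert_iff, Set.mem_singleton_iff] at h1 h2
  have h4 := hq.cent_of_cs_eq_K (x := x) (by rw [h.hx]; omega)
  have h5 := hq.qf_of_not_mem (x := y) fun h5 => by
    have := index_dvd_of_le (show K ≤ centralizer {y} from fun z hz => mem_cent.2 (hq.commK h5 z hz))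
    have := Nat.le_of_dvd (by omega) this
    omega
  rw [h4]
  exact ⟨le_centralizer_self_iff.1 hq.commK, le_centralizer_self_iff.1 h5.commH, h5.fc, h5.ker⟩

end Cfsg.Agent.S4138
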