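import Cfsg.Statements.S4151
import Cfsg.Agent.H24.TIHall

set_option autoImplicit false
open Cfsg

namespace Cfsg.Agent.S4151

open Subgroup H28
open scoped commutatorElement

/-- Let G be a finite group and H a non-normal subgroup meeting each of its conjugates by elements outside N_G(H) trivially, with the order of H coprime to its index in N_G(H), such that G is π-separable for π the set of primes dividing the order of H (G has a chain of normal subgroups from 1 to G each of whose factors has order divisible only by primes dividing the order of H or coprime to it). Suppose a Sylow 2-subgroup of H is abelian and Q is a complement of H in N_G(H). Then C_H(Q), the subgroup of elements of H commuting with Q, has order coprime to its index in G and has a normal complement in G. -/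
theorem result {G : Type*} [Group G] [Finite G] (H : Subgroup G)
    (hTI : Cfsg.IsTISubset (H : Set G)) (hnn : ¬ H.Normal)
    (hHall : (Nat.card H).Coprime (H.subgroupOf (Subgroup.normalizer (H : Set G))).index)
    (hsep : ∃ (n : ℕ) (M : Fin (n + 1) → Subgroup G), M 0 = ⊥ ∧ M (Fin.last n) = ⊤ ∧ Monotone M ∧ (∀ i, (M i).Normal) ∧
      ∀ i : Fin n, (∀ q : ℕ, q.Prime → q ∣ (M i.castSucc).relIndex (M i.succ) → q ∣ Nat.card H) ∨
        ((M i.castSucc).relIndex (M i.succ)).Coprime (Nat.card H))
    (h2 : ∀ P : Sylow 2 H, IsMulCommutative (P : Subgroup H))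
    (Q : Subgroup G) (hQ : Q ≤ Subgroup.normalizer (H : Set G)) (hQH : Q ⊓ H = ⊥) (hQH' : Q ⊔ H = Subgroup.normalizer (H : Set G)) :
    (Nat.card ↥(H ⊓ Subgroup.centralizer (Q : Set G))).Coprime (H ⊓ Subgroup.centralizer (Q : Set G)).index ∧
    ∃ N : Subgroup G, N.Normal ∧ N.IsComplement' (H ⊓ Subgroup.centralizer (Q : Set G)) := by
  have h : H24.TH H := ⟨hTI, hHall⟩
  have h1 := h.sep hnn hsep
  have hc : (Nat.card (pPrimeCore (Nat.card H) G)).Coprime (Nat.card H) := H1.pPrimeCore_coprime
  have : (pPrimeCore (Nat.card H) G).Normal := inferInstance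
  generalize pPrimeCore (Nat.card H) G = O at *
  have hA := (h.isFC hnn hc h1).ac
  haveI := hA.isZGroup fun R _ hR => by
    obtain ⟨P, hP⟩ := hR.exists_le_sylow
    exact hA R le_top (H1.isMulCommutative_of_le hP (h2 P))
  haveI : IsZGroup H := IsZGroup.of_surjective (f := (⊤ : Subgroup H).subtype) fun x => ⟨⟨x, trivial⟩, rfl⟩
  have q5 : (Nat.card Q).Coprime (Nat.card H) := by
    have := h.hall.symm
    rwa [← hQH', H1.relIndex_sup_of_le_normalizer hQ, ← inf_relIndex_right, inf_comm, hQH,
      relIndex_bot_left] at this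
  have a1 := H24.coprime_commutator_of_zgroup hQ q5
  have a2 := H2.commutator_sup_centralizer hQ q5 (H24.solvable_or_of_coprime _ _ q5)
  have a3 := le_normalizer_commutator_left H Q
  have a4 := le_normalizer_commutator_right H Q
  have a5 : Nat.card (H ⊓ 𝐂 Q : Subgroup G) ∣ Nat.card H := card_dvd_of_le inf_le_left
  have a6 := ((hc.coprime_dvd_right a5).mul_left (a1.mul_left (q5.coprime_dvd_right a5))).coprime_dvd_left
    ((H1.card_sup_dvd' (le_normalizer_of_normal (H := O) (K := ⁅H, Q⁆ ⊔ Q))).trans
      (mul_dvd_mul_left _ (H1.card_sup_dvd' a4)))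
  have a7 : O ⊔ (⁅H, Q⁆ ⊔ Q) ⊔ H ⊓ 𝐂 Q = ⊤ := by
    rw [sup_assoc, sup_right_comm, a2, sup_comm H, hQH', h1]
  haveI : (O ⊔ (⁅H, Q⁆ ⊔ Q)).Normal := normal_iff_top_le.2 (a7.ge.trans (sup_le le_normalizer
    (le_normalizer_sup le_normalizer_of_normal (le_normalizer_sup (inf_le_left.trans a3)
      (le_normalizer_of_le_centralizer inf_le_right)))))
  have a8 := H3.isComplement'_of_normal (inf_eq_bot_of_coprime a6) a7
  exact ⟨a8.index_eq_card ▸ a6.symm, _, this, a8⟩

end Cfsg.Agent.S4151
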