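import Cfsg.Statements.S4155
import Cfsg.Agent.H24.Camina

set_option autoImplicit false
open Cfsg

namespace Cfsg.Agent.S4155


/-- Let G be a finite group and N a proper non-trivial normal nilpotent subgroup whose order is not a prime power, such that for every x outside N all elements of the coset xN have the same order as x. Then N is the Fitting subgroup of G, and for every prime q every Sylow q-subgroup of G/N is cyclic or generalized quaternion. -/
theorem result {G : Type*} [Group G] [Finite G] (N : Subgroup G) [N.Normal] (hN1 : N ≠ ⊥) (hN2 : N ≠ ⊤)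
    (heq : ∀ x : G, x ∉ N → ∀ n ∈ N, orderOf (x * n) = orderOf x)
    (hnil : Group.IsNilpotent N) (hnpp : ¬ IsPrimePow (Nat.card N)) :
    N = Cfsg.fittingSubgroup G ∧
    ∀ (q : ℕ) [Fact q.Prime] (Q : Sylow q (G ⧸ N)), IsCyclic (Q : Subgroup (G ⧸ N)) ∨ ∃ n : ℕ, Nonempty ((Q : Subgroup (G ⧸ N)) ≃* QuaternionGroup (2 ^ n)) := by
  have key : ∀ p : ℕ, p.Prime → ¬ IsPGroup p N := by
    intro p hp h
    haveI : Fact p.Prime := ⟨hp⟩
    obtain ⟨k, hk⟩ := IsPGroup.iff_card.mp h
    refine hnpp ⟨p, k, hp.prime, Nat.pos_of_ne_zero ?_, hk.symm⟩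
    rintro rfl
    rw [pow_zero, Subgroup.card_eq_one] at hk
    exact hN1 hk
  refine ⟨le_antisymm (H1.le_fitting inferInstance hnil) ?_, fun q hq Q => ?_⟩
  · by_contra h
    obtain ⟨p, hp, h1, -⟩ := H24.fitting_of_eqOrd hN1 heq h
    exact key p hp h1
  · exact H24.cyclic_or_quaternion_of_eqOrd heq hnil (key q hq.out) Q.isPGroup' _
      (Q : Subgroup (G ⧸ N)).subtype_injective

end Cfsg.Agent.S4155
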