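import Cfsg.Statements.S4177
import Cfsg.Agent.H24.CsAux

set_option autoImplicit false
open Cfsg

namespace Cfsg.Agent.S4177

open Subgroup

variable {k V H : Type*} [Field k] [AddCommGroup V] [Module k V] [Group H] [Finite H]

def stab (ρ : Representation k H V) (a : V) : Subgroup H where
  carrier := {h | ρ h a = a}
  one_mem' := by simp
  mul_mem' := fun {x y} hx hy => by
    simp only [Set.mem_setOf_eq, map_mul, Module.End.mul_apply] at *
    rw [hy, hx]
  inv_mem' := fun {x} hx => by
    simp only [Set.mem_setOf_eq] at *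
    conv_lhs => rw [← hx, ← Module.End.mul_apply, ← map_mul]
    simp

theorem card_orb (ρ : Representation k H V) (a : V) :
    Nat.card {u : V | ∃ h : H, ρ h a = u} = (stab ρ a).index := by
  refine (Nat.card_congr (Equiv.ofBijective (fun x : H ⧸ stab ρ a => x.liftOn'
    (fun h => (⟨ρ h a, h, rfl⟩ : {u : V | ∃ h : H, ρ h a = u})) fun g h e => Subtype.ext ?_)
    ⟨fun x y e => ?_, ?_⟩)).symm
  · have : ρ (g⁻¹ * h) a = a := QuotientGroup.leftRel_apply.1 e
    change ρ g a = ρ h a
    conv_lhs => rw [← this, ← Module.End.mul_apply, ← map_mul]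
    simp
  · obtain ⟨g, rfl⟩ := QuotientGroup.mk_surjective x
    obtain ⟨h, rfl⟩ := QuotientGroup.mk_surjective y
    have e' : ρ g a = ρ h a := congrArg Subtype.val e
    refine QuotientGroup.eq.2 (show ρ (g⁻¹ * h) a = a from ?_)
    rw [map_mul, Module.End.mul_apply, ← e', ← Module.End.mul_apply, ← map_mul]
    simp
  · rintro ⟨_, h, rfl⟩
    exact ⟨h, rfl⟩

theorem av_fix (ρ : Representation k H V) (B : Subgroup H) [Fintype B] (g : B) (v : V) :
    ρ g (∑ x : B, ρ x v) = ∑ x : B, ρ x v ∧ ∑ x : B, ρ x (ρ g v) = ∑ x : B, ρ x v := by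
  refine ⟨?_, ?_⟩
  · rw [map_sum]
    exact Fintype.sum_equiv (Equiv.mulLeft g) _ _ fun x => by simp
  · exact Fintype.sum_equiv (Equiv.mulRight g) _ _ fun x => by simp

/-- `B`-fixed vectors are multiples of the `B`-trace of `a` -/
theorem key (hchar : ¬ ringChar k ∣ Nat.card H) (ρ : Representation k H V) (a : V)
    (hspan : Submodule.span k {u : V | ∃ h : H, ρ h a = u} = ⊤) (B : Subgroup H) [Fintype B]
    (hB : ∀ h : H, ∃ x ∈ B, ∃ y ∈ stab ρ a, h = x * y) {b : V} (hb : B ≤ stab ρ b) :
    b ∈ Submodule.span k {∑ x : B, ρ x a} := by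
  have h1 : ∀ v, ∑ x : B, ρ x v ∈ Submodule.span k {∑ x : B, ρ x a} := fun v => by
    have : v ∈ Submodule.span k {u : V | ∃ h : H, ρ h a = u} := hspan ▸ trivial
    induction this using Submodule.span_induction with
    | mem _ h =>
      obtain ⟨h, rfl⟩ := h
      obtain ⟨x, hx, y, hy, rfl⟩ := hB h
      rw [map_mul, Module.End.mul_apply, show ρ y a = a from hy, (av_fix ρ B ⟨x, hx⟩ a).2]
      exact Submodule.mem_span_singleton_self _
    | zero => simp
    | add x y _ _ hx hy => simpa [Finset.sum_add_distrib] using add_mem hx hy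
    | smul c x _ hx => simpa [← Finset.smul_sum] using Submodule.smul_mem _ c hx
  have h2 := h1 b
  rw [Finset.sum_congr rfl (g := fun _ => b) fun x _ => hb x.2, Finset.sum_const, Finset.card_univ,
    ← Nat.cast_smul_eq_nsmul k] at h2
  refine (Submodule.smul_mem_iff _ fun h3 => hchar ?_).1 h2
  exact ((ringChar.spec k _).1 h3).trans (Nat.card_eq_fintype_card (α := B) ▸ B.card_subgroup_dvd_card)


/-- Let k be a field whose characteristic does not divide the order of the finite group H (for instance a field of characteristic zero), and ρ a k-linear representation of H on V. Let a be a vector whose H-orbit spans V. Then the space of H-fixed vectors has dimension at most 1, and every vector b whose H-orbit has size coprime to the size of the orbit of a is fixed by H. -/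
theorem result {k V H : Type*} [Field k] [AddCommGroup V] [Module k V] [Group H] [Finite H]
    (hchar : ¬ ringChar k ∣ Nat.card H) (ρ : Representation k H V) (a : V)
    (hspan : Submodule.span k {u : V | ∃ h : H, ρ h a = u} = ⊤) :
    Module.finrank k ρ.invariants ≤ 1 ∧
    ∀ b : V, (Nat.card {u : V | ∃ h : H, ρ h a = u}).Coprime (Nat.card {u : V | ∃ h : H, ρ h b = u}) → ∀ h : H, ρ h b = b := by
  classical
  have := Fintype.ofFinite H
  refine ⟨?_, fun b hb h => ?_⟩
  · have h1 : ρ.invariants ≤ Submodule.span k {∑ x : (⊤ : Subgroup H), ρ x a} := fun b hb =>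
      key hchar ρ a hspan ⊤ (fun h => ⟨h, trivial, 1, one_mem _, by simp⟩) fun g _ => hb g
    exact (Submodule.finrank_mono h1).trans ((finrank_span_le_card _).trans (by simp))
  rw [card_orb, card_orb] at hb
  have hB := fun h : H => H2.facIn_of_coprime_index hb.symm h (mem_top h)
  obtain ⟨c, hc⟩ := Submodule.mem_span_singleton.1 (key hchar ρ a hspan (stab ρ b) hB le_rfl)
  set A := stab ρ a
  set B := stab ρ b
  let n := (Finset.univ.filter fun z : B × A => (z.1 * z.2 : H) = 1).card
  have hs : ∑ z : B × A, ρ (z.1 * z.2) a = n • ∑ h : H, ρ h a := by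
    rw [← Finset.sum_fiberwise (g := fun z : B × A => (z.1 * z.2 : H)), Finset.smul_sum]
    refine Finset.sum_congr rfl fun g _ => ?_
    rw [Finset.sum_congr rfl (g := fun _ => ρ g a) fun z hz => by rw [(Finset.mem_filter.1 hz).2],
      Finset.sum_const]
    congr 1
    obtain ⟨x, hx, y, hy, rfl⟩ := hB g
    refine Finset.card_equiv ((Equiv.mulLeft (⟨x, hx⟩ : B)⁻¹).prodCongr
      (Equiv.mulRight (⟨y, hy⟩ : A)⁻¹)) fun z => ?_
    simp only [Finset.mem_filter, Finset.mem_univ, true_and, Equiv.prodCongr_apply, Prod.map_fst,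
      Prod.map_snd, Equiv.coe_mulLeft, Equiv.coe_mulRight, coe_mul, coe_inv]
    rw [mul_assoc, inv_mul_eq_one, ← mul_assoc, eq_mul_inv_iff_mul_eq, eq_comm]
  rw [Fintype.sum_prod_type_right, Finset.sum_congr rfl (g := fun _ => ∑ x : B, ρ x a)
    fun y _ => Finset.sum_congr rfl fun x _ => by
      rw [map_mul, Module.End.mul_apply, show ρ y a = a from y.2], Finset.sum_const,
    Finset.card_univ, ← Nat.cast_smul_eq_nsmul k] at hs
  have h0 : (Fintype.card A : k) ≠ 0 := fun h3 => hchar
    (((ringChar.spec k _).1 h3).trans (Nat.card_eq_fintype_card (α := A) ▸ A.card_subgroup_dvd_card))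
  have h1 : ρ h (∑ g : H, ρ g a) = ∑ g : H, ρ g a := by
    rw [map_sum]
    exact Fintype.sum_equiv (Equiv.mulLeft h) _ _ fun x => by simp
  rw [← hc, map_smul]
  congr 1
  refine smul_right_injective V h0 ?_
  simp only
  rw [← map_smul, hs, map_nsmul, h1]

end Cfsg.Agent.S4177
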