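import Cfsg.Statements.S4182
import Cfsg.Agent.H24.CsAux
import Cfsg.Agent.H24.TwoClasses

set_option autoImplicit false
open Cfsg

namespace Cfsg.Agent.S4182

open H24 H28 Subgroup Pointwise

variable {G : Type*} [Group G] [Finite G] {p : ℕ} [hp : Fact p.Prime]

def Gen (p : ℕ) (H : Subgroup G) : Prop := H ≤ closure {g | g ∈ H ∧ ∃ k : ℕ, orderOf g = p ^ k}

theorem Gen.of_pgroup {H : Subgroup G} (h : IsPGroup p H) : Gen p H := fun _ hx =>
  subset_closure ⟨hx, orderOf_eq_pow_of_mem h hx⟩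

theorem Gen.sup {H K : Subgroup G} (h : Gen p H) (h' : Gen p K) : Gen p (H ⊔ K) :=
  sup_le (h.trans (closure_mono fun _ hx => ⟨mem_sup_left hx.1, hx.2⟩))
    (h'.trans (closure_mono fun _ hx => ⟨mem_sup_right hx.1, hx.2⟩))

theorem Gen.conj {H : Subgroup G} (h : Gen p H) (g : G) : Gen p (cj g H) := by
  refine (cj_mono g h).trans ?_
  rw [cj_le_iff, closure_le]
  exact fun x hx => mem_cj.2 (subset_closure ⟨by simpa using hx.1, by simpa using orderOf_conj g x ▸ hx.2⟩)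

theorem pgroup_cover {H : Subgroup G} (h : IsPGroup p H) {ι : Type*} [Fintype ι]
    (hι : Fintype.card ι ≤ p) (K : ι → Subgroup G) (hcov : ∀ g ∈ H, ∃ i, g ∈ K i) :
    ∃ i, H ≤ K i := by
  classical
  by_contra hc
  push Not at hc
  have h1 : ∀ i, p * (((K i ⊓ H : Subgroup G) : Set G) \ {1}).ncard + p ≤ Nat.card H := fun i => by
    have := mul_card_le_of_lt h (inf_lt_right.2 (hc i))
    rw [Set.ncard_diff_singleton_of_mem (SetLike.mem_coe.2 (one_mem _)), ← mul_add_one]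
    exact (Nat.sub_add_cancel (Nat.card_pos (α := (K i ⊓ H : Subgroup G)))).symm ▸ this
  have h2 : ((H : Set G) \ {1}).ncard ≤ ∑ i, (((K i ⊓ H : Subgroup G) : Set G) \ {1}).ncard := by
    refine le_trans (Set.ncard_le_ncard fun x hx => ?_) (Set.ncard_iUnion_le_of_fintype _)
    obtain ⟨i, hi⟩ := hcov x hx.1
    exact Set.mem_iUnion.2 ⟨i, ⟨hi, hx.1⟩, hx.2⟩
  have h3 := Finset.sum_le_sum (s := Finset.univ) fun i _ => Nat.le_sub_of_add_le (h1 i)
  rw [← Finset.mul_sum, Finset.sum_const, Finset.card_univ, smul_eq_mul] at h3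
  rw [Set.ncard_diff_singleton_of_mem (SetLike.mem_coe.2 (one_mem _))] at h2
  obtain ⟨i, -⟩ := hcov 1 (one_mem _)
  have h4 := Nat.le_of_mul_le_mul_left (h3.trans (Nat.mul_le_mul_right _ hι)) hp.out.pos
  have := h1 i
  have := hp.out.two_le
  change Nat.card H - 1 ≤ _ at h2
  omega

theorem main {ι : Type*} [Fintype ι] (hι : Fintype.card ι ≤ p) (K : ι → Subgroup G)
    (hcov : ∀ g : G, (∃ k : ℕ, orderOf g = p ^ k) → ∃ i, g ∈ K i) (H : Subgroup G) (hH : Gen p H) :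
    ∃ i, H ≤ K i := by
  induction H using WellFoundedLT.induction with | ind H ih =>
  by_contra hc
  push Not at hc
  let 𝓜 : Set (Subgroup G) := {M | Maximal (fun M => M < H ∧ Gen p M) M}
  have h1 : 𝓜.ncard ≤ p := by
    choose f hf using fun M : 𝓜 => ih M.1 M.2.1.1 M.2.1.2
    refine le_trans ?_ hι
    rw [← Nat.card_eq_fintype_card]
    refine Nat.card_le_card_of_injective f fun M N e => Subtype.ext ?_
    have h2 : M.1 ⊔ N.1 < H ∧ Gen p (M.1 ⊔ N.1) := ⟨lt_of_le_of_ne (sup_le M.2.1.1.le N.2.1.1.le)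
      fun e' => hc (f M) (e' ▸ sup_le (hf M) (e ▸ hf N)), M.2.1.2.sup N.2.1.2⟩
    exact le_antisymm (le_sup_left.trans (N.2.2 h2 le_sup_right))
      (le_sup_right.trans (M.2.2 h2 le_sup_left))
  have h2 : ∀ R : Subgroup G, R < H → IsPGroup p R → ∃ M ∈ 𝓜, R ≤ M := fun R h2 h3 =>
    have ⟨M, h4, h5⟩ := Finite.exists_le_maximal (p := fun M => M < H ∧ Gen p M) ⟨h2, .of_pgroup h3⟩
    ⟨M, h5, h4⟩
  have h3 : ∀ g ∈ H, ∀ M ∈ 𝓜, cj g M ∈ 𝓜 := fun g hg M hM =>
    ⟨⟨cj_eq_self_of_mem hg ▸ cj_lt_cj.2 hM.1.1, hM.1.2.conj g⟩, fun N hN h4 => le_cj_iff.2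
      (hM.2 ⟨cj_eq_self_of_mem (inv_mem hg) ▸ cj_lt_cj.2 hN.1, hN.2.conj _⟩ (cj_le_iff.1 h4))⟩
  have h4 : ∀ M ∈ 𝓜, H ≤ 𝐍 M := fun M hM => hH.trans ((closure_le _).2 fun x ⟨hx, k, hk⟩ => by
    obtain ⟨i, hi⟩ := hcov x ⟨k, hk⟩
    obtain ⟨M₀, h5, h6⟩ := h2 (zpowers x) (lt_of_le_of_ne (zpowers_le.2 hx)
      fun e => hc i (e ▸ zpowers_le.2 hi)) (H24.isPGroup_zpowers hk)
    letI := MulAction.compHom (Subgroup G) (MulAut.conj.comp (zpowers x).subtype)
    have e : ∀ (g : zpowers x) (N : Subgroup G), g • N = cj (g : G) N := fun _ _ => rfl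
    obtain ⟨n, hn⟩ := (H24.isPGroup_zpowers hk).card_orbit M
    by_contra h7
    have h8 : MulAction.orbit (zpowers x) M ⊂ 𝓜 := by
      refine ⟨?_, fun h8 => ?_⟩
      · rintro _ ⟨g, rfl⟩
        exact h3 _ (zpowers_le.2 hx g.2) M hM
      · obtain ⟨g, hg⟩ := h8 h5
        have h9 : M = M₀ := by rw [← cj_eq_self_of_mem (inv_mem (h6 g.2)), ← cj_eq_iff]; exact hg
        exact h7 (le_normalizer (h9 ▸ h6 (mem_zpowers x)))
    have h9 := (Set.ncard_lt_ncard h8).trans_le h1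
    rw [← Nat.card_coe_set_eq, hn] at h9
    obtain rfl : n = 0 := by
      by_contra h0
      exact h9.not_ge (Nat.le_self_pow h0 p)
    have := (Nat.card_eq_one_iff_unique.1 hn).1.elim ⟨_, MulAction.mem_orbit M ⟨x, mem_zpowers x⟩⟩
      ⟨_, MulAction.mem_orbit_self M⟩
    exact h7 (mem_normalizer_iff_cj.2 (congrArg Subtype.val this)))
  obtain ⟨T, hT⟩ := exists_isSylowIn p H
  rcases hT.le.eq_or_lt with e | e
  · obtain ⟨i, hi⟩ := pgroup_cover (e ▸ hT.isPGroup) hι K fun g hg =>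
      hcov g (orderOf_eq_pow_of_mem (e ▸ hT.isPGroup) hg)
    exact hc i hi
  obtain ⟨M, hM, h5⟩ := h2 T e hT.isPGroup
  refine hM.1.1.not_ge (hH.trans ((closure_le _).2 fun x ⟨hx, k, hk⟩ => ?_))
  obtain ⟨g, hg, h6⟩ := hT.exists_le_conj (H24.isPGroup_zpowers hk) (zpowers_le.2 hx)
  exact cj_le_of_mem_normalizer h5 (h4 M hM hg) (h6 (mem_zpowers x))


/-- Let p be a prime and G a finite group generated by its p-elements. If a finite family of proper subgroups of G covers the set of p-elements of G (every element of p-power order lies in one of them), then the family has at least p + 1 members. -/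
theorem result {G : Type*} [Group G] [Finite G] (p : ℕ) [Fact p.Prime] (hgen : Subgroup.closure {g : G | ∃ k : ℕ, orderOf g = p ^ k} = ⊤)
    {ι : Type*} [Fintype ι] (K : ι → Subgroup G) (hK : ∀ i, K i ≠ ⊤)
    (hcov : ∀ g : G, (∃ k : ℕ, orderOf g = p ^ k) → ∃ i, g ∈ K i) :
    p + 1 ≤ Fintype.card ι := by
  by_contra hc
  obtain ⟨i, hi⟩ := main (by omega) K hcov ⊤ (hgen.ge.trans (closure_mono fun _ hx => ⟨trivial, hx⟩))
  exact hK i (eq_top_iff.2 hi)

end Cfsg.Agent.S4182
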