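import Cfsg.Statements.S4188
import Cfsg.Agent.H24.CsAux
import Cfsg.Agent.H4.TwoCyclic

set_option autoImplicit false
open Cfsg

namespace Cfsg.Agent.S4188

open H24 H28 Subgroup
open scoped commutatorElement

universe u

section
variable {P : Type*} [Group P] [Finite P]

theorem F_le_card : (frattini P).index ≤ Nat.card P := Nat.le_of_dvd Nat.card_pos (index_dvd_card _)

theorem F_le_mul {Q : Type*} [Group Q] (f : P →* Q) (hP : IsPGroup 2 P) :
    (frattini P).index ≤ (frattini f.range).index * (frattini f.ker).index := by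
  have hs := f.rangeRestrict_surjective
  haveI : Finite f.range := Finite.of_surjective _ hs
  rw [← relIndex_mul_index (le_sup_left : frattini P ≤ frattini P ⊔ f.ker), mul_comm,
    relIndex_sup_left]
  refine Nat.mul_le_mul ?_ (index_antitone fun x hx => H1.frattiniOf_le_frattini _ ⟨x, hx, rfl⟩)
  have := index_map (frattini P) f.rangeRestrict
  rw [MonoidHom.range_eq_top.2 hs, index_top, mul_one, MonoidHom.ker_rangeRestrict] at this
  rw [← this]
  refine index_antitone (H4.frattini_le (p := 2) ?_ fun x => ?_)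
  · rw [commutator_def, ← map_top_of_surjective _ hs, ← Subgroup.map_commutator]
    exact map_mono (H4.commutator_le_frattini hP)
  · obtain ⟨x, rfl⟩ := hs x
    exact ⟨_, H4.pow_mem_frattini hP x, map_pow _ _ _⟩

theorem F_le_index (N : Subgroup P) [N.Normal] :
    (frattini P).index ≤ (frattini N).index * N.index :=
  index_map_subtype (frattini N) ▸ index_antitone (H1.frattiniOf_le_frattini N)

theorem F_cyclic (hP : IsPGroup 2 P) (h : IsCyclic P) : (frattini P).index ≤ 2 := by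
  obtain ⟨a, ha⟩ := h.exists_generator
  rw [← relIndex_top_right, ← (eq_top_iff' _).2 ha, H4.relIndex_zpowers]
  exact orderOf_le_of_pow_eq_one two_pos ((QuotientGroup.eq_one_iff _).2 (H4.pow_mem_frattini hP a))

end

def B (n : ℕ) (P : Type*) [Group P] : Prop := 2 * (frattini P).index ≤ n ∨ (n = 3 ∧ Nat.card P ≤ 2)

def St (n : ℕ) : Prop := ∀ (V : Type u) [CommGroup V] [Finite V], Nat.card V = n → Odd n → 1 < n →
  ∀ (P : Type u) [Group P] [Finite P] (φ : P →* MulAut V), IsPGroup 2 P → Function.Injective φ → B n P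

theorem eq_one_of_odd {V : Type*} [Group V] [Finite V] (h : Odd (Nat.card V)) {v : V} {k : ℕ}
    (hv : v ^ 2 ^ k = 1) : v = 1 :=
  eq_one_of_coprime_of_pow ((Nat.coprime_two_right.2 h).of_dvd_left (orderOf_dvd_natCard v)) hv

theorem split {V P : Type u} [CommGroup V] [Finite V] [Group P] [Finite P] (ho : Odd (Nat.card V))
    (ih : ∀ m < Nat.card V, St.{u} m) (φ : P →* MulAut V) (hP : IsPGroup 2 P)
    (hφ : Function.Injective φ) (U : Subgroup V) (hU : ∀ a, ∀ u ∈ U, φ a u ∈ U) (h0 : U ≠ ⊥)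
    (h1 : U ≠ ⊤) : ∃ x y c d : ℕ, (frattini P).index ≤ x * y ∧ Nat.card P = c * d ∧ x ≤ c ∧ y ≤ d ∧
      (2 * x ≤ Nat.card U ∨ (Nat.card U = 3 ∧ c ≤ 2)) ∧ (2 * y ≤ U.index ∨ (U.index = 3 ∧ d ≤ 2)) := by
  let f := H2.restrictAut φ U hU
  have e := U.card_mul_index
  have a1 := (one_lt_card_iff_ne_bot U).2 h0
  have a2 := one_lt_index_of_ne_top h1
  refine ⟨_, _, _, _, F_le_mul f hP, ?_, F_le_card, F_le_card,
    ih _ (by nlinarith) U rfl (ho.of_dvd_nat (card_subgroup_dvd_card U)) a1 _ f.range.subtype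
      (hP.of_surjective _ f.rangeRestrict_surjective) Subtype.val_injective,
    ih U.index (by nlinarith) (V ⧸ U) rfl (ho.of_dvd_nat U.index_dvd_card) a2 _
      (H2.quotAut (φ.comp f.ker.subtype) U fun a => hU a) (hP.to_subgroup _) ?_⟩
  · rw [← f.ker.index_mul_card, index_ker]
  refine (injective_iff_map_eq_one _).2 fun k hk => Subtype.ext (hφ (MulEquiv.ext fun v => ?_))
  have h2 : v⁻¹ * φ k v ∈ U := QuotientGroup.eq.1 (DFunLike.congr_fun hk (v : V ⧸ U)).symm
  have h3 : φ k (v⁻¹ * φ k v) = v⁻¹ * φ k v :=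
    (congrArg Subtype.val (DFunLike.congr_fun (MonoidHom.mem_ker.1 k.2) ⟨_, h2⟩) :)
  have h4 : ∀ j : ℕ, φ (k ^ j) v = v * (v⁻¹ * φ k v) ^ j := fun j => by
    induction j with
    | zero => simp
    | succ j ih => rw [pow_succ', map_mul, MulAut.mul_apply, ih, map_mul, map_pow, h3, pow_succ',
        ← mul_assoc, mul_inv_cancel_left]
  obtain ⟨j, hj⟩ := hP k
  have h5 := h4 (2 ^ j)
  rw [hj, map_one, MulAut.one_apply, left_eq_mul] at h5
  rw [OneMemClass.coe_one, map_one]
  exact (inv_mul_eq_one.1 (eq_one_of_odd ho h5)).symm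

theorem main (n : ℕ) : St.{u} n := by
  induction n using Nat.strong_induction_on with | _ n ih =>
  intro V _ _ hn ho h1 P _ _ φ hP hφ
  subst hn
  by_cases hr : ∃ U : Subgroup V, (∀ a, ∀ u ∈ U, φ a u ∈ U) ∧ U ≠ ⊥ ∧ U ≠ ⊤
  · obtain ⟨U, hU, h0, h1⟩ := hr
    obtain ⟨x, y, c, d, e1, -, e2, e3, e4, e5⟩ := split ho ih φ hP hφ U hU h0 h1
    refine Or.inl ?_
    rw [← U.card_mul_index]
    rcases e4 with e4 | ⟨e4, e4'⟩ <;> rcases e5 with e5 | ⟨e5, e5'⟩ <;> nlinarith
  push Not at hr
  by_cases hc : ∀ A : Subgroup P, A.Normal → IsMulCommutative A → IsCyclic A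
  · have pr : (Nat.card V).Prime → IsCyclic P ∧ Nat.card P ≤ Nat.card V - 1 := fun h => by
      haveI := Fact.mk h
      haveI := isCyclic_of_prime_card (α := V) rfl
      exact ⟨isCyclic_of_injective ((IsCyclic.mulAutMulEquiv V).toMonoidHom.comp φ)
        ((IsCyclic.mulAutMulEquiv V).injective.comp hφ), (Nat.card_le_card_of_injective _ hφ).trans_eq
        (by rw [IsCyclic.card_mulAut, Nat.totient_prime h])⟩
    obtain ⟨k, hk⟩ := ho
    by_cases h3 : Nat.card V = 3
    · exact Or.inr ⟨h3, by simpa [h3] using (pr (h3 ▸ Nat.prime_three)).2⟩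
    refine Or.inl ?_
    by_cases h2 : IsCyclic P
    · have := F_cyclic hP h2
      omega
    obtain ⟨a, ha, -⟩ := H4.exists_cyclic_index_two hP hc h2
    haveI := normal_of_index_eq_two ha
    have := F_le_index (zpowers a)
    have := F_cyclic (hP.to_subgroup (zpowers a)) inferInstance
    have : Nat.card V ≠ 5 := fun h => h2 (pr (h ▸ Nat.prime_five)).1
    have : Nat.card V ≠ 7 := fun h => h2 (pr (by rw [h]; norm_num)).1
    rw [ha] at *
    omega
  push Not at hc
  obtain ⟨A, hA, hA1, hA2⟩ := hc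
  have inv : ∀ z ∈ center P, z ≠ 1 → z ^ 2 = 1 → ∀ v, φ z v = v⁻¹ := fun z hz h1 h2 v => by
    have := hr ((φ z).toMonoidHom.eqLocus (MonoidHom.id V)) fun a u hu => by
      change φ z (φ a u) = φ a u
      rw [← MulAut.mul_apply, ← map_mul, ← mem_center_iff.1 hz, map_mul, MulAut.mul_apply]
      exact congrArg _ hu
    have h3 : (φ z).toMonoidHom.eqLocus (MonoidHom.id V) = ⊥ := by_contra fun h =>
      h1 (hφ (MulEquiv.ext fun v => by rw [map_one]; exact (this h).ge (mem_top v)))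
    have h4 : v * φ z v ∈ (φ z).toMonoidHom.eqLocus (MonoidHom.id V) := by
      change φ z _ = v * φ z v
      rw [map_mul, ← MulAut.mul_apply, ← map_mul, ← pow_two, h2, map_one, mul_comm]; rfl
    rw [h3, mem_bot] at h4
    exact eq_inv_of_mul_eq_one_right h4
  let Ω : Subgroup P :=
    { carrier := {a | a ∈ A ∧ a ^ 2 = 1}
      one_mem' := ⟨one_mem _, one_pow _⟩
      inv_mem' := fun h => ⟨inv_mem h.1, by rw [inv_pow, h.2, inv_one]⟩
      mul_mem' := fun {a b} ha hb => ⟨mul_mem ha.1 hb.1, by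
        rw [Commute.mul_pow (H4.isMulCommutative_iff.1 hA1 a ha.1 b hb.1), ha.2, hb.2, one_mul]⟩ }
  haveI : Ω.Normal := ⟨fun a ha g => ⟨hA.conj_mem _ ha.1 g, by rw [conj_pow, ha.2]; simp⟩⟩
  obtain ⟨r, hr', hd, a, b, a1, a2, b2, b1⟩ := H2.exists_pair_of_not_isCyclic hA2
  obtain ⟨j, hj⟩ := IsPGroup.iff_card.1 (hP.to_subgroup A)
  obtain rfl := (Nat.prime_dvd_prime_iff_eq hr' Nat.prime_two).1 (hr'.dvd_of_dvd_pow (hj ▸ hd))
  have ha : (a : P) ∈ Ω := ⟨a.2, congrArg Subtype.val a2⟩
  have hb : (b : P) ∈ Ω := ⟨b.2, congrArg Subtype.val b2⟩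
  obtain ⟨z, hz, zc, oz⟩ := H4.exists_mem_center_orderOf_eq hP (N := Ω)
    fun h => a1 (Subtype.ext (h.le ha))
  have z1 : z ≠ 1 := by rintro rfl; simp at oz
  have mz : ∀ {y}, y ∈ zpowers z → y = 1 ∨ y = z := fun ⟨k, hk⟩ => by
    rcases Int.even_or_odd' k with ⟨k, rfl | rfl⟩
    · exact Or.inl (by rw [← hk]; simp [zpow_mul, zpow_ofNat, hz.2])
    · exact Or.inr (by rw [← hk]; simp [zpow_add, zpow_mul, zpow_ofNat, hz.2])
  haveI : (zpowers z).Normal := ⟨fun y hy g => by
    rwa [mem_center_iff.1 (zpowers_le.2 zc hy) g, mul_inv_cancel_right]⟩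
  obtain ⟨e, he, e1, -, e2⟩ := H4.exists_central_mod hP (M := zpowers z) (N := Ω) fun h => by
    rcases mz (h hb) with h1 | h1
    · exact b1 ((Subtype.ext h1 : b = 1) ▸ one_mem _)
    · exact b1 ((Subtype.ext (h1.trans ((mz (h ha)).resolve_left
        fun h => a1 (Subtype.ext h)).symm) : b = a) ▸ mem_zpowers a)
  have e0 : e ≠ 1 := fun h => e1 (h ▸ one_mem _)
  have ec : e ∉ center P := fun h => e1 ((hφ (MulEquiv.ext fun v => by
    rw [inv e h e0 he.2, inv z zc z1 hz.2]) : e = z) ▸ mem_zpowers z)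
  obtain ⟨t, ht⟩ : ∃ t, ⁅e, t⁆ = z := by
    by_contra h
    push Not at h
    exact ec (mem_center_iff.2 fun g =>
      (commutatorElement_eq_one_iff_mul_comm.1 ((mz (e2 g)).resolve_right (h g))).symm)
  have hi : (centralizer {e}).index ≤ 2 := by
    rw [← cs, ← ncard_isConj]
    refine (Set.ncard_le_ncard (t := {e, z⁻¹ * e}) fun y hy => ?_).trans
      ((Set.ncard_insert_le _ _).trans (by simp))
    obtain ⟨g, rfl⟩ := isConj_iff.1 hy
    have : g * e * g⁻¹ = ⁅e, g⁆⁻¹ * e := by group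
    rcases mz (e2 g) with h | h <;> simp [this, h]
  have hi' : (centralizer {e}).index = 2 := le_antisymm hi (one_lt_cs_iff.2 ec)
  haveI := normal_of_index_eq_two hi'
  let U := (φ e).toMonoidHom.eqLocus (MonoidHom.id V)
  have mU : ∀ {v}, v ∈ U ↔ φ e v = v := Iff.rfl
  have h2 : ∀ v, φ t v ∈ U ↔ φ e v = v⁻¹ := fun v => by
    have : e * t = z * t * e := by rw [← ht]; group
    rw [mU, ← MulAut.mul_apply, ← map_mul, this, map_mul, map_mul, MulAut.mul_apply,
      MulAut.mul_apply, inv z zc z1 hz.2, ← map_inv, (φ t).injective.eq_iff, inv_eq_iff_eq_inv]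
  have h3 : U.index = Nat.card U := by
    have c : Nat.card (U.comap (φ t).toMonoidHom) = Nat.card U :=
      Nat.card_congr ((φ t).toEquiv.subtypeEquiv fun _ => Iff.rfl)
    refine c ▸ le_antisymm ?_ ?_
    · have : U = ((φ e).toMonoidHom / MonoidHom.id V).ker := by ext v; simp [mU, div_eq_one]
      rw [this, index_ker, ← this]
      refine card_le_of_le' ?_
      rintro _ ⟨v, rfl⟩
      refine (h2 _).2 ?_
      simp only [MonoidHom.div_apply, MulEquiv.toMonoidHom_eq_coe, MonoidHom.coe_coe,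
        MonoidHom.id_apply, map_div, inv_div]
      rw [← MulAut.mul_apply, ← map_mul, ← pow_two, he.2, map_one]; rfl
    · refine Nat.card_le_card_of_injective ((QuotientGroup.mk' U).comp (Subgroup.subtype _))
        ((injective_iff_map_eq_one _).2 fun v hv => Subtype.ext (eq_one_of_odd ho (k := 1) ?_))
      rw [pow_one, pow_two, mul_eq_one_iff_eq_inv, ← (h2 v).1 v.2]
      exact (mU.1 ((QuotientGroup.eq_one_iff _).1 hv)).symm
  have h4 := U.card_mul_index
  obtain ⟨x, y, c, d, e1, e2, e3, e4, e5, e6⟩ := split ho ih (φ.comp (centralizer {e}).subtype)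
    (hP.to_subgroup _) (hφ.comp Subtype.val_injective) U (fun a u hu => by
      change φ e (φ a u) = φ a u
      rw [← MulAut.mul_apply, ← map_mul, ← mem_cent.1 a.2, map_mul, MulAut.mul_apply, mU.1 hu])
    (fun h => by rw [h3, h, card_bot] at h4; omega)
    fun h => e0 (hφ (MulEquiv.ext fun v => by simpa using mU.1 (h.ge (mem_top v))))
  have h5 := F_le_index (centralizer {e})
  refine Or.inl ?_
  rw [h3] at h4 e6
  rw [hi'] at h5
  by_cases h6 : Nat.card U = 3
  · have h7 := (centralizer {e}).card_mul_index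
    have h8 := (frattini P).card_mul_index
    have h9 := (one_lt_card_iff_ne_bot (frattini P)).2 fun h =>
      z1 (ht ▸ h.le (H4.commutatorElement_mem_frattini hP e t))
    rw [hi', e2] at h7
    rw [← h4, h6]
    rw [h6] at e5 e6
    by_cases h : c ≤ 2 ∧ d ≤ 2
    · have := Nat.mul_le_mul h.1 h.2
      nlinarith
    have : x * y ≤ 2 := by
      rcases e5 with e5 | ⟨-, e5⟩
      · exact (Nat.mul_le_mul (by omega : x ≤ 1) (by omega : y ≤ 2) :)
      · exact (Nat.mul_le_mul (by omega : x ≤ 2) (by omega : y ≤ 1) :)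
    omega
  · have := e5.resolve_right fun h => h6 h.1
    have := e6.resolve_right fun h => h6 h.1
    nlinarith


/-- Let G be a finite group that is the semidirect product of a normal abelian subgroup N of odd order by a 2-subgroup P, and suppose N is the unique minimal normal subgroup of G. Then the index of the Frattini subgroup of P in P is at most #N − 1. -/
theorem result {G : Type*} [Group G] [Finite G] (N P : Subgroup G) (hN : N.Normal) (hNab : IsMulCommutative ↥N) (hNodd : Odd (Nat.card ↥N)) (hP : IsPGroup 2 ↥P) (hdisj : N ⊓ P = ⊥) (hprod : N ⊔ P = ⊤) (hmin : N ≠ ⊥ ∧ ∀ M : Subgroup G, M.Normal → M ≠ ⊥ → N ≤ M) : (frattini ↥P).index ≤ Nat.card ↥N - 1 := by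
  open scoped IsMulCommutative in
  have h1 := (one_lt_card_iff_ne_bot N).2 hmin.1
  have hn : P ≤ 𝐍 N := fun g _ => mem_normalizer_of_normal N g
  have := main _ N rfl hNodd h1 P (H2.conjAut hn) hP (by
    rw [← MonoidHom.ker_eq_bot_iff, ← map_eq_bot_iff_of_injective _ P.subtype_injective]
    have h2 : (H2.conjAut hn).ker.map P.subtype = P ⊓ 𝐂 N := by
      ext x
      refine ⟨?_, fun hx => ⟨⟨x, hx.1⟩, MulEquiv.ext fun v => Subtype.ext ?_, rfl⟩⟩
      · rintro ⟨x, hx, rfl⟩
        exact ⟨x.2, fun v hv => ((mul_inv_eq_iff_eq_mul.1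
          (congrArg Subtype.val (DFunLike.congr_fun (MonoidHom.mem_ker.1 hx) ⟨v, hv⟩))).symm :)⟩
      · exact mul_inv_eq_iff_eq_mul.2 (hx.2 v v.2).symm
    rw [h2]
    by_contra h
    refine hmin.1 (eq_bot_iff.2 ((le_inf le_rfl ((hmin.2 _ (normal_iff_top_le.2 ?_) h).trans
      inf_le_left)).trans hdisj.le))
    exact hprod ▸ sup_le (le_normalizer_of_le_centralizer (le_centralizer_comm.1 inf_le_right))
      (le_normalizer_inf le_normalizer (le_normalizer_centralizer hn)))
  rcases this with h | ⟨h, h'⟩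
  · omega
  · have := F_le_card (P := P)
    omega

end Cfsg.Agent.S4188
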