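import Cfsg.Statements.S4190
import Cfsg.Agent.H28.KF2
import Cfsg.Agent.S4266

set_option autoImplicit false
open Cfsg

namespace Cfsg.Agent.S4190

/-- Let G be a finite solvable group and p a prime dividing the index of the Fitting subgroup of G. Then the number of conjugacy classes of G is at least p/(3·log₂ p). -/
theorem result {G : Type*} [Group G] [Finite G] (hG : Group.IsSolvable G) (p : ℕ) [Fact p.Prime] (hp : p ∣ (Cfsg.fittingSubgroup G).index) : (p : ℝ) / (3 * Real.logb 2 p) ≤ Nat.card (ConjClasses G) := by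
  have hp' : p.Prime := Fact.out
  by_cases h : p ^ 2 ∣ Nat.card G
  · have h1 : (49 : ℝ) * p ≤ 60 * Nat.card (ConjClasses G) := by
      exact_mod_cast Cfsg.Agent.S4266.result hG p h
    have h2 : (2 : ℝ) ≤ p := by exact_mod_cast hp'.two_le
    have h3 : 1 ≤ Real.logb 2 p :=
      (Real.le_logb_iff_rpow_le (by norm_num) (by linarith)).2 (by simpa using h2)
    rw [div_le_iff₀ (by linarith)]
    nlinarith [(Nat.cast_nonneg (Nat.card (ConjClasses G)) : (0 : ℝ) ≤ _)]
  obtain ⟨z, hz⟩ := exists_prime_orderOf_dvd_card' p (hp.trans (fittingSubgroup G).index_dvd_card)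
  refine H28.KF.main hp' _ G rfl h z hz fun hn => h ?_
  have := Subgroup.card_dvd_of_le (H1.le_fitting hn
    (IsPGroup.of_card (n := 1) (by rw [Nat.card_zpowers, hz, pow_one])).isNilpotent)
  rw [Nat.card_zpowers, hz] at this
  rw [← (fittingSubgroup G).index_mul_card, pow_two]
  exact mul_dvd_mul hp this

end Cfsg.Agent.S4190
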