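import Cfsg.Statements.S4192
import Cfsg.Agent.H25.Re2

set_option autoImplicit false
open Cfsg

namespace Cfsg.Agent.S4192
open _root_.H25 Subgroup

/-- Let G be a finite group; call an element real when it is conjugate to its inverse, and say that the real-class-size graph of a group is disconnected when the primes dividing its real class sizes split into two non-empty disjoint parts with no real class size divisible by a prime from each part. If the real-class-size graph of G is disconnected, then some real class size of G is even, and either the Sylow 2-subgroups of G are normal, or the subgroup K generated by the 2-elements of G (the smallest normal subgroup of odd index) again has a disconnected real-class-size graph and every real class size of K is odd or a power of 2. -/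
theorem result {G : Type*} [Group G] [Finite G] (h : (∃ π₁ π₂ : Set ℕ, π₁.Nonempty ∧ π₂.Nonempty ∧ Disjoint π₁ π₂ ∧ (∀ q ∈ π₁ ∪ π₂, q.Prime ∧ ∃ n ∈ {n : ℕ | ∃ x : G, IsConj x x⁻¹ ∧ (Subgroup.centralizer ({x} : Set G)).index = n}, q ∣ n) ∧ (∀ q : ℕ, q.Prime → (∃ n ∈ {n : ℕ | ∃ x : G, IsConj x x⁻¹ ∧ (Subgroup.centralizer ({x} : Set G)).index = n}, q ∣ n) → q ∈ π₁ ∨ q ∈ π₂) ∧ ∀ a ∈ π₁, ∀ b ∈ π₂, ∀ n ∈ {n : ℕ | ∃ x : G, IsConj x x⁻¹ ∧ (Subgroup.centralizer ({x} : Set G)).index = n}, ¬ (a ∣ n ∧ b ∣ n))) : (∃ n ∈ {n : ℕ | ∃ x : G, IsConj x x⁻¹ ∧ (Subgroup.centralizer ({x} : Set G)).index = n}, 2 ∣ n) ∧ ((∀ P : Sylow 2 G, (P : Subgroup G).Normal) ∨ ((∃ π₁ π₂ : Set ℕ, π₁.Nonempty ∧ π₂.Nonempty ∧ Disjoint π₁ π₂ ∧ (∀ q ∈ π₁ ∪ π₂, q.Prime ∧ ∃ n ∈ {n : ℕ | ∃ x : ↥(Subgroup.closure {g : G | ∃ k : ℕ, orderOf g = 2 ^ k}), IsConj x x⁻¹ ∧ (Subgroup.centralizer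 ({x} : Set ↥(Subgroup.closure {g : G | ∃ k : ℕ, orderOf g = 2 ^ k}))).index = n}, q ∣ n) ∧ (∀ q : ℕ, q.Prime → (∃ n ∈ {n : ℕ | ∃ x : ↥(Subgroup.closure {g : G | ∃ k : ℕ, orderOf g = 2 ^ k}), IsConj x x⁻¹ ∧ (Subgroup.centralizer ({x} : Set ↥(Subgroup.closure {g : G | ∃ k : ℕ, orderOf g = 2 ^ k}))).index = n}, q ∣ n) → q ∈ π₁ ∨ q ∈ π₂) ∧ ∀ a ∈ π₁, ∀ b ∈ π₂, ∀ n ∈ {n : ℕ | ∃ x : ↥(Subgroup.closure {g : G | ∃ k : ℕ, orderOf g = 2 ^ k}), IsConj x x⁻¹ ∧ (Subgroup.centralizer ({x} : Set ↥(Subgroup.closure {g : G | ∃ k : ℕ, orderOf g = 2 ^ k}))).index = n}, ¬ (a ∣ n ∧ b ∣ n)) ∧ ∀ n ∈ {n : ℕ | ∃ x : ↥(Subgroup.closure {g : G | ∃ k : ℕ, orderOf g = 2 ^ k}), IsConj x x⁻¹ ∧ (Subgroup.centralizer ({x} : Set ↥(Subgroup.closure {g : G | ∃ k : ℕ, orderOf g = 2 ^ k}))).index = n}, Odd n ∨ ∃ j : ℕ, n = 2 ^ j)) := by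
  obtain ⟨π₁, π₂, h₁, h₂, hd, hs, hc, hn⟩ := h
  have r := Ito.DR.of h₁ h₂ hd hs hc hn
  obtain ⟨x, x1, x2⟩ := r.even
  refine ⟨⟨_, ⟨x, x1, rfl⟩, x2⟩, or_iff_not_imp_left.2 fun e => ?_⟩
  obtain ⟨⟨a, a1, a2⟩, ⟨b, b1, b2, b3⟩, k⟩ :=
    r.two.elim (fun h => r.str h rfl e) fun h => r.symm.str h rfl e
  obtain ⟨q, hq, hq'⟩ := Nat.exists_prime_and_dvd (mt H24.cs_eq_one_iff.1 b2)
  refine ⟨⟨{2}, {q | q.Prime ∧ q ≠ 2 ∧ ∃ n ∈ {n : ℕ | ∃ x : ↥(Subgroup.closure {g : G | ∃ k : ℕ,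
      orderOf g = 2 ^ k}), IsConj x x⁻¹ ∧ (Subgroup.centralizer {x}).index = n}, q ∣ n},
    ⟨2, rfl⟩, ⟨q, hq, fun e => b3 (e ▸ hq'), _, ⟨b, b1, rfl⟩, hq'⟩,
    Set.disjoint_left.2 fun r h1 h2 => h2.2.1 h1, ?_,
    fun r h1 h2 => or_iff_not_imp_left.2 fun h3 => ⟨h1, h3, h2⟩, ?_⟩, ?_⟩
  · rintro r (rfl | h1)
    · exact ⟨Nat.prime_two, _, ⟨a, a1, rfl⟩, a2⟩
    · exact ⟨h1.1, h1.2.2⟩
  · rintro _ rfl r h1 _ ⟨y, hy, rfl⟩ ⟨h2, h3⟩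
    exact h1.2.1 (k y hy h2 r h1.1 h3)
  · rintro _ ⟨y, hy, rfl⟩
    exact or_iff_not_imp_left.2 fun h1 => (k y hy (Nat.not_odd_iff_even.1 h1).two_dvd).exists_pow
      index_ne_zero_of_finite

end Cfsg.Agent.S4192
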