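import Cfsg.Statements.S4193
import Cfsg.Agent.H25.Cs0
import Cfsg.Agent.S3861
import Cfsg.Agent.S3862
import Cfsg.Agent.S3863

set_option autoImplicit false
open Cfsg

namespace Cfsg.Agent.S4193
open _root_.H25 Subgroup

/-- Let G be a finite group in which the conjugacy classes of all non-central real elements (elements conjugate to their inverses) have sizes with the same 2-part, and suppose G has a Sylow 2-subgroup S such that every element of S that is conjugate in S to its inverse lies in the centre of S. Then G is solvable and the subgroup generated by the 2-elements of G (the smallest normal subgroup of odd index) has a normal 2-complement. -/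
theorem result {G : Type*} [Group G] [Finite G] (a : ℕ) (h : ∀ x : G, IsConj x x⁻¹ → x ∉ Subgroup.center G → ((Subgroup.centralizer ({x} : Set G)).index).factorization 2 = a) (S : Sylow 2 G) (hS : ∀ s : ↥(S : Subgroup G), IsConj s s⁻¹ → s ∈ Subgroup.center ↥(S : Subgroup G)) : Group.IsSolvable G ∧ Cfsg.HasNormalPComplement 2 ↥(Subgroup.closure {g : G | ∃ k : ℕ, orderOf g = 2 ^ k}) := by
  by_cases h1 : ∀ x : G, (∃ j : ℕ, orderOf x = 2 ^ j) → IsConj x x⁻¹ → x ∈ Subgroup.center G
  · have := S3862.result h1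
    exact ⟨solv_of_npc this, H3.hasNPC_subgroup this _⟩
  push Not at h1
  obtain ⟨x, hx, hr, hz⟩ := h1
  have a0 : a = 0 := by
    obtain ⟨⟨t, ht, e⟩, -⟩ := S3863.result x hr
    have p1 : H19.PG 2 (zpowers x ⊔ zpowers t) := H19.PiN.sup
      (H19.piG_zpowers.2 ((pe_iff Nat.prime_two).2 hx))
      (H19.piG_zpowers.2 ((pe_iff Nat.prime_two).2 ht)) (zpowers_le.2 (by
        rw [H19.mem_norm_iff_cj, H19.cj_zpowers, e, zpowers_inv]))
    obtain ⟨g, -, hg⟩ := (H19.syl_sylow_top S).scj_le le_top p1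
    have m1 : g * x * g⁻¹ ∈ (S : Subgroup G) :=
      hg (H19.conj_mem_cj.2 (mem_sup_left (mem_zpowers x)))
    have m2 : g * t * g⁻¹ ∈ (S : Subgroup G) :=
      hg (H19.conj_mem_cj.2 (mem_sup_right (mem_zpowers t)))
    have := hS ⟨_, m1⟩ (isConj_iff.2 ⟨⟨_, m2⟩, Subtype.ext (by
      change g * t * g⁻¹ * (g * x * g⁻¹) * (g * t * g⁻¹)⁻¹ = (g * x * g⁻¹)⁻¹
      rw [show g * t * g⁻¹ * (g * x * g⁻¹) * (g * t * g⁻¹)⁻¹ = g * (t * x * t⁻¹) * g⁻¹ by group, e]
      group)⟩)
    have h2 : ¬ 2 ∣ H24.cs (g * x * g⁻¹) := H24.not_dvd_cs_iff.2 ⟨S, fun y hy =>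
      H24.mem_cent.2 (congrArg Subtype.val (Subgroup.mem_center_iff.1 this ⟨y, hy⟩))⟩
    rw [H24.cs_conj] at h2
    rw [← h x hr hz]
    exact Nat.factorization_eq_zero_of_not_dvd h2
  haveI := (S3861.result S).1 fun y h1 ho hr => by
    have h2 : y ^ 2 ≠ 1 := fun e => h1 (orderOf_eq_one_iff.1 (Nat.Coprime.eq_one_of_dvd
      (Nat.coprime_two_right.2 ho) (orderOf_dvd_of_pow_eq_one e)))
    have hy : y ∉ Subgroup.center G := fun hc => h2 (by
      obtain ⟨c, hc'⟩ := isConj_iff.1 hr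
      rw [Subgroup.mem_center_iff.1 hc c, mul_inv_cancel_right] at hc'
      rw [sq]; nth_rewrite 2 [hc']; simp)
    refine h2 ((S3863.result y hr).2.1 (Nat.odd_iff.2 (Nat.two_dvd_ne_zero.1 fun hd => ?_)))
    have := (Nat.Prime.dvd_iff_one_le_factorization Nat.prime_two (H24.cs_ne_zero y)).1 hd
    rw [h y hr hy, a0] at this
    omega
  refine ⟨solv_of_normal_syl (H19.syl_sylow_top S), H3.hasNPC_of_isPGroup
    (S.isPGroup'.to_le ((Subgroup.closure_le _).2 fun g hg => ?_))⟩
  exact (H19.syl_sylow_top S).mem_of_normal H19.normalIn_top.norm trivial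
    ((pe_iff Nat.prime_two).2 hg)

end Cfsg.Agent.S4193
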