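import Cfsg.Statements.S4231
import Cfsg.Agent.H21.SymSyl4
import Cfsg.Agent.H12.AltOrd

set_option autoImplicit false
open Cfsg

namespace Cfsg.Agent.S4231

open H21 Subgroup Equiv Equiv.Perm
open scoped Pointwise Nat commutatorElement

/-- Let n ≥ 5 and let G be a group of automorphisms of the alternating group of degree n containing all inner automorphisms. If p ≠ q are primes and G has no element of order pq, then every Sylow p-subgroup of G is abelian or every Sylow q-subgroup of G is abelian. -/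
theorem result (n : ℕ) (hn : 5 ≤ n) (G : Subgroup (MulAut (alternatingGroup (Fin n))))
    (hG : (MulAut.conj : alternatingGroup (Fin n) →* MulAut (alternatingGroup (Fin n))).range ≤ G)
    (p q : ℕ) [Fact p.Prime] [Fact q.Prime] (hpq : p ≠ q) (h : ∀ g : G, orderOf g ≠ p * q) :
    (∀ P : Sylow p G, IsMulCommutative (P : Subgroup G)) ∨ (∀ Q : Sylow q G, IsMulCommutative (Q : Subgroup G)) := by
  have h5 : 5 ≤ Fintype.card (Fin n) := by simpa using hn
  have hi : Function.Injective (MulAut.conj : alternatingGroup (Fin n) →* _) := by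
    rw [← MonoidHom.ker_eq_bot_iff, eq_bot_iff, ← alternatingGroup.center_eq_bot (by simp; omega)]
    exact fun g hg => mem_center_iff.2 fun y => by
      exact (mul_inv_eq_iff_eq_mul.1 (MulEquiv.congr_fun hg y)).symm
  have A : ∀ (r : ℕ) [Fact r.Prime], r ≠ 2 → n < r ^ 2 → ∀ R : Sylow r G, IsMulCommutative R.1 := by
    intro r _ h2 hr R
    have h1 : ∀ g ∈ R.1, ∃ a, MulAut.conj a = (g : MulAut (alternatingGroup (Fin n))) :=
      fun g hg => mem_of_pow_four_mem (aut_pow_four_mem h5 _) (by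
        obtain ⟨k, hk⟩ := IsPGroup.iff_orderOf.1 R.isPGroup' ⟨g, hg⟩
        rw [← Subgroup.orderOf_coe, ← Subgroup.orderOf_coe] at hk
        exact hk ▸ ((Fact.out : r.Prime).odd_of_ne_two h2).pow)
    obtain ⟨T, hT⟩ := (((R.isPGroup'.map G.subtype).comap_of_injective _ hi).map
      (alternatingGroup (Fin n)).subtype).exists_le_sylow
    have := (sylow_perm_comm_iff T).2 (by simpa using hr)
    refine H1.isMulCommutative_iff.2 fun a ha b hb => Subtype.ext ?_
    obtain ⟨x, hx⟩ := h1 a ha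
    obtain ⟨y, hy⟩ := h1 b hb
    rw [Subgroup.coe_mul, Subgroup.coe_mul, ← hx, ← hy, ← map_mul, ← map_mul]
    exact congrArg _ (Subtype.ext (H1.isMulCommutative_iff.1 this _ (hT ⟨x, ⟨a, ha, hx.symm⟩, rfl⟩)
      _ (hT ⟨y, ⟨b, hb, hy.symm⟩, rfl⟩)))
  have B : ∀ m : Multiset ℕ, m.sum ≤ n → (∀ a ∈ m, 2 ≤ a) → Even (m.sum + m.card) →
      m.lcm ≠ p * q := fun m h1 h2 h3 h4 => by
    obtain ⟨x, hx⟩ := H12.mem_range_orderOf_alt.2 ⟨m, h1, h2, h3, h4⟩
    exact h ⟨_, hG ⟨x, rfl⟩⟩ (by rw [Subgroup.orderOf_mk, orderOf_injective _ hi, hx])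
  have hp : p.Prime := Fact.out
  have hq : q.Prime := Fact.out
  have C : ∀ r, r.Prime → r ≠ 2 → 2 * r = p * q → n < r ^ 2 := fun r hr h2 e => by
    by_contra k
    have h3 : 3 ≤ r := by have := hr.two_le; omega
    refine B {2, 2, r} (by simp; nlinarith) (by simp; omega) ?_ ?_
    · obtain ⟨j, rfl⟩ := hr.odd_of_ne_two h2
      exact ⟨j + 4, by simp; ring⟩
    · have : Nat.lcm 2 r = 2 * r := ((Nat.coprime_primes Nat.prime_two hr).2 h2.symm).lcm_eq_mul
      simp [← e, lcm_eq_nat_lcm, this, Nat.lcm_eq_right]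
  by_cases h2 : p = 2
  · exact .inr (A q (by omega) (C q hq (by omega) (by rw [h2])))
  by_cases h2' : q = 2
  · exact .inl (A p h2 (C p hp h2 (by rw [h2', mul_comm])))
  by_cases k : n < p ^ 2
  · exact .inl (A p h2 k)
  refine .inr (A q h2' (not_le.1 fun k' => B {p, q} ?_ (by simp [hp.two_le, hq.two_le]) ?_ ?_))
  · have := hp.two_le
    have := hq.two_le
    simp
    nlinarith
  · simpa using ((hp.odd_of_ne_two h2).add_odd (hq.odd_of_ne_two h2')).add even_two
  · simpa [lcm_eq_nat_lcm] using ((Nat.coprime_primes hp hq).2 hpq).lcm_eq_mul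

end Cfsg.Agent.S4231
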