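import Cfsg.Statements.S4245
import Cfsg.Agent.H25.Ito3

set_option autoImplicit false
open Cfsg

namespace Cfsg.Agent.S4245
open _root_.H25 Subgroup

universe u

open H19 H25.Ito in
theorem aux {p : ℕ} (hp : p.Prime) (G : Type u) [Group G] [Finite G] : ∀ (A B : Subgroup G) (x : G),
    PiN {p} A.index → B ⊴ A → Cyc B → A ≤ B ⊔ zpowers x → x ∈ A → PiN {2} (B.relIndex A) →
    Group.IsSolvable G := by
  refine H1.induction_card (P := fun G _ _ => ∀ (A B : Subgroup G) (x : G),
    PiN {p} A.index → B ⊴ A → Cyc B → A ≤ B ⊔ zpowers x → x ∈ A → PiN {2} (B.relIndex A) →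
    Group.IsSolvable G) ?_ G
  intro G _ _ ih A B x h1 h2 h3 h4 h5 h6
  haveI := Fact.mk Nat.prime_two
  by_cases p2 : p = 2
  · subst p2
    have := h6.mul h1
    rw [relIndex_mul_index h2.le] at this
    obtain ⟨k, hk⟩ := this.exists_pow index_ne_zero_of_finite
    exact Cfsg.Agent.S4034.solv B (comm_of_cyclic h3) hk
  by_cases e : 2 ∣ #B
  · obtain ⟨X, hX⟩ := exists_el1 Nat.prime_two e
    obtain ⟨z, z1, z2, rfl⟩ := hX.exists_gen
    have c : A ≤ C[z] := fun a ha => by
      classical
      have h7 := conj_mem_of_norm ((h2.norm.trans (cyc_norm h3 hX.le)) ha) (mem_zpowers z)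
      rw [mem_zpowers_iff_mem_range_orderOf, z2, Finset.mem_image] at h7
      obtain ⟨i, hi, h7⟩ := h7
      obtain rfl | rfl : i = 0 ∨ i = 1 := by have := Finset.mem_range.1 hi; omega
      · exact absurd (conj_eq_one_iff.1 (h7.symm.trans (pow_zero z))) z1
      · exact H24.mem_cent_iff_conj.2 (h7.symm.trans (pow_one z))
    obtain ⟨k, hk⟩ := h1.exists_pow index_ne_zero_of_finite
    haveI := H7.kazarin_normalClosure hp (x := z) (k := k) (hk ▸ index_dvd_of_le c)
    set f := QuotientGroup.mk' (normalClosure {z})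
    haveI := ih _ (H1.card_quotient_lt (N := normalClosure {z})
      (ne_bot_of_mem (subset_normalClosure rfl) z1)) (A.map f) (B.map f) (f x)
      (h1.dvd (index_map_dvd _ (QuotientGroup.mk'_surjective _)))
      ⟨map_mono h2.le, (map_mono h2.norm).trans (le_normalizer_map _)⟩
      (isCyclic_of_surjective _ (f.subgroupMap_surjective B))
      (by rw [← MonoidHom.map_zpowers, ← Subgroup.map_sup]; exact map_mono h4)
      (mem_map_of_mem f h5) (h6.dvd (relIndex_map_dvd h2.le f))
    exact Group.isSolvable_of_ker_le_range (normalClosure {z}).subtype f (by simp [f])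
  obtain ⟨T, hT⟩ := H19.exists_syl 2 A
  have hT' : H19.Syl 2 T ⊤ := hT.of_idx le_top (by rw [relIndex_top_right]; exact h1.sing_ne p2)
  have xn : zpowers x ≤ N(B) := zpowers_le.2 (h2.norm h5)
  have c : Cyc T := cyc_of_quo_disjoint (h2.norms hT.le) ((PiN.of_not_dvd e).inf_eq_bot' hT.pi)
    (cyc_mono (cyc_quo (cyc_zpowers x) B) (quo_sup_left xn ▸ quo_mono B (hT.le.trans h4)))
  have h7 := H18.cyclic_pdiv_normal_complement hT' c fun q hq _ => hq.two_le
  have h8 : Sol (Oc {2}ᶜ (⊤ : Subgroup G)) := H20.odd_solvable _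
    (Nat.coprime_two_right.1 (h7.pi.coprime_prime Nat.prime_two))
  have h9 := sol_sup h8 hT.pi.sol (le_top.trans (Oc_norm _ _))
  rw [sup_comm, hT'.sup_compl h7] at h9
  exact Group.isSolvable_of_surjective (f := (⊤ : Subgroup G).subtype) fun g => ⟨⟨g, trivial⟩, rfl⟩

/-- Let G be a finite group with a subgroup A of prime-power index. Suppose A has a normal cyclic subgroup B such that A/B is cyclic of order a power of 2. Then G is solvable. -/
theorem result {G : Type*} [Group G] [Finite G] (A : Subgroup G) (p s : ℕ) (hp : p.Prime) (hA : A.index = p ^ s)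
    (B : Subgroup A) [B.Normal] (hB : IsCyclic B) (hAB : IsCyclic (A ⧸ B)) (r : ℕ) (hr : Nat.card (A ⧸ B) = 2 ^ r) :
    Group.IsSolvable G := by
  obtain ⟨y, hy⟩ := hAB.exists_generator
  obtain ⟨x, rfl⟩ := QuotientGroup.mk_surjective y
  refine aux hp G A (B.map A.subtype) x (hA ▸ .prime_pow hp s) (H19.normalIn_map_subtype B)
    (isCyclic_of_surjective _ (A.subtype.subgroupMap_surjective B)) (fun a ha => ?_) x.2 ?_
  · obtain ⟨k, hk⟩ := hy (⟨a, ha⟩ : A)
    have h1 : (⟨a, ha⟩ : A) * (x ^ k)⁻¹ ∈ B := by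
      rw [← QuotientGroup.eq_one_iff, QuotientGroup.mk_mul, ← hk]
      simp
    simpa using mul_mem_sup (mem_map_of_mem A.subtype h1) (zpow_mem (mem_zpowers (x : G)) k)
  · rw [relIndex, H1.map_subtype_subgroupOf, index, hr]
    exact .prime_pow Nat.prime_two r

end Cfsg.Agent.S4245
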