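import Cfsg.Statements.S4284
import Cfsg.Agent.H5.CS4
-- import your own Cfsg.Agent.* helpers here

set_option autoImplicit false
open Cfsg

namespace Cfsg.Agent.S4284
open H5

open H19 H17.GS Subgroup


/-- Let G be a finite group with no nontrivial abelian direct factor whose conjugacy class sizes are exactly 1, m and m·n with m, n > 1 coprime. Then m is a prime p dividing n − 1; the elements whose class has size 1 or p form an abelian normal subgroup of index p; G has a normal p-complement; and the commutator subgroup of a Sylow p-subgroup of G has order p. -/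
theorem result {G : Type*} [Group G] [Finite G] (hnodf : ∀ A B : Subgroup G, A.Normal → B.Normal → A ⊓ B = ⊥ → A ⊔ B = ⊤ → IsMulCommutative A → A = ⊥) (m n : ℕ) (hm : 1 < m) (hn : 1 < n) (hcop : m.Coprime n) (h : Set.range (fun x : G => (Subgroup.centralizer ({x} : Set G)).index) = ({1, m, m * n} : Set ℕ)) : m.Prime ∧ m ∣ n - 1 ∧ (∃ M : Subgroup G, M.Normal ∧ (M : Set G) = {x : G | (Subgroup.centralizer ({x} : Set G)).index = 1 ∨ (Subgroup.centralizer ({x} : Set G)).index = m} ∧ M.index = m ∧ IsMulCommutative M) ∧ (∃ N : Subgroup G, N.Normal ∧ (Nat.card N).Coprime m ∧ ∃ a : ℕ, N.index = m ^ a) ∧ ∀ P : Sylow m G, Nat.card (commutator (P : Subgroup G)) = m := by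
  have k : MN G m n := ⟨hm, hn, hcop, fun x hx => (h.le ⟨x, rfl⟩).resolve_left (mt idx_eq_one.1 hx),
    h.ge (.inr (.inl rfl)), h.ge (.inr (.inr rfl))⟩
  obtain ⟨p, hp, d⟩ := Nat.exists_prime_and_dvd hm.ne'
  have hH := k.npc hp d
  have nH : ∀ A : Subgroup G, A ≤ N(Oc {p}ᶜ ⊤) := fun A => le_top.trans (Oc_norm _ _)
  obtain ⟨P, hP⟩ := exists_syl p (⊤ : Subgroup G)
  obtain rfl := k.eq_p hp d hP hH nH
  haveI := Fact.mk hp
  refine ⟨hp, k.dvd_pred hp d hP hH nH, ⟨C(Oc {m}ᶜ ⊤), (NormalIn.mk le_top (norms_cent (nH _))).normal,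
    Set.ext fun x => ?_, k.index_C hp d hP hH nH, k.abC hp d hP hH nH⟩, ⟨_, (Oc_normal _ _).normal,
    hH.pi.coprime_prime hp, ?_⟩, fun Q => ?_⟩
  · by_cases e : x ∈ center G
    · exact iff_of_true (center_le_centralizer _ e) (.inl (idx_eq_one.2 e))
    refine ⟨fun hx => .inr (k.idx hp d hP hH nH hx e), fun hx => ?_⟩
    exact ((k.f2 hp d hP hH nH e).resolve_right fun f => k.ne ((hx.resolve_left
      (mt idx_eq_one.1 e)).symm.trans f.1)).2
  · have := hH.idx
    rw [compl_compl, relIndex_top_right] at this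
    exact this.exists_pow index_ne_zero_of_finite
  · have := k.card_der hp d (syl_sylow_top Q) hH nH
    rwa [← map_subtype_commutator, card_map_of_injective (subtype_injective _)] at this

end Cfsg.Agent.S4284
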