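import Cfsg.Statements.S4347
import Cfsg.Agent.H24.ClassSize

set_option autoImplicit false
open Cfsg

namespace Cfsg.Agent.S4347

open Subgroup Pointwise


/-- Let G be a finite group and p a prime. Say a Sylow p-subgroup Q is redundant when every element of p-power order lies in some Sylow p-subgroup other than Q. Then G has no redundant Sylow p-subgroup if and only if some element of p-power order lies in exactly one Sylow p-subgroup. -/
theorem result {G : Type*} [Group G] [Finite G]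
    (p : ℕ) [Fact p.Prime] :
    (¬ ∃ Q : Sylow p G, ∀ x : G, (∃ k : ℕ, orderOf x = p ^ k) → ∃ P : Sylow p G, P ≠ Q ∧ x ∈ P) ↔
      ∃ x : G, (∃ k : ℕ, orderOf x = p ^ k) ∧ ∃! P : Sylow p G, x ∈ P := by
  constructor
  · intro h
    push Not at h
    obtain ⟨Q⟩ : Nonempty (Sylow p G) := inferInstance
    obtain ⟨x, ⟨k, hk⟩, hx⟩ := h Q
    obtain ⟨P, hP⟩ := H24.exists_sylow_mem hk
    refine ⟨x, ⟨k, hk⟩, P, hP, fun R hR => ?_⟩
    have : ∀ R : Sylow p G, x ∈ R → R = Q := fun R hR => by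
      by_contra hne; exact hx R hne hR
    rw [this R hR, this P hP]
  · rintro ⟨x, ⟨k, hk⟩, P, hP, hu⟩ ⟨Q, hQ⟩
    obtain ⟨g, rfl⟩ := MulAction.exists_smul_eq G P Q
    obtain ⟨R, hR, hxR⟩ := hQ (g * x * g⁻¹) ⟨k, by rw [H24.orderOf_conj, hk]⟩
    apply hR
    rw [← hu (g⁻¹ • R), smul_inv_smul]
    change x ∈ ((g⁻¹ • R : Sylow p G) : Subgroup G)
    rw [Sylow.coe_subgroup_smul, mem_pointwise_smul_iff_inv_smul_mem]
    have : g * x * g⁻¹ ∈ (R : Subgroup G) := hxR
    simpa [MulAut.smul_def] using this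

end Cfsg.Agent.S4347
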