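import Cfsg.Statements.S4348
import Cfsg.Agent.H24.ClassSize
import Cfsg.Agent.H1.Core

set_option autoImplicit false
open Cfsg

namespace Cfsg.Agent.S4348

open Subgroup Pointwise


/-- Let G be a finite group, p a prime and P a Sylow p-subgroup of G, and let O_p(G) be the largest normal p-subgroup of G. If P/O_p(G) is cyclic, then some element of p-power order of G lies in exactly one Sylow p-subgroup. -/
theorem result {G : Type*} [Group G] [Finite G]
    (p : ℕ) [Fact p.Prime] (P : Sylow p G)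
    [hn : ((Cfsg.pCore p G).subgroupOf (P : Subgroup G)).Normal]
    (hc : IsCyclic ((P : Subgroup G) ⧸ (Cfsg.pCore p G).subgroupOf (P : Subgroup G))) :
    ∃ x : G, (∃ k : ℕ, orderOf x = p ^ k) ∧ ∃! Q : Sylow p G, x ∈ Q := by
  obtain ⟨z, hz⟩ := hc.exists_generator
  obtain ⟨x, rfl⟩ := QuotientGroup.mk_surjective z
  refine ⟨x, H24.orderOf_eq_pow_of_mem P.isPGroup' x.2, P, x.2, fun Q hQ => ?_⟩
  have hle : (P : Subgroup G) ≤ Q := by
    intro y hy
    obtain ⟨n, hn⟩ := mem_zpowers_iff.mp (hz (QuotientGroup.mk ⟨y, hy⟩))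
    rw [← QuotientGroup.mk_zpow, QuotientGroup.eq, mem_subgroupOf] at hn
    have h1 := H1.pCore_le_sylow Q hn
    have h2 : (x : G) ^ n ∈ (Q : Subgroup G) := zpow_mem hQ n
    have := mul_mem h2 h1
    simpa using this
  exact Sylow.ext (P.is_maximal' Q.isPGroup' hle)

end Cfsg.Agent.S4348
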