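import Cfsg.Statements.S4349
import Cfsg.Agent.H21.SymSyl5

set_option autoImplicit false
open Cfsg

namespace Cfsg.Agent.S4349

/-- Let n ≥ 2 and let x be an element of 2-power order of the symmetric group of degree n. Then x lies in exactly one Sylow 2-subgroup if and only if x has at most two fixed points and the nontrivial cycles of x have pairwise different lengths. -/
theorem result (n : ℕ) (hn : 2 ≤ n)
    (x : Equiv.Perm (Fin n)) (hx : ∃ k : ℕ, orderOf x = 2 ^ k) :
    (∃! P : Sylow 2 (Equiv.Perm (Fin n)), x ∈ P) ↔ (n ≤ x.support.card + 2 ∧ x.cycleType.Nodup) := by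
  obtain ⟨k, hk⟩ := hx
  have h1 : IsPGroup 2 (Subgroup.zpowers x) := IsPGroup.of_card (by rw [Nat.card_zpowers, hk])
  have h2 := H21.US.F_iff (x := x)
  rw [Fintype.card_fin] at h2
  rw [← h2, ← H21.US.D_iff]
  refine ⟨fun ⟨P, _, hP⟩ => H21.US.FD_of_unique h1 hP, fun ⟨hF, hD⟩ => ?_⟩
  obtain ⟨P, hP⟩ := h1.exists_le_sylow
  have h3 := hP (Subgroup.mem_zpowers x)
  exact ⟨P, h3, fun Q hQ => H21.US.unique_fin n x hF hD Q P hQ h3⟩

end Cfsg.Agent.S4349
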