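import Cfsg.Statements.S4351
import Cfsg.Agent.H5.CT10
import Cfsg.Agent.H5.MZ6
import Cfsg.Agent.S3050
-- import your own Cfsg.Agent.* helpers here

set_option autoImplicit false
open Cfsg

namespace Cfsg.Agent.S4351
open H5


/-- Let G be a finite non-solvable group in which the centralizer of every non-identity element is nilpotent. Then G is a non-abelian simple group; or G has a normal subgroup of index 2 isomorphic to PSL(2, 9); or G has a nontrivial normal elementary abelian 2-subgroup N such that G/N is isomorphic to PSL(2, q) for some q = 2ⁿ ≥ 4 or is a simple group of Suzuki type (simple, of the order of a Suzuki group). -/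
theorem result {G : Type*} [Group G] [Finite G] (hG : ¬ Group.IsSolvable G)
    (hCN : ∀ x : G, x ≠ 1 → Group.IsNilpotent (Subgroup.centralizer ({x} : Set G))) :
    (IsSimpleGroup G ∧ ¬ IsMulCommutative G) ∨
    (∃ (N : Subgroup G), N.Normal ∧ N.index = 2 ∧ ∃ (F : Type) (_ : Field F) (_ : Fintype F), Fintype.card F = 9 ∧
        Nonempty (N ≃* Matrix.ProjectiveSpecialLinearGroup (Fin 2) F)) ∨
    (∃ (N : Subgroup G) (_ : N.Normal), N ≠ ⊥ ∧ IsPGroup 2 N ∧ IsMulCommutative N ∧ (∀ x ∈ N, x * x = 1) ∧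
        ((∃ (F : Type) (_ : Field F) (_ : Fintype F), CharP F 2 ∧ 4 ≤ Fintype.card F ∧
            Nonempty (G ⧸ N ≃* Matrix.ProjectiveSpecialLinearGroup (Fin 2) F)) ∨ Cfsg.IsSuzuki (G ⧸ N))) := by
  have hc := H5.cit_of_cn hCN hG
  have na : ¬ IsMulCommutative G := fun h => hG (Group.isSolvable_of_comm h.is_comm.comm)
  have fp : ∀ x : G, ∀ r : ℕ, r.Prime → r ≠ 2 → orderOf x = r → ∀ q ∈ pCore 2 G, x * q * x⁻¹ = q → q = 1 :=
    fun x r hr r2 hx q hq e => by
      by_contra q1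
      have := hc.pie (H5.pCore_pg.elt hq) q1 (mul_inv_eq_iff_eq_mul.1 e) r hr (hx ▸ dvd_rfl)
      exact r2 this
  rcases hc.all hG with h | ⟨F, _, _, k, hk, h, ⟨e⟩⟩ | ⟨F, _, _, -, ⟨e⟩⟩ | h
  · by_cases h0 : pCore 2 G = ⊥
    · have e : G ≃* G ⧸ pCore 2 G :=
        ((QuotientGroup.quotientMulEquivOfEq h0).trans QuotientGroup.quotientBot).symm
      refine Or.inl ⟨?_, na⟩
      rcases h with ⟨K, _, _, -, h4, ⟨f⟩⟩ | h
      · have := H11.psl2_simple h4
        exact (e.trans f).isSimpleGroup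
      · have := (H5.isSuzuki_of_iso h).1
        exact e.isSimpleGroup
    refine Or.inr (Or.inr ⟨pCore 2 G, inferInstance, h0, H5.pCore_pg.isPGroup, ?_⟩)
    rcases h with ⟨K, _, _, _, h4, ⟨f⟩⟩ | h
    · obtain ⟨n, -, hn⟩ := FiniteField.card K 2
      obtain ⟨g⟩ := H19.psl2_sl2 K
      have d : 3 ∣ Nat.card G := by
        refine dvd_trans ?_ (Subgroup.card_quotient_dvd_card (pCore 2 G))
        have c := H11.card_psl_two (F := K)
        rw [← Nat.card_congr f.toEquiv, H27.sq_sub_one_eq] at c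
        have g3 : Nat.Coprime 3 (Nat.gcd 2 (Fintype.card K - 1)) :=
          (by norm_num : Nat.Coprime 3 2).coprime_dvd_right (Nat.gcd_dvd_left _ _)
        refine g3.dvd_of_dvd_mul_left (c ▸ (H5.three_dvd_sq fun h3 => ?_).mul_left _)
        rw [hn] at h3
        exact absurd (Nat.prime_three.dvd_of_dvd_pow h3) (by norm_num)
      have : Fact (Nat.Prime 3) := ⟨Nat.prime_three⟩
      obtain ⟨x, hx⟩ := exists_prime_orderOf_dvd_card' 3 d
      have := (S3050.result (pCore 2 G) H5.pCore_pg.isPGroup n (by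
        by_contra! h
        have : 2 ^ (n : ℕ) ≤ 2 ^ 1 := Nat.pow_le_pow_right two_pos (by omega)
        omega) K hn (f.trans g) x hx (fp x 3 Nat.prime_three (by norm_num) hx)).1
      exact ⟨this.1, fun x hx => by rw [← sq]; exact this.2 x hx, Or.inl ⟨K, _, _, ‹_›, h4, ⟨f⟩⟩⟩
    · have hs := H5.isSuzuki_of_iso h
      obtain ⟨F, _, _, m, h1, h2, ⟨e⟩⟩ := h
      letI := H23.Sz.titsOfCard h2
      letI := (H23.Sz.lieModel h2).ofEquiv e
      have := H23.Sz.big_of_card_eq h1 h2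
      have hk := QuotientGroup.ker_mk' (pCore 2 G)
      have pg : IsPGroup 2 (QuotientGroup.mk' (pCore 2 G)).ker := hk.symm ▸ H5.pCore_pg.isPGroup
      obtain ⟨u, hu, u5⟩ := H5.MZ.exists_u (F := F) (QuotientGroup.mk'_surjective (pCore 2 G)) pg
      have : Fact (Nat.Prime 5) := ⟨Nat.prime_five⟩
      have hy : H5.MZ.Hy F (QuotientGroup.mk' (pCore 2 G)) u :=
        ⟨QuotientGroup.mk'_surjective _, pg, hu, hk.symm ▸ fp u 5 Nat.prime_five (by norm_num)
          (orderOf_eq_prime u5 fun e => H5.MZ.u5_ne_one (hu.symm.trans (by rw [e, map_one])))⟩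
      exact ⟨hk ▸ ⟨⟨hy.comm⟩⟩, fun x hx => congrArg Subtype.val (hy.sq ⟨x, hk.symm ▸ hx⟩), Or.inr hs⟩
  · have := H11.psl2_simple (F := F) (by
      have : 2 ^ 3 ≤ 2 ^ k := Nat.pow_le_pow_right two_pos hk
      omega)
    exact Or.inl ⟨e.isSimpleGroup, na⟩
  · have := H11.psl_simple (ι := Fin 3) (F := F) (by simp)
    exact Or.inl ⟨e.isSimpleGroup, na⟩
  · exact Or.inr (Or.inl h)

end Cfsg.Agent.S4351
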