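import Cfsg.Statements.S4358
import Mathlib

set_option autoImplicit false
open Cfsg

namespace Cfsg.Agent.S4358

open Matrix

section
variable {F ι : Type*} [Field F] [Fintype ι] [DecidableEq ι] [AddCommGroup ι]

/-- monomial matrix of shift type -/
def monM (d : ι → Fˣ) (k : ι) : Matrix ι ι F := of fun i j => if j = i - k then d i else 0

theorem monM_mul (d e : ι → Fˣ) (k l : ι) :
    monM d k * monM e l = monM (fun i => d i * e (i - k)) (k + l) := by
  ext i j
  simp only [monM, mul_apply, of_apply, ite_mul, zero_mul, Finset.sum_ite_eq', Finset.mem_univ, if_true]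
  simp [sub_sub]

omit [Fintype ι] in
theorem monM_one : monM (1 : ι → Fˣ) 0 = 1 := by
  ext i j; simp [monM, one_apply, eq_comm]

/-- monomial matrix as a unit -/
def mon (d : ι → Fˣ) (k : ι) : GL ι F :=
  ⟨monM d k, monM (fun i => (d (i + k))⁻¹) (-k), by simp [monM_mul, ← monM_one]; rfl,
    by simp [monM_mul, ← monM_one]; rfl⟩

theorem mon_mul (d e : ι → Fˣ) (k l : ι) :
    mon d k * mon e l = mon (fun i => d i * e (i - k)) (k + l) := Units.ext (monM_mul d e k l)

theorem mon_apply (d : ι → Fˣ) (k i j : ι) : (mon d k).1 i j = if j = i - k then (d i : F) else 0 := rfl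

theorem mon_pow (d : ι → Fˣ) (k : ι) (n : ℕ) : ∃ e, mon d k ^ n = mon e (n • k) := by
  induction n with
  | zero => exact ⟨1, Units.ext (by rw [zero_nsmul]; exact monM_one.symm)⟩
  | succ n ih => obtain ⟨e, he⟩ := ih; exact ⟨_, by rw [pow_succ, he, mon_mul, succ_nsmul]⟩

theorem mon_inj {d e : ι → Fˣ} {k l : ι} [Nonempty ι] (h : mon d k = mon e l) : d = e ∧ k = l := by
  have h1 := fun i => congrArg (fun g : GL ι F => g.1 i (i - k)) h
  simp only [mon_apply, if_true, sub_right_inj] at h1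
  have h2 : k = l := by_contra fun h2 => by simpa [h2] using h1 0
  exact ⟨funext fun i => Units.ext (by simpa [h2] using h1 i), h2⟩

variable (F ι) in
/-- the wreath product -/
def W (p : ℕ) : Subgroup (GL ι F) where
  carrier := Set.range fun x : (ι → rootsOfUnity p F) × ι => mon (fun i => x.1 i) x.2
  one_mem' := ⟨(1, 0), Units.ext monM_one⟩
  mul_mem' := by
    rintro _ _ ⟨⟨d, k⟩, rfl⟩ ⟨⟨e, l⟩, rfl⟩
    exact ⟨(fun i => d i * e (i - k), k + l), (mon_mul (fun i => (d i).1) (fun i => (e i).1) k l).symm⟩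
  inv_mem' := by
    rintro _ ⟨⟨d, k⟩, rfl⟩
    exact ⟨(fun i => (d (i + k))⁻¹, -k), Units.ext rfl⟩

theorem row {p : ℕ} {ω : Fˣ} (hω : ω ∈ rootsOfUnity p F) (h1 : ω ≠ 1) (h2 : ∀ k : ι, k + k = 0 → k = 0)
    {y : GL ι F} (hy : y ∈ Subgroup.normalizer (W F ι p : Set (GL ι F))) {i j l : ι} (hl : l ≠ j)
    (h : y.1 i j ≠ 0) : y.1 i l = 0 := by
  obtain ⟨⟨e, k⟩, he⟩ := (Subgroup.mem_normalizer_iff.1 hy _).1
    (⟨(Pi.mulSingle j ⟨ω, hω⟩, 0), rfl⟩ : _ ∈ W F ι p)
  simp only at he
  have tr : ∀ u : GL ι F, trace (y * u * y⁻¹).1 = trace u.1 := fun u => trace_units_conj y u.1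
  have t0 : ∀ (d : ι → Fˣ) k, k ≠ 0 → trace (mon d k).1 = 0 := fun d k hk =>
    Finset.sum_eq_zero fun i _ => by simp [mon_apply, eq_sub_iff_add_eq, hk]
  have t1 : ∀ d : ι → Fˣ, trace (mon d 0).1 = d j + ∑ i ∈ Finset.univ.erase j, (d i : F) := fun d => by
    rw [Finset.add_sum_erase _ (fun i => (d i : F)) (Finset.mem_univ j)]
    exact Finset.sum_congr rfl fun i _ => by simp [mon_apply]
  obtain rfl : k = 0 := by_contra fun hk => by
    have e1 := tr _ ▸ he ▸ t0 _ k hk
    have e2 := t0 (fun i => e i * e (i - k)) _ (mt (h2 k) hk)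
    rw [← mon_mul (fun i => (e i).1) (fun i => (e i).1), he, conj_mul, tr, mon_mul, add_zero, t1] at e2
    rw [t1] at e1
    rw [Finset.sum_congr rfl (g := fun _ => 1) fun i hi => by
      simp [Finset.ne_of_mem_erase hi]] at e1 e2
    exact h1 (by simpa using e1.trans e2.symm)
  have e1 := fun l => congrArg (fun g : GL ι F => g.1 i l) (eq_mul_inv_iff_mul_eq.1 he)
  simp only [Units.val_mul, mul_apply, mon_apply, sub_zero, ite_mul, zero_mul, Finset.sum_ite_eq',
    Finset.mem_univ, if_true, mul_ite, mul_zero, Finset.sum_ite_eq] at e1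
  have e2 := e1 j
  have e3 := e1 l
  rw [Pi.mulSingle_eq_same, mul_comm] at e2
  rw [Pi.mulSingle_eq_of_ne hl, mul_left_cancel₀ h e2] at e3
  by_contra h3
  exact h1 (Units.ext (mul_right_cancel₀ h3 (by simpa using e3)))

theorem exists_comm {p : ℕ} (hp : p.Prime) (p2 : p ≠ 2) (hι : Nat.card ι = p) (hF : (p : F) ≠ 0)
    {c : F} (c0 : c ≠ 0) (c1 : c ≠ 1) (d : ι → Fˣ) {k : ι} (hk : k ≠ 0) :
    ∃ y : GL ι F, Commute y (mon d k) ∧ y.1 0 (-k) ≠ 0 ∧ y.1 0 (-(2 • k)) ≠ 0 := by
  haveI := Fact.mk hp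
  have ho : addOrderOf k = p := addOrderOf_eq_prime (hι ▸ card_nsmul_eq_zero') hk
  have p3 : 2 < p := hp.two_le.lt_of_ne' p2
  set x := (mon d k).1 with hx
  have hN : ∀ m < p, (∑ n ∈ Finset.range p, x ^ n) 0 (-(m • k)) ≠ 0 := fun m hm => by
    obtain ⟨e, he⟩ := mon_pow d k m
    rw [Matrix.sum_apply, Finset.sum_eq_single_of_mem m (Finset.mem_range.2 hm) fun n hn h => ?_]
    · simp [hx, ← Units.val_pow_eq_pow_val, he, mon_apply]
    · obtain ⟨e, he⟩ := mon_pow d k n
      have := nsmul_injOn_Iio_addOrderOf (x := k) |>.ne (ho ▸ hm) (ho ▸ Finset.mem_range.1 hn) h.symm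
      simp [hx, ← Units.val_pow_eq_pow_val, he, mon_apply, this]
  obtain ⟨a, ha⟩ : ∃ a : F, x ^ p = a • 1 := by
    obtain ⟨e, he⟩ := mon_pow d k p
    rw [← ho, addOrderOf_nsmul_eq_zero, ho] at he
    have h1 := ((Commute.refl (mon d k)).pow_left p).eq
    rw [he, mon_mul, mon_mul] at h1
    have h2 : ∀ i, e (i - k) = e i := fun i => by
      simpa [mul_comm (e i)] using (congrFun (mon_inj h1).1 i).symm
    have h3 : ∀ n : ℕ, e (n • k) = e 0 := fun n => by
      induction n with
      | zero => simp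
      | succ n ih => rw [← h2, succ_nsmul, add_sub_cancel_right, ih]
    refine ⟨e 0, ?_⟩
    ext i j
    obtain ⟨n, rfl⟩ := mem_multiples_of_prime_card hι hk (g' := i)
    simp [hx, ← Units.val_pow_eq_pow_val, he, mon_apply, one_apply, eq_comm, h3]
  have hc : Commute (∑ n ∈ Finset.range p, x ^ n) x :=
    Commute.sum_left _ _ _ fun n _ => (Commute.refl x).pow_left n
  have h4 := geom_sum_mul x p
  rcases eq_or_ne a 1 with rfl | h
  · set N := ∑ n ∈ Finset.range p, x ^ n with hN'
    have h5 : ∀ n : ℕ, N * x ^ n = N := fun n => by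
      induction n with
      | zero => simp
      | succ n ih =>
        rw [pow_succ, ← mul_assoc, ih, ← sub_eq_zero, ← mul_sub_one, h4, ha, one_smul, sub_self]
    have h6 : N * N = (p : F) • N := by
      conv_lhs => arg 2; rw [hN']
      simp [Finset.mul_sum, h5, Nat.cast_smul_eq_nsmul]
    have h7 : (1 + ((c - 1) / p) • N) * (1 + ((c⁻¹ - 1) / p) • N) = 1 := by
      simp only [mul_add, add_mul, one_mul, mul_one, smul_mul_smul_comm, h6, smul_smul, add_assoc,
        ← add_smul]
      rw [show (c - 1) / p + ((c⁻¹ - 1) / p + (c - 1) / p * ((c⁻¹ - 1) / p) * p) = 0 by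
        field_simp; ring, zero_smul, add_zero]
    have h8 : (c - 1) / p ≠ 0 := div_ne_zero (sub_ne_zero.2 c1) hF
    have h9 : 2 • k ≠ 0 := fun e => by
      have := Nat.le_of_dvd two_pos (ho ▸ addOrderOf_dvd_of_nsmul_eq_zero e); omega
    refine ⟨⟨_, _, h7, mul_eq_one_comm.1 h7⟩, Units.ext ((Commute.one_left x).add_left
      (hc.smul_left _)).eq, ?_, ?_⟩
    · simpa [one_apply, hk, h8] using hN 1 hp.one_lt
    · simpa [one_apply, h9, h8] using hN 2 p3
  · have h7 : (∑ n ∈ Finset.range p, x ^ n) * ((a - 1)⁻¹ • (x - 1)) = 1 := by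
      rw [mul_smul_comm, h4, ha, show a • (1 : Matrix ι ι F) - 1 = (a - 1) • 1 by simp [sub_smul],
        inv_smul_smul₀ (sub_ne_zero.2 h)]
    exact ⟨⟨_, _, h7, mul_eq_one_comm.1 h7⟩, Units.ext hc.eq, by simpa using hN 1 hp.one_lt, hN 2 p3⟩

end

theorem fact_gl {F : Type*} [Field F] [Fintype F] (p : ℕ) [hp : Fact p.Prime]
    (p2 : p ≠ 2) (h1 : p ∣ Fintype.card F - 1) (h2 : ¬ p ^ 2 ∣ Fintype.card F - 1) :
    (Nat.card (GL (Fin p) F)).factorization p = p + 1 := by
  have q1 : 1 < Fintype.card F := Fintype.one_lt_card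
  have h3 : ¬ p ∣ Fintype.card F := fun h => hp.out.one_lt.ne' (Nat.dvd_one.1 (by
    simpa [Nat.sub_sub_self q1.le] using Nat.dvd_sub h h1))
  have h4 : padicValNat p (Fintype.card F - 1) = 1 := le_antisymm (by
    by_contra h; exact h2 ((padicValNat_dvd_iff_le (by omega)).2 (by omega)))
    (one_le_padicValNat_of_dvd (by omega) h1)
  have h5 : ∀ i : Fin p, Fintype.card F ^ (p - i) - 1 ≠ 0 := fun i =>
    (Nat.sub_pos_of_lt (Nat.one_lt_pow (by omega) q1)).ne'
  have h6 : ∀ i : Fin p, Fintype.card F ^ p - Fintype.card F ^ (i : ℕ) =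
      Fintype.card F ^ (i : ℕ) * (Fintype.card F ^ (p - i) - 1) := fun i => by
    rw [Nat.mul_sub_one, ← pow_add, Nat.add_sub_cancel' i.2.le]
  haveI : NeZero p := ⟨hp.out.ne_zero⟩
  rw [card_GL_field, Nat.factorization_prod_apply fun i _ => by
    rw [h6]; exact mul_ne_zero (by positivity) (h5 i),
    Finset.sum_congr rfl (g := fun i => 1 + if i = 0 then 1 else 0) fun i _ => ?_]
  · simp [Finset.sum_add_distrib]
  have := padicValNat.pow_sub_pow (hp.out.odd_of_ne_two p2) q1 h1 h3 (n := p - i) (by omega)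
  rw [one_pow, h4] at this
  rw [h6, Nat.factorization_def _ hp.out, padicValNat.mul (by positivity) (h5 i), this,
    padicValNat.eq_zero_of_not_dvd (mt hp.out.dvd_of_dvd_pow h3), zero_add]
  split_ifs with h
  · simp [h]
  · have : (i : ℕ) ≠ 0 := fun e => h (Fin.ext e)
    rw [padicValNat.eq_zero_of_not_dvd (Nat.not_dvd_of_pos_of_lt (by omega) (by omega))]

/-- Let p be an odd prime and F a finite field with q elements such that p divides q - 1 but p² does not. Then GL(p, F) has a Sylow p-subgroup Q such that every element of p-power order lies in some Sylow p-subgroup other than Q (a redundant Sylow p-subgroup). -/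
theorem result {F : Type*} [Field F] [Fintype F] (p : ℕ) [Fact p.Prime]
    (hp : p ≠ 2) (h1 : p ∣ Fintype.card F - 1) (h2 : ¬ p ^ 2 ∣ Fintype.card F - 1) :
    ∃ Q : Sylow p (Matrix.GeneralLinearGroup (Fin p) F), ∀ x : Matrix.GeneralLinearGroup (Fin p) F,
      (∃ k : ℕ, orderOf x = p ^ k) → ∃ P : Sylow p (Matrix.GeneralLinearGroup (Fin p) F), P ≠ Q ∧ x ∈ P := by
  classical
  have pp : p.Prime := Fact.out
  haveI : NeZero p := ⟨pp.ne_zero⟩
  obtain ⟨ω, hω⟩ := exists_prime_orderOf_dvd_card' (G := Fˣ) p (by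
    rwa [Nat.card_units, Nat.card_eq_fintype_card])
  have pr : IsPrimitiveRoot (ω : F) p := hω ▸ IsPrimitiveRoot.coe_units_iff.2 (IsPrimitiveRoot.orderOf ω)
  have ω1 : ω ≠ 1 := by rintro rfl; exact pp.one_lt.ne (by simpa using hω)
  have hW : Nat.card (W F (Fin p) p) = p ^ (Nat.card (GL (Fin p) F)).factorization p := by
    rw [fact_gl p hp h1 h2]
    refine (Nat.card_range_of_injective fun a b e => Prod.ext (funext fun i =>
      Subtype.ext (congrFun (mon_inj e).1 i)) (mon_inj e).2).trans ?_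
    rw [Nat.card_prod, Nat.card_fun, pr.card_rootsOfUnity, pow_succ, Nat.card_fin]
  have k2 : ∀ k : Fin p, k + k = 0 → k = 0 := fun k hk => by_contra fun h => by
    have := addOrderOf_dvd_of_nsmul_eq_zero ((two_nsmul k).trans hk)
    rw [addOrderOf_eq_prime (p := p) (by simpa using card_nsmul_eq_zero' (x := k)) h] at this
    exact hp ((Nat.prime_dvd_prime_iff_eq pp Nat.prime_two).1 this)
  set Q := Sylow.ofCard _ hW with hQ
  have nm : ∀ x ∈ Q, (∀ P : Sylow p (GL (Fin p) F), x ∈ P → P = Q) → ∀ y, Commute y x →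
      ∀ i j l, l ≠ j → y.1 i j ≠ 0 → y.1 i l = 0 := fun x hx h y hy i j l =>
    row (hω ▸ pow_orderOf_eq_one ω :) ω1 k2 (Sylow.smul_eq_iff_mem_normalizer.1 (h (y • Q) (by
      have := Subgroup.smul_mem_pointwise_smul x (MulAut.conj y) _ hx
      rwa [MulAut.smul_def, MulAut.conj_apply, hy.eq, mul_inv_cancel_right] at this)))
  have main : ∀ d k, k ≠ 0 → mon d k ∈ Q →
      ¬ ∀ P : Sylow p (GL (Fin p) F), mon d k ∈ P → P = Q := fun d k hk hx h => by
    obtain ⟨y, hy, e1, e2⟩ := exists_comm pp hp (by simp) pr.neZero'.1 ω.ne_zero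
      (mt Units.val_eq_one.1 ω1) d hk
    exact e2 (nm _ hx h y hy _ _ _ (by simpa [two_nsmul] using hk) e1)
  refine ⟨Q, fun x ⟨n, hn⟩ => by_contra fun h => ?_⟩
  replace h : ∀ P : Sylow p (GL (Fin p) F), x ∈ P → P = Q := fun P hP =>
    by_contra fun e => h ⟨P, e, hP⟩
  have hx : x ∈ Q := by
    obtain ⟨P, hP⟩ := (IsPGroup.of_card ((Nat.card_zpowers x).trans hn)).exists_le_sylow
    exact h P (hP (Subgroup.mem_zpowers x)) ▸ hP (Subgroup.mem_zpowers x)
  obtain ⟨⟨d, k⟩, rfl⟩ := id hx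
  refine main _ k (fun hk => ?_) hx h
  subst hk
  by_cases hd : Function.Injective d
  · have hd' : Function.Injective fun i => ((d i).1 : F) :=
      Units.val_injective.comp (Subtype.val_injective.comp hd)
    set g := GeneralLinearGroup.mkOfDetNeZero _ (det_vandermonde_ne_zero_iff.2 hd')
    have e : mon (fun i => d i) 0 * g = g * mon 1 1 := Units.ext (by
      ext i j
      simp only [Units.val_mul, mul_apply, mon_apply, sub_zero, ite_mul, zero_mul, Finset.sum_ite_eq',
        Finset.mem_univ, if_true, mul_ite, mul_zero, eq_sub_iff_add_eq, Finset.sum_ite_eq,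
        Pi.one_apply, Units.val_one, mul_one]
      change _ * ((d i).1 : F) ^ (j : ℕ) = ((d i).1 : F) ^ ((j + 1 : Fin p) : ℕ)
      rw [Fin.val_add, Fin.val_one', Nat.add_mod_mod, ← pow_succ',
        ← pow_eq_pow_mod _ ((mem_rootsOfUnity' p _).1 (d i).2)])
    have e1 : ∀ P : Sylow p (GL (Fin p) F), mon 1 1 ∈ P → g • P = Q := fun P hP => h _ (by
      have := Subgroup.smul_mem_pointwise_smul _ (MulAut.conj g) _ hP
      rwa [MulAut.smul_def, MulAut.conj_apply, ← e, mul_inv_cancel_right] at this)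
    have e2 : mon 1 1 ∈ Q := ⟨(1, 1), rfl⟩
    refine main 1 1 (fun e => pp.one_lt.ne' ?_) e2 fun P hP =>
      MulAction.injective g ((e1 P hP).trans (e1 Q e2).symm)
    simpa using congrArg Fin.val e
  · obtain ⟨i, j, e, hij⟩ := Function.not_injective_iff.1 hd
    have := nm _ hx h ⟨transvection i j (1 : F), transvection i j (-1), by
      simp [transvection_mul_transvection_same _ _ hij], by
      simp [transvection_mul_transvection_same _ _ hij]⟩ (Units.ext (by
        ext a b
        simp only [Units.val_mul, mul_apply, mon_apply, sub_zero, ite_mul, zero_mul, Finset.sum_ite_eq',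
          Finset.mem_univ, if_true, mul_ite, mul_zero, Finset.sum_ite_eq, transvection, Matrix.add_apply,
          one_apply, single_apply]
        by_cases h1 : a = b
        · rw [h1, mul_comm]
        by_cases h2 : i = a ∧ j = b
        · rw [← h2.1, ← h2.2, e, mul_comm]
        · rw [if_neg h1, if_neg h2, add_zero, zero_mul, mul_zero])) i i j hij.symm (by simp [transvection, hij.symm])
    simp [transvection, hij] at this

end Cfsg.Agent.S4358
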