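import Cfsg.Statements.S4360
import Cfsg.Agent.H22.FH6
import Cfsg.Agent.H8.FS9

set_option autoImplicit false
open Cfsg

namespace Cfsg.Agent.S4360

/-- Inside a finite group let R be a subgroup of prime order r normalizing an extraspecial s-subgroup F (for some prime s) with [F, R] = F, and let X be a subgroup normalized by R and F, meeting RF trivially, of order prime to r, on which F acts without non-identity fixed points (X ∩ C(F) = 1). Then the Fitting subgroup of the fixed-point subgroup C_X(R) is contained in the Fitting subgroup of X. -/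
theorem result {Γ : Type*} [Group Γ] [Finite Γ]
    (R F X : Subgroup Γ) (r s : ℕ) (hr : r.Prime) (hs : s.Prime) (hR : Nat.card R = r) (hF : Cfsg.IsExtraspecial s F)
    (hRF : R ≤ Subgroup.normalizer (F : Set Γ)) (hcomm : ⁅F, R⁆ = F)
    (hRX : R ≤ Subgroup.normalizer (X : Set Γ)) (hFX : F ≤ Subgroup.normalizer (X : Set Γ)) (hdisj : (R ⊔ F) ⊓ X = ⊥)
    (hcop : ¬ r ∣ Nat.card X) (hCF : X ⊓ Subgroup.centralizer (F : Set Γ) = ⊥) :
    (Cfsg.fittingSubgroup ↥(X ⊓ Subgroup.centralizer (R : Set Γ))).map (X ⊓ Subgroup.centralizer (R : Set Γ)).subtype ≤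
      (Cfsg.fittingSubgroup X).map X.subtype := by
  exact H22.FH.s4360 H8.FS.main hr hs hR hF hRF hcomm hRX hFX hcop hCF

end Cfsg.Agent.S4360
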