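import Cfsg.Statements.S4367
import Cfsg.Agent.H4.FX1

set_option autoImplicit false
open Cfsg

namespace Cfsg.Agent.S4367

/-- Let N be a non-solvable normal subgroup of a finite group G and m a natural number dividing the size of the conjugacy class in G of every element of N of prime-power order lying outside the center of N. Then m divides the order of the center of N. -/
theorem result {G : Type*} [Group G] [Finite G]
    (N : Subgroup G) [N.Normal] (hN : ¬ Group.IsSolvable N) (m : ℕ)
    (h : ∀ x : G, x ∈ N → (∃ y ∈ N, x * y ≠ y * x) → IsPrimePow (orderOf x) → m ∣ (Subgroup.centralizer ({x} : Set G)).index) :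
    m ∣ Nat.card (Subgroup.center N) := by
  refine (Nat.dvd_iff_prime_pow_dvd_dvd _ _).2 fun p k hp hk => ?_
  rcases eq_or_ne k 0 with rfl | k0
  · simp
  have := H4.FX.main hN hp k0 fun x hx c o => hk.trans (h x hx (by
    by_contra! e
    exact c fun y hy => (e y hy).symm) o)
  rw [← Subgroup.card_map_of_injective N.subtype_injective]
  refine this.trans (dvd_of_eq (congrArg (fun H : Subgroup G => Nat.card H) (Subgroup.ext fun x => ⟨fun e => ?_, ?_⟩)))
  · exact ⟨⟨x, e.1⟩, Subgroup.mem_center_iff.2 fun g => Subtype.ext (e.2 g g.2), rfl⟩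
  · rintro ⟨y, hy, rfl⟩
    exact ⟨y.2, fun g hg => congrArg Subtype.val (Subgroup.mem_center_iff.1 hy ⟨g, hg⟩)⟩

end Cfsg.Agent.S4367
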