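import Cfsg.Statements.S4391
import Cfsg.Agent.H22.FH3
import Cfsg.Agent.H8.FS9

set_option autoImplicit false
open Cfsg

namespace Cfsg.Agent.S4391

/-- Let the finite group A act faithfully on the finite group G by automorphisms, and suppose A is a Frobenius group with kernel F (a normal subgroup) and complement H such that F fixes only the identity of G; write C for the fixed-point subgroup C_G(H) (the orders of G and A need not be coprime). Then for every prime p, G and C have the same p-length: for each k, G has p-length at most k (O_{p′,p,p′,…,p,p′}(G) = G with k occurrences of p) exactly when C has p-length at most k. -/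
theorem result {G A : Type*} [Group G] [Finite G] [Group A] [Finite A] [MulDistribMulAction A G] [FaithfulSMul A G]
    (Fk Hc : Subgroup A) [Fk.Normal] (hHc : Cfsg.IsFrobeniusComplement Hc) (hker : Cfsg.frobeniusKernel Hc = (Fk : Set A))
    (hCF : ∀ g : G, (∀ f ∈ Fk, f • g = g) → g = 1)
    (C : Subgroup G) (hC : ∀ g : G, g ∈ C ↔ ∀ h ∈ Hc, h • g = g) (p : ℕ) [Fact p.Prime] (k : ℕ) :
    Cfsg.PLengthLE p k G ↔ Cfsg.PLengthLE p k ↥C := by
  exact H22.FH.s4391 H8.FS.main hHc hker hCF C hC p k

end Cfsg.Agent.S4391
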