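import Cfsg.Statements.S4418
import Cfsg.Agent.H7.AbStr
import Cfsg.Agent.H4.Res2
import Cfsg.Agent.H25.KL3
import Cfsg.Agent.H10.QD

set_option autoImplicit false
open Cfsg

namespace Cfsg.Agent.S4418

open Subgroup

theorem sq_of_dqs {P Q : Type*} [Group P] [Finite P] [CommGroup Q] (hP : IsPGroup 2 P)
    (h : H4.DQS P) (f : P →* Q) (x : P) : f x ^ 2 = 1 := by
  rcases h with ⟨m, -, ⟨e⟩⟩ | h | ⟨m, hm, ⟨e⟩⟩
  · obtain ⟨y, rfl⟩ := e.symm.surjective x
    have k : ∀ i, f (e.symm (.sr i)) ^ 2 = 1 := fun i => by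
      rw [← map_pow, ← map_pow, sq, DihedralGroup.sr_mul_self, map_one, map_one]
    rcases y with i | i
    · rw [show DihedralGroup.r i = .sr 0 * .sr i by simp, map_mul, map_mul, mul_pow, k, k, mul_one]
    · exact k i
  · obtain ⟨n, a, b, h⟩ := H10.exists_QD_top h
    have k1 : f a ^ 2 = 1 := by
      obtain ⟨s, t, e⟩ := (Int.isCoprime_two_right.2 h.mc.odd).pow_right (n := n)
      have e1 := congrArg f (h.mc.conj b trivial h.y_out)
      rw [map_mul, map_mul, map_inv, mul_inv_cancel_comm, map_zpow, zpow_add_one, eq_comm,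
        mul_eq_right, zpow_mul] at e1
      have e2 := congrArg f (h.mc.eq_one_iff.2 (dvd_mul_left _ 2))
      rw [map_zpow, zpow_mul, map_one] at e2
      rw [← zpow_ofNat, ← zpow_one (_ ^ _), ← e, zpow_add, zpow_mul', zpow_mul' _ t, e1, e2]
      simp
    have k2 : ∀ i : ℤ, f (a ^ i) ^ 2 = 1 := fun i => by
      rw [map_zpow, ← zpow_natCast, zpow_comm, zpow_natCast, k1, one_zpow]
    rcases h.mc.cases trivial h.y_out (mem_top x) with ⟨i, rfl⟩ | ⟨i, rfl⟩
    · exact k2 i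
    · rw [map_mul, mul_pow, k2, ← map_pow, h.y_sq, map_one, mul_one]
  · obtain ⟨y, rfl⟩ := e.symm.surjective x
    have k : ∀ i, f (e.symm (.a i)) ^ 2 = 1 := fun i => by
      have := congrArg (fun y => f (e.symm y)) (show QuaternionGroup.a i * .xa 0 * .a i = .xa 0 by simp)
      simp only [map_mul] at this
      rw [mul_right_comm, mul_eq_right] at this
      rwa [sq]
    rcases y with i | i
    · exact k i
    · obtain ⟨n, hn⟩ := hP.exists_card_eq
      have : NeZero m := ⟨by omega⟩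
      rw [Nat.card_congr e.toEquiv, Nat.card_eq_fintype_card, QuaternionGroup.card] at hn
      obtain ⟨c, rfl⟩ : 2 ∣ m := by
        have : 2 < n := (Nat.pow_lt_pow_iff_right one_lt_two).1 (by omega)
        have : 2 ^ 3 ∣ 4 * m := hn ▸ pow_dvd_pow 2 this
        omega
      rw [← map_pow, ← map_pow, QuaternionGroup.xa_sq, ← k c, ← map_pow, ← map_pow, sq,
        QuaternionGroup.a_mul_a, Nat.cast_mul, Nat.cast_ofNat,
        two_mul (c : ZMod (2 * (2 * c)))]

theorem solv_of_sq {G : Type*} [Group G] [Finite G] (S : Sylow 2 G)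
    (h1 : ∀ a ∈ S, ∀ b ∈ S, a * b = b * a) (h2 : ∀ a ∈ S, a * a = 1 → ∃ w ∈ S, a = w * w) :
    Group.IsSolvable G := by
  refine H7.solvable_of_quotient (by_contra fun hn => ?_)
  have h3 := (H28.isSylowIn_top S).map (QuotientGroup.mk' (pPrimeCore 2 G))
  rw [map_top_of_surjective _ (QuotientGroup.mk'_surjective _)] at h3
  have h4 : ∀ a ∈ map (QuotientGroup.mk' (pPrimeCore 2 G)) S,
      ∀ b ∈ map (QuotientGroup.mk' (pPrimeCore 2 G)) S, a * b = b * a := by
    rintro _ ⟨a, ha, rfl⟩ _ ⟨b, hb, rfl⟩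
    rw [← map_mul, h1 a ha b hb, map_mul]
  obtain ⟨J, hJ⟩ := H7.exists_abC H1.pPrimeCore_quotient_pPrimeCore h3
    (fun a ha b hb => h4 b hb a ha) hn
  obtain ⟨_, ⟨⟨a, ha, rfl⟩, h5⟩, h6⟩ := hJ.exists_ne_one
  obtain ⟨w, hw, rfl⟩ := h2 a ha (by
    have := hJ.sq _ ⟨⟨a, ha, rfl⟩, h5⟩
    rw [← map_mul, QuotientGroup.mk'_apply, QuotientGroup.eq_one_iff] at this
    exact (disjoint_def.1 (disjoint_of_coprime_natCard (H := pPrimeCore 2 G) (K := S) (by
      rw [S.card_eq_multiplicity]; exact H1.pPrimeCore_coprime.pow_right _)) this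
      (S.1.mul_mem ha ha)))
  obtain ⟨t, ht, h7⟩ := hJ.dec (mem_map_of_mem _ hw)
  refine h6 (hJ.eq_one h5 ?_)
  have := mul_mem h7 h7
  rwa [mul_assoc, ← mul_assoc _ t⁻¹, h4 _ (mem_map_of_mem _ hw) _ (inv_mem ht.1), mul_assoc,
    ← mul_assoc, ← mul_inv_rev, hJ.sq t ht, inv_one, one_mul, ← map_mul] at this

/-- Let G be a finite group whose Sylow 2-subgroup S is metacyclic via a cyclic normal subgroup N of S with S/N cyclic of order greater than 2. Then G is soluble. -/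
theorem result {G : Type*} [Group G] [Finite G] (S : Sylow 2 G) (N : Subgroup ↥(S : Subgroup G)) [hN : N.Normal] (hNc : IsCyclic N) (hQc : IsCyclic (↥(S : Subgroup G) ⧸ N)) (hQ : 2 < Nat.card (↥(S : Subgroup G) ⧸ N)) : Group.IsSolvable G := by
  have := Fact.mk Nat.prime_two
  have hS := S.isPGroup'
  have h1 : ¬ ∀ x : S ⧸ N, x ^ 2 = 1 := fun h => by
    obtain ⟨g, hg⟩ := IsCyclic.exists_ofOrder_eq_natCard (α := S ⧸ N)
    have := Nat.le_of_dvd two_pos (orderOf_dvd_of_pow_eq_one (h g))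
    omega
  have h2 : ¬ H4.DQS S := fun h => h1 fun x => by
    let := IsCyclic.commGroup (α := S ⧸ N)
    obtain ⟨y, rfl⟩ := QuotientGroup.mk'_surjective N x
    exact sq_of_dqs hS h _ y
  have h3 := H25.FS.sat_ofSub hS (H25.syl_sylow S)
  have hm : IsMetacyclic S := ⟨N, hN, hNc, hQc⟩
  by_cases c : ∀ α : MulAut S, (orderOf α).Coprime 2 → α = 1
  · have := (H25.FS.ofSub_eq_inner_iff hS (H25.syl_sylow S)).1
      (H4.eq_inner_of_nm h3 (H4.nm_of_meta_two h3 (H25.FS.sc_S _) hm h2) c)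
    have := H7.solvable_of_hasNPC this
    exact Group.isSolvable_of_surjective (f := (⊤ : Subgroup G).subtype) fun x => ⟨⟨x, trivial⟩, rfl⟩
  push Not at c
  obtain ⟨α, h4, h5⟩ := c
  rcases H4.meta_odd hS hm h4 h5 with h | ⟨n, ⟨e⟩⟩
  · exact absurd (Or.inr (Or.inr ⟨2, le_rfl, h⟩)) h2
  rcases n with - | n
  · refine absurd (fun x => ?_) h1
    obtain ⟨y, rfl⟩ := QuotientGroup.mk'_surjective N x
    have : Subsingleton (ZMod (2 ^ 0)) := inferInstanceAs (Subsingleton (ZMod 1))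
    rw [← map_pow, e.injective (Subsingleton.elim _ _ : e (y ^ 2) = e 1), map_one]
  obtain ⟨k1, k2, k3, -⟩ := H4.homoc_facts e
  rcases n with - | n
  · refine absurd (fun x => ?_) h1
    obtain ⟨y, rfl⟩ := QuotientGroup.mk'_surjective N x
    rw [← map_pow, show y ^ 2 = 1 from k2 y, map_one]
  refine solv_of_sq S (fun a ha b hb => congrArg Subtype.val (k1 ⟨a, ha⟩ ⟨b, hb⟩)) fun a ha h => ?_
  obtain ⟨w, hw⟩ := k3 ⟨a, ha⟩ (Subtype.ext ((sq a).trans h))
  exact ⟨_, (w ^ 2 ^ n).2, by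
    rw [pow_succ, pow_mul, sq] at hw; exact congrArg Subtype.val hw⟩

end Cfsg.Agent.S4418
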