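import Cfsg.Statements.S4523
import Cfsg.Agent.H7.RE2

set_option autoImplicit false
open Cfsg

open H5 H28 H8 H7

namespace Cfsg.Agent.S4523

/-- Let S be a non-abelian finite simple group with commutative Sylow 2-subgroups and M a maximal ideal of the algebraic integers containing 2. Let k be a natural number with g ^ k = g for every 2-element g and g ^ k = g⁻¹ for every element g of odd order. Then S has an irreducible character χ₁ of even degree with χ₁ (g ^ k) = χ₁ g for all g, and its principal 2-block contains a character χ₂ other than the principal character with χ₂ (g ^ k) = χ₂ g for all g. -/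
theorem result {S : Type*} [Group S] [Finite S] [IsSimpleGroup S] (hna : ¬ IsMulCommutative S) (P : Sylow 2 S) (hP : IsMulCommutative P) (M : Ideal Cfsg.AlgInt) (hM : Cfsg.IsPModular 2 M) (k : ℕ) (hk₁ : ∀ g : S, (∃ j : ℕ, orderOf g = 2 ^ j) → g ^ k = g) (hk₂ : ∀ g : S, Odd (orderOf g) → g ^ k = g⁻¹) : (∃ χ₁ : Cfsg.IrrCharacter S, Even (Cfsg.charDegree (χ₁ : S → ℂ)) ∧ ∀ g : S, (χ₁ : S → ℂ) (g ^ k) = (χ₁ : S → ℂ) g) ∧ ∃ χ₂ ∈ Cfsg.principalBlock M S, (χ₂ : S → ℂ) ≠ (fun _ => 1) ∧ ∀ g : S, (χ₂ : S → ℂ) (g ^ k) = (χ₂ : S → ℂ) g := by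
  haveI := Fact.mk Nat.prime_two
  have h0 : IsSylowIn 2 (P : Subgroup S) ⊤ := isSylowIn_top P
  obtain ⟨h1, ⟨t, ht⟩, χ, h2, h3⟩ := RE.main hna h0 hP
  have key : ∀ (ψ : IrrCharacter S), irrStar ψ = ψ → ∀ g, ψ.1 (g ^ k) = ψ.1 g := fun ψ h g => by
    obtain ⟨x, y, rfl, hc, hx, hy⟩ := exists_isPPart (p := 2) g
    obtain ⟨a, -, ha⟩ := h0.exists_conj_le (IsPElt.isPGroup_zpowers hx) le_top
    have h4 := h1 _ (ha (conj_mem_cj (Subgroup.mem_zpowers x)))
    rw [conj_mul, conj_eq_one_iff] at h4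
    rw [hc.mul_pow, hk₁ x hx, hk₂ y (Nat.odd_iff.2 (Nat.two_dvd_ne_zero.1 hy)),
      ← congrFun (congrArg Subtype.val h) (x * y), irrStar_apply', mul_inv_rev,
      ← hc.inv_inv.eq, inv_eq_of_mul_eq_one_right h4]
  obtain ⟨ψ, h4, h5, h6⟩ := RE.exists_real_principal hM ht
  exact ⟨⟨χ, even_iff_two_dvd.2 h3, key χ h2⟩, ψ, h4, fun h => h5 (Subtype.ext h), key ψ h6⟩

end Cfsg.Agent.S4523
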