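import Cfsg.Statements.S4558
import Cfsg.Agent.H7.Quot
import Cfsg.Agent.H7.PPart

set_option autoImplicit false
open Cfsg

namespace Cfsg.Agent.S4558
open H5

/-- Let χ be a character of the finite group G and g an element of p-power order for the prime p. If χ g = 0, then p divides the degree of χ. -/
theorem result {G : Type*} [Group G] [Finite G] (p : ℕ) [Fact p.Prime] (χ : G → ℂ) (hχ : Cfsg.IsCharacter G χ) (g : G) (hg : ∃ j : ℕ, orderOf g = p ^ j) (h0 : χ g = 0) : p ∣ Cfsg.charDegree χ := by
  obtain ⟨M, hM⟩ := H7.exists_isPModular (Fact.out : p.Prime)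
  have h := H7.red_char_of_isPElt hM hχ (x := g) hg
  obtain ⟨n, hn⟩ := hχ.exists_apply_one
  rw [h0, hn, H8.red_zero, H8.red_natCast] at h
  have : charDegree χ = n := by simp [charDegree, hn]
  rw [this]
  exact (H7.natCast_kk_eq_zero_iff hM n).1 h.symm

end Cfsg.Agent.S4558
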