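import Cfsg.Statements.S4560
import Cfsg.Agent.H7.Sym8

set_option autoImplicit false
open Cfsg

open H7.Sn

namespace Cfsg.Agent.S4560

/-- For n ≥ 7 the alternating group on n letters has an irreducible character that vanishes at some 2-element and is the restriction of an irreducible character of the symmetric group, and an irreducible character that vanishes at some element of order 3 and is the restriction of an irreducible character of the symmetric group. -/
theorem result (n : ℕ) (hn : 7 ≤ n) : (∃ χ : Cfsg.IrrCharacter (alternatingGroup (Fin n)), (∃ x : alternatingGroup (Fin n), (∃ j : ℕ, orderOf x = 2 ^ j) ∧ (χ : alternatingGroup (Fin n) → ℂ) x = 0) ∧ ∃ ψ : Cfsg.IrrCharacter (Equiv.Perm (Fin n)), ∀ x : alternatingGroup (Fin n), (ψ : Equiv.Perm (Fin n) → ℂ) x = (χ : alternatingGroup (Fin n) → ℂ) x) ∧ (∃ χ : Cfsg.IrrCharacter (alternatingGroup (Fin n)), (∃ y : alternatingGroup (Fin n), orderOf y = 3 ∧ (χ : alternatingGroup (Fin n) → ℂ) y = 0) ∧ ∃ ψ : Cfsg.IrrCharacter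 (Equiv.Perm (Fin n)), ∀ x : alternatingGroup (Fin n), (ψ : Equiv.Perm (Fin n) → ℂ) x = (χ : alternatingGroup (Fin n) → ℂ) x) := by
  have hn' : 6 ≤ Fintype.card (Fin n) := by simp; omega
  constructor
  · obtain ⟨ρ, f, h1, h2, h3, h4⟩ : ∃ (ρ : Multiset ℕ) (f : ℕ), (∀ k ∈ ρ, k = 2 ∨ k = 4 ∨ k = 8) ∧
        ρ.sum + f = n ∧ Even (ρ.sum + ρ.card) ∧
        (f * (f - 3 : ℤ) + 2 * ρ.count 2 = 0 ∨ (f - 1 : ℤ) * (f - 2) - 2 * ρ.count 2 = 0) := by
      have h : ((n % 4 : ℕ) : ℤ) * ((n % 4 : ℕ) - 3) = 0 ∨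
          (((n % 4 : ℕ) : ℤ) - 1) * ((n % 4 : ℕ) - 2) = 0 := by
        have := Nat.mod_lt n four_pos
        interval_cases n % 4 <;> simp
      rcases hn.eq_or_lt with rfl | h7
      · exact ⟨{2, 4}, 1, by decide⟩
      rcases (n / 4).even_or_odd with e | e
      · exact ⟨.replicate (n / 4) 4, n % 4, by simp +contextual [Multiset.mem_replicate],
          by simp; omega, by simp [parity_simps, e], by simpa [Multiset.count_replicate] using h⟩
      · exact ⟨8 ::ₘ .replicate (n / 4 - 2) 4, n % 4, by simp +contextual [Multiset.mem_replicate],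
          by simp; omega, by simp; grind, by simpa [Multiset.count_replicate] using h⟩
    obtain ⟨χ, x, h5, h6, h7⟩ := exists_vanish' hn' ρ f (by grind) (by simpa) h3 h4
    obtain ⟨j, -, hj⟩ := (Nat.dvd_prime_pow Nat.prime_two (m := 3)).1 (h5 ▸ Multiset.lcm_dvd.2 fun k hk => by
      obtain rfl | rfl | rfl := h1 k hk <;> decide)
    exact ⟨χ, ⟨x, ⟨j, hj⟩, h6⟩, h7⟩
  · obtain ⟨χ, x, h5, h6, h7⟩ := exists_vanish' hn' (.replicate (n / 3) 3) (n % 3)
      (by simp +contextual [Multiset.mem_replicate]) (by simp; omega) (by simp; grind) (by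
        have := Nat.mod_lt n three_pos
        interval_cases n % 3 <;> simp [Multiset.count_replicate])
    refine ⟨χ, ⟨x, h5.trans (Nat.dvd_antisymm (Multiset.lcm_dvd.2 ?_) (Multiset.dvd_lcm ?_)), h6⟩, h7⟩
    · simp +contextual [Multiset.mem_replicate]
    · simp [Multiset.mem_replicate]; omega

end Cfsg.Agent.S4560
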