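import Cfsg.Statements.S4573
import Cfsg.Agent.H22.MGrp

set_option autoImplicit false
universe u
open Cfsg H5

namespace Cfsg.Agent.S4573

theorem aux (n : ℕ) : ∀ (G : Type u) [Group G] [Finite G], Nat.card G = n → Group.IsSolvable G →
    ∃ (M : Type u) (_ : Group M) (_ : Fintype M),
      (∀ χ : M → ℂ, IsIrrCharacter M χ → H22.MG.Mono χ) ∧
        ∃ f : G →* M, Function.Injective f := by
  induction n using Nat.strong_induction_on with
  | _ n ih =>
  intro G _ _ hn hs
  rcases subsingleton_or_nontrivial G with h | h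
  · have := Fintype.ofFinite G
    refine ⟨G, inferInstance, this, fun χ hχ => ?_, MonoidHom.id G, Function.injective_id⟩
    obtain ⟨f, rfl⟩ := hχ.isCharacter.exists_unitsHom
      (hχ.apply_one_eq_one_iff.2 fun x _ => by rw [Subsingleton.elim x 1]; exact one_mem _)
    refine ⟨⊤, f.comp (Subgroup.subtype ⊤), funext fun g => ?_⟩
    rw [H5.indFun_top (H5.isCharacter_unitsHom _).isClassFunction]
    rfl
  obtain ⟨N, hN, hle⟩ := (eq_top_or_exists_le_coatom (commutator G)).resolve_left
    (Group.IsSolvable.commutator_lt_top_of_nontrivial G).ne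
  have : N.Normal := ⟨fun x hx g => by
    have : g * x * g⁻¹ * x⁻¹ ∈ N :=
      hle (Subgroup.commutator_mem_commutator (Subgroup.mem_top g) (Subgroup.mem_top x))
    simpa using N.mul_mem this hx⟩
  obtain ⟨M, _, _, h1, f, hf⟩ := ih (Nat.card N) (by
    rw [← hn]
    exact Finite.card_subtype_lt (not_forall.1 (mt (Subgroup.eq_top_iff' N).2 hN.1)).choose_spec) N rfl inferInstance
  have := Fintype.ofFinite (M ≀ᵣ (G ⧸ N))
  refine ⟨M ≀ᵣ (G ⧸ N), inferInstance, this, fun χ hχ => H22.MG.wreath h1 (fun S => ?_)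
    (fun a b => ?_) hχ, H22.MG.embed N f hf⟩
  · have h2 : N ≤ S.comap (QuotientGroup.mk' N) := fun x hx => by
      rw [Subgroup.mem_comap, QuotientGroup.mk'_apply, (QuotientGroup.eq_one_iff x).2 hx]
      exact one_mem _
    have h3 := Subgroup.map_comap_eq_self_of_surjective (QuotientGroup.mk'_surjective N) S
    rcases h2.eq_or_lt with e | e
    · left
      rw [← h3, ← e, Subgroup.map_eq_bot_iff, QuotientGroup.ker_mk']
    · right
      rw [← h3, hN.2 _ e, Subgroup.map_top_of_surjective _ (QuotientGroup.mk'_surjective N)]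
  · obtain ⟨a, rfl⟩ := QuotientGroup.mk_surjective a
    obtain ⟨b, rfl⟩ := QuotientGroup.mk_surjective b
    rw [← QuotientGroup.mk_mul, ← QuotientGroup.mk_mul, QuotientGroup.eq]
    have := hle (Subgroup.commutator_mem_commutator (Subgroup.mem_top b⁻¹) (Subgroup.mem_top a⁻¹))
    simpa [commutatorElement_def, mul_assoc] using this

/-- Every finite solvable group is isomorphic to a subgroup of a finite M-group, a group each of whose irreducible characters is induced from a homomorphism of some subgroup into ℂˣ. -/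
theorem result {G : Type u} [Group G] [Finite G] (hsolv : Group.IsSolvable G) : ∃ (M : Type u) (_ : Group M) (_ : Fintype M), (∀ χ : M → ℂ, Cfsg.IsIrrCharacter M χ → (∃ (H : Subgroup M) (lam : ↥H →* ℂˣ), χ = Cfsg.indFun H (fun h => (lam h : ℂ)))) ∧ ∃ f : G →* M, Function.Injective f := by
  obtain ⟨M, i1, i2, h1, h2⟩ := aux (Nat.card G) G rfl hsolv
  exact ⟨M, i1, i2, h1, h2⟩

end Cfsg.Agent.S4573
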