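import Cfsg.Statements.S4578
import Cfsg.Agent.H26.RB8
import Cfsg.Agent.H23.RB3
import Cfsg.Agent.H28.RB1

set_option autoImplicit false
open Cfsg

namespace Cfsg.Agent.S4578

/-- Let H be a finite quasisimple group whose central quotient H/Z(H) is isomorphic to the alternating group on n ≥ 5 letters, p any prime, M a maximal ideal of the algebraic integers containing p, and B a p-block of H with defect group D. For every irreducible character χ in B, p raised to the height of χ is at most the index of Z(D) in D, with equality exactly when D is abelian. -/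
theorem result {H : Type*} [Group H] [Finite H] (hq : Cfsg.IsQuasisimple H) (n : ℕ) (hn : 5 ≤ n) (e : H ⧸ Subgroup.center H ≃* alternatingGroup (Fin n)) (p : ℕ) [Fact p.Prime] (M : Ideal Cfsg.AlgInt) (hM : Cfsg.IsPModular p M) (B : Set (Cfsg.IrrCharacter H)) (hB : Cfsg.IsPBlock M B) (D : Subgroup H) (hD : Cfsg.IsDefectGroup p M B D) (χ : Cfsg.IrrCharacter H) (hχ : χ ∈ B) :
    Cfsg.blockHeight p B (χ : H → ℂ) ≤ ((Subgroup.center D).index).factorization p ∧
      (Cfsg.blockHeight p B (χ : H → ℂ) = ((Subgroup.center D).index).factorization p ↔ IsMulCommutative D) := by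
  exact H26.RB.top (H23.RB.odd H23.RB.maxp H26.RB.sub H26.RB.spc' H28.RB.nsc H26.RB.sc H26.RB.fin)
    (H23.RB.p2a (H28.RB.alt2 H23.RB.perm) H26.RB.sc H26.RB.fin)
    (H23.RB.p2s (H28.RB.alt2 H23.RB.perm) H26.RB.spg' H26.RB.emb) (H23.RB.sm H26.RB.ker) hq hn e
    ⟨hM, hB, hD, hχ⟩

end Cfsg.Agent.S4578
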