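import Cfsg.Statements.S4584
import Cfsg.Agent.H6.CD4
import Cfsg.Agent.H4.Misc1
import Cfsg.Agent.H4.Ess3

set_option autoImplicit false
open Cfsg

namespace Cfsg.Agent.S4584
open H6 H20 H19 Subgroup

/-- Let p be a prime and P a group of order p^4. Then the derived subgroup P' has order p if and only if the centre Z(P) has index p^2 in P. -/
theorem result {P : Type*} [Group P] [Finite P] (p : ℕ) [Fact p.Prime] (hP : Nat.card P = p ^ 4) :
    Nat.card (commutator P) = p ↔ (Subgroup.center P).index = p ^ 2 := by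
  classical
  have hp : p.Prime := Fact.out
  have hG : IsPGroup p P := .of_card hP
  have e1 : Z((⊤ : Subgroup P)) = center P := by rw [top_inf_eq, coe_top, centralizer_univ]
  have e2 := (center P).card_mul_index
  constructor
  · intro h
    have hd : ⁅(⊤ : Subgroup P), ⊤⁆ ≤ center P := H4.le_center_of_card_le_prime hG h.le
    have h1 : (#⁅(⊤ : Subgroup P), ⊤⁆).Prime := (show #⁅(⊤ : Subgroup P), ⊤⁆ = p from h) ▸ hp
    obtain ⟨χ, a, -, b⟩ := exists_nonlin (.bot ⊤) fun e => ne_bot_of_prime h1 (le_bot_iff.1 e)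
    have h2 := inf_eq_bot_of_prime h1 (mt (der_le_cker a).1 b)
    have h3 : ⁅⊤, center P⁆ ≤ cker χ :=
      (commg_eq_bot.2 (cents_symm (e1.ge.trans inf_le_right))).trans_le bot_le
    have h4 := deg_sq_of_vanish a le_top h3 fun g hg => by
      obtain ⟨y, c⟩ : ∃ y, y * g ≠ g * y := by
        by_contra! e
        exact hg (mem_center_iff.2 e)
      have d : y * g * y⁻¹ * g⁻¹ ∈ ⁅(⊤ : Subgroup P), ⊤⁆ := commutator_mem_commutator trivial trivial
      refine vanish_off_center a le_top h3 trivial (hd d) fun e => c ?_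
      have : y * g * y⁻¹ * g⁻¹ ∈ (⊥ : Subgroup P) := h2 ▸ ⟨d, e⟩
      rwa [mem_bot, mul_inv_eq_one, mul_inv_eq_iff_eq_mul] at this
    obtain ⟨k, -, c⟩ := (Nat.dvd_prime_pow hp).1 (hP ▸ card_top (G := P) ▸ H20.irr_deg_dvd a)
    rw [relIndex_top_right, c, ← pow_mul] at h4
    obtain ⟨j, d⟩ := (Nat.dvd_prime_pow hp).1 (hP ▸ card_subgroup_dvd_card (center P))
    have h5 := card_dvd hd
    rw [show #⁅(⊤ : Subgroup P), ⊤⁆ = p ^ 1 from h.trans (pow_one p).symm, d.2,
      Nat.pow_dvd_pow_iff_le_right hp.one_lt] at h5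
    rw [← h4, d.2, hP, ← pow_add, Nat.pow_right_inj hp.one_lt] at e2
    have : k ≠ 0 := fun e => b (by rw [c, e, pow_zero])
    rw [← h4, show k = 1 by omega]
  · intro h
    have h0 := Nat.one_lt_pow two_ne_zero hp.one_lt
    obtain ⟨y, hy⟩ : ∃ y, y ∉ center P := by
      by_contra! e
      rw [show center P = ⊤ from eq_top_iff.2 fun x _ => e x, index_top] at h
      omega
    have h1 : Ab (center P ⊔ zpowers y) := comm_sup (e1 ▸ comm_center ⊤) (comm_zpowers y)
      (e1.ge.trans (inf_le_right.trans (cent_mono le_top)))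
    have h2 : center P ⊔ zpowers y < ⊤ := lt_top_iff_ne_top.2 fun e => hy
      (e1.le ⟨trivial, comm_iff_le_cent.1 (e ▸ h1) trivial⟩)
    have h3 := (relIndex_of_sq hp (by rwa [relIndex_top_right])
      (left_lt_sup.2 (mt zpowers_le.1 hy)) h2).2
    rw [relIndex_top_right] at h3
    have := Subgroup.normal_of_index_eq_minFac_card (H := center P ⊔ zpowers y) (by
      rw [h3, hP, hp.pow_minFac (by norm_num)])
    obtain ⟨x, -, hx⟩ := SetLike.exists_of_lt h2
    have h4 := H4.index_commutator_of_abelian h3 h1 hx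
    have h5 := (commutator P).card_mul_index
    rw [h, hP, show 4 = 2 + 2 from rfl, pow_add, Nat.mul_left_inj h0.ne_bot] at e2
    rw [h4, inf_eq_right.2 le_sup_left, e2, hP, show p ^ 4 = p * (p * p ^ 2) by ring] at h5
    exact Nat.eq_of_mul_eq_mul_right (Nat.mul_pos hp.pos h0.pos) h5

end Cfsg.Agent.S4584
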