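import Cfsg.Statements.S4621
import Cfsg.Agent.H6.BS15

set_option autoImplicit false
open Cfsg

namespace Cfsg.Agent.S4621

/-- Let F be a finite field of odd characteristic, V a finite-dimensional vector space over F, and G a finite solvable group acting faithfully and linearly on V with the order of G coprime to the number of vectors of V. Then there are two vectors x, y ∈ V such that the only element of G fixing both x and y is the identity. -/
theorem result {F : Type*} [Field F] [Fintype F] (hF : ringChar F ≠ 2) {V : Type*} [AddCommGroup V] [Module F V] [FiniteDimensional F V] [Finite V]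
    {G : Type*} [Group G] [Finite G] [Group.IsSolvable G] (ρ : Representation F G V) (hfaith : Function.Injective ρ) (hcop : (Nat.card G).Coprime (Nat.card V)) :
    ∃ x y : V, ∀ g : G, ρ g x = x → ρ g y = y → g = 1 := by
  let _ : DistribMulAction G V := DistribMulAction.compHom V ρ
  have hp : (ringChar F).Prime := CharP.char_is_prime F _
  have h1 : ∀ v : V, ringChar F • v = 0 := fun v => by
    rw [← Nat.cast_smul_eq_nsmul F, CharP.cast_eq_zero, zero_smul]
  obtain ⟨j, hj⟩ := H6.BS.card_elem hp h1
  have h2 := hcop.coprime_dvd_left (H6.BS.card_img.dvd.trans (H6.BS.ord_dvd (G := G) (V := V)))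
  have := H6.BS.img_solvable (G := G) (V := V)
  have h3 : (Nat.card V).Coprime 2 := hj ▸ ((Nat.coprime_primes hp Nat.prime_two).2 hF).pow_left j
  obtain ⟨x, y, h⟩ := H6.BS.base_two (G := H6.BS.Img G V) (V := V)
    (H6.BS.cr_of_coprime (H6.BS.compl_of_prime hp h1) h2) (by
      by_cases h4 : 3 ∣ Nat.card V
      · exact Or.inr (Or.inr ⟨h2.coprime_dvd_right h4, Nat.coprime_two_right.1 h3⟩)
      · exact Or.inl (Nat.Coprime.mul_right (m := 2) (n := 3) h3
          ((Nat.Prime.coprime_iff_not_dvd Nat.prime_three).2 h4).symm))
  refine ⟨x, y, fun g h5 h6 => hfaith ?_⟩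
  rw [map_one]
  exact LinearMap.ext (h (H6.BS.toImg G V g) h5 h6)

end Cfsg.Agent.S4621
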