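import Cfsg.Statements.S4779
import Cfsg.Agent.H5.RD2
-- import your own Cfsg.Agent.* helpers here

set_option autoImplicit false
open Cfsg

namespace Cfsg.Agent.S4779
open H5

open H5.RD


/-- Let N be a solvable normal subgroup of the finite group G contained in the derived subgroup of G, and consider the common-divisor graph on the relative degree set cd(G|N) (degrees of irreducible complex characters of G whose kernel does not contain N, two distinct degrees adjacent when not coprime). If this graph has two vertices that are not joined by any path, then there is a vertex a₀ such that any two distinct vertices in the component of a₀ are adjacent, and any two distinct vertices outside that component are adjacent or have a common neighbour (one component is complete, the other has diameter at most 2). -/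
theorem result {G : Type*} [Group G] [Finite G] (N : Subgroup G) [N.Normal] [Group.IsSolvable N] (hNG : N ≤ commutator G) (hdisc : ¬ (Cfsg.commonDivisorGraph.induce (Cfsg.relCharDegrees N)).Preconnected) : ∃ a₀ : ↥(Cfsg.relCharDegrees N), (∀ b c : ↥(Cfsg.relCharDegrees N), (Cfsg.commonDivisorGraph.induce (Cfsg.relCharDegrees N)).Reachable a₀ b → (Cfsg.commonDivisorGraph.induce (Cfsg.relCharDegrees N)).Reachable a₀ c → b ≠ c → (Cfsg.commonDivisorGraph.induce (Cfsg.relCharDegrees N)).Adj b c) ∧ (∀ b c : ↥(Cfsg.relCharDegrees N), ¬ (Cfsg.commonDivisorGraph.induce (Cfsg.relCharDegrees N)).Reachable a₀ b → ¬ (Cfsg.commonDivisorGraph.induce (Cfsg.relCharDegrees N)).Reachable a₀ c → b ≠ c → (Cfsg.commonDivisorGraph.induce (Cfsg.relCharDegrees N)).Adj b c ∨ ∃ d : ↥(Cfsg.relCharDegrees N), (Cfsg.commonDivisorGraph.induce (Cfsg.relCharDegrees N)).Adj b d ∧ (Cfsg.commonDivisorGraph.induce (Cfsg.relCharDegrees N)).Adj d c) := by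
  obtain ⟨n, hn⟩ : ∃ n, H6.dser n N = ⊥ := by
    obtain ⟨n, hn⟩ := (‹Group.IsSolvable N›).solvable
    have : ∀ k, (derivedSeries N k).map N.subtype = H6.dser k N := fun k => by
      induction k with
      | zero => rw [derivedSeries_zero, ← MonoidHom.range_eq_map, Subgroup.range_subtype]; rfl
      | succ k ih => rw [derivedSeries_succ, Subgroup.map_commutator, ih, H6.dser_succ]
    exact ⟨n, by rw [← this, hn, Subgroup.map_bot]⟩
  simp only [SimpleGraph.Preconnected, not_forall] at hdisc
  obtain ⟨a, b, hab⟩ := hdisc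
  have hl : ⁅N, N⁆ < N := H19.sol_der_lt ‹_› fun e => by
    obtain ⟨χ, -, h, -⟩ := mem_rel.1 a.2
    exact h (e ▸ bot_le)
  obtain ⟨p, hp, h1⟩ := exists_prime hl
  have main : ∀ a b : relCharDegrees N, ¬ (Gr N).Reachable a b →
      a.1.Coprime (⁅N, N⁆.relIndex N) → (∀ x y, (Gr N).Reachable b x → (Gr N).Reachable b y →
      x ≠ y → (Gr N).Adj x y) ∧ ∀ x y, ¬ (Gr N).Reachable b x → ¬ (Gr N).Reachable b y →
      x ≠ y → (Gr N).Adj x y ∨ ∃ d, (Gr N).Adj x d ∧ (Gr N).Adj d y := fun a b hab ha => by
    have k : ∀ x, (Gr N).Reachable b x → p ∣ x.1 := fun x hx =>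
      (shape' hNG hp h1 a.2 x.2 (fun ⟨_, _, e⟩ => hab (e.trans hx.symm))
        fun e => Sys.ncop' e h1 hp.ne_one ha).2 p hp h1
    refine ⟨fun x y hx hy e => adj_of e (Sys.ncop' (k x hx) (k y hy) hp.ne_one),
      fun x y hx hy e => ?_⟩
    by_cases hc : x.1.Coprime y.1
    swap
    · exact .inl (adj_of e hc)
    obtain ⟨d, d1, d2, d3⟩ := diam n N hn hNG x.2 y.2 b.2 (fun ⟨_, _, e⟩ => hx e.symm)
      fun ⟨_, _, e⟩ => hy e.symm
    exact .inr ⟨⟨d, d1⟩, adj_of (fun e => d3 (by rw [e] at hc; exact hc)) d2,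
      adj_of (fun e => d2 (by rw [← e] at hc; exact hc)) d3⟩
  rcases shape hl hNG a.2 b.2 (fun ⟨_, _, e⟩ => hab e) with ⟨h, -⟩ | ⟨h, -⟩
  · exact ⟨b, main a b hab h⟩
  · exact ⟨a, main b a (fun e => hab e.symm) h⟩

end Cfsg.Agent.S4779
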