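import Cfsg.Statements.S4781
import Cfsg.Agent.H3.ND3

set_option autoImplicit false
open Cfsg

namespace Cfsg.Agent.S4781

/-- Let G be a finite solvable group in which no irreducible complex character degree a with 1 < a divides a larger irreducible character degree, and suppose the character degree graph of G (primes dividing some degree, distinct primes adjacent when their product divides a degree) has exactly two connected components. Then G has exactly three distinct irreducible character degrees. -/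
theorem result {G : Type*} [Group G] [Finite G] [Group.IsSolvable G] (hnd : ∀ a ∈ Cfsg.charDegrees G, ∀ b ∈ Cfsg.charDegrees G, 1 < a → a < b → ¬ a ∣ b) (htwo : Nat.card ((Cfsg.degreeGraph G).induce (Cfsg.degreePrimes G)).ConnectedComponent = 2) : Nat.card ↥(Cfsg.charDegrees G) = 3 := by
  have m : ∀ {d}, d ∈ charDegrees G ↔ ∃ χ ∈ H20.Irr (⊤ : Subgroup G), H20.deg χ = d :=
    ⟨fun ⟨χ, h⟩ => ⟨χ.1, H20.mem_Irr_top.2 χ.2, h⟩, fun ⟨χ, a, h⟩ => ⟨⟨χ, H20.mem_Irr_top.1 a⟩, h⟩⟩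
  have same : ∀ a ∈ charDegrees G, ∀ p q : degreePrimes G, p.1 ∣ a → q.1 ∣ a →
      ((degreeGraph G).induce (degreePrimes G)).Reachable p q := fun a ha p q h1 h2 => by
    by_cases e : p = q
    · rw [e]
    have e' : p.1 ≠ q.1 := fun h => e (Subtype.ext h)
    exact SimpleGraph.Adj.reachable ⟨e', p.2.1, q.2.1, a, ha,
      ((Nat.coprime_primes p.2.1 q.2.1).2 e').mul_dvd_of_dvd_of_dvd h1 h2⟩
  obtain ⟨⟨p⟩, ⟨q⟩, h, -⟩ := Nat.card_eq_two_iff.1 htwo
  replace h := mt SimpleGraph.ConnectedComponent.sound h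
  obtain ⟨a, a1, a2⟩ := p.2.2
  obtain ⟨b, b1, b2⟩ := q.2.2
  have hc : ∀ e ∈ charDegrees G, a.Coprime e ∨ b.Coprime e := fun e he => by_contra fun n => by
    obtain ⟨s, s1, s2, s3⟩ := Nat.Prime.not_coprime_iff_dvd.1 (not_or.1 n).1
    obtain ⟨t, t1, t2, t3⟩ := Nat.Prime.not_coprime_iff_dvd.1 (not_or.1 n).2
    exact h ((same a a1 p ⟨s, s1, a, a1, s2⟩ a2 s2).trans ((same e he _ ⟨t, t1, b, b1, t2⟩ s3 t3).trans
      (same b b1 _ q t2 b2)))
  have a3 : a ≠ 1 := fun e => p.2.1.not_dvd_one (e ▸ a2)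
  have b3 : b ≠ 1 := fun e => q.2.1.not_dvd_one (e ▸ b2)
  have ab : a ≠ b := fun e => h (same a a1 p q a2 (e ▸ b2))
  obtain ⟨χ, c1, rfl⟩ := m.1 a1
  obtain ⟨ψ, c2, rfl⟩ := m.1 b1
  obtain ⟨f, k, t⟩ := H3.ND.three (fun χ c ξ d e h => by_contra fun n => hnd _ (m.2 ⟨χ, c, rfl⟩) _
    (m.2 ⟨ξ, d, rfl⟩) (lt_of_le_of_ne (H20.irr_deg_pos c) (Ne.symm e))
      ((Nat.le_of_dvd (H20.irr_deg_pos d) h).lt_of_ne n) h) c1 c2 a3 b3 fun ξ d => hc _ (m.2 ⟨ξ, d, rfl⟩)
  rw [Nat.card_coe_set_eq, Set.ncard_eq_three]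
  refine ⟨1, _, _, a3.symm, b3.symm, ab, Set.ext fun d => ⟨fun hd => ?_, ?_⟩⟩
  · obtain ⟨ξ, c, rfl⟩ := m.1 hd
    have := t χ c1
    have := t ψ c2
    have := t ξ c
    simp only [Set.mem_insert_iff, Set.mem_singleton_iff]
    omega
  · rintro (rfl | rfl | rfl)
    exacts [m.2 ⟨_, H20.triv_mem_Irr _, H20.deg_triv _⟩, a1, b1]

end Cfsg.Agent.S4781
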