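import Cfsg.Statements.S4783
import Cfsg.Agent.H3.GR4

set_option autoImplicit false
open Cfsg

namespace Cfsg.Agent.S4783

/-- A finite solvable group with exactly four distinct irreducible complex character degrees has trivial fourth derived subgroup (derived length at most 4). -/
theorem result {G : Type*} [Group G] [Finite G] [Group.IsSolvable G] (hcd : Nat.card ↥(Cfsg.charDegrees G) = 4) : derivedSeries G 4 = ⊥ := by
  obtain ⟨a, b, c, h1, h2, h3, h4⟩ := H3.GR.sort4 hcd
    ⟨⟨_, H20.mem_Irr_top.1 (H20.triv_mem_Irr (⊤ : Subgroup G))⟩, H20.deg_triv _⟩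
    fun ⟨χ, h⟩ => (H20.irr_deg_pos (H20.mem_Irr_top.2 χ.2)).ne' h
  exact (H6.dser_top 4).symm.trans
    (H3.GR.main _ G rfl h1 h2 h3 (H6.dg_top.2 fun χ => h4 _ ⟨χ, rfl⟩))

end Cfsg.Agent.S4783
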