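import Cfsg.Statements.S4811
import Cfsg.Agent.H5.RD2
-- import your own Cfsg.Agent.* helpers here

set_option autoImplicit false
open Cfsg

namespace Cfsg.Agent.S4811
open H5

open H5.RD


/-- For every finite solvable group G the character degree graph of G (vertices: the primes dividing some irreducible complex character degree; edges: distinct primes whose product divides some degree) has at most two connected components. -/
theorem result {G : Type*} [Group G] [Finite G] [Group.IsSolvable G] : Nat.card ((Cfsg.degreeGraph G).induce (Cfsg.degreePrimes G)).ConnectedComponent ≤ 2 := by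
  refine comp_le_two fun p q r => ?_
  have k : ∀ p : degreePrimes G, ∃ a ∈ relCharDegrees (commutator G), p.1 ∣ a := fun p => by
    obtain ⟨hp, _, ⟨χ, rfl⟩, h⟩ := p.2
    refine ⟨_, mem_rel.2 ⟨χ.1, H20.mem_Irr_top.2 χ.2, fun e => hp.ne_one ?_, rfl⟩, h⟩
    have := (H6.der_le_cker (H20.mem_Irr_top.2 χ.2)).1 e
    exact Nat.dvd_one.1 (this ▸ h)
  have sub : ∀ a ∈ relCharDegrees (commutator G), a ∈ charDegrees G :=
    fun a ⟨χ, _, h⟩ => ⟨χ, h⟩
  have same : ∀ a ∈ relCharDegrees (commutator G), ∀ p q : degreePrimes G, p.1 ∣ a → q.1 ∣ a →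
      ((degreeGraph G).induce (degreePrimes G)).Reachable p q := fun a ha p q h1 h2 => by
    by_cases e : p = q
    · rw [e]
    have e' : p.1 ≠ q.1 := fun h => e (Subtype.ext h)
    exact SimpleGraph.Adj.reachable ⟨e', p.2.1, q.2.1, a, sub a ha,
      ((Nat.coprime_primes p.2.1 q.2.1).2 e').mul_dvd_of_dvd_of_dvd h1 h2⟩
  have tr : ∀ a b : relCharDegrees (commutator G), (Gr (commutator G)).Reachable a b →
      ∀ p q : degreePrimes G, p.1 ∣ a.1 → q.1 ∣ b.1 →
      ((degreeGraph G).induce (degreePrimes G)).Reachable p q := fun a b hw => by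
    obtain ⟨w⟩ := hw
    induction w with
    | @nil a => exact same _ a.2
    | @cons a c b h w ih =>
      intro p q h1 h2
      obtain ⟨s, hs, h3⟩ := Nat.exists_prime_and_dvd (ne_of_gt h.2)
      exact (same _ a.2 p ⟨s, hs, a, sub _ a.2, h3.trans (Nat.gcd_dvd_left _ _)⟩ h1
        (h3.trans (Nat.gcd_dvd_left _ _))).trans (ih ⟨s, hs, a, sub _ a.2, h3.trans (Nat.gcd_dvd_left _ _)⟩ q
        (h3.trans (Nat.gcd_dvd_right _ _)) h2)
  obtain ⟨a, ha, h1⟩ := k p
  obtain ⟨b, hb, h2⟩ := k q
  obtain ⟨c, hc, h3⟩ := k r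
  have hl : ⁅commutator G, commutator G⁆ < commutator G :=
    IsSolvable.commutator_lt_of_ne_bot fun e => by
      obtain ⟨χ, -, h, -⟩ := mem_rel.1 ha
      exact h (e ▸ bot_le)
  rcases three hl le_rfl ha hb hc with ⟨_, _, e⟩ | ⟨_, _, e⟩ | ⟨_, _, e⟩
  exacts [.inl (tr _ _ e _ _ h1 h2), .inr (.inl (tr _ _ e _ _ h2 h3)),
    .inr (.inr (tr _ _ e _ _ h1 h3))]

end Cfsg.Agent.S4811
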