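import Cfsg.Statements.S4840
import Cfsg.Agent.H6.Gagola
import Cfsg.Agent.H24.Affine
import Cfsg.Agent.H3.NPC

set_option autoImplicit false
open Cfsg

namespace Cfsg.Agent.S4840
open H6 H20 H19 H18 Subgroup
open scoped Classical

section
variable {H V : Type*} [Group H] [Finite H] {p : ℕ} [hp : Fact p.Prime] [AddCommGroup V]
  [Module (ZMod p) V] [Finite V] [Nontrivial V] {ρ : H →* (V ≃ₗ[ZMod p] V)} {R K : Subgroup H}
  {n : ℕ} {a x : H}

theorem cent_of (h : H10.MC R n a (-1)) (h1 : x ∈ N(R)) (h2 : x ∈ C[a]) (h3 : PiE {2}ᶜ x) :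
    x ∈ C(R) := by
  have e : zpowers x ≤ C(zpowers a) := by rwa [cent_zpowers, zpowers_le]
  refine cents_of_stable ((PiN.of_card_pow Nat.prime_two (by rw [Nat.card_zpowers, h.ord])).coprime
    (piG_zpowers.2 h3)) e (commutator_le.2 fun w hw y hy => ?_) (mem_zpowers x)
  by_cases h4 : w ∈ zpowers a
  · rw [commutatorElement_eq_one_iff_mul_comm.2 (H19.mem_cent.1 (e hy) w h4)]
    exact one_mem _
  · simpa [commutatorElement_def, mul_assoc] using H10.mul_inv_mem_of_relIndex_two h.idx hw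
      (conj_mem_of_norm (zpowers_le.2 h1 hy) hw) h4
      (mt (conj_mem_iff_of_norm (norms_of_cents e hy)).1 h4)

theorem card_mod (h1 : x ∈ N(R)) (h2 : PiE {p} x) : #R ≡ #(R ⊓ C[x]) [MOD p] := by
  obtain ⟨k, hk⟩ := h2.exists_pow (orderOf_pos x).ne'
  have := card_fixed_modEq (f := fun y => x * y * x⁻¹) (X := fin (R : Set H)) (n := k) hp.out
    (fun a ha => mem_fin.2 (conj_mem_of_norm h1 (mem_fin.1 ha))) fun a _ => by
      have : ∀ m, (fun y => x * y * x⁻¹)^[m] a = x ^ m * a * (x ^ m)⁻¹ := fun m => by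
        induction m with
        | zero => simp
        | succ m ih => rw [Function.iterate_succ_apply', ih, pow_succ']; group
      rw [this, ← hk, pow_orderOf_eq_one]; group
  rwa [card_fin_sub, show (fin (R : Set H)).filter (fun y => x * y * x⁻¹ = y) =
    fin ((R ⊓ C[x] : Subgroup H) : Set H) from Finset.ext fun y => by
      simp [mem_cent1, mul_inv_eq_iff_eq_mul, eq_comm (a := x * y)], card_fin_sub] at this

theorem three (h : H10.MC R 2 a (-1)) (h1 : x ∈ N(R)) (h2 : PiE {p} x) (h3 : p ≠ 2)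
    (h4 : x ∉ C(R)) : p = 3 := by
  have e := card_mod h1 h2
  have e1 : #(R ⊓ C[x]) < #R := card_lt (lt_of_le_of_ne inf_le_left fun e' =>
    h4 (le_cent1_iff.1 (e' ▸ inf_le_right)))
  have e2 : #(R ⊓ C[x]) ∣ #R := card_dvd inf_le_left
  rw [h.card] at e e1 e2
  obtain ⟨k, hk, e3⟩ := (Nat.dvd_prime_pow Nat.prime_two).1 e2
  rw [e3] at e e1
  have e4 := (Nat.modEq_iff_dvd' e1.le).1 e.symm
  have e5 : k ≠ 0 := by
    rintro rfl
    have : H10.mcZ a 2 ∈ R ⊓ C[x] := ⟨h.z_mem, mem_cent1_symm.1 (by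
      have b := (h.mem_center_iff (conj_mem_of_norm h1 h.z_mem)).1
        (conj_mem_of_norm (norm_le_norm_cent R h1) ((h.mem_center_iff h.z_mem).2 (.inr rfl)))
      exact mem_cent1.2 (mul_inv_eq_iff_eq_mul.1
        (b.resolve_left fun e => h.z_ne_one (conj_eq_one_iff'.1 e))))⟩
    rw [card_eq_one.1 e3] at this
    exact h.z_ne_one this
  have e6 : p ∣ 2 * 3 ∨ p ∣ 2 * 2 := by interval_cases k <;> simp_all
  rcases e6 with e6 | e6 <;> rcases (Nat.Prime.dvd_mul hp.out).1 e6 with e7 | e7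
  exacts [absurd ((Nat.prime_dvd_prime_iff_eq hp.out Nat.prime_two).1 e7) h3,
    (Nat.prime_dvd_prime_iff_eq hp.out Nat.prime_three).1 e7,
    absurd ((Nat.prime_dvd_prime_iff_eq hp.out Nat.prime_two).1 e7) h3,
    absurd ((Nat.prime_dvd_prime_iff_eq hp.out Nat.prime_two).1 e7) h3]

theorem card_le_nine (h : H10.MC R 2 a (-1)) (h3 : p = 3) (hi : H24.NF.Irr ρ R)
    (hf : ∀ g ∈ R, ∀ v, v ≠ 0 → ρ g v = v → g = 1) : Nat.card V ≤ 9 := by
  subst h3
  obtain ⟨w, hw, hw'⟩ := h.exists_out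
  have neg : ∀ z ∈ R, z * z = 1 → z ≠ 1 → ∀ v, ρ z v = -v := fun z hz e e' v =>
    eq_neg_of_add_eq_zero_left (by_contra fun e1 => e' (hf z hz _ e1 (by
      rw [map_add, ← H24.NF.mul_app, e, map_one, add_comm]; rfl)))
  have hz := neg _ h.z_mem h.z_mul_self h.z_ne_one
  have aa : ∀ v, ρ a (ρ a v) = -v := fun v => by
    rw [← H24.NF.mul_app, ← hz, H10.mcZ, ← zpow_two]; rfl
  have ww : ∀ v, ρ w (ρ w v) = -v := fun v => by
    rw [← H24.NF.mul_app, ← sq]
    obtain e | e := h.sq_out hw hw'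
    · refine absurd (hf (w * H10.mcZ a 2) (R.mul_mem hw h.z_mem) _ (exists_ne 0).choose_spec (by
        rw [H24.NF.mul_app, hz, map_neg, neg w hw (by rwa [← sq]) (fun e' => hw' (e' ▸ one_mem _)),
          neg_neg])) fun e' => hw' ?_
      rw [eq_inv_of_mul_eq_one_left e']
      exact inv_mem H10.MC.z_mem_zpowers
    · rw [e, hz]
  have wa : ∀ v, ρ w (ρ a v) = -ρ a (ρ w v) := fun v => by
    have e := h.conj w hw hw'
    rw [mul_inv_eq_iff_eq_mul] at e
    rw [← H24.NF.mul_app, e, H24.NF.mul_app]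
    apply (ρ a).injective
    rw [map_neg, aa, neg_neg]
    simp
  have h3 : ∀ v : V, v + v + v = 0 := fun v => by
    have : ((3 : ℕ) : ZMod 3) • v = 0 := by rw [ZMod.natCast_self, zero_smul]
    rw [← this, Nat.cast_smul_eq_nsmul]; abel
  obtain ⟨v, v0, hv⟩ : ∃ v : V, v ≠ 0 ∧ ρ w v ∈ Submodule.span (ZMod 3) {v, ρ a v} := by
    obtain ⟨u, hu⟩ := exists_ne (0 : V)
    by_cases e : u - ρ a u - ρ w u = 0
    · exact ⟨u, hu, Submodule.mem_span_pair.2 ⟨1, -1, by
        rw [one_smul, neg_one_smul, ← sub_eq_add_neg]; exact sub_eq_zero.1 e⟩⟩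
    · refine ⟨_, e, Submodule.mem_span_pair.2 ⟨-1, -1, ?_⟩⟩
      simp only [map_sub, aa, ww, wa, neg_one_smul]
      rw [← sub_eq_zero, ← neg_eq_zero, ← h3 u]
      abel
  have hs : Submodule.span (ZMod 3) {v, ρ a v} = ⊤ := (hi _ (by
    have ha : ∀ u ∈ Submodule.span (ZMod 3) {v, ρ a v}, ρ a u ∈ Submodule.span (ZMod 3) {v, ρ a v} :=
      fun u hu => by
        obtain ⟨b, c, rfl⟩ := Submodule.mem_span_pair.1 hu
        exact Submodule.mem_span_pair.2 ⟨-c, b, by simp [aa, add_comm]⟩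
    intro g hg u hu
    have hw2 : ρ w u ∈ Submodule.span (ZMod 3) {v, ρ a v} := by
      obtain ⟨b, c, rfl⟩ := Submodule.mem_span_pair.1 hu
      rw [map_add, map_smul, map_smul, wa]
      exact add_mem (Submodule.smul_mem _ _ hv) (Submodule.smul_mem _ _ (neg_mem (ha _ hv)))
    have hz : ∀ g ∈ zpowers a, ∀ u ∈ Submodule.span (ZMod 3) {v, ρ a v},
        ρ g u ∈ Submodule.span (ZMod 3) {v, ρ a v} := fun g hg u hu => by
      obtain ⟨k, rfl⟩ := (mem_powers_iff_mem_zpowers.2 hg : g ∈ Submonoid.powers a)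
      induction k with
      | zero => simpa using hu
      | succ k ih =>
        simp only [pow_succ', H24.NF.mul_app]; exact ha _ (ih (npow_mem_zpowers a k))
    obtain ⟨i, rfl⟩ | ⟨i, rfl⟩ := h.cases hw hw' hg
    · exact hz _ (zpow_mem_zpowers a i) u hu
    · rw [H24.NF.mul_app]; exact hz _ (zpow_mem_zpowers a i) _ hw2)).resolve_left fun e =>
      v0 ((Submodule.eq_bot_iff _).1 e v (Submodule.subset_span (by simp)))
  refine (Nat.card_le_card_of_surjective (fun b : ZMod 3 × ZMod 3 => b.1 • v + b.2 • ρ a v)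
    fun u => ?_).trans (by simp)
  obtain ⟨b, c, e⟩ := Submodule.mem_span_pair.1 (hs ▸ Submodule.mem_top (x := u))
  exact ⟨(b, c), e⟩

theorem fin_of (hK : K ⊴ ⊤) (h : Hall {p}ᶜ K ⊤) : HasNormalPComplement p H := by
  obtain ⟨P⟩ : Nonempty (Sylow p H) := inferInstance
  have := hK.normal
  exact H3.hasNPC_of_normal_of_sup P K (h.pi.coprime_prime hp.out)
    (sdprod_of_hall' h hK.norm (syl_sylow_top P)).sup

theorem main (hs : Sol (⊤ : Subgroup H)) (hρ : Function.Injective ρ) (ht : H24.NF.Tr ρ)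
    (hf : ∀ g, PiE {p}ᶜ g → ∀ v, v ≠ 0 → ρ g v = v → g = 1) (hO : Oc {p} (⊤ : Subgroup H) = ⊥) :
    HasNormalPComplement p H ∧ ∀ Q : Sylow p H, IsMulCommutative (Q : Subgroup H) := by
  have hF : PiG {p}ᶜ (Fit (⊤ : Subgroup H)) := (hO ▸ Oc_Fit_syl p ⊤).pi'_of_eq_bot
  have hC : ∀ x, PiE {p} x → x ∈ C(Fit (⊤ : Subgroup H)) → x = 1 := fun x h1 h2 =>
    h1.e_eq_one (hF.elt (cent_Fit_le hs ⟨trivial, h2⟩))
  by_cases hD : PiG {p}ᶜ ⁅(⊤ : Subgroup H), (⊤ : Subgroup H)⁆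
  · obtain ⟨K, hK, h1⟩ := hD.exists_hall hs le_top
    exact ⟨fin_of (normal_of_der_le h1 le_top) hK, fun Q => comm_iff_der.2 (H19.eq_bot_mono
      (le_inf (der_le _) (der_mono le_top)) ((syl_sylow_top Q).pi.inf_eq_bot hD))⟩
  obtain ⟨x, hx, hxo⟩ := exists_orderOf_eq_prime hp.out (by_contra fun e => hD (PiN.of_not_dvd e))
  have hxp : PiE {p} x := (piN_prime (hxo ▸ hp.out)).2 hxo
  obtain ⟨r, hr, h1⟩ : ∃ r, r.Prime ∧ x ∉ C(Oc {r} (⊤ : Subgroup H)) := by
    by_contra! e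
    exact hp.out.ne_one (by
      rw [← hxo, hC x hxp (le_cent1_iff.1 (Fit_le_of_Oc fun r hr => le_cent1_iff.2 (e r hr))),
        orderOf_one])
  have hRF := Oc_le_Fit r (⊤ : Subgroup H)
  have hRn := Oc_normal {r} (⊤ : Subgroup H)
  have hRp : PG r _ := Oc_pi {r} (⊤ : Subgroup H)
  generalize Oc {r} (⊤ : Subgroup H) = R at h1 hRF hRn hRp
  have hfR : ∀ g ∈ R, ∀ v, v ≠ 0 → ρ g v = v → g = 1 := fun g hg => hf g (hF.elt (hRF hg))
  have hR1 : R ≠ ⊥ := fun e => h1 (by simp [e])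
  have hac : H24.AC R := by
    have := (nontrivial_iff_ne_bot R).2 hR1
    exact H24.ac_iff.2 (H24.NF.Fpf.isFC (ρ := ρ.comp R.subtype) fun v hv g e =>
      Subtype.ext (hfR g g.2 v hv e)).isCyclic
  have hnc : ¬ Cyc R := fun e => h1 (der1_cent_cyclic e hRn.norm hx)
  have := Fact.mk hr
  obtain rfl : r = 2 := by_contra fun e => hnc (hac.cyc_odd e hRp.isPGroup)
  have hp2 : p ≠ 2 := fun e => hR1 (hRp.eq_bot (e ▸ hF.of_le hRF))
  obtain ⟨n, a, h⟩ := hac.exists_mc hRp.isPGroup hnc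
  obtain rfl : n = 2 := by_contra fun e => by
    refine h1 (cent_of h (hRn.norm trivial) (cent_zpowers a ▸ der1_cent_cyclic inferInstance
      (fun g _ => mem_norm_of_cj_le ?_) hx) (hxp.sing_ne hp2))
    rw [cj_zpowers, zpowers_le]
    by_contra e'
    have := orderOf_dvd_of_pow_eq_one (h.pow_four_out (hRn.conj_mem trivial h.mem) e')
    rw [orderOf_conj', h.ord, show 4 = 2 ^ 2 from rfl, Nat.pow_dvd_pow_iff_le_right one_lt_two]
      at this
    exact e (le_antisymm this h.two_le)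
  have h3 := three h (hRn.norm trivial) hxp hp2 h1
  have := hRn.normal
  have h9 := card_le_nine h h3 (ht.irr hρ fun e => by
    obtain ⟨w, hw, hw'⟩ := h.exists_out
    have := (h.comm_iff hw hw' (i := 1)).1 (mul_comm_of_comm e hw (h.zpow_mem 1))
    norm_num at this) hfR
  obtain ⟨v, hv⟩ := exists_ne (0 : V)
  have hS : PG p (H24.NF.St ρ v) := fun q hq hd => by_contra fun e => by
    obtain ⟨y, hy, e'⟩ := exists_orderOf_eq_prime hq hd
    exact hq.ne_one (by rw [← e', hf y ((piN_prime (e' ▸ hq)).2 (e' ▸ e)) v hv hy, orderOf_one])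
  have h8 : ∀ K : Subgroup H, PiG {p}ᶜ K → #K ∣ Nat.card V - 1 := fun K hK =>
    hK.dvd_of_dvd_mul hS.compl_compl (by
      rw [← ht.index hv, index_mul_card]; exact card_subgroup_dvd_card K)
  have h1V := Finite.one_lt_card (α := V)
  have hle : ∀ K : Subgroup H, PiG {p}ᶜ K → #K ≤ #R := fun K hK => by
    have := Nat.le_of_dvd (by omega) (h8 K hK)
    rw [h.card]; omega
  obtain ⟨K, hK, h4⟩ := (hF.of_le hRF).exists_hall hs le_top
  obtain rfl := eq_of_le_of_card_ge h4 (hle K hK.pi)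
  refine ⟨fin_of hRn hK, fun Q => ?_⟩
  have hQ := (syl_sylow_top Q).pi
  have h5 : #(Q : Subgroup H) ≤ #R := Nat.card_le_card_of_injective
    (fun y : (Q : Subgroup H) => (⟨_, hRn.conj_mem (g := y) trivial h.mem⟩ : R)) fun y z e => by
      have e' := congrArg Subtype.val e
      have hm := (Q : Subgroup H).mul_mem (inv_mem z.2) y.2
      refine Subtype.ext (inv_mul_eq_one.1 (hC _ (hQ.elt hm) ?_)).symm
      rw [← eq_of_le_of_card_ge hRF (hle _ hF)]
      refine cent_of h (hRn.norm trivial) (mem_cent1.2 ?_) ((hQ.elt hm).sing_ne hp2)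
      calc (z : H)⁻¹ * y * a = (z : H)⁻¹ * (y * a * (y : H)⁻¹) * y := by group
        _ = _ := by rw [show (y : H) * a * (y : H)⁻¹ = z * a * (z : H)⁻¹ from e']; group
  obtain ⟨k, hk⟩ := hQ.exists_card
  rw [h.card, hk, h3] at h5
  have h6 : k < 2 := (Nat.pow_lt_pow_iff_right (a := 3) (by norm_num)).1 (by omega)
  exact comm_of_cyclic (isCyclic_of_card_dvd_prime (p := p) (by
    rw [hk]; interval_cases k <;> simp))

end


/-- Let G be a finite solvable group of order greater than 2 with an irreducible character nonzero on exactly two conjugacy classes. Then there is exactly one prime p with O_p(G) ≠ 1, and the quotient G/O_p(G) has a normal p-complement and commutative Sylow p-subgroups. -/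
theorem result {G : Type*} [Group G] [Finite G] [hs : Group.IsSolvable G] (hG : 2 < Nat.card G) (χ : Cfsg.IrrCharacter G) (hχ : Nat.card {C : ConjClasses G // ∃ g ∈ C.carrier, (χ : G → ℂ) g ≠ 0} = 2) :
    ∃ p : ℕ, p.Prime ∧ (∀ q : ℕ, q.Prime → (Cfsg.pCore q G ≠ ⊥ ↔ q = p)) ∧
      Cfsg.HasNormalPComplement p (G ⧸ Cfsg.pCore p G) ∧ ∀ Q : Sylow p (G ⧸ Cfsg.pCore p G), IsMulCommutative (Q : Subgroup (G ⧸ Cfsg.pCore p G)) := by
  obtain ⟨N, h⟩ := exists_gag hG (coe_mem_Irr_top χ) hχ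
  obtain ⟨p, hp, hN⟩ := h.exists_pg
  have := Fact.mk hp
  have := h.normal.normal
  have hV := h.abelem hN
  refine ⟨p, hp, fun q hq => ⟨fun e => ?_, fun e => e ▸ ne_bot_mono
    (H1.le_pCore inferInstance hN.isPGroup) h.ne⟩, ?_⟩
  · exact (hN.mem_of_ne_bot h.ne ((PiN.of_isPGroup hq H1.pCore_isPGroup).of_le
      (h.min normalIn_top e))).symm
  have hO : PG p (Cfsg.pCore p G) := pG_iff.2 H1.pCore_isPGroup
  have e : Cfsg.pCore p G = C(N) := le_antisymm (cents_symm ((h.min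
    ⟨le_top, norms_inf h.normal.norm (norms_cent normalIn_top.norm)⟩
      (hN.meet_cent hO (le_top.trans h.normal.norm) h.ne)).trans inf_le_right))
    (H1.le_pCore inferInstance (h.pg_cent hN).isPGroup)
  let σ : G →* (H9.EA hV ≃ₗ[ZMod p] H9.EA hV) :=
    ((LinearMap.GeneralLinearGroup.generalLinearEquiv _ _).toMonoidHom.comp
      (H9.EA.rep hV h.normal.norm).toHomUnits).comp topEquiv.symm.toMonoidHom
  have hσ : ∀ g v, (σ g v).val = g * v.val * g⁻¹ := fun _ _ => rfl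
  have hk : ∀ g, g ∈ Cfsg.pCore p G ↔ σ g = 1 := fun g => by
    rw [e, H19.mem_cent]
    refine ⟨fun a => LinearEquiv.ext fun v => H9.EA.ext ?_, fun a n hn => ?_⟩
    · rw [hσ, ← a _ v.val_mem, mul_inv_cancel_right]; rfl
    · have := hσ g (H9.EA.mk hV n hn)
      rw [a] at this
      exact (eq_mul_inv_iff_mul_eq.1 this)
  have : Nontrivial (H9.EA hV) := (nontrivial_iff_ne_bot N).2 h.ne
  refine main (ρ := QuotientGroup.lift _ σ fun g => (hk g).1) inferInstance
    ((injective_iff_map_eq_one _).2 fun g => QuotientGroup.induction_on g fun g a =>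
      (QuotientGroup.eq_one_iff g).2 ((hk g).2 a)) (fun v w hv hw => ?_) (fun g hg v hv a => ?_) ?_
  · obtain ⟨c, hc⟩ := isConj_iff.1 (h.cls _ v.val_mem _ w.val_mem (mt H9.EA.val_eq_one.1 hv)
      (mt H9.EA.val_eq_one.1 hw))
    exact ⟨c, H9.EA.ext hc⟩
  · obtain ⟨g, rfl⟩ := QuotientGroup.mk'_surjective _ g
    exact PiN.e_eq_one (((h.syl_cent hN v.val_mem (mt H9.EA.val_eq_one.1 hv)).pi.elt
      (mem_cent1.2 (mul_inv_eq_iff_eq_mul.1 (congrArg H9.EA.val a)))).dvd (orderOf_map_dvd _ g)) hg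
  · exact eq_bot_iff.2 ((H1.le_pCore (Oc_normal _ _).normal (Oc_pi {p} ⊤).isPGroup).trans
      H1.pCore_quotient_pCore.le)

end Cfsg.Agent.S4840
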