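import Cfsg.Statements.S4848
import Cfsg.Agent.H0.NV1
import Cfsg.Agent.S4456
import Cfsg.Agent.S4558
import Cfsg.Agent.H3.NPC

set_option autoImplicit false
open Cfsg

namespace Cfsg.Agent.S4848
open Subgroup H23.VE H0.NV
open scoped commutatorElement Pointwise

/-- Let p be a prime and G a finite non-commutative group in which every vanishing element (an element at which some irreducible character is zero) has order a positive power of p. Then either G is a p-group, or the centre of G equals O_p(G) and G/Z(G) is a Frobenius group with a Frobenius complement of p-power order. -/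
theorem result {G : Type*} [Group G] [Finite G] (hna : ¬ IsMulCommutative G) (p : ℕ) [Fact p.Prime] (hvan : ∀ g : G, (∃ χ : Cfsg.IrrCharacter G, (χ : G → ℂ) g = 0) → ∃ m : ℕ, 1 ≤ m ∧ orderOf g = p ^ m) :
    IsPGroup p G ∨ (Subgroup.center G = Cfsg.pCore p G ∧ ∃ H : Subgroup (G ⧸ Subgroup.center G), Cfsg.IsFrobeniusComplement H ∧ IsPGroup p H) := by
  have hp : p.Prime := Fact.out
  replace hvan : ∀ g : G, Van g → ∃ m, orderOf g = p ^ m := fun g hg =>
    (hvan g hg).imp fun _ h => h.2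
  obtain ⟨N, hN, hc, k, hk⟩ := Cfsg.Agent.S4456.result (G := G) p hp fun χ h => by
    obtain ⟨x, hx⟩ := H5.Cfsg.IsIrrCharacter.exists_eq_zero χ.2 fun e => h (by simp [charDegree, e])
    exact Cfsg.Agent.S4558.result p _ (H6.irr_char χ.2) x (hvan x ⟨χ, hx⟩) hx
  have hQ : IsPGroup p (G ⧸ N) := IsPGroup.of_card hk
  refine or_iff_not_imp_left.2 fun hG => ?_
  let P : Sylow p G := default
  have hNP : N ⊓ P = ⊥ := by
    obtain ⟨j, hj⟩ := P.isPGroup'.exists_card_eq
    exact inf_eq_bot_of_coprime (hj ▸ hc.pow_right j)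
  have hsup : N ⊔ P = ⊤ := by
    rw [eq_top_iff, ← H3.pResidual_sup_sylow P]
    exact sup_le_sup_right (H3.pResidual_le_of_isPGroup_quotient hQ) _
  have hdec : ∀ g : G, ∃ n ∈ N, ∃ u ∈ (P : Subgroup G), n * u = g := fun g =>
    mem_sup_of_normal_left.1 (hsup ▸ mem_top g)
  have hco : ∀ c ∈ N, (orderOf c).Coprime p := fun c h => hc.coprime_dvd_left (orderOf_dvd_natCard N h)
  have key : ∀ y ∈ (P : Subgroup G), ∀ c ∈ N, c ≠ 1 → Commute y c → y ∈ center G := by
    intro y hy c hcN hc1 hyc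
    obtain ⟨j, hj⟩ := H23.exists_orderOf_eq_of_mem P.isPGroup' hy
    have h1 : ¬ Van (y * c) := fun h => by
      obtain ⟨m, hm⟩ := hvan _ h
      rw [hyc.orderOf_mul_eq_mul_orderOf_of_coprime (hj ▸ ((hco c hcN).pow_right j).symm)] at hm
      exact hc1 (orderOf_eq_one_iff.1 (Nat.eq_one_of_dvd_coprimes ((hco c hcN).pow_right m) dvd_rfl
        (Dvd.intro_left _ hm)))
    have h2 : ((y * c : G) : G ⧸ N) ∈ center (G ⧸ N) := by
      haveI := hQ.isNilpotent
      by_contra h
      exact h1 (Van.lift (QuotientGroup.mk' N) (QuotientGroup.mk'_surjective N)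
        (van_of_nil _ _ rfl _ h))
    rw [QuotientGroup.mk_mul, (QuotientGroup.eq_one_iff c).2 hcN, mul_one] at h2
    have h3 : ∀ g : G, ⁅g, y⁆ ∈ N := fun g => by
      rw [← QuotientGroup.eq_one_iff, ← QuotientGroup.mk'_apply, map_commutatorElement]
      exact commutatorElement_eq_one_iff_mul_comm.2 (mem_center_iff.1 h2 _)
    have h4 := cent (N := N) (hp.coprime_iff_not_dvd.1 hc.symm) ⟨j, hj⟩ fun θ => by
      obtain ⟨g, hg⟩ := inert h1 θ.2
      have h5 := H6.le_inertia (H6.irr_cf θ.2)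
      have h6 : y = ⁅g, y⁆⁻¹ * (g * (y * c) * g⁻¹) * (g * c * g⁻¹)⁻¹ := by
        rw [commutatorElement_def]; group
      rw [h6]
      exact mul_mem (mul_mem (inv_mem (h5 (h3 g))) hg) (inv_mem (h5 (hN.conj_mem c hcN g)))
    rw [mem_center_iff]
    intro g
    obtain ⟨n, hn, u, hu, rfl⟩ := hdec g
    have h5 : ⁅u, y⁆ = 1 := mem_bot.1 (hNP ▸ mem_inf.2 ⟨h3 u,
      mul_mem (mul_mem (mul_mem hu hy) (inv_mem hu)) (inv_mem hy)⟩)
    rw [mul_assoc, commutatorElement_eq_one_iff_mul_comm.1 h5, ← mul_assoc,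
      mem_centralizer_singleton_iff.1 (h4 hn), mul_assoc]
  have hPZ : ¬ (P : Subgroup G) ≤ center G := fun h => by
    obtain ⟨x, hx⟩ := exists_van hna
    obtain ⟨g, hg⟩ := H23.exists_conj_mem_sylow P (hvan x hx)
    exact not_van_of_center (h hg) (hx.conj (isConj_iff.2 ⟨g, rfl⟩))
  have hZ : IsPGroup p (center G) := by
    rintro ⟨z, hz⟩
    obtain ⟨u, hu, v, hv, huv, ⟨j, h1⟩, h2⟩ := H23.exists_pPart p hp z
    have h3 : v = 1 := by
      by_contra e
      exact hPZ fun y hy => key y hy v (H23.mem_of_coprime_index (hk ▸ h2.pow_right k)) e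
        (mem_center_iff.1 (zpowers_le.2 hz hv) y)
    refine ⟨j, Subtype.ext ?_⟩
    rw [h3, mul_one] at huv
    change z ^ p ^ j = 1
    rw [← huv, ← h1, pow_orderOf_eq_one]
  have hZP : center G ≤ P := hZ.le_sylow_of_normal P
  refine ⟨le_antisymm (H1.le_pCore inferInstance hZ) fun y hy => ?_,
    (P : Subgroup G).map (QuotientGroup.mk' _), ⟨fun e => hPZ (H1.map_mk'_eq_bot_iff.1 e),
      fun e => hG ?_, fun g hg => ?_⟩, P.isPGroup'.map _⟩
  · obtain ⟨c, hcN, hc1⟩ : ∃ c ∈ N, c ≠ 1 := by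
      by_contra! e
      have e' : N = ⊥ := eq_bot_iff.2 fun x hx => mem_bot.2 (e x hx)
      rw [e', index_bot] at hk
      exact hG (IsPGroup.of_card hk)
    have h1 := H1.pCore_isPGroup (p := p) (G := G)
    obtain ⟨j, hj⟩ := h1.exists_card_eq
    have h2 := H1.commutator_eq_bot_of_normal_of_coprime (pCore p G) N (hj ▸ (hc.pow_right j).symm)
    exact key y (h1.le_sylow_of_normal P hy) c hcN hc1
      (commutatorElement_eq_one_iff_mul_comm.1 (mem_bot.1 (h2 ▸ commutator_mem_commutator hy hcN)))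
  · have h1 := congrArg (comap (QuotientGroup.mk' (center G))) e
    rw [H1.comap_map_mk', sup_eq_left.2 hZP, comap_top] at h1
    exact (h1 ▸ P.isPGroup').of_equiv topEquiv
  · obtain ⟨g, rfl⟩ := QuotientGroup.mk'_surjective _ g
    obtain ⟨n, hn, u, hu, rfl⟩ := hdec g
    have hn1 : n ≠ 1 := by
      rintro rfl
      exact hg ⟨u, hu, by simp⟩
    rw [eq_bot_iff]
    rintro _ ⟨⟨y, hy, rfl⟩, h1⟩
    have h2 : (n * u)⁻¹ * y * (n * u) ∈ ((P : Subgroup G).map
      (QuotientGroup.mk' (center G))).comap (QuotientGroup.mk' (center G)) := by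
      rw [mem_comap, map_mul, map_mul, map_inv]
      exact H1.mem_conj_smul_iff.1 h1
    rw [H1.comap_map_mk', sup_eq_left.2 hZP] at h2
    have h3 : ⁅n⁻¹, y⁆ = 1 := mem_bot.1 (hNP ▸ mem_inf.2 ⟨by
      rw [commutatorElement_def, mul_assoc, mul_assoc, ← mul_assoc y]
      exact mul_mem (inv_mem hn) (hN.conj_mem _ (inv_mem (inv_mem hn)) y), by
      have : ⁅n⁻¹, y⁆ = u * ((n * u)⁻¹ * y * (n * u)) * u⁻¹ * y⁻¹ := by
        rw [commutatorElement_def]; group
      rw [this]
      exact mul_mem (mul_mem (mul_mem hu h2) (inv_mem hu)) (inv_mem hy)⟩)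
    exact mem_bot.2 ((QuotientGroup.eq_one_iff y).2 (key y hy n⁻¹ (inv_mem hn) (inv_ne_one.2 hn1)
      (commutatorElement_eq_one_iff_mul_comm.1 h3).symm))

end Cfsg.Agent.S4848
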