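import Cfsg.Statements.S4881
import Cfsg.Agent.H10.PR.K6
import Cfsg.Agent.H5.PR1
import Cfsg.Agent.H6.PR4
import Cfsg.Agent.H8.PR1
import Cfsg.Agent.H21.PR1
import Cfsg.Agent.H21.PR2
import Cfsg.Agent.H21.PR3
import Cfsg.Agent.H21.PR4

set_option autoImplicit false
open Cfsg

namespace Cfsg.Agent.S4881

/-- Let p be a prime and G a finite p-solvable group with exactly three conjugacy classes of p-elements (counting the identity). Then twice the number of conjugacy classes of p-regular elements of G is at least p − 1, with equality if and only if p is odd, G has order p(p − 1)/2 and G embeds in the one-dimensional affine group over the field with p elements (so G is that group's subgroup of index 2: cyclic of order p extended by cyclic of order (p − 1)/2). -/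
theorem result {G : Type*} [Group G] [Finite G] (p : ℕ) [Fact p.Prime] (hsolv : Cfsg.IsPSolvable p G) (h3 : Nat.card {c : ConjClasses G // ∃ g : G, ConjClasses.mk g = c ∧ ∃ k : ℕ, orderOf g = p ^ k} = 3) : p - 1 ≤ 2 * Nat.card {c : ConjClasses G // ∃ g : G, ConjClasses.mk g = c ∧ ¬ p ∣ orderOf g} ∧ (2 * Nat.card {c : ConjClasses G // ∃ g : G, ConjClasses.mk g = c ∧ ¬ p ∣ orderOf g} = p - 1 ↔ (p ≠ 2 ∧ 2 * Nat.card G = p * (p - 1) ∧ ∃ f : G →* ↥(Cfsg.affineGroup (ZMod p)), Function.Injective f)) := by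
  exact H5.PR.rd (H10.PR.main H21.PR.sr H6.PR.lf1 H6.PR.lf2
    (H10.PR.bg H21.PR.nt (H10.PR.tb H6.PR.d2 H21.PR.cy H21.PR.sm))
    (H10.PR.p4 H21.PR.fin (H8.PR.s7 H21.PR.sm H21.PR.cy) H8.PR.bd) H6.PR.i4) G p hsolv h3

end Cfsg.Agent.S4881
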