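import Cfsg.Statements.S4997
import Cfsg.Agent.H23.Van2

set_option autoImplicit false
open Cfsg

namespace Cfsg.Agent.S4997

/-- Let p be an odd prime and G a finite solvable group with exactly one conjugacy class consisting of vanishing elements (elements at which some irreducible complex character is zero) of order divisible by p. Let P be a Sylow p-subgroup of G. Then the order of P is at most p times the order of the largest normal p-subgroup of G. -/
theorem result {G : Type*} [Group G] [Finite G] (hsolv : Group.IsSolvable G) (p : ℕ) [Fact p.Prime] (hp : p ≠ 2) (h1 : Set.ncard {C : ConjClasses G | (∀ g ∈ C.carrier, ∃ χ : Cfsg.IrrCharacter G, (χ : G → ℂ) g = 0) ∧ ∃ g ∈ C.carrier, p ∣ orderOf g} = 1) (P : Sylow p G) : Nat.card ↥(P : Subgroup G) ≤ p * Nat.card ↥(Cfsg.pCore p G) := by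
  obtain ⟨C, hC⟩ := Set.ncard_eq_one.1 h1
  have k : ∀ x : G, H23.VE.Van x → p ∣ orderOf x → ConjClasses.mk x = C := fun x v d => by
    have : ConjClasses.mk x ∈ ({C} : Set (ConjClasses G)) := hC ▸
      ⟨fun g hg => v.conj (ConjClasses.mk_eq_mk_iff_isConj.1 (ConjClasses.mem_carrier_iff_mk_eq.1 hg).symm),
        x, ConjClasses.mem_carrier_iff_mk_eq.2 rfl, d⟩
    exact this
  have d := H23.VE.core (p := p) (G := G) (fun x y hx hy dx dy =>
    H7.orderOf_eq_of_isConj (ConjClasses.mk_eq_mk_iff_isConj.1 ((k x hx dx).trans (k y hy dy).symm))) P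
  have e := Subgroup.card_mul_index ((QuotientGroup.mk' (Cfsg.pCore p G)).comp (P : Subgroup G).subtype).ker
  rw [Subgroup.index_ker, MonoidHom.range_comp, Subgroup.range_subtype] at e
  rw [← e, mul_comm]
  refine Nat.mul_le_mul (Nat.le_of_dvd (Fact.out : p.Prime).pos d) ?_
  rw [← MonoidHom.comap_ker, QuotientGroup.ker_mk']
  exact Nat.le_of_dvd Nat.card_pos (Subgroup.card_comap_dvd_of_injective _ _ (Subgroup.subtype_injective _))

end Cfsg.Agent.S4997
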