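import Cfsg.Statements.S5154
import Cfsg.Agent.H25.Comp

set_option autoImplicit false
open Cfsg

namespace Cfsg.Agent.S5154
open _root_.H25 Subgroup

/-- Let F be a saturated fusion system over a finite p-group S, C a component of F over T, and γ a map of F with source T. Then the image of C under γ — the fusion system over γ(T) whose maps are the homomorphisms induced along γ by the maps of C — is again a component of F. -/
theorem result {Ω : Type*} [Group Ω] {S : Subgroup Ω} [Finite S] (p : ℕ) [Fact p.Prime] (hS : IsPGroup p S) (F : Cfsg.FusionSystem S) (hF : F.IsSaturated p) {T : Subgroup Ω} (C : Cfsg.FusionSystem T) (hC : C.IsComponentIn F p) (γ : T →* Ω) (hγ : γ ∈ F.Hom T) (E : Cfsg.FusionSystem γ.range) (hE : C.IsFactorSystem ⊥ γ E) : E.IsComponentIn F p := by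
  obtain ⟨M, θ, U⟩ := exists_urep S
  have R := U.rep le_rfl F
  obtain ⟨h1, h2⟩ := U.cmp le_rfl hS hC
  obtain ⟨g, H, e⟩ := R.exists_T hγ
  have h3 := hom_range_le hγ
  have R₁ := U.rep h1 C
  have q : Sq θ θ γ (FS.cjh g) := ⟨h1, hom_mem hγ, le_top, fun x hx => by
    rw [FS.ex_cjh, ex_of_mem γ hx, e ⟨x, hx⟩]⟩
  rw [U.cmp_iff le_rfl hS h3, (q.epi_of_factor R₁ (U.rep h3 E) h2.2.sat
    ((R₁.sc_iff bot_le).2 (im_bot θ ▸ FS.sc_bot _)) hE).eq (FS.epi_cjs g _)]
  exact h2.cjs_of_T (R.sat hS hF) (U.big_S F) H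

end Cfsg.Agent.S5154
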