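import Cfsg.Statements.S5174
import Cfsg.Agent.H29.PL6

set_option autoImplicit false
open Cfsg

namespace Cfsg.Agent.S5174

/-- Let q be odd and n ≥ 2, with q ≡ 1 or 7 (mod 8) if n = 2. Let G be a finite nonabelian simple group with Sylow 2-subgroup S, and suppose the 2-fusion system of G on S has a normal subsystem E over T that is isomorphic to the 2-fusion system of PSL_n(q) (realized by an injective homomorphism of T onto a Sylow 2-subgroup of PSL_n(q)) and whose centralizer in S is trivial: every subgroup Y of C_S(T) such that every map of E extends to a map of the fusion system of G fixing Y elementwise is trivial. Then the 2-fusion system of G itself is isomorphic to that of PSL_n(q). -/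
theorem result {G : Type*} [Group G] [Finite G] [IsSimpleGroup G] (hG : ¬ IsMulCommutative G) (S : Sylow 2 G) (n : ℕ) (hn : 2 ≤ n) {F : Type*} [Field F] [Fintype F] (q : ℕ) (hFq : Fintype.card F = q) (hq : Odd q) (h2 : n = 2 → q % 8 = 1 ∨ q % 8 = 7) {T : Subgroup G} (E : Cfsg.FusionSystem T) (hE : E.IsNormalIn (Cfsg.groupFusionSystem (S : Subgroup G)) 2) (hiso : ∃ ι : T →* Matrix.ProjectiveSpecialLinearGroup (Fin n) F, E.IsRealizedBy ι ∧ ∃ T' : Sylow 2 (Matrix.ProjectiveSpecialLinearGroup (Fin n) F), (T' : Subgroup (Matrix.ProjectiveSpecialLinearGroup (Fin n) F)) = ι.range) (hC : ∀ Y : Subgroup G, Y ≤ Cfsg.FusionSystem.centralizerIn (S : Subgroup G) T → (∀ P : Subgroup G, E.Hom P ⊆ (Cfsg.groupFusionSystem (S : Subgroup G)).centralizerHom Y P) → Y = ⊥) : ∃ ι : ↥(S : Subgroup G) →* Matrix.ProjectiveSpecialLinearGroup (Fin n) F, (Cfsg.groupFusionSystem (S : Subgroup G)).IsRealizedBy ι ∧ ∃ T' : Sylow 2 (Matrix.ProjectiveSpecialLinearGroup (Fin n) F), (T' : Subgroup (Matrix.ProjectiveSpecialLinearGroup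 (Fin n) F)) = ι.range := by
  subst hFq
  have hT := H25.le_of_subsystem (H25.sub_of_nml hE)
  refine H29.PL.main hG S hn hq h2 hT E (fun {N θ} u => ⟨((u.rep le_rfl _).nml S.2 hE).2,
    sSup_le fun _ hU => ?_⟩) hiso
  obtain ⟨Y, hY, rfl⟩ := (u.rep le_rfl _).exists_im hU.le
  have := ((u.rep le_rfl _).cz_iff (u.rep hT E) hY).2 hU
  exact H25.im_mono θ ((hC Y this.1 this.2).le.trans bot_le)

end Cfsg.Agent.S5174
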