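import Cfsg.Statements.S5176
import Cfsg.Agent.H20.QF7

set_option autoImplicit false
universe u
open Cfsg

namespace Cfsg.Agent.S5176

open H25 H25.FS H10 H20.QF Subgroup in
theorem hy {Γ : Type*} [Group Γ] [Finite Γ] {F : FS Γ} {R : Subgroup Γ} {n : ℕ} {a b : Γ}
    (q : Qt R n a b) (hF : F.Sat 2) (hW : F.WC R)
    (hC : ∀ y ∈ F.C R, y ^ 2 = 1 → y ≠ 1 → (F.CF (zpowers y)).SC R) (hf : F.foc = F.S)
    (hZ : F.center = ⊥) : Hy F R n a b := by
  have zS := hW.le q.zR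
  have z1 : F.S ≤ cz (zpowers (mcZ a n)) := fun s hs => mem_cz_zpowers.2 (q.z_conj (hW.S_le_nz hs))
  have key : ∀ P g y, F.T P g → y ∈ P → y ∈ cz R → y ^ 2 = 1 → y ≠ 1 → g * y * g⁻¹ = y →
      ∀ r ∈ P, r ∈ R → g * r * g⁻¹ ∈ R := fun P g y H hy h1 h2 h3 h4 r hr hr' =>
    (hC y ⟨H.le hy, h1⟩ h2 h3).conj_mem (P := zpowers r ⊔ zpowers y)
      ((NK_T_of_le le_sup_right le_rfl).2 ⟨sup_le (zpowers_le.2 (le_cz_comm.1 (zpowers_le.2 h1) hr'))
        (zpowers_le.2 (mem_cz_zpowers.2 (by simp))), H.mono (by simp [hr, hy]), mem_cz_zpowers.2 h4⟩)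
      (mem_sup_left (mem_zpowers r)) hr'
  refine ⟨q, hF, hW.le, hW.S_le_nz, fun P g H hz => key P g _ H hz
    (zpowers_le.1 (le_cz_comm.1 (hW.le.trans z1))) q.mc.z_sq q.z1, fun g H h1 => ?_,
    fun P g y H hz hy h1 h2 h3 h4 => ?_, hf, ?_⟩
  · obtain ⟨h, H', e⟩ := hF.ext_C H.inv (by
      rw [cj_inv_cj]; exact FC_of_le_cz (zpowers_le.2 zS) z1)
    rw [cj_zpowers] at H' e
    have a1 := q.z_conj (hW.mem_nz H' (le_sup_of_le_right (le_inf hW.le
      (le_cz_comm.1 (zpowers_le.2 h1)))))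
    have a2 := e _ (mem_zpowers _)
    rw [show g⁻¹ * (g * mcZ a n * g⁻¹) * g⁻¹⁻¹ = mcZ a n by group] at a2
    simpa using a2.trans a1.symm
  · exact (q.invol (key P g y H hy h1 h2 h3 h4 _ hz q.zR) (by
      rw [conj_pow, q.mc.z_sq]; simp)).resolve_left (by simpa using q.z1)
  · by_contra! h
    exact q.z1 (mem_bot.1 (hZ ▸ hF.mem_center_iff.2 ⟨zS, h⟩))

open H25 H25.FS H10 H20.QF H4 Subgroup in
/-- The fusion-system form of the standard form problem for SL(2, q), q odd. Let F be a simple saturated fusion system over a finite 2-group S and let R ≤ S be generalized quaternion of order at least 16. Suppose R is weakly closed in S with respect to F, and R is strongly closed in the centralizer system C_F(⟨y⟩) for every involution y of C_S(R). Then either F is the 2-fusion system of PSL(3, q) or of G₂(q) for some odd q (realized by an injective homomorphism of S onto a Sylow 2-subgroup), or S contains a quasi-dihedral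 subgroup that is strongly closed in F. -/
theorem result {Ω : Type u} [Group Ω] {S : Subgroup Ω} [Finite S] (hS : IsPGroup 2 S)
    (F : Cfsg.FusionSystem S) (hF : F.IsSimple 2)
    (R : Subgroup Ω) (hRS : R ≤ S) (k : ℕ) (hk : 2 ≤ k) (eR : ↥R ≃* QuaternionGroup (2 ^ k))
    (hW : F.WeaklyClosed R)
    (hC : ∀ y ∈ Cfsg.FusionSystem.centralizerIn S R, orderOf y = 2 →
      ∀ C : Cfsg.FusionSystem (Cfsg.FusionSystem.centralizerIn S (Subgroup.zpowers y)),
        F.IsCentralizerSystem (Subgroup.zpowers y) C → C.StronglyClosed R) :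
    (∃ (K : Type) (_ : Field K) (_ : Fintype K), Odd (Fintype.card K) ∧
        ((∃ ι : ↥S →* Matrix.ProjectiveSpecialLinearGroup (Fin 3) K, F.IsRealizedBy ι ∧
            ∃ T : Sylow 2 (Matrix.ProjectiveSpecialLinearGroup (Fin 3) K),
              (T : Subgroup (Matrix.ProjectiveSpecialLinearGroup (Fin 3) K)) = ι.range) ∨
         (∃ ι : ↥S →* ↥(Cfsg.Lie.G2 K), F.IsRealizedBy ι ∧
            ∃ T : Sylow 2 ↥(Cfsg.Lie.G2 K), (T : Subgroup ↥(Cfsg.Lie.G2 K)) = ι.range))) ∨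
      ∃ P : Subgroup Ω, P ≤ S ∧ Cfsg.IsQuasiDihedral ↥P ∧ F.StronglyClosed P := by
  obtain ⟨K, _, _, _, l, hl, hK⟩ := exists_field_sub k
  have o : Odd (Fintype.card K) := hK ▸ Even.add_one (by simp [pow_succ, parity_simps])
  obtain ⟨N, θ, U, hU⟩ := exists_un S (m := Nat.card (Matrix.ProjectiveSpecialLinearGroup (Fin 3) K) *
    Nat.card (H8.autZ K)) (Nat.mul_pos Nat.card_pos Nat.card_pos)
  have r := U.rep le_rfl F
  obtain ⟨a, h1, h2⟩ := quaternion_mc (by omega) ((imEquiv U.inj hRS).symm.trans eR)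
  obtain ⟨b, h3, h4⟩ := h1.exists_out
  have q : Qt (im θ R) (k + 1) a b :=
    ⟨h1, by omega, h3, h4, (h1.sq_out h3 h4).resolve_left (h2 b h3 h4)⟩
  obtain ⟨-, hZ, hf⟩ := simple_facts hS hF (by
    have := card_le_of_le hRS
    rw [← card_im U.inj hRS, h1.card] at this
    exact lt_of_lt_of_le (lt_self_pow₀ one_lt_two (by omega)) this)
  have hF' := r.sat hS hF.1
  have hf' : (fs θ F).foc = im θ S := by rw [← r.im_foc, hf]
  have y := hy q hF' (r.wc hW) (fun y hy a1 a2 => by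
    rw [← r.im_C hRS] at hy
    obtain ⟨x, hx, hx', rfl⟩ := mem_im.1 hy
    obtain ⟨C, b1, b2, b3⟩ := r.exists_centralizer (zpowers_le.2 hx')
    rw [← im_zpowers θ hx', ← b3]
    exact b2.sc (hC x hx ((H4.orderOf_ex U.inj hx').symm.trans (orderOf_eq_prime a1 a2)) C b1))
    hf' (r.center_eq_bot.1 hZ)
  rcases y.tri with ⟨x, t, h⟩ | ⟨x, v, w, h⟩ | ⟨c, j, ρ, p, h, e⟩
  · exact .inr ⟨S, le_rfl, isQuasiDihedral_of_equiv (imEquiv U.inj le_rfl).symm h.isQuasiDihedral,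
      (r.sc_iff le_rfl).2 (sc_S _)⟩
  · obtain ⟨m, rfl⟩ := Nat.exists_eq_add_of_le' (show 1 ≤ k by omega)
    obtain ⟨T, x', v', w', b1, b2⟩ := psl3_wr hK hl
    have a3 : ¬ (fs θ F).foc ≤ _ := fun e => wr_x_notMem_Y h (e (hf' ▸ h.x_mem))
    exact .inl ⟨K, _, _, o, .inl ((wr_rz hF' h (hU _ (dvd_mul_right _ _))
      (fun e => h.z_out (e (hf' ▸ h.z_mem))) (eq_false a3 ▸ wd_full psl3_perfect b1 b2)).realizedBy r hS)⟩
  · obtain ⟨T, R', a', b', m⟩ := g2_hg (show 3 ≤ k + 1 by omega) hK hl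
    obtain ⟨i, b1, b2⟩ := p.rz h e (hU _ (dvd_mul_left _ _)) m
    refine .inl ⟨K, _, _, o, .inr (Rz.realizedBy ⟨i.comp (H8.g2Equiv K).toMonoidHom,
      b1.comp (H8.g2Equiv K).injective, ?_⟩ r hS)⟩
    rwa [MonoidHom.range_comp, MonoidHom.range_eq_top.2 (H8.g2Equiv K).surjective,
      ← MonoidHom.range_eq_map]

end Cfsg.Agent.S5176
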