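import Cfsg.Statements.S5177
import Cfsg.Agent.H24.XE6
import Cfsg.Agent.H24.XE8

set_option autoImplicit false
universe u
open Cfsg

namespace Cfsg.Agent.S5177

/-- Let p be an odd prime, S a finite p-group of order at least p⁶ containing an extraspecial subgroup Q of index p, and F a saturated fusion system over S whose largest subgroup normal in F is trivial. Then S is isomorphic to a Sylow p-subgroup of SL(4,p), to a Sylow p-subgroup of SU(4,p), to a Sylow p-subgroup of G₂(p) with p ≥ 5, or p ≥ 11 and S has order p^(p−1), exponent p and maximal nilpotency class. -/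
theorem result {Ω : Type u} [Group Ω] {S : Subgroup Ω} [Finite S] (p : ℕ) [Fact p.Prime] (hp : Odd p) (hS : IsPGroup p S)
    (Q : Subgroup Ω) (hQS : Q ≤ S) (hQ : Cfsg.IsExtraspecial p ↥Q) (hQi : (Q.subgroupOf S).index = p)
    (h6 : p ^ 6 ≤ Nat.card S)
    (F : Cfsg.FusionSystem S) (hF : F.IsSaturated p) (hO : F.core = ⊥) [Group.IsNilpotent ↥S] :
    (∃ P : Sylow p (Matrix.SpecialLinearGroup (Fin 4) (ZMod p)),
        Nonempty (↥S ≃* ↥(P : Subgroup (Matrix.SpecialLinearGroup (Fin 4) (ZMod p))))) ∨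
      (∃ (K : Type) (_ : Field K) (_ : Fintype K), Fintype.card K = p ^ 2 ∧
        ∃ P : Sylow p ↥(Cfsg.SU 4 K p), Nonempty (↥S ≃* ↥(P : Subgroup ↥(Cfsg.SU 4 K p)))) ∨
      (5 ≤ p ∧ ∃ P : Sylow p ↥(Cfsg.Lie.G2 (ZMod p)), Nonempty (↥S ≃* ↥(P : Subgroup ↥(Cfsg.Lie.G2 (ZMod p))))) ∨
      (11 ≤ p ∧ Nat.card S = p ^ (p - 1) ∧ (∀ x : ↥S, x ^ p = 1) ∧ Group.nilpotencyClass ↥S = p - 2) := by
  obtain ⟨M, θ, R⟩ := H25.exists_rep F
  have h1 := R.sat hS hF
  have hp2 : p ≠ 2 := by rintro rfl; exact absurd hp (by decide)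
  obtain ⟨z, g, hz, hZ, -⟩ := H4.G3.ge_im R.inj hQS hQ
  have c : Nat.card S = Nat.card Q * p := by
    rw [← hQi, ← (Q.subgroupOf S).card_mul_index, Nat.card_congr (Subgroup.subgroupOfEquivOfLe hQS).toEquiv]
  have c1 := H25.card_im R.inj hQS
  have c2 := H25.card_im R.inj (le_refl S)
  have l := H25.im_mono θ hQS
  have n := H4.le_nz_of_card h1.pg l (by rw [c1, ← c]; exact c2.le)
  have e : H25.im θ Q ⊓ H25.cz (H25.im θ Q) = Subgroup.zpowers z :=
    le_antisymm hZ (Subgroup.zpowers_le.2 ⟨g.mem, g.cen⟩)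
  have f := H25.imEquiv R.inj (le_refl S)
  haveI : Group.IsNilpotent (H25.im θ S) := h1.pg.isNilpotent
  rcases H24.XE.main h1 ⟨hp2, h1.pg, l, c2.trans (by rw [c1, c]), g, hz, hZ,
    Subgroup.zpowers_le.1 (H25.le_cz_comm.1 fun s hs => H4.mem_cz_of_card h1.pg
      (Subgroup.zpowers_le.2 (l g.mem)) (H4.G3.card_zp_le_p g.pow) hs
      (e ▸ H25.mem_nz_inf (n hs) (H25.mem_nz_cz (n hs)))),
    c1 ▸ Nat.le_of_mul_le_mul_right (c ▸ h6) (Fact.out : p.Prime).pos⟩ (R.core_eq_bot.1 hO) with h | h | h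
  · rcases h.out hp2 with ⟨P, ⟨k⟩⟩ | ⟨K, i, j, hK, P, ⟨k⟩⟩
    exacts [.inl ⟨P, ⟨f.trans k⟩⟩, .inr (.inl ⟨K, i, j, hK, P, ⟨f.trans k⟩⟩)]
  · obtain ⟨h5, P, ⟨k⟩⟩ := h.out
    exact .inr (.inr (.inl ⟨h5, P, ⟨f.trans k⟩⟩))
  · exact .inr (.inr (.inr ⟨h.1, c2.symm.trans h.2.1, fun x => f.injective (by
      rw [map_pow, map_one]; exact Subtype.ext (h.2.2.1 _ (f x).2)),
      (le_antisymm (Group.nilpotencyClass_le_of_surjective f.symm.toMonoidHom f.symm.surjective)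
        (Group.nilpotencyClass_le_of_surjective f.toMonoidHom f.surjective)).trans h.2.2.2⟩))

end Cfsg.Agent.S5177
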