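import Cfsg.Statements.S5178
import Cfsg.Agent.H4.G3l

set_option autoImplicit false
universe u
open Cfsg

namespace Cfsg.Agent.S5178

/-- Let p be an odd prime, S a finite p-group containing an extraspecial subgroup Q of index p, and F a saturated fusion system over S whose largest subgroup normal in F is trivial. Then the centre of S equals the centre of Q. -/
theorem result {Ω : Type u} [Group Ω] {S : Subgroup Ω} [Finite S] (p : ℕ) [Fact p.Prime] (hp : Odd p) (hS : IsPGroup p S)
    (Q : Subgroup Ω) (hQS : Q ≤ S) (hQ : Cfsg.IsExtraspecial p ↥Q) (hQi : (Q.subgroupOf S).index = p)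
    (F : Cfsg.FusionSystem S) (hF : F.IsSaturated p) (hO : F.core = ⊥) :
    S ⊓ Subgroup.centralizer (S : Set Ω) = Q ⊓ Subgroup.centralizer (Q : Set Ω) := by
  obtain ⟨M, θ, R⟩ := H25.exists_rep F
  have h1 := R.sat hS hF
  have hp2 : p ≠ 2 := by rintro rfl; exact absurd hp (by decide)
  obtain ⟨z, g, hz, hZ, hc⟩ := H4.G3.ge_im R.inj hQS hQ
  have c : Nat.card S = Nat.card Q * p := by
    rw [← hQi, ← (Q.subgroupOf S).card_mul_index, Nat.card_congr (Subgroup.subgroupOfEquivOfLe hQS).toEquiv]
  have := H4.G3.xs_center h1 hp2 (R.core_eq_bot.1 hO) g hz hZ hc (H25.im_mono θ hQS)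
    (H25.im_le_nz_im θ hQS ((H25.normal_subgroupOf_iff' hQS).1 (H4.normal_of_index_prime hS hQi)))
    (by rw [H25.card_im R.inj hQS, ← c]; exact (H25.card_im R.inj le_rfl).le)
  refine (H25.im_inj R.inj inf_le_left (inf_le_left.trans hQS)).1 ?_
  rw [H25.im_inf_cz R.inj le_rfl, H25.im_inf_cz R.inj hQS]
  exact this

end Cfsg.Agent.S5178
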