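import Cfsg.Statements.S5179
import Cfsg.Agent.H4.G3l

set_option autoImplicit false
universe u
open Cfsg

namespace Cfsg.Agent.S5179

/-- Let p be an odd prime, S a finite p-group of order at least p⁶ containing an extraspecial subgroup Q of index p, and F a saturated fusion system over S whose largest subgroup normal in F is trivial. Then no proper subgroup of Q is essential in F: an essential subgroup of F contained in Q equals Q. -/
theorem result {Ω : Type u} [Group Ω] {S : Subgroup Ω} [Finite S] (p : ℕ) [Fact p.Prime] (hp : Odd p) (hS : IsPGroup p S)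
    (Q : Subgroup Ω) (hQS : Q ≤ S) (hQ : Cfsg.IsExtraspecial p ↥Q) (hQi : (Q.subgroupOf S).index = p)
    (h6 : p ^ 6 ≤ Nat.card S)
    (F : Cfsg.FusionSystem S) (hF : F.IsSaturated p) (hO : F.core = ⊥)
    (E : Subgroup Ω) (hEQ : E ≤ Q) (hE : F.IsEssential p E) : E = Q := by
  obtain ⟨M, θ, R⟩ := H25.exists_rep F
  have h1 := R.sat hS hF
  obtain ⟨z, g, hz, hZ, hc⟩ := H4.G3.ge_im R.inj hQS hQ
  have c : Nat.card S = Nat.card Q * p := by
    rw [← hQi, ← (Q.subgroupOf S).card_mul_index, Nat.card_congr (Subgroup.subgroupOfEquivOfLe hQS).toEquiv]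
  by_contra hn
  have := (H4.G3.ess_ge h1 g (H25.im_mono θ hQS) (R.ess h1 hE)
    ((H25.im_lt_im R.inj (hEQ.trans hQS) hQS).2 (lt_of_le_of_ne hEQ hn))).2.trans (Nat.mul_le_mul_right _
      (Nat.mul_le_mul_right _ ((Subgroup.card_le_of_le hZ).trans (H4.G3.card_zp_le_p g.pow))))
  rw [H25.card_im R.inj hQS] at this
  have p1 := (Fact.out : p.Prime).one_lt
  have h2 : p ^ 6 ≤ p ^ 4 := h6.trans (c.le.trans ((Nat.mul_le_mul_right p this).trans_eq (by ring)))
  exact absurd ((Nat.pow_le_pow_iff_right p1).1 h2) (by decide)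

end Cfsg.Agent.S5179
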