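import Cfsg.Statements.S5180
import Cfsg.Agent.H4.G3k

set_option autoImplicit false
universe u
open Cfsg

namespace Cfsg.Agent.S5180

/-- Let p ≥ 5 be a prime, S a finite p-group of sectional p-rank exactly 3, and F a saturated fusion system over S. Then every essential subgroup E of F that needs three generators (the Frattini quotient E/Φ(E) has order p³) is normal in S. -/
theorem result {Ω : Type u} [Group Ω] {S : Subgroup Ω} [Finite S] (p : ℕ) [Fact p.Prime] (hp : 5 ≤ p) (hS : IsPGroup p S) (hsr : Cfsg.SectionalPRankLE p 3 ↥S ∧ ¬ Cfsg.SectionalPRankLE p 2 ↥S)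
    (F : Cfsg.FusionSystem S) (hF : F.IsSaturated p) (E : Subgroup Ω) (hE : F.IsEssential p E)
    (hrk : (frattini ↥E).index = p ^ 3) : S ≤ Subgroup.normalizer (E : Set Ω) := by
  obtain ⟨M, θ, R⟩ := H25.exists_rep F
  have h1 := R.sat hS hF
  have hle : E ≤ S := hE.1.1
  by_contra hn
  obtain ⟨-, -, c⟩ := H4.G3.nonnormal h1 (H4.G3.rk_of_sect hS θ hsr.1) hp (R.ess h1 hE) fun h =>
    hn fun x hx => (H25.ex_mem_nz_iff R.inj hx hle).1 (h (H25.ex_mem_im θ le_rfl hx))
  rw [H25.card_im R.inj hle] at c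
  have := (frattini E).index_dvd_card
  rw [hrk, c, Nat.pow_dvd_pow_iff_le_right (Fact.out : p.Prime).one_lt] at this
  omega

end Cfsg.Agent.S5180
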