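import Cfsg.Statements.S5181
import Cfsg.Agent.H4.G3k

set_option autoImplicit false
universe u
open Cfsg

namespace Cfsg.Agent.S5181

/-- Let p be an odd prime, S a finite p-group of sectional p-rank exactly 3, and F a saturated fusion system over S whose largest subgroup normal in F is trivial. Then either S is isomorphic to a Sylow p-subgroup of Sp(4,p), or some essential subgroup of F is not normal in S. -/
theorem result {Ω : Type u} [Group Ω] {S : Subgroup Ω} [Finite S] (p : ℕ) [Fact p.Prime] (hp : Odd p) (hS : IsPGroup p S) (hsr : Cfsg.SectionalPRankLE p 3 ↥S ∧ ¬ Cfsg.SectionalPRankLE p 2 ↥S)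
    (F : Cfsg.FusionSystem S) (hF : F.IsSaturated p) (hO : F.core = ⊥) :
    (∃ P : Sylow p ↥(Matrix.symplecticGroup (Fin 2) (ZMod p)),
        Nonempty (↥S ≃* ↥(P : Subgroup ↥(Matrix.symplecticGroup (Fin 2) (ZMod p))))) ∨
      ∃ E : Subgroup Ω, F.IsEssential p E ∧ ¬ S ≤ Subgroup.normalizer (E : Set Ω) := by
  obtain ⟨M, θ, R⟩ := H25.exists_rep F
  have h1 := R.sat hS hF
  have hp2 : p ≠ 2 := by rintro rfl; exact absurd hp (by decide)
  have rk := H4.G3.rk_of_sect hS θ hsr.1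
  rw [or_iff_not_imp_right]
  intro hn
  push Not at hn
  have h2 : (H25.fs θ F).S ≠ ⊥ := fun h => hsr.2 fun H N _ A _ _ => by
    obtain rfl := (H25.im_eq_bot R.inj le_rfl).1 h
    haveI : Subsingleton (H ⧸ N) := QuotientGroup.mk_surjective.subsingleton
    rw [Nat.card_of_subsingleton (1 : A)]
    exact Nat.one_le_pow _ _ (Fact.out : p.Prime).pos
  rcases H4.G3.allnormal h1 rk hp2 (R.core_eq_bot.1 hO) h2 (fun E hE => by
    obtain ⟨E, a1, -, rfl⟩ := H25.exists_im hE.le
    exact H25.im_le_nz_im θ a1 (hn E ((R.ess_iff h1 a1).2 hE))) with ⟨o, c, E, r⟩ | ⟨E, E', r, r', o⟩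
  · have := H4.G3.lt_card_of_sect hsr.2 hS fun h => r.2.2.lc.lt.not_ge fun x hx => r.2.2.cen_le
      ⟨hx, (H25.isMulCommutative_im R.inj le_rfl).2 h hx⟩
    rw [← H25.card_im R.inj le_rfl] at this
    refine absurd (this.trans_eq o.card) (not_lt.2 ?_)
    rw [pow_succ, pow_two]
    gcongr
  · obtain ⟨P, ⟨e⟩⟩ := o.sylow hp2 r.2.2 r'.2.2
    exact ⟨P, ⟨(H25.imEquiv R.inj le_rfl).trans e⟩⟩

end Cfsg.Agent.S5181
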