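import Cfsg.Statements.S5182
import Cfsg.Agent.H4.G3k

set_option autoImplicit false
universe u
open Cfsg

namespace Cfsg.Agent.S5182

/-- Let p ≥ 5 be a prime, S a finite p-group of sectional p-rank exactly 3, and F a saturated fusion system over S whose largest subgroup normal in F is trivial. Then F has an essential subgroup that is either elementary abelian of order p² or extraspecial of order p³ and exponent p. -/
theorem result {Ω : Type u} [Group Ω] {S : Subgroup Ω} [Finite S] (p : ℕ) [Fact p.Prime] (hp : 5 ≤ p) (hS : IsPGroup p S) (hsr : Cfsg.SectionalPRankLE p 3 ↥S ∧ ¬ Cfsg.SectionalPRankLE p 2 ↥S)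
    (F : Cfsg.FusionSystem S) (hF : F.IsSaturated p) (hO : F.core = ⊥) :
    ∃ E : Subgroup Ω, (F.IsEssential p E ∧ ((Cfsg.IsElementaryAbelian p E ∧ Nat.card E = p ^ 2) ∨
        (Cfsg.IsExtraspecial p ↥E ∧ Nat.card E = p ^ 3 ∧ ∀ x ∈ E, x ^ p = 1))) := by
  obtain ⟨M, θ, R⟩ := H25.exists_rep F
  have h1 := R.sat hS hF
  have hp2 : p ≠ 2 := by omega
  have p0 := (Fact.out : p.Prime).pos
  have rk := H4.G3.rk_of_sect hS θ hsr.1
  by_cases hn : ∀ E, (H25.fs θ F).Ess E → (H25.fs θ F).S ≤ H25.nz E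
  swap
  · push Not at hn
    obtain ⟨E, hE, h⟩ := hn
    obtain ⟨a1, a2, a3⟩ := H4.G3.nonnormal h1 rk hp hE h
    obtain ⟨E, b1, -, rfl⟩ := H25.exists_im hE.le
    exact ⟨E, (R.ess_iff h1 b1).2 hE, .inl ⟨⟨(H4.G3.cm_im R.inj b1).1 a1, H4.G3.pw_im R.inj b1 a2⟩,
      (H25.card_im R.inj b1).symm.trans a3⟩⟩
  have h2 : (H25.fs θ F).S ≠ ⊥ := fun h => hsr.2 fun H N _ A _ _ => by
    obtain rfl := (H25.im_eq_bot R.inj le_rfl).1 h
    haveI : Subsingleton (H ⧸ N) := QuotientGroup.mk_surjective.subsingleton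
    rw [Nat.card_of_subsingleton (1 : A)]
    exact Nat.one_le_pow _ _ p0
  rcases H4.G3.allnormal h1 rk hp2 (R.core_eq_bot.1 hO) h2 hn with ⟨o, c, E, r⟩ | ⟨E, E', r, r', o⟩
  · have := H4.G3.lt_card_of_sect hsr.2 hS fun h => r.2.2.lc.lt.not_ge fun x hx => r.2.2.cen_le
      ⟨hx, (H25.isMulCommutative_im R.inj le_rfl).2 h hx⟩
    rw [← H25.card_im R.inj le_rfl] at this
    refine absurd (this.trans_eq o.card) (not_lt.2 ?_)
    rw [pow_succ, pow_two]
    gcongr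
  · obtain ⟨E, a1, -, rfl⟩ := H25.exists_im r.2.2.le
    obtain ⟨E', a2, -, rfl⟩ := H25.exists_im r'.2.2.le
    obtain ⟨b1, b2, b3, -⟩ := o.out R.inj a1 a2
    exact ⟨E', (R.ess_iff h1 a2).2 (H4.G3.ess_of_ge0 h1 r'), .inr ⟨b1, b2, b3⟩⟩

end Cfsg.Agent.S5182
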