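import Cfsg.Statements.S5186
import Cfsg.Agent.H4.Ess3

set_option autoImplicit false
universe u
open Cfsg

namespace Cfsg.Agent.S5186

/-- Let F be a saturated fusion system over a finite p-group S and H an essential subgroup of order p³. Then H is elementary abelian, or p is odd and H is extraspecial of exponent p, or p = 2 and H is the quaternion group of order 8. -/
theorem result {Ω : Type u} [Group Ω] {S : Subgroup Ω} [Finite S] (p : ℕ) [Fact p.Prime] (hS : IsPGroup p S)
    (F : Cfsg.FusionSystem S) (hF : F.IsSaturated p) (H : Subgroup Ω) (hH : F.IsEssential p H) (hcard : Nat.card H = p ^ 3) :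
    Cfsg.IsElementaryAbelian p H ∨ (Odd p ∧ Cfsg.IsExtraspecial p ↥H ∧ ∀ x ∈ H, x ^ p = 1) ∨
      (p = 2 ∧ Nonempty (↥H ≃* QuaternionGroup 2)) := by
  obtain ⟨x, -, α, -, -, -, r⟩ := H4.exists_RA hS hF hH
  haveI : Finite H := Finite.of_injective _ (Subgroup.inclusion_injective hH.1.1)
  rcases r.cube hcard with ⟨h1, h2⟩ | ⟨h1, h2, h3⟩ | h
  · exact .inl ⟨H4.isMulCommutative_iff'.2 h1, fun a ha => congrArg Subtype.val (h2 ⟨a, ha⟩)⟩
  · exact .inr (.inl ⟨h1, h2, fun a ha => congrArg Subtype.val (h3 ⟨a, ha⟩)⟩)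
  · exact .inr (.inr h)

end Cfsg.Agent.S5186
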