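import Cfsg.Statements.S5187
import Cfsg.Agent.H4.Ess2

set_option autoImplicit false
universe u
open Cfsg

namespace Cfsg.Agent.S5187

/-- Let F be a saturated fusion system over a finite p-group S and H an abelian essential subgroup that can be generated by two elements (its Frattini quotient has order at most p²). Then H is elementary abelian of order p², or p ≤ 3 and H is homocyclic of rank two, that is isomorphic to C_{pᵏ} × C_{pᵏ} for some k. -/
theorem result {Ω : Type u} [Group Ω] {S : Subgroup Ω} [Finite S] (p : ℕ) [Fact p.Prime] (hS : IsPGroup p S)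
    (F : Cfsg.FusionSystem S) (hF : F.IsSaturated p) (H : Subgroup Ω) (hH : F.IsEssential p H) (hab : IsMulCommutative ↥H) (hrk : (frattini ↥H).index ≤ p ^ 2) :
    (Cfsg.IsElementaryAbelian p H ∧ Nat.card H = p ^ 2) ∨
      (p ≤ 3 ∧ ∃ k : ℕ, Nonempty (↥H ≃* Multiplicative (ZMod (p ^ k) × ZMod (p ^ k)))) := by
  obtain ⟨x, -, α, -, -, -, r⟩ := H4.exists_RA hS hF hH
  haveI : Finite H := Finite.of_injective _ (Subgroup.inclusion_injective hH.1.1)
  obtain ⟨n, h1, h2, h3 | h3, h4⟩ := r.homoc (H4.isMulCommutative_iff'.1 hab) hrk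
  · subst h3
    exact .inl ⟨⟨hab, fun a ha => by simpa using congrArg Subtype.val (h1 ⟨a, ha⟩)⟩,
      by simpa [sq] using h2⟩
  · exact .inr ⟨h3, _, h4⟩

end Cfsg.Agent.S5187
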