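import Cfsg.Statements.S5189
import Cfsg.Agent.H4.G3k

set_option autoImplicit false
universe u
open Cfsg

namespace Cfsg.Agent.S5189

/-- Let p be an odd prime, S a finite p-group of sectional p-rank exactly 3, and F a saturated fusion system over S whose largest subgroup normal in F is trivial. Suppose S has two distinct essential subgroups E₁, E₂ each of which is invariant under every F-automorphism of S. Then S is isomorphic to a Sylow p-subgroup of Sp(4,p), and one of E₁, E₂ is extraspecial of order p³ and exponent p while the other is elementary abelian of order p³. -/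
theorem result {Ω : Type u} [Group Ω] {S : Subgroup Ω} [Finite S] (p : ℕ) [Fact p.Prime] (hp : Odd p) (hS : IsPGroup p S)
    (hsr : Cfsg.SectionalPRankLE p 3 ↥S ∧ ¬ Cfsg.SectionalPRankLE p 2 ↥S)
    (F : Cfsg.FusionSystem S) (hF : F.IsSaturated p) (hO : F.core = ⊥)
    (E₁ E₂ : Subgroup Ω) (hne : E₁ ≠ E₂) (hE₁ : F.IsEssential p E₁) (hE₂ : F.IsEssential p E₂)
    (hc₁ : (∀ φ : MulAut ↥S, φ ∈ F.autGroup S → (E₁.subgroupOf S).map φ.toMonoidHom = E₁.subgroupOf S))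
    (hc₂ : (∀ φ : MulAut ↥S, φ ∈ F.autGroup S → (E₂.subgroupOf S).map φ.toMonoidHom = E₂.subgroupOf S)) :
    (∃ P : Sylow p ↥(Matrix.symplecticGroup (Fin 2) (ZMod p)),
        Nonempty (↥S ≃* ↥(P : Subgroup ↥(Matrix.symplecticGroup (Fin 2) (ZMod p))))) ∧
      ((Cfsg.IsExtraspecial p ↥E₁ ∧ Nat.card E₁ = p ^ 3 ∧ (∀ x ∈ E₁, x ^ p = 1) ∧
          Cfsg.IsElementaryAbelian p E₂ ∧ Nat.card E₂ = p ^ 3) ∨
        (Cfsg.IsExtraspecial p ↥E₂ ∧ Nat.card E₂ = p ^ 3 ∧ (∀ x ∈ E₂, x ^ p = 1) ∧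
          Cfsg.IsElementaryAbelian p E₁ ∧ Nat.card E₁ = p ^ 3)) := by
  obtain ⟨M, θ, R⟩ := H25.exists_rep F
  have h1 := R.sat hS hF
  have hp2 : p ≠ 2 := by rintro rfl; exact absurd hp (by decide)
  have rk := H4.G3.rk_of_sect hS θ hsr.1
  have l1 : E₁ ≤ S := hE₁.1.1
  have l2 : E₂ ≤ S := hE₂.1.1
  have e1 := R.ess h1 hE₁
  have e2 := R.ess h1 hE₂
  have key : ∀ E ≤ S, (∀ φ : MulAut ↥S, φ ∈ F.autGroup S →
      (E.subgroupOf S).map φ.toMonoidHom = E.subgroupOf S) →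
      (H25.fs θ F).A (H25.fs θ F).S ≤ H25.nz (H25.im θ E) := fun E l h g hg => by
    obtain ⟨α, hα, e⟩ := R.exists_aut le_rfl hg
    rw [H25.mem_nz, ← e.im_map le_rfl (fun x => (α x).2) l, ← Subgroup.map_map, h α hα,
      Subgroup.subgroupOf_map_subtype, inf_eq_left.2 l]
  have n1 := key E₁ l1 hc₁
  have n2 := key E₂ l2 hc₂
  have SA := (H25.FS.le_N le_rfl).trans ((H25.fs θ F).N_le_A (H25.fs θ F).S)
  have r1 := (H4.G3.ge0_top h1 rk e1 (SA.trans n1)).2.2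
  have r2 := (H4.G3.ge0_top h1 rk e2 (SA.trans n2)).2.2
  have c := H4.G3.lt_card_of_sect hsr.2 hS fun h => r1.lc.lt.not_ge fun x hx => r1.cen_le
    ⟨hx, (H25.isMulCommutative_im R.inj le_rfl).2 h hx⟩
  rw [← H25.card_im R.inj le_rfl] at c
  rcases H4.G3.two_inv h1 rk hp2 (R.core_eq_bot.1 hO) c e1 e2
    (fun h => hne ((H25.im_inj R.inj l1 l2).1 h)) n1 n2 with o | o
  · obtain ⟨P, ⟨e⟩⟩ := o.sylow hp2 r1 r2
    exact ⟨⟨P, ⟨(H25.imEquiv R.inj le_rfl).trans e⟩⟩, .inr (o.out R.inj l1 l2)⟩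
  · obtain ⟨P, ⟨e⟩⟩ := o.sylow hp2 r2 r1
    exact ⟨⟨P, ⟨(H25.imEquiv R.inj le_rfl).trans e⟩⟩, .inl (o.out R.inj l2 l1)⟩

end Cfsg.Agent.S5189
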