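import Cfsg.Statements.S5192
import Cfsg.Agent.H25.OP

set_option autoImplicit false
open Cfsg

namespace Cfsg.Agent.S5192
open H25 Subgroup

/-- A Thompson-type transfer for saturated fusion systems. Let F be a saturated fusion system on a finite 2-group S, T a subgroup of S of index 2, and i an involution of S such that every fully normalized F-conjugate of i lies in S but outside T. Then i does not lie in the hyperfocal subgroup of F (the Sylow group of the 2-residual subsystem). -/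
theorem result {Ω : Type*} [Group Ω] [Finite Ω] {S : Subgroup Ω}
    (hS : IsPGroup 2 ↥S) (F : Cfsg.FusionSystem S) (hF : F.IsSaturated 2)
    (T : Subgroup Ω) (hTS : T ≤ S) (hT : T.relIndex S = 2)
    (i : Ω) (hi : i ∈ S) (hi2 : orderOf i = 2)
    (h : ∀ j : Ω, F.IsConjElt i j → F.IsFullyNormalized (Subgroup.zpowers j) → j ∉ T) :
    i ∉ F.hyperfocalSubgroup 2 := by
  obtain ⟨M, θ, R⟩ := exists_rep F
  have hs := R.sat hS hF
  intro h1
  have h2 : ex θ i ∈ (fs θ F).foc := (fs θ F).hyp_le_foc 2 (R.im_hyp (p := 2) ▸ ex_mem_im θ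
    (hyp_le_S F 2) h1)
  have h3 : (im θ T).relIndex (fs θ F).S = 2 := (relIndex_im R.inj le_rfl).trans hT
  obtain ⟨χ, e⟩ := exists_hom_prime (im_mono θ hTS) ((normal_subgroupOf_iff' (im_mono θ hTS)).1
    (normal_of_index_eq_two h3)) h3
  obtain ⟨g, H, h4⟩ := FS.exists_FC (zpowers_le.2 ((fs θ F).foc_le h2))
  have h5 : ex θ i ^ 2 = 1 := by rw [← ex_pow θ hi, ← hi2, pow_orderOf_eq_one, ex_one]
  have h6 : ∀ c : Multiplicative (ZMod 2), c ≠ 1 → c = Multiplicative.ofAdd 1 := by decide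
  rw [cj_zpowers] at h4
  refine hs.thompson_transfer zmod_pow_eq_one (χ := χ) (a := Multiplicative.ofAdd 1)
    (by rw [conj_pow, h5]; simp) h4 (by decide) (fun k H' h7 => h6 _ fun h8 => ?_)
    ((fs θ F).sc_foc.conj_mem H (mem_zpowers _) h2)
  have h9 := H'.conj_mem (mem_zpowers _)
  obtain ⟨j, hj, e'⟩ := R.exists_ex h9
  refine h j ((R.conjElt_iff hi hj).2 ⟨k * g, H.mul (cj_zpowers g _ ▸ H'), by rw [e']; group⟩)
    ((R.fn_iff (zpowers_le.2 hj)).2 ?_) ((ex_mem_im_iff R.inj hj).1 (e.le (mem_pre_bot.2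
      ⟨e' ▸ h9, e' ▸ h8⟩)))
  have h10 : ∀ y : Univ M, y ^ 2 = 1 → nz (zpowers y) = cz (zpowers y) := fun y hy =>
    le_antisymm (fun a ha => mem_cz_zpowers.2 (by
      obtain ⟨n, hn⟩ := (mem_powers_iff_mem_zpowers).2 (conj_mem_of_mem_nz ha (mem_zpowers y))
      rcases Nat.even_or_odd' n with ⟨n, rfl | rfl⟩
      · simp only [pow_mul, hy, one_pow] at hn
        rw [← hn, conj_eq_one_iff.1 hn.symm]
      · simpa [pow_succ, pow_mul, hy] using hn.symm)) (cz_le_nz _)
  rw [im_zpowers θ hj, e', FS.FN_iff_FNK, h10 _ (by rw [conj_pow, conj_pow, h5]; simp),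
    ← FS.FC_iff_FNK]
  exact h7

end Cfsg.Agent.S5192
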