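import Cfsg.Statements.S5193
import Cfsg.Agent.H25.KL4

set_option autoImplicit false
open Cfsg

namespace Cfsg.Agent.S5193
open H25 Subgroup

/-- Glauberman's Theorem for fusion systems. Let F be a saturated fusion system over a finite p-group S, let J(S) be the subgroup generated by the abelian subgroups of S of largest order, and let N be the normalizer fusion system of J(S) in F (a fusion system over N_S(J(S)) = S). Then every p-th power of an element of Z(S) that lies in the centre of N lies in the centre of F; and if p is odd, or if the symmetric group of degree 4 is not involved in any model of the normalizer system of a fully normalized F-centric subgroup (F is S₄-free), then the centre of N equals the centre of F. -/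
theorem result {Ω : Type*} [Group Ω] {S : Subgroup Ω} [Finite S] (p : ℕ) [Fact p.Prime] (hS : IsPGroup p S) (F : Cfsg.FusionSystem S) (hF : F.IsSaturated p) (N : Cfsg.FusionSystem (Cfsg.FusionSystem.normalizerIn S (Cfsg.thompsonSubgroupAOf S))) (hN : F.IsNormalizerSystem (Cfsg.thompsonSubgroupAOf S) N) : Subgroup.closure ((fun z : Ω => z ^ p) '' ((S ⊓ Subgroup.centralizer (S : Set Ω) : Subgroup Ω) : Set Ω)) ⊓ N.center ≤ F.center ∧ (p ≠ 2 ∨ F.IsSectionFree p (Equiv.Perm (Fin 4)) → N.center = F.center) := by
  obtain ⟨M, θ, U⟩ := exists_urep S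
  have R := U.rep le_rfl F
  obtain ⟨R', e⟩ := R.normalizer (H9.thompsonSubgroupAOf_eq S ▸ H9.JJ_le 0 S) hN
  replace e := e.trans (by rw [H9.thompsonSubgroupAOf_eq, im_JJ U.inj le_rfl])
  have h0 : Subgroup.closure ((fun z => z ^ p) '' ((S ⊓ cz S : Subgroup Ω) : Set Ω)) =
      powerClosure p 1 (S ⊓ cz S) := by
    simp only [powerClosure, pow_one, Set.image, eq_comm, SetLike.mem_coe]
  rw [h0, ← im_le_im U.inj (inf_le_left.trans ((pc_le _ _ _).trans inf_le_left)), im_inf U.inj,
    im_pc θ inf_le_left, im_inf_cz U.inj le_rfl,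
    ← im_inj U.inj ((center_le_S N).trans inf_le_left) (center_le_S F), R.im_center, R'.im_center, e]
  exact ⟨((R.sat hS hF).cen_of_qfun FS.fun_JJ qfun_JJ (U.big_S F) inf_le_left
    ((FS.cen_center _).mono' inf_le_right)).le_center, fun h => FS.TC.center_JJ
      ⟨R.sat hS hF, U.big_S F, h.imp_right (U.free_iff le_rfl hS).1⟩⟩

end Cfsg.Agent.S5193
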