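import Cfsg.Statements.S5195
import Cfsg.Agent.H25.KL3

set_option autoImplicit false
open Cfsg

namespace Cfsg.Agent.S5195
open H25 Subgroup

/-- A strengthened Frobenius normal p-complement criterion for fusion systems. Let F be a saturated fusion system over a finite p-group S such that p is odd or F is S₄-free (the symmetric group of degree 4 is not involved in any model of the normalizer system of a fully normalized F-centric subgroup). If Aut_F(Q) is a p-group for every nontrivial characteristic subgroup Q of S, then F is the inner fusion system of S. -/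
theorem result {Ω : Type*} [Group Ω] {S : Subgroup Ω} [Finite S] (p : ℕ) [Fact p.Prime] (hS : IsPGroup p S) (F : Cfsg.FusionSystem S) (hF : F.IsSaturated p) (hp : p ≠ 2 ∨ F.IsSectionFree p (Equiv.Perm (Fin 4))) (h : ∀ Q : Subgroup Ω, Q ≤ S → Q ≠ ⊥ → (Q.subgroupOf S).Characteristic → IsPGroup p (F.autGroup Q)) : ∀ P : Subgroup Ω, F.Hom P = (Cfsg.innerFusionSystem S).Hom P := by
  obtain ⟨M, θ, U⟩ := exists_urep S
  have R := U.rep le_rfl F
  refine R.inner_iff.2 (FS.TC.eq_inner_of_aut _ ⟨R.sat hS hF, U.big_S F,
    hp.imp_right (U.free_iff le_rfl hS).1⟩ fun Q h1 h2 h3 => ?_)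
  obtain ⟨Q, hQ, rfl⟩ := R.exists_im h2
  exact (R.isPGroup_aut_iff hQ).1 (h Q hQ (fun e => h1 (by rw [e, im_bot]))
    ((U.char_iff le_rfl hQ).2 h3))

end Cfsg.Agent.S5195
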