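import Cfsg.Statements.S5196
import Cfsg.Agent.H25.KL3

set_option autoImplicit false
universe u
open Cfsg

namespace Cfsg.Agent.S5196
open H25 Subgroup

/-- Let p be an odd prime and W a positive characteristic p-functor: W assigns to every finite p-group Q (in a fixed universe) a subgroup W(Q), nontrivial when Q is, carried to W(R) by every isomorphism Q ≅ R; assume also Z(Q) ≤ W(Q) for every finite p-group Q. Suppose W satisfies the local condition: for every finite group G with Sylow p-subgroup P, O_p(G) ∩ Z(G) = O_p(G) ∩ Z(N_G(W(P))). Then W controls weak closure of elements in every saturated fusion system F over a finite p-group S: the centre of the normalizer fusion system of W(S) in F equals the centre of F. (For p = 2 no functor satisfies the local condition, so p is taken odd.) -/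
theorem result {p : ℕ} [Fact p.Prime] (hp : p ≠ 2) (W : ∀ (Q : Type u) [Group Q], Subgroup Q) (hW1 : ∀ (Q : Type u) [Group Q] [Finite Q], IsPGroup p Q → Nontrivial Q → W Q ≠ ⊥) (hW2 : ∀ (Q R : Type u) [Group Q] [Group R] [Finite Q], IsPGroup p Q → ∀ φ : Q ≃* R, (W Q).map φ.toMonoidHom = W R) (hWZ : ∀ (Q : Type u) [Group Q] [Finite Q], IsPGroup p Q → Subgroup.center Q ≤ W Q) (hC : ∀ (G : Type u) [Group G] [Finite G] (P : Sylow p G), Cfsg.pCore p G ⊓ Subgroup.center G = Cfsg.pCore p G ⊓ (Subgroup.center ↥(Subgroup.normalizer (((W ↥(P : Subgroup G)).map (P : Subgroup G).subtype : Subgroup G) : Set G))).map (Subgroup.normalizer (((W ↥(P : Subgroup G)).map (P : Subgroup G).subtype : Subgroup G) : Set G)).subtype) {Ω : Type u} [Group Ω] {S : Subgroup Ω} [Finite S] (hS : IsPGroup p S) (F : Cfsg.FusionSystem S) (hF : F.IsSaturated p) (N : Cfsg.FusionSystem (Cfsg.FusionSystem.normalizerIn S ((W ↥S).map S.subtype))) (hN : F.IsNormalizerSystem ((W ↥S).map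 S.subtype) N) : N.center = F.center := by
  obtain ⟨M, θ, U⟩ := exists_urep S
  have R := U.rep le_rfl F
  have hW : IsCharPFunctor p W := ⟨hW1, hW2⟩
  have hs := R.sat hS hF
  obtain ⟨R', e⟩ := R.normalizer (map_subtype_le _) hN
  rw [← im_inj U.inj ((center_le_S N).trans inf_le_left) (center_le_S F), R.im_center,
    R'.im_center, e, im_ind_eq hW hS U.inj]
  have h0 := fun_fnc (Γ := Univ M) hW
  have h1 : ((fs θ F).NF (fnc W (im θ S))).S = (fs θ F).S :=
    inf_eq_left.2 ((le_nz_self _).trans (h0.nz _ hs.pg))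
  have h2 := hs.NF (FS.FN_of_le_nz (h0.le _) ((le_nz_self _).trans (h0.nz _ hs.pg)))
  refine le_antisymm (fun z hz => ?_) ((FS.cen_center _).of_le h2 (FS.NF_le _ _)
    ((FS.center_le _).trans h1.ge)).le_center
  have h3 := (FS.cen_center _).mono' (zpowers_le.2 hz)
  refine zpowers_le.1 (pow_one z ▸ FS.cls_sat.cen_fun (e := 1) h0 (fun E h hc z hz h4 => ?_) _
    ⟨hs, U.big_S F⟩ z ⟨h1.le (FS.center_le _ hz), h1 ▸ zpowers_le.1 h3.le_cz_S⟩
    (by rwa [pow_one])).le_center
  obtain ⟨H, hH, -⟩ := hc.exists_mdl h.2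
  rw [pow_one] at h4 ⊢
  have h5 : (E.NF (fnc W E.S)).Mdl p (H ⊓ nz (fnc W E.S)) := by
    rw [FS.NF, hH.NK (h0.le _) (cz_le_nz _) le_rfl, inf_eq_left.2
      ((le_nz_self _).trans (h0.nz _ hH.pg))]
    exact FS.mdl_ofSub hH.pg (hH.syl.mono_right (le_inf hH.le
      ((le_nz_self _).trans (h0.nz _ hH.pg))) inf_le_left) (hH.chP.of_le inf_le_left
      (hH.syl.Op_bot_le.trans (le_inf hH.le ((le_nz_self _).trans (h0.nz _ hH.pg)))))
  have h6 := (h5.cen_iff.1 h4).2
  have h7 : z ∈ Op p H ⊥ := hH.chP ⟨hH.le hz.1, cz_anti hH.syl.Op_bot_le hz.2⟩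
  refine hH.cen_iff.2 ⟨zpowers_le.2 hz.1, ?_⟩
  obtain ⟨G, _, _, i, T, hi, rfl, hT⟩ := exists_sylow_embed.{u} hH.pg hH.syl
  rw [← hT, ← map_ind_eq hW T.isPGroup' hi, ← map_nz hi] at h6
  rw [← map_pCore_inj hi] at h7
  obtain ⟨y, hy, rfl⟩ := h7
  have h8 : ∀ g, i g ∈ cz (zpowers (i y)) ↔ g * y = y * g := fun g => by
    rw [mem_cz_zpowers, mul_inv_eq_iff_eq_mul, ← map_mul, ← map_mul, hi.eq_iff]
  have h9 : y ∈ nz ((W (T : Subgroup G)).map (T : Subgroup G).subtype) := by
    have := (mem_inf.1 hz).1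
    rw [← hT, mem_map_iff_mem hi] at this
    refine mem_nz_of_conj_mem ?_
    rintro _ ⟨x, hx, rfl⟩
    have h10 := hW2 _ _ T.isPGroup' (MulAut.conj (⟨y, this⟩ : (T : Subgroup G)))
    exact ⟨_, h10.le ⟨x, hx, rfl⟩, rfl⟩
  have h10 := (hC G T).ge ⟨hy, ⟨y, h9⟩, mem_center_iff.2 fun g => Subtype.ext
    ((h8 g).1 (h6 (mem_map_of_mem i g.2))), rfl⟩
  rintro _ ⟨g, rfl⟩
  exact (h8 g).2 (mem_center_iff.1 h10.2 g)

end Cfsg.Agent.S5196
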