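import Cfsg.Statements.S5198
import Cfsg.Agent.H25.Misc

set_option autoImplicit false
open Cfsg

namespace Cfsg.Agent.S5198
open _root_.H25 Subgroup

/-- Let F be a saturated fusion system over a finite p-group S and T a subgroup of S strongly closed in F (so T is normal in S). Then every element x of the hyperfocal subgroup of F acts on T by conjugation as an element of O^p(Aut_F(T))·Inn(T): there is an automorphism of T in the subgroup generated by the elements of Aut_F(T) of order prime to p together with the inner automorphisms of T that agrees with conjugation by x. -/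
theorem result {Ω : Type*} [Group Ω] {S : Subgroup Ω} [Finite S] (p : ℕ) [Fact p.Prime] (hS : IsPGroup p S) (F : Cfsg.FusionSystem S) (hF : F.IsSaturated p) (T : Subgroup Ω) (hT : F.StronglyClosed T) : ∀ x ∈ F.hyperfocalSubgroup p, ∃ α ∈ ((Cfsg.pResidual p ↥(F.autGroup T)).map (F.autGroup T).subtype ⊔ Cfsg.Inn ↥T : Subgroup (MulAut ↥T)), ∀ t : ↥T, ((α t : ↥T) : Ω) = x * (t : Ω) * x⁻¹ := by
  intro x hx
  obtain ⟨M, θ, R⟩ := exists_rep F
  have h1 := hT.1
  have h2 : ex θ x ∈ lift θ T ((pResidual p (F.autGroup T)).map (F.autGroup T).subtype ⊔ Inn T) := by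
    rw [lift, pre_sup ((map_subtype_le _).trans (R.autGroup_le_range h1)) (Inn_le_range R.inj h1)]
    exact sup_le_sup (le_sup_left.trans (R.lift_resid h1).ge) ((le_ai_self _).trans
      (lift_Inn R.inj h1).ge) ((R.sat hS hF).hyp_le_resid (R.sc hT)
        (R.im_hyp (p := p) ▸ ex_mem_im θ (hyp_le_S F p) hx))
  obtain ⟨α, hα, e⟩ := (mem_lift R.inj h1).1 h2
  have h3 := hyp_le_S F p hx
  exact ⟨α, hα, fun t => ex_inj R.inj (h1 (α t).2) (mul_mem (mul_mem h3 (h1 t.2)) (inv_mem h3))
    ((e t).trans (ex_conj θ h3 (h1 t.2)).symm)⟩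

end Cfsg.Agent.S5198
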