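import Cfsg.Statements.S5202
import Cfsg.Agent.H25.RS

set_option autoImplicit false
open Cfsg

namespace Cfsg.Agent.S5202
open _root_.H25 Subgroup

/-- Let F be a saturated fusion system over a finite p-group S and E a normal subsystem of F over T such that Aut_F(T)/Aut_E(T) is p-solvable. Then there is a normal subsystem F₀ of F over T·C_S(T) containing E, with Aut_{F₀}(T) = Aut_E(T), containing every residual limit of F, and whose residual limits have the same maps as those of F. -/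
theorem result {Ω : Type*} [Group Ω] {S : Subgroup Ω} [Finite S] (p : ℕ) [Fact p.Prime] (hS : IsPGroup p S) (F : Cfsg.FusionSystem S) (hF : F.IsSaturated p) {T : Subgroup Ω} (E : Cfsg.FusionSystem T) (hE : E.IsNormalIn F p) [hn : ((E.autGroup T).subgroupOf (F.autGroup T)).Normal] (hsolv : Cfsg.IsPSolvable p (↥(F.autGroup T) ⧸ (E.autGroup T).subgroupOf (F.autGroup T))) : ∃ F₀ : Cfsg.FusionSystem (T ⊔ Cfsg.FusionSystem.centralizerIn S T), F₀.IsNormalIn F p ∧ E.IsSubsystemOf F₀ ∧ F₀.autGroup T = E.autGroup T ∧ ∀ {U : Subgroup Ω} (Finf : Cfsg.FusionSystem U), Finf.IsResidualLimitOf F p → Finf.IsSubsystemOf F₀ ∧ ∀ {V : Subgroup Ω} (L : Cfsg.FusionSystem V), L.IsResidualLimitOf F₀ p → ∀ P : Subgroup Ω, L.Hom P = Finf.Hom P := by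
  obtain ⟨M, θ, U'⟩ := exists_urep S
  have R := U'.rep le_rfl F
  obtain ⟨R', h⟩ := R.nml hS hE
  obtain ⟨D, e, h1, h2, h3, h4⟩ := h.exists_F0 (U'.big_S F) (R.pch (sub_of_nml hE) hsolv)
  have h5 := sup_le R'.le (R.C_le T)
  obtain ⟨D₀, R₀, rfl⟩ := exists_pb R.inj D h5 (by
    rw [e, im_sup θ R'.le (R.C_le T), R.im_C R'.le]; rfl)
  refine ⟨D₀, (R.nml_iff R₀ hS).2 h1, (R₀.le_iff R').2 h2,
    (R₀.autGroup_eq_iff R' le_sup_left le_rfl).2 h3, fun X hX => ?_⟩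
  obtain ⟨R₁, h6⟩ := Rep.rl hX R hS
  refine ⟨(R₀.le_iff R₁).2 (h4 _ h6), fun L hL => ?_⟩
  obtain ⟨R₂, h7⟩ := Rep.rl hL R₀ (hS.to_le h5)
  exact (R₁.hom_eq_iff R₂).2 (h6.eq_of_wn h7 h1.wn (h4 _ h6))

end Cfsg.Agent.S5202
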