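import Cfsg.Statements.S5206
import Cfsg.Agent.H25.KL5

set_option autoImplicit false
universe u
open Cfsg

namespace Cfsg.Agent.S5206
open H25 Subgroup

/-- Let p be an odd prime, G a finite group and P a Sylow p-subgroup of G. Then the fusion system of G on P is Qd(p)-free (Qd(p), the natural semidirect product of an elementary abelian group of order p² by SL₂(p), is not involved in any model of the normalizer system of a fully normalized centric subgroup) if and only if Qd(p) is not involved in G. -/
theorem result {G : Type u} [Group G] [Finite G] {p : ℕ} [Fact p.Prime] (hp : p ≠ 2) (P : Sylow p G) : (Cfsg.groupFusionSystem (P : Subgroup G)).IsSectionFree p ↥(Cfsg.qd p) ↔ ¬ Cfsg.Involves ↥(Cfsg.qd p) G := by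
  obtain ⟨M, j, -, hj, hB⟩ := exists_big_embed G 1 one_pos
  have U : URep (top j) := ⟨top_inj hj, (range_top j).symm ▸ hB⟩
  have e : fs (top j) (groupFusionSystem (P : Subgroup G)) = FS.ofSub j.range (im (top j) P) := by
    rw [groupFusionSystem_eq, fs_ofSubgroup (top_inj hj) le_rfl, im_self, range_top]
  have h1 : IsPGroup p (im (top j) P) := isPGroup_im _ P.isPGroup'
  have h2 : Syl p (im (top j) P) j.range := by
    have := (syl_sylow P).im (top j) le_rfl
    rwa [im_self, range_top] at this
  rw [U.free_iff le_top P.isPGroup', e, ← involves_range hj]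
  exact ⟨FS.Free.not_involves hp h1 h2 (hB.mono h2.le), FS.free_ofSub h1 h2 hB⟩

end Cfsg.Agent.S5206
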