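import Cfsg.Statements.S5207
import Cfsg.Agent.H15.RV.J
import Cfsg.Agent.H15.RV.K
import Cfsg.Agent.H15.RV.Q

set_option autoImplicit false
open Cfsg

namespace Cfsg.Agent.S5207

/-- Let p be an odd prime other than 7 and S a finite p-group that is extraspecial of order p³ and exponent p. Then every saturated fusion system over S is realizable: it is the fusion system of some finite group on a Sylow p-subgroup. -/
theorem result {Ω : Type*} [Group Ω] {S : Subgroup Ω} [Finite S] (p : ℕ) [Fact p.Prime] (hS : IsPGroup p S) (F : Cfsg.FusionSystem S) (hF : F.IsSaturated p) (hp : p ≠ 2) (hp7 : p ≠ 7) (hE : Cfsg.IsExtraspecial p ↥S) (hcard : Nat.card S = p ^ 3) (hexp : Monoid.exponent ↥S = p) : F.IsRealizable p := by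
  refine H15.RV.realizable hS F hF hp hp7 hE hcard hexp fun h => ?_
  rcases h with rfl | rfl | rfl
  exacts [⟨H15.RV.md3T, H15.RV.md3F⟩, ⟨H15.RV.md5 _, H15.RV.md5 _⟩, ⟨H15.RV.md13M _, H15.RV.md13M _⟩]

end Cfsg.Agent.S5207
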