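import Cfsg.Statements.S5213
import Cfsg.Agent.H4.R2f

set_option autoImplicit false
open Cfsg

namespace Cfsg.Agent.S5213

/-- Let S be a finite 2-group of 2-rank 2 (it has an elementary abelian subgroup of order 4 and none of order 8) and F a saturated fusion system over S with trivial centre. Then S is dihedral, semidihedral, wreathed, homocyclic abelian (a direct product of cyclic groups of one common order), or isomorphic to a Sylow 2-subgroup of the projective special unitary group PSU₃(4) (realised over the field with 16 elements). -/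
theorem result {Ω : Type*} [Group Ω] {S : Subgroup Ω} [Finite S] (hS : IsPGroup 2 S) (F : Cfsg.FusionSystem S) (hF : F.IsSaturated 2) (hr : Cfsg.PRankAtLeast 2 2 ↥S ∧ ¬ Cfsg.PRankAtLeast 2 3 ↥S) (hZ : F.center = ⊥) {K : Type*} [Field K] [Fintype K] (hK : Fintype.card K = 16) : (∃ m : ℕ, Nonempty (↥S ≃* DihedralGroup m)) ∨ Cfsg.IsQuasiDihedral ↥S ∨ Cfsg.IsWreathed ↥S ∨ (∃ n k : ℕ, Nonempty (↥S ≃* Multiplicative (Fin k → ZMod (2 ^ n)))) ∨ ∃ T : Sylow 2 (Cfsg.PSU 3 K 4), Nonempty (↥S ≃* ↥(T : Subgroup (Cfsg.PSU 3 K 4))) := by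
  obtain ⟨M, θ, R⟩ := H25.exists_rep F
  have e := (H25.imEquiv R.inj (le_refl S)).symm
  have h2 : Cfsg.PRankLE 2 2 S := fun A hA h => by
    by_contra! h3
    obtain ⟨n, hn⟩ := H4.exists_card_eq_pow hS A
    exact hr.2 ⟨A, hA, h, hn ▸ Nat.pow_le_pow_right two_pos
      ((Nat.pow_lt_pow_iff_right one_lt_two).1 (hn ▸ h3))⟩
  have h0 : S ≠ ⊥ := by
    rintro rfl
    obtain ⟨A, -, -, h⟩ := hr.1
    have := Subgroup.card_le_card_group A
    rw [Subgroup.card_bot] at this
    omega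
  rcases (H4.fs_rank_two (R.sat hS hF) (H4.pRankLE_of_inj h2 e.toMonoidHom e.injective)
    ((H25.im_eq_bot R.inj le_rfl).not.2 h0) (R.center_eq_bot.1 hZ)).out e hK default with
    ⟨m, -, h⟩ | h | h | ⟨n, -, ⟨f⟩⟩ | h
  · exact .inl ⟨m, h⟩
  · exact .inr (.inl h)
  · exact .inr (.inr (.inl h))
  · exact .inr (.inr (.inr (.inl ⟨n, 2, ⟨f.trans
      (AddEquiv.toMultiplicative (LinearEquiv.finTwoArrow ℕ _).symm.toAddEquiv)⟩⟩)))
  · exact .inr (.inr (.inr (.inr ⟨_, h⟩)))

end Cfsg.Agent.S5213
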