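import Cfsg.Statements.S5215
import Cfsg.Agent.H4.Rz5

set_option autoImplicit false
open Cfsg

namespace Cfsg.Agent.S5215

/-- Let S be a finite 2-group of 2-rank 2 (an elementary abelian subgroup of order 4, none of order 8) and F a simple saturated fusion system over S. Then S is dihedral, semidihedral or wreathed, and F is the fusion system of the projective special linear group PSL₂(q) for some odd prime power q ≡ ±1 (mod 8) or of PSL₃(q) for some odd prime power q: it is realized by an injective homomorphism of S into that group whose image is a Sylow 2-subgroup. -/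
theorem result {Ω : Type*} [Group Ω] {S : Subgroup Ω} [Finite S] (hS : IsPGroup 2 S) (F : Cfsg.FusionSystem S) (hF : F.IsSaturated 2) (hr : Cfsg.PRankAtLeast 2 2 ↥S ∧ ¬ Cfsg.PRankAtLeast 2 3 ↥S) (hsimple : F.IsSimple 2) : ((∃ m : ℕ, Nonempty (↥S ≃* DihedralGroup m)) ∨ Cfsg.IsQuasiDihedral ↥S ∨ Cfsg.IsWreathed ↥S) ∧ ∃ (K : Type) (_ : Field K) (_ : Fintype K) (q : ℕ), Fintype.card K = q ∧ Odd q ∧ (((q % 8 = 1 ∨ q % 8 = 7) ∧ ∃ ι : ↥S →* Matrix.ProjectiveSpecialLinearGroup (Fin 2) K, F.IsRealizedBy ι ∧ ∃ T : Sylow 2 (Matrix.ProjectiveSpecialLinearGroup (Fin 2) K), (T : Subgroup (Matrix.ProjectiveSpecialLinearGroup (Fin 2) K)) = ι.range) ∨ (∃ ι : ↥S →* Matrix.ProjectiveSpecialLinearGroup (Fin 3) K, F.IsRealizedBy ι ∧ ∃ T : Sylow 2 (Matrix.ProjectiveSpecialLinearGroup (Fin 3) K), (T : Subgroup (Matrix.ProjectiveSpecialLinearGroup (Fin 3) K)) = ι.range)) := by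
  obtain ⟨h1, h2, h3⟩ := H4.simple_facts hS hsimple (by
    obtain ⟨A, -, -, h⟩ := hr.1
    have := Subgroup.card_le_card_group A
    omega)
  rcases (H4.rank_two_cases hS hF hr h2).resolve_left h1 with ⟨m, hm, ⟨e⟩⟩ | h | h
  · refine ⟨.inl ⟨m, ⟨e⟩⟩, ?_⟩
    obtain ⟨n, x, a1, -, a2⟩ := (H10.dihedral_cases hS hm e).resolve_left fun h =>
      h1 (H4.isNormal_of_comm hS hF IsKleinFour.isMulCommutative)
    obtain ⟨w, a3, a4⟩ := a1.exists_out
    obtain ⟨n, rfl⟩ := Nat.exists_eq_add_of_le' a1.two_le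
    obtain ⟨K, _, _, _, k, b1, b2⟩ := H4.exists_field_sub (n + 2)
    have b3 : Fintype.card K = 8 * (2 ^ n * k) + 1 := by rw [b2]; ring
    refine ⟨K, inferInstance, inferInstance, _, rfl, Nat.odd_iff.2 (by omega), .inl ⟨.inl (by omega),
      H4.mc_full hF a1 (.inr a2) a3 a4 h3 ((H4.md_D b2 b1).of
        (iff_true_intro (a2 w a3 a4)).symm .rfl .rfl)⟩⟩
  · refine ⟨.inr (.inl h), ?_⟩
    obtain ⟨n, x, y, h⟩ := H10.exists_QD h
    obtain ⟨n, rfl⟩ := Nat.exists_eq_add_of_le' h.three_le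
    obtain ⟨K, _, _, _, k, b1, b2⟩ := H4.exists_field_add (n + 1)
    obtain ⟨T, a, b, c1, c2⟩ := H4.psl3_qd b2 b1
    rw [pow_succ', mul_assoc] at b2
    exact ⟨K, inferInstance, inferInstance, _, rfl, Nat.odd_iff.2 (by omega), .inr
      (H4.mc_full hF h.mc (.inl h.three_le) h.y_mem h.y_out h3 ((H4.md_full H4.psl3_perfect c1.mc c1.y_mem
        c1.y_out c2).of (iff_of_true c1.y_sq h.y_sq) .rfl .rfl))⟩
  · refine ⟨.inr (.inr h), ?_⟩
    obtain ⟨n, x, y, z, h⟩ := H10.exists_Wr h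
    obtain ⟨n, rfl⟩ := Nat.exists_eq_add_of_le' h.two_le
    obtain ⟨K, _, _, _, k, b1, b2⟩ := H4.exists_field_sub (n + 1)
    obtain ⟨T, a, b, c, c1, c2⟩ := H4.psl3_wr b2 b1
    rw [pow_succ', mul_assoc] at b2
    exact ⟨K, inferInstance, inferInstance, _, rfl, Nat.odd_iff.2 (by omega), .inr
      (H4.wr_full hF h h3 (H4.wd_full H4.psl3_perfect c1 c2))⟩

end Cfsg.Agent.S5215
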