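import Cfsg.Statements.S5218
import Cfsg.Agent.H25.KL6

set_option autoImplicit false
open Cfsg

namespace Cfsg.Agent.S5218
open H25 Subgroup

theorem im_lcs {Ω Γ : Type*} [Group Ω] [Group Γ] {S : Subgroup Ω} (θ : S →* Γ) (n : ℕ) :
    im θ (S.lowerCentralSeries n) = (im θ S).lowerCentralSeries n := by
  induction n with
  | zero => rfl
  | succ n ih => rw [Subgroup.lowerCentralSeries_succ, Subgroup.lowerCentralSeries_succ,
      im_commutator θ (S.lowerCentralSeries_antitone (Nat.zero_le n)) le_rfl, ih]

/-- Let p be a prime, n a natural number, S a nontrivial finite p-group of nilpotence class at most n(p−1)+1, and F a saturated fusion system over S. Then the subgroup generated by the pⁿ-th powers of the elements of Z(S) is normal in F. -/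
theorem result {Ω : Type*} [Group Ω] {S : Subgroup Ω} [Finite S] (p : ℕ) [Fact p.Prime] (hS : IsPGroup p S) (F : Cfsg.FusionSystem S) (hF : F.IsSaturated p) (n : ℕ) (hS1 : S ≠ ⊥) (hcl : Subgroup.lowerCentralSeries S (n * (p - 1) + 1) = ⊥) : F.IsNormal (Cfsg.powerClosure p n (S ⊓ Subgroup.centralizer (S : Set Ω))) := by
  obtain ⟨M, θ, R⟩ := exists_rep F
  rw [R.nm_iff ((pc_le _ _ _).trans inf_le_left), im_pc θ inf_le_left, im_inf_cz R.inj le_rfl]
  exact (R.sat hS hF).nm_pc (by rw [fs_S, ← im_lcs, hcl, im_bot])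

end Cfsg.Agent.S5218
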