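import Cfsg.Statements.S5219
import Cfsg.Agent.H25.KL6
import Cfsg.Agent.S5218

set_option autoImplicit false
open Cfsg

namespace Cfsg.Agent.S5219
open H25 Subgroup

/-- Let p be a prime, n a natural number, S a nontrivial finite p-group of nilpotence class at most n(p−1)+1, and F a saturated fusion system over S with no nontrivial normal subgroup (O_p(F) = 1). Then S has exponent dividing p^(n²(p−1)+n). -/
theorem result {Ω : Type*} [Group Ω] {S : Subgroup Ω} [Finite S] (p : ℕ) [Fact p.Prime] (hS : IsPGroup p S) (F : Cfsg.FusionSystem S) (hF : F.IsSaturated p) (n : ℕ) (hS1 : S ≠ ⊥) (hcl : Subgroup.lowerCentralSeries S (n * (p - 1) + 1) = ⊥) (hcore : F.core = ⊥) : Monoid.exponent ↥S ∣ p ^ (n ^ 2 * (p - 1) + n) := by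
  have h1 : powerClosure p n (S ⊓ cz S) ≤ ⊥ :=
    hcore ▸ le_sSup (Cfsg.Agent.S5218.result p hS F hF n hS1 hcl)
  refine Monoid.exponent_dvd_of_forall_pow_eq_one fun x => Subtype.ext ?_
  have := pow_eq_one_of_zs (m := p ^ n) (fun z hz => h1 (pow_mem_pc hz)) _ x
    (lcs_le_zs (j := 0) (hcl.le.trans bot_le) x.2)
  rw [← pow_mul, show n * (0 + (n * (p - 1) + 1)) = n ^ 2 * (p - 1) + n by ring] at this
  simpa using this

end Cfsg.Agent.S5219
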