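import Cfsg.Statements.S5220
import Cfsg.Agent.H25.KL4

set_option autoImplicit false
open Cfsg

namespace Cfsg.Agent.S5220
open H25 Subgroup

/-- Let F be a saturated fusion system over a nontrivial finite p-group S, let J(S) be the subgroup generated by the abelian subgroups of S of largest order, and let V be the subgroup generated by the p-th powers of the elements of Z(S). Then F is generated by the centralizer fusion system of V and the normalizer fusion system of J(S): every fusion system over S containing the maps of both contains every map of F. -/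
theorem result {Ω : Type*} [Group Ω] {S : Subgroup Ω} [Finite S] (p : ℕ) [Fact p.Prime] (hS : IsPGroup p S) (F : Cfsg.FusionSystem S) (hF : F.IsSaturated p) (hS1 : S ≠ ⊥) (C : Cfsg.FusionSystem (Cfsg.FusionSystem.centralizerIn S (Cfsg.powerClosure p 1 (S ⊓ Subgroup.centralizer (S : Set Ω))))) (hC : F.IsCentralizerSystem (Cfsg.powerClosure p 1 (S ⊓ Subgroup.centralizer (S : Set Ω))) C) (N : Cfsg.FusionSystem (Cfsg.FusionSystem.normalizerIn S (Cfsg.thompsonSubgroupAOf S))) (hN : F.IsNormalizerSystem (Cfsg.thompsonSubgroupAOf S) N) (E : Cfsg.FusionSystem S) (hCE : C.IsSubsystemOf E) (hNE : N.IsSubsystemOf E) : F.IsSubsystemOf E := by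
  obtain ⟨M, θ, U⟩ := exists_urep S
  have R := U.rep le_rfl F
  have R' := U.rep le_rfl E
  obtain ⟨R1, e1⟩ := R.centralizer ((pc_le _ _ _).trans inf_le_left) hC
  obtain ⟨R2, e2⟩ := R.normalizer (H9.thompsonSubgroupAOf_eq S ▸ H9.JJ_le 0 S) hN
  rw [R'.le_iff R1, e1, im_pc θ inf_le_left, im_inf_cz U.inj le_rfl] at hCE
  rw [R'.le_iff R2, e2, H9.thompsonSubgroupAOf_eq, im_JJ U.inj le_rfl] at hNE
  exact (R'.le_iff R).2 (FS.Sat.le_of_qfun FS.fun_JJ qfun_JJ _ _ (R.sat hS hF) (U.big_S F) hCE hNE)

end Cfsg.Agent.S5220
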