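import Cfsg.Statements.S5221
import Cfsg.Agent.H25.KL3

set_option autoImplicit false
open Cfsg

namespace Cfsg.Agent.S5221
open H25 Subgroup

/-- Let F be a sparse fusion system over a finite p-group S: a saturated fusion system, not the inner fusion system of S, whose only saturated fusion systems over S contained in it are F itself and the inner one. If p is odd, or F is S₄-free (the symmetric group of degree 4 is not involved in any model of the normalizer system of a fully normalized F-centric subgroup), then F is constrained. -/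
theorem result {Ω : Type*} [Group Ω] {S : Subgroup Ω} [Finite S] (p : ℕ) [Fact p.Prime] (hS : IsPGroup p S) (F : Cfsg.FusionSystem S) (hF : F.IsSaturated p) (hsp : ¬ (∀ P : Subgroup Ω, F.Hom P = (Cfsg.innerFusionSystem S).Hom P) ∧ ∀ E : Cfsg.FusionSystem S, E.IsSaturated p → E.IsSubsystemOf F → (∀ P : Subgroup Ω, E.Hom P = F.Hom P) ∨ (∀ P : Subgroup Ω, E.Hom P = (Cfsg.innerFusionSystem S).Hom P)) (hp : p ≠ 2 ∨ F.IsSectionFree p (Equiv.Perm (Fin 4))) : F.IsConstrained p := by
  obtain ⟨M, θ, U⟩ := exists_urep S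
  have R := U.rep le_rfl F
  have hs := R.sat hS hF
  refine (R.constr_iff hS).2 (FS.cls_tc.constr_of FS.TC.cn ⟨hs, U.big_S F,
    hp.imp_right (U.free_iff le_rfl hS).1⟩ fun Q h1 h2 h3 => ?_)
  have h4 : ((fs θ F).NF Q).S = im θ S := inf_eq_left.2 h3
  obtain ⟨E, R', e⟩ := exists_pb U.inj _ le_rfl h4
  rcases hsp.2 E (R'.of_sat (e ▸ hs.NF (FS.FN_of_le_nz h2 h3))) ((R.le_iff R').2
    (e ▸ FS.NF_le _ _)) with h | h
  · rw [R.hom_eq_iff R', e] at h
    exact (h1.not_ge ((FS.nm_iff_le h2).2 h.ge).le_core).elim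
  · rw [R'.inner_iff, e] at h
    exact h.le.trans (FS.inner_mono inf_le_left)

end Cfsg.Agent.S5221
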