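import Cfsg.Statements.S5222
import Cfsg.Agent.H25.Tate

set_option autoImplicit false
open Cfsg

namespace Cfsg.Agent.S5222
open H25 Subgroup

/-- Let F be a saturated fusion system over a finite p-group S whose normalizer fusion system of S is the inner fusion system of S (Aut_F(S) is a p-group). Then for every subgroup Q of S with [S, S] ≤ Q ≤ Φ(S), the normalizer fusion system of Q in F is the inner fusion system of N_S(Q) = S. -/
theorem result {Ω : Type*} [Group Ω] {S : Subgroup Ω} [Finite S] (p : ℕ) [Fact p.Prime] (hS : IsPGroup p S) (F : Cfsg.FusionSystem S) (hF : F.IsSaturated p) (hN : ∀ N : Cfsg.FusionSystem (Cfsg.FusionSystem.normalizerIn S S), F.IsNormalizerSystem S N → ∀ P : Subgroup Ω, N.Hom P = (Cfsg.innerFusionSystem (Cfsg.FusionSystem.normalizerIn S S)).Hom P) (Q : Subgroup Ω) (h1 : (commutator ↥S).map S.subtype ≤ Q) (h2 : Q ≤ (frattini ↥S).map S.subtype) : ∀ N : Cfsg.FusionSystem (Cfsg.FusionSystem.normalizerIn S Q), F.IsNormalizerSystem Q N → ∀ P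 : Subgroup Ω, N.Hom P = (Cfsg.innerFusionSystem (Cfsg.FusionSystem.normalizerIn S Q)).Hom P := by
  obtain ⟨M, θ, R⟩ := exists_rep F
  have hQ := h2.trans (fr_le S)
  rw [R.NF_inner_iff le_rfl] at hN
  rw [R.NF_inner_iff hQ]
  rw [map_subtype_commutator] at h1
  replace h1 := im_mono θ h1
  replace h2 := im_mono θ h2
  rw [im_commutator θ le_rfl le_rfl] at h1
  rw [im_fr R.inj le_rfl] at h2
  have h3 := le_nz_of_commutator_le (im_mono θ hQ) h1
  have e : ((fs θ F).NF (im θ Q)).S = (fs θ F).S := inf_eq_left.2 h3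
  refine ((R.sat hS hF).NF (FS.FN_of_le_nz (im_mono θ hQ) h3)).eq_inner_of_sc_fr ?_
    (FS.nm_NF (im_mono θ hQ)).sc (e ▸ h1) (e ▸ h2)
  rw [e]
  exact (FS.NF_mono (FS.NF_le _ _) e.ge).trans (hN.le.trans (FS.inner_mono inf_le_left))

end Cfsg.Agent.S5222
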