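import Cfsg.Statements.S5224
import Cfsg.Agent.H25.Tate

set_option autoImplicit false
open Cfsg

namespace Cfsg.Agent.S5224
open H25 Subgroup

/-- Tate's Theorem for fusion systems. Let F be a saturated fusion system over a finite p-group S and H a saturated fusion system over S contained in F. Then the following are equivalent: the elementary focal subgroups Φ(S)·foc agree for F and H; the focal subgroups of F and H agree; the hyperfocal subgroups of F and H agree. -/
theorem result {Ω : Type*} [Group Ω] {S : Subgroup Ω} [Finite S] (p : ℕ) [Fact p.Prime] (hS : IsPGroup p S) (F : Cfsg.FusionSystem S) (hF : F.IsSaturated p) (H : Cfsg.FusionSystem S) (hH : H.IsSaturated p) (hHF : H.IsSubsystemOf F) : (((frattini ↥S).map S.subtype ⊔ F.focalSubgroup) = ((frattini ↥S).map S.subtype ⊔ H.focalSubgroup) ↔ F.focalSubgroup = H.focalSubgroup) ∧ (F.focalSubgroup = H.focalSubgroup ↔ F.hyperfocalSubgroup p = H.hyperfocalSubgroup p) := by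
  obtain ⟨M, θ, R⟩ := exists_rep F
  have R' := R.of_sub hHF
  have h1 := R.sat hS hF
  have h2 := R'.sat hS hH
  have h3 := (R.le_iff R').1 hHF
  rw [← im_inj R.inj (sup_le (fr_le S) (foc_le_S F)) (sup_le (fr_le S) (foc_le_S H)),
    ← im_inj R.inj (foc_le_S F) (foc_le_S H), ← im_inj R.inj (hyp_le_S F p) (hyp_le_S H p),
    im_sup θ (fr_le S) (foc_le_S F), im_sup θ (fr_le S) (foc_le_S H), R.im_foc, R'.im_foc, R.im_hyp,
    R'.im_hyp, im_fr R.inj le_rfl]
  have h4 : (fs θ F).hyp p = (fs θ H).hyp p → (fs θ F).foc = (fs θ H).foc := fun e => by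
    rw [h1.foc_eq, h2.foc_eq, e]; rfl
  exact ⟨⟨fun e => h4 (h1.tate h2 h3 rfl (le_sup_right.trans e.le)), fun e => by rw [e]⟩,
    fun e => h1.tate h2 h3 rfl (e.le.trans le_sup_right), h4⟩

end Cfsg.Agent.S5224
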