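import Cfsg.Agent.H16.C9ja
import Cfsg.Agent.H25.Trans2
import Cfsg.Statements.S5227
-- import your own Cfsg.Agent.* helpers here

set_option autoImplicit false
open Cfsg

namespace Cfsg.Agent.S5227

/-- Let S be a finite 3-group isomorphic to a Sylow 3-subgroup of the Conway group Co₁ and F a saturated fusion system over S with no nontrivial normal subgroup (O₃(F) = 1). Then F is realizable: it is the fusion system of a finite group on a Sylow 3-subgroup. -/
theorem result {Ω : Type*} [Group Ω] {S : Subgroup Ω} [Finite S] (hS : IsPGroup 3 S) (F : Cfsg.FusionSystem S) (hF : F.IsSaturated 3) [Fact (Nat.Prime 3)] (T : Sylow 3 Cfsg.Spor.Co1) (e : ↥S ≃* ↥(T : Subgroup Cfsg.Spor.Co1)) (hcore : F.core = ⊥) : F.IsRealizable 3 := by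
  have : Finite Cfsg.Spor.Co1 := Nat.finite_of_card_ne_zero (H15.card_Co1 ▸ by decide)
  obtain ⟨y, r, hy⟩ := H16.C9.exists_md T
  obtain ⟨N, θ, U, hU⟩ := H4.exists_un S (m := Nat.card H16.C9.Sp.GG * Nat.card Cfsg.Spor.Co1)
    (Nat.mul_pos Nat.card_pos Nat.card_pos)
  have R := U.rep le_rfl F
  obtain ⟨H, h⟩ := (r.map (θ.comp e.symm.toMonoidHom) (R.inj.comp e.symm.injective)).main (R.sat hS hF) (by
    have h := congrArg (Subgroup.map (θ.comp e.symm.toMonoidHom)) hy
    rw [H16.gen, MonoidHom.map_closure, Set.image_image, ← MonoidHom.range_eq_map, MonoidHom.range_comp,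
      MonoidHom.range_eq_top.2 e.symm.surjective, ← MonoidHom.range_eq_map] at h
    rw [H25.fs_S, H25.im_self, ← h]
    rfl) (R.core_eq_bot.1 hcore) (H16.C9.am_of_good (U.big_im S).good) (hU _ (Dvd.intro _ rfl))
      (hU _ (Dvd.intro_left _ rfl))
  exact h.realizable R hS

end Cfsg.Agent.S5227
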