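import Cfsg.Agent.H16.F3y
import Cfsg.Agent.H16.F3i
import Cfsg.Agent.H25.Trans2
import Cfsg.Agent.H25.Amb
import Cfsg.Statements.S5228
-- import your own Cfsg.Agent.* helpers here

set_option autoImplicit false
open Cfsg

namespace Cfsg.Agent.S5228

/-- Let S be a finite 3-group isomorphic to a Sylow 3-subgroup of the Thompson sporadic group and F a saturated fusion system over S with no nontrivial normal subgroup (O₃(F) = 1). Then F is a simple fusion system. -/
theorem result {Ω : Type*} [Group Ω] {S : Subgroup Ω} [Finite S] (hS : IsPGroup 3 S) (F : Cfsg.FusionSystem S) (hF : F.IsSaturated 3) [Fact (Nat.Prime 3)] (T : Sylow 3 Cfsg.Spor.Th) (e : ↥S ≃* ↥(T : Subgroup Cfsg.Spor.Th)) (hcore : F.core = ⊥) : F.IsSimple 3 := by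
  obtain ⟨y, r, hy⟩ := H16.F3.exists_md T
  obtain ⟨N, θ, R⟩ := H25.exists_rep F
  refine (R.simple_iff hS).2 ((r.map (θ.comp e.symm.toMonoidHom) (R.inj.comp e.symm.injective)).simple
    (R.sat hS hF) ?_ (R.core_eq_bot.1 hcore))
  have h := congrArg (Subgroup.map (θ.comp e.symm.toMonoidHom)) hy
  rw [H16.gen, MonoidHom.map_closure, Set.image_image, ← MonoidHom.range_eq_map, MonoidHom.range_comp,
    MonoidHom.range_eq_top.2 e.symm.surjective, ← MonoidHom.range_eq_map] at h
  rw [H25.fs_S, H25.im_self, ← h]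
  rfl

end Cfsg.Agent.S5228
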