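import Cfsg.Statements.S5243
import Cfsg.Agent.H25.WNC

set_option autoImplicit false
open Cfsg

namespace Cfsg.Agent.S5243
open _root_.H25 Subgroup

/-- Let F be a saturated fusion system over a finite p-group S, E a normal subsystem of F over T ≤ S, and χ a surjective homomorphism from Aut_F(T) onto a nontrivial finite group Δ of order prime to p whose kernel contains Aut_E(T). Then there is a proper normal subsystem F₀ of F over S containing E such that Aut_{F₀}(S) consists of those α ∈ Aut_F(S) whose restriction to T is an element of Aut_F(T) in the kernel of χ; moreover every p'-residual subsystem O^{p'}(F) of F is contained in F₀. -/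
theorem result {Ω : Type*} [Group Ω] {S : Subgroup Ω} [Finite S] (p : ℕ) [Fact p.Prime] (hS : IsPGroup p S) (F : Cfsg.FusionSystem S) (hF : F.IsSaturated p) {T : Subgroup Ω} (hTS : T ≤ S) (E : Cfsg.FusionSystem T) (hE : E.IsNormalIn F p) {Δ : Type*} [Group Δ] [Finite Δ] [Nontrivial Δ] (hΔ : (Nat.card Δ).Coprime p) (χ : ↥(F.autGroup T) →* Δ) (hχ : Function.Surjective χ) (hker : (E.autGroup T).subgroupOf (F.autGroup T) ≤ χ.ker) : ∃ F₀ : Cfsg.FusionSystem S, F₀.IsNormalIn F p ∧ ¬ (∀ P : Subgroup Ω, F₀.Hom P = F.Hom P) ∧ E.IsSubsystemOf F₀ ∧ (∀ α : MulAut ↥S, α ∈ F₀.autGroup S ↔ α ∈ F.autGroup S ∧ ∃ β : ↥(F.autGroup T), χ β = 1 ∧ ∀ t : ↥T, (((β : MulAut ↥T) t : ↥T) : Ω) = ((α ⟨(t : Ω), hTS t.2⟩ : ↥S) : Ω)) ∧ ∀ R : Cfsg.FusionSystem S, F.IsPPrimeResidual p R → R.IsSubsystemOf F₀ := by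
  obtain ⟨M, θ, R⟩ := exists_rep F
  obtain ⟨R', h⟩ := R.nml hS hE
  have h1 : χ.ker.map (F.autGroup T).subtype ≤ F.autGroup T := map_subtype_le _
  have h2 : (fs θ F).A (im θ T) = lift θ T (F.autGroup T) := (R.lift_autGroup hTS).symm
  have h3 : ∀ {β : F.autGroup T} {g}, HC θ (ah (β : MulAut T)) g →
      (g ∈ lift θ T (χ.ker.map (F.autGroup T).subtype) ↔ χ β = 1) := fun {β g} e => by
    rw [e.mem_lift_iff R.inj hTS]
    exact mem_map_iff_mem (F.autGroup T).subtype_injective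
  obtain ⟨D, e, hD, h4, h5, h6⟩ := h.wn.exists_qsub
    (B := lift θ T (χ.ker.map (F.autGroup T).subtype)) (h2.trans_ge (pre_mono _ h1) |> fun h => h)
    (h2.trans_le (pre_le_nz_pre ((normal_subgroupOf_iff' h1).1 (by
      rw [subgroupOf, comap_map_eq_self_of_injective (F.autGroup T).subtype_injective]
      infer_instance)))) (fun s hs => by
      obtain ⟨α, hα, e⟩ := R.exists_aut hTS (h.sc.S_le_A hs)
      obtain ⟨n, hn⟩ := h.satF.pg ⟨s, hs⟩
      have h7 : α ^ p ^ n = 1 := by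
        rw [← e.act_eq R.inj hTS, ← ex_pow _ (e.mem_nz hTS), show s ^ p ^ n = 1 from
          congrArg Subtype.val hn, ex_one]
      refine (h3 (β := ⟨α, hα⟩) e).2 (orderOf_eq_one_iff.1 (Nat.eq_one_of_dvd_coprimes
        (hΔ.pow_right n) (orderOf_dvd_natCard _) (orderOf_dvd_of_pow_eq_one ?_)))
      rw [← map_pow, show (⟨α, hα⟩ : F.autGroup T) ^ p ^ n = 1 from Subtype.ext h7, map_one])
    (fun a ha => by
      obtain ⟨α, hα, e⟩ := R'.exists_aut le_rfl ha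
      exact (h3 (β := ⟨α, autGroup_mono (sub_of_nml hE) T hα⟩) e).2 (hker hα))
  obtain ⟨F₀, R₀, rfl⟩ := exists_pb R.inj D le_rfl e
  refine ⟨F₀, (R.nml_iff R₀ hS).2 hD, fun h7 => ?_, (R₀.le_iff R').2 h4, fun α => ⟨fun hα => ?_,
    fun ⟨hα, β, h7, h8⟩ => ?_⟩, fun X hX => ?_⟩
  · obtain ⟨d, hd⟩ := exists_ne (1 : Δ)
    obtain ⟨β, rfl⟩ := hχ d
    obtain ⟨g, hg, e⟩ := R.exists_A hTS β.2
    rw [← (R.hom_eq_iff R₀).1 h7] at hg
    exact hd ((h3 e).1 (h5.le hg))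
  · obtain ⟨g, hg, e⟩ := R₀.exists_A le_rfl hα
    have h7 := h6.le hg
    obtain ⟨β, hβ, e'⟩ := R.exists_aut hTS (h.sc.mem_A (FS.T_of_mem_A le_rfl h7.1) h.S_le)
    exact ⟨(R.mem_A_iff le_rfl e).1 h7.1, ⟨β, hβ⟩, (h3 (β := ⟨β, hβ⟩) e').1 h7.2, fun t =>
      (HC.agree_iff R.inj e' e (fun x => hTS (β x).2) (fun x => (α x).2) le_rfl hTS).1
        (Agree.refl _ _) t t.2⟩
  · obtain ⟨g, hg, e⟩ := R.exists_A le_rfl hα
    refine (R₀.mem_A_iff le_rfl e).1 (h6.ge ⟨hg, (h3 fun t => ?_).2 h7⟩)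
    rw [ah_apply, h8]
    exact e ⟨t, hTS t.2⟩
  · obtain ⟨R₁, h7⟩ := R.qres hS hX
    exact (R₀.le_iff R₁).2 (h7.min _ hD.sat (hD.wn.qidx e))

end Cfsg.Agent.S5243
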