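import Cfsg.Statements.S5248
import Cfsg.Agent.H4.Rz5

set_option autoImplicit false
open Cfsg

namespace Cfsg.Agent.S5248

/-- Let S be a finite 2-group that is dihedral of order at least 8, generalized quaternion of order at least 8, semidihedral, or wreathed, and let F be a saturated fusion system over S. Then F has at most two F-conjugacy classes of F-essential subgroups (among any three essential subgroups two are joined by a map of F), and F is realizable: it is the fusion system of a finite group on a Sylow 2-subgroup. -/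
theorem result {Ω : Type*} [Group Ω] {S : Subgroup Ω} [Finite S] (hS : IsPGroup 2 S) (F : Cfsg.FusionSystem S) (hF : F.IsSaturated 2) (hshape : ((∃ m : ℕ, 4 ≤ m ∧ Nonempty (↥S ≃* DihedralGroup m)) ∨ (∃ m : ℕ, 2 ≤ m ∧ Nonempty (↥S ≃* QuaternionGroup m)) ∨ Cfsg.IsQuasiDihedral ↥S ∨ Cfsg.IsWreathed ↥S)) : (∀ E₁ E₂ E₃ : Subgroup Ω, F.IsEssential 2 E₁ → F.IsEssential 2 E₂ → F.IsEssential 2 E₃ → (∃ φ ∈ F.Hom E₁, φ.range = E₂) ∨ (∃ φ ∈ F.Hom E₁, φ.range = E₃) ∨ (∃ φ ∈ F.Hom E₂, φ.range = E₃)) ∧ F.IsRealizable 2 := by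
  rcases hshape with h | h | h | h
  · obtain ⟨m, h1, ⟨e⟩⟩ := h
    obtain ⟨n, x, e, w, h⟩ := (H4.mm_of_shape hS (.inl ⟨m, by omega, ⟨e⟩⟩)).resolve_left fun h => by
      have := h.card_four
      rw [Nat.card_congr e.toEquiv, DihedralGroup.nat_card] at this
      omega
    exact ⟨fun _ _ _ => H4.ess_rank hS hF (.inl ⟨_, _, _, h.mc⟩), h.realizable hF⟩
  · obtain ⟨m, h1, ⟨e⟩⟩ := h
    obtain ⟨n, x, e, w, h⟩ := (H4.mm_of_shape hS (.inr (.inr ⟨m, h1, ⟨e⟩⟩))).resolve_left fun h => by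
      have : NeZero m := ⟨by omega⟩
      have := h.card_four
      rw [Nat.card_congr e.toEquiv, Nat.card_eq_fintype_card, QuaternionGroup.card] at this
      omega
    exact ⟨fun _ _ _ => H4.ess_rank hS hF (.inl ⟨_, _, _, h.mc⟩), h.realizable hF⟩
  · obtain ⟨n, x, y, h⟩ := H10.exists_QD h
    exact ⟨fun _ _ _ => H4.ess_rank hS hF (.inl ⟨_, _, _, h.mc⟩), (H4.mm_SD h).realizable hF⟩
  · obtain ⟨n, x, y, z, h⟩ := H10.exists_Wr h
    exact ⟨fun _ _ _ => H4.ess_rank hS hF (.inr ⟨_, _, _, _, h⟩), H4.wr_realizable h hF⟩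

end Cfsg.Agent.S5248
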