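import Cfsg.Statements.S5249
import Cfsg.Agent.H25.KL3

set_option autoImplicit false
open Cfsg

namespace Cfsg.Agent.S5249
open H25 Subgroup

/-- Let p be an odd prime, G a finite group in which Qd(p) (the natural semidirect product of an elementary abelian group of order p² by SL₂(p)) is not involved, and P a Sylow p-subgroup of G. Then the fusion system of G on P is a solvable fusion system. -/
theorem result {G : Type*} [Group G] [Finite G] {p : ℕ} [Fact p.Prime] (hp : p ≠ 2) (hqd : ¬ Cfsg.Involves ↥(Cfsg.qd p) G) (P : Sylow p G) : (Cfsg.groupFusionSystem (P : Subgroup G)).IsSolvableSystem := by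
  obtain ⟨M, j, -, hj, hB⟩ := exists_big_embed G 1 one_pos
  have R : Rep (top j) (groupFusionSystem (P : Subgroup G)) := by
    rw [groupFusionSystem_eq]; exact rep_ofSubgroup (top_inj hj) le_rfl le_top
  have e : fs (top j) (groupFusionSystem (P : Subgroup G)) = FS.ofSub j.range (im (top j) P) := by
    rw [groupFusionSystem_eq, fs_ofSubgroup (top_inj hj) le_rfl, im_self, range_top]
  have h1 : IsPGroup p (im (top j) P) := isPGroup_im _ P.isPGroup'
  have h2 : Syl p (im (top j) P) j.range := by
    have := (syl_sylow P).im (top j) le_rfl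
    rwa [im_self, range_top] at this
  rw [R.solv_iff (e ▸ FS.sat_ofSub h1 h2), e]
  refine ((FS.cls_free False (qd p)).nm_fun FS.fun_ZJ (fun E h hc => ?_) _
    ⟨FS.sat_ofSub h1 h2, hB.mono h2.le, Or.inr (FS.free_ofSub h1 h2 hB
      fun h => hqd ((involves_range hj).1 h))⟩).1
  obtain ⟨H, hH, -⟩ := hc.exists_mdl h.2.1
  exact hH.nm_iff.2 ⟨H9.ZJ_le 0 _, H9.zj_ZJ hp (Or.inr rfl) (hH.syl.isSylowIn hH.pg)
    (H9.strCl_self _ _) (H9.pStab_of_not_involves_qd hp fun h' =>
      (h.2.2.resolve_left id).mdl hH (H9.involves_iff.1 h')) (chP_iff_isCharP.1 hH.chP)⟩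

end Cfsg.Agent.S5249
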