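import Cfsg.Statements.S5253
import Cfsg.Agent.H25.KL4

set_option autoImplicit false
universe u
open Cfsg

namespace Cfsg.Agent.S5253
open H25 Subgroup

/-- Let p be a prime and W a positive characteristic p-functor with Z(Q) ≤ W(Q): W assigns to every finite p-group Q (in a fixed universe) a subgroup W(Q), nontrivial when Q is, carried to W(R) by every isomorphism Q ≅ R, and containing the centre of Q. Suppose that for every finite group G with Sylow p-subgroup P in which W(P) is not normal there is g ∈ P outside O_p(G) with [Z(O_p(G)), g, g] = 1. Then for every saturated fusion system F over a finite p-group S and every normalizer fusion system N of W(S) in F, every p-th power of an element of Z(S) that lies in the centre of N lies in the centre of F. -/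
theorem result {p : ℕ} [Fact p.Prime] (W : ∀ (Q : Type u) [Group Q], Subgroup Q) (hW1 : ∀ (Q : Type u) [Group Q] [Finite Q], IsPGroup p Q → Nontrivial Q → W Q ≠ ⊥) (hW2 : ∀ (Q R : Type u) [Group Q] [Group R] [Finite Q], IsPGroup p Q → ∀ φ : Q ≃* R, (W Q).map φ.toMonoidHom = W R) (hWZ : ∀ (Q : Type u) [Group Q] [Finite Q], IsPGroup p Q → Subgroup.center Q ≤ W Q) (hq : ∀ (G : Type u) [Group G] [Finite G] (P : Sylow p G), ¬ (((W ↥(P : Subgroup G)).map (P : Subgroup G).subtype : Subgroup G)).Normal → ∃ g : G, g ∈ (P : Subgroup G) ∧ g ∉ Cfsg.pCore p G ∧ ⁅⁅Subgroup.center ↥(Cfsg.pCore p G) |>.map (Cfsg.pCore p G).subtype, Subgroup.zpowers g⁆, Subgroup.zpowers g⁆ = ⊥) {Ω : Type u} [Group Ω] {S : Subgroup Ω} [Finite S] (hS : IsPGroup p S) (F : Cfsg.FusionSystem S) (hF : F.IsSaturated p) (N : Cfsg.FusionSystem (Cfsg.FusionSystem.normalizerIn S ((W ↥S).map S.subtype))) (hN : F.IsNormalizerSystem ((W ↥S).map S.subtype) N) : Subgroup.closure ((fun z => z ^ p) '' ((S ⊓ Subgroup.centralizer (S : Set Ω) : Subgroup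 Ω) : Set Ω)) ⊓ N.center ≤ F.center := by
  obtain ⟨M, θ, U⟩ := exists_urep S
  have R := U.rep le_rfl F
  have hW : IsCharPFunctor p W := ⟨hW1, hW2⟩
  obtain ⟨R', e⟩ := R.normalizer (map_subtype_le _) hN
  have h0 : Subgroup.closure ((fun z => z ^ p) '' ((S ⊓ cz S : Subgroup Ω) : Set Ω)) =
      powerClosure p 1 (S ⊓ cz S) := by
    simp only [powerClosure, pow_one, Set.image, eq_comm, SetLike.mem_coe]
  rw [h0, ← im_le_im U.inj (inf_le_left.trans ((pc_le _ _ _).trans inf_le_left)), im_inf U.inj,
    im_pc θ inf_le_left, im_inf_cz U.inj le_rfl, R.im_center, R'.im_center, e,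
    im_ind_eq hW hS U.inj]
  exact ((R.sat hS hF).cen_of_qfun (fun_fnc hW) (qfun_fnc hW hq) (U.big_S F) inf_le_left
    ((FS.cen_center _).mono' inf_le_right)).le_center

end Cfsg.Agent.S5253
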