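import Cfsg.Statements.S5258
import Cfsg.Agent.H8.PU4
import Cfsg.Agent.H8.PU5
import Cfsg.Agent.H8.PU6
import Cfsg.Agent.H19.PU2
import Cfsg.Agent.H22.PU1
import Cfsg.Agent.H22.PU2
import Cfsg.Agent.H22.PU3
import Cfsg.Agent.H15.PU3
import Cfsg.Agent.H15.PU4
import Cfsg.Agent.H12.PU1
import Cfsg.Agent.H25.PU3

set_option autoImplicit false
open Cfsg

namespace Cfsg.Agent.S5258

/-- Let p be a prime, K a finite field with q² elements where q = pⁿ (n ≥ 1), and S a finite p-group isomorphic to a Sylow p-subgroup of the projective special unitary group PSU₅(q) realised over K. Then every saturated fusion system over S is realizable: it is the fusion system of a finite group on a Sylow p-subgroup. -/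
theorem result {Ω : Type*} [Group Ω] {S : Subgroup Ω} [Finite S] (p : ℕ) [Fact p.Prime] (hS : IsPGroup p S) (F : Cfsg.FusionSystem S) (hF : F.IsSaturated p) {K : Type*} [Field K] [Fintype K] [CharP K p] (n : ℕ) (hn : 1 ≤ n) (hK : Fintype.card K = (p ^ n) ^ 2) (T : Sylow p (Cfsg.PSU 5 K (p ^ n))) (e : ↥S ≃* ↥(T : Subgroup (Cfsg.PSU 5 K (p ^ n)))) : F.IsRealizable p := by
  obtain ⟨σ, _, h⟩ := H15.PU.sy K p n hn hK
  obtain ⟨e'⟩ := h T
  exact H8.PU.fin (fun _ => ⟨H19.PU.e1 H8.PU.dff, H19.PU.e2 H8.PU.dff, H19.PU.e3 H8.PU.dff, H19.PU.e4 H8.PU.dff,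
    H19.PU.e5 H8.PU.dff, H22.PU.ch, H25.PU.g2 σ _, H25.PU.s2 σ _ p, H22.PU.n2, H15.PU.l1, H12.PU.l2, H8.PU.l3, H22.PU.tr⟩)
    H15.PU.md hS F hF (e.trans e'.symm)

end Cfsg.Agent.S5258
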