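import Cfsg.Statements.S5261
import Cfsg.Agent.H29.TD4
import Cfsg.Agent.H29.TD5
import Cfsg.Agent.H29.TD9
import Cfsg.Agent.H2.TD2
import Cfsg.Agent.H2.TD3
import Cfsg.Agent.H2.TD4
import Cfsg.Agent.H2.TD5
import Cfsg.Agent.H22.TD1
import Cfsg.Agent.H22.TD2
import Cfsg.Agent.H22.TD3
import Cfsg.Agent.H22.TD4
import Cfsg.Agent.H14.TD2

set_option autoImplicit false
open Cfsg

namespace Cfsg.Agent.S5261

/-- Let p be a prime, q = pⁿ (n ≥ 1), K a finite field with q³ elements, and S a finite p-group isomorphic to a Sylow p-subgroup of the twisted group ³D₄(q) realised over K. Then every saturated fusion system over S is realizable: it is the fusion system of a finite group on a Sylow p-subgroup. -/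
theorem result {Ω : Type*} [Group Ω] {S : Subgroup Ω} [Finite S] (p : ℕ) [Fact p.Prime] (hS : IsPGroup p S) (F : Cfsg.FusionSystem S) (hF : F.IsSaturated p) {K : Type*} [Field K] [Fintype K] [CharP K p] (n : ℕ) (hn : 1 ≤ n) (hK : Fintype.card K = (p ^ n) ^ 3) (T : Sylow p ↥(Cfsg.Lie.twistedD4 K (p ^ n))) (e : ↥S ≃* ↥(T : Subgroup ↥(Cfsg.Lie.twistedD4 K (p ^ n)))) : F.IsRealizable p := by
  obtain ⟨σ, _, h⟩ := H14.TD.sy K p n hn hK
  obtain ⟨e'⟩ := h T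
  exact H29.TD.fin (fun _ => ⟨H2.TD.t2, H29.TD.ea H29.TD.ff1, H29.TD.eb H29.TD.ff1, H29.TD.ec H8.PU.dff, H29.TD.ed H8.PU.dff,
    H29.TD.ee1 H29.TD.ff1, H29.TD.ee2 H29.TD.ff1 H8.PU.dff, H29.TD.ef, H22.TD.au, H2.TD.au2, H29.TD.bo1 H29.TD.ff1, H22.TD.g2c,
    H22.TD.s2c H22.TD.g2c, H22.TD.n2c, H22.TD.n1c,
    H29.TD.su_of H2.TD.l0 H2.TD.l1a H2.TD.l1b H2.TD.l2 H2.TD.l3a H2.TD.l3b H2.TD.l3c, H22.TD.trc⟩)
    (H14.TD.md σ p) hS F hF (e.trans e'.symm)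

end Cfsg.Agent.S5261
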