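import Cfsg.Statements.S5264
import Cfsg.Agent.H4.P5d
import Cfsg.Agent.H25.Model0

set_option autoImplicit false
open Cfsg

namespace Cfsg.Agent.S5264

/-- Let p be an odd prime other than 7, S a finite p-group of order p^5, and F a saturated fusion system over S with no nontrivial normal subgroup and with hyperfocal subgroup equal to S (so F is its own p-residual subsystem). Then S has an abelian subgroup of index p. -/
theorem result {Ω : Type*} [Group Ω] {S : Subgroup Ω} [Finite S] (p : ℕ) [Fact p.Prime] (hS : IsPGroup p ↥S) (F : Cfsg.FusionSystem S) (hF : F.IsSaturated p) (hp : p ≠ 2) (hp7 : p ≠ 7) (hcard : Nat.card S = p ^ 5) (hcore : F.core = ⊥) (hhyp : F.hyperfocalSubgroup p = S) : ∃ A : Subgroup Ω, A ≤ S ∧ IsMulCommutative ↥A ∧ (A.subgroupOf S).index = p := by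
  obtain ⟨M, θ, R⟩ := H25.exists_rep F
  have h1 := R.sat hS hF
  have p1 := (Fact.out : p.Prime).one_lt
  obtain ⟨B, b1, b2, b3⟩ := H4.P5.main h1 hp hp7 ((H25.card_im R.inj le_rfl).trans hcard)
    (R.core_eq_bot.1 hcore) (h1.hyp_eq_S_iff.1 (by rw [← R.im_hyp, hhyp]; rfl))
  have hB := h1.pg' b1
  obtain ⟨k, hk⟩ := IsPGroup.iff_card.1 hB
  obtain ⟨K, k1, -, k2⟩ := H4.exists_le_card_pow (n := 4) Fact.out (H4.pG_of hB) (by
    rw [hk] at b3 ⊢
    exact Nat.pow_le_pow_right (by omega) ((Nat.pow_lt_pow_iff_right p1).1 b3))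
  obtain ⟨A, a1, -, rfl⟩ := H25.exists_im (k1.trans b1)
  refine ⟨A, a1, (H25.isMulCommutative_im R.inj a1).1 fun x hx => H25.mem_cz'.2 fun y hy =>
    b2 y (k1 hy) x (k1 hx), ?_⟩
  have h2 := H4.card_mul_relIndex a1
  rw [← H25.card_im R.inj a1, k2, hcard, pow_succ p 4] at h2
  exact Nat.eq_of_mul_eq_mul_left (by positivity) h2

end Cfsg.Agent.S5264
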