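import Cfsg.Statements.S5265
import Cfsg.Agent.H4.Res6

set_option autoImplicit false
open Cfsg

namespace Cfsg.Agent.S5265

/-- Let p be a prime, S a nontrivial finite p-group whose centre has index at most p², and F a saturated fusion system over S with no nontrivial normal subgroup and with hyperfocal subgroup equal to S. Then S is extraspecial of order p³; for odd p it has exponent p, and for p = 2 it is dihedral of order 8. -/
theorem result {Ω : Type*} [Group Ω] {S : Subgroup Ω} [Finite S] (p : ℕ) [Fact p.Prime] (hS : IsPGroup p ↥S) (F : Cfsg.FusionSystem S) (hF : F.IsSaturated p) (hS1 : S ≠ ⊥) (hcore : F.core = ⊥) (hhyp : F.hyperfocalSubgroup p = S) (hZ : (Subgroup.center ↥S).index ≤ p ^ 2) : Cfsg.IsExtraspecial p ↥S ∧ Nat.card S = p ^ 3 ∧ (p ≠ 2 → Monoid.exponent ↥S = p) ∧ (p = 2 → Nonempty (↥S ≃* DihedralGroup 4)) := by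
  obtain ⟨M, θ, R⟩ := H25.exists_rep F
  have e := H25.imEquiv R.inj (le_refl S)
  have h1 := R.sat hS hF
  obtain ⟨h2, h3, h4, h5⟩ := H4.center_index_sq h1 ((H25.im_eq_bot R.inj le_rfl).not.2 hS1)
    (R.core_eq_bot.1 hcore) (h1.hyp_eq_S_iff.1 (by rw [← R.im_hyp, hhyp]; rfl)) (by
      rw [H25.fs_S, ← H25.im_inf_cz R.inj le_rfl, H25.relIndex_im R.inj le_rfl]
      refine le_of_eq_of_le (congrArg Subgroup.index ?_) hZ
      ext x
      exact ⟨fun h => Subgroup.mem_center_iff.2 fun g => Subtype.ext (h.2 g g.2),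
        fun h => ⟨x.2, fun g hg => congrArg Subtype.val (Subgroup.mem_center_iff.1 h ⟨g, hg⟩)⟩⟩)
  have h6 := (Nat.card_congr e.toEquiv).trans h2
  have : Nontrivial S := (Subgroup.nontrivial_iff_ne_bot S).2 hS1
  refine ⟨H9.isExtraspecial_of_card_cube h6 fun h => h3 fun a ha b hb => ?_, h6, fun hp =>
    (Monoid.exponent_eq_prime_iff Fact.out).2 fun a ha => orderOf_eq_prime (e.injective ?_) ha,
    fun hp => ⟨e.trans (h5 hp).some⟩⟩
  · have := congrArg e (H4.isMulCommutative_iff'.1 h (e.symm ⟨a, ha⟩) (e.symm ⟨b, hb⟩))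
    simpa using congrArg Subtype.val this
  · rw [map_pow, map_one]
    exact Subtype.ext (h4 hp _ (e a).2)

end Cfsg.Agent.S5265
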