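import Cfsg.Statements.S5267
import Cfsg.Agent.H7.GP7
import Cfsg.Agent.H7.GP8
import Cfsg.Agent.H2.GP3
import Cfsg.Agent.S5185
import Cfsg.Agent.S5186

set_option autoImplicit false
open Cfsg

namespace Cfsg.Agent.S5267

/-- Let p be a prime and S a finite p-group of maximal class of order p^n with n ≥ 4 (nilpotency class n − 1: the term γ_{n−1}(S) of its lower central series, reached from S after n − 2 commutator steps, is nontrivial), F a saturated fusion system over S and E an F-essential subgroup. Write Γ₁ for the two-step centralizer C_S([S,S]/γ₄(S)) (the elements of S whose commutators with [S,S] lie in the fourth term γ₄(S) of the lower central series) and Z₂(S) for the second centre. Then E is a pearl — elementary abelian of order p², or extraspecial of order p³ of exponent p (p odd) or quaternion of order 8 (p = 2) — or E = Γ₁, or E = C_S(Z₂(S)). Moreover, if Γ₁ ≠ C_S(Z₂(S)) then every pearl of F is elementary abelian of order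 p². -/
theorem result {Ω : Type*} [Group Ω] {S : Subgroup Ω} [Finite S] (p : ℕ) [Fact p.Prime] (hS : IsPGroup p ↥S) (n : ℕ) (hn : Nat.card S = p ^ n) (h4 : 4 ≤ n) (hmax : Subgroup.lowerCentralSeries S (n - 2) ≠ ⊥) (F : Cfsg.FusionSystem S) (hF : F.IsSaturated p) (Γ₁ : Subgroup Ω) (hΓ₁ : ∀ x : Ω, x ∈ Γ₁ ↔ x ∈ S ∧ ∀ y ∈ Subgroup.lowerCentralSeries S 1, x * y * x⁻¹ * y⁻¹ ∈ Subgroup.lowerCentralSeries S 3) : (∀ E : Subgroup Ω, F.IsEssential p E → (Nat.card ↥E = p ^ 2 ∧ Cfsg.IsElementaryAbelian p E) ∨ (Nat.card ↥E = p ^ 3 ∧ Cfsg.IsExtraspecial p ↥E ∧ (p ≠ 2 → Monoid.exponent ↥E = p) ∧ (p = 2 → Nonempty (↥E ≃* QuaternionGroup 2))) ∨ E = Γ₁ ∨ E = (S ⊓ Subgroup.centralizer (((Subgroup.upperCentralSeries ↥S 2).map S.subtype) : Set Ω))) ∧ (Γ₁ ≠ (S ⊓ Subgroup.centralizer (((Subgroup.upperCentralSeries ↥S 2).map S.subtype) : Set Ω)) → ∀ E : Subgroup Ω, F.IsEssential p E → (Nat.card ↥E = p ^ 3 ∧ Cfsg.IsExtraspecial p ↥E ∧ (p ≠ 2 → Monoid.exponent ↥E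 = p) ∧ (p = 2 → Nonempty (↥E ≃* QuaternionGroup 2))) → False) := by
  obtain ⟨N, θ, R⟩ := H25.exists_rep F
  have pp : p.Prime := Fact.out
  have h1 := R.sat hS hF
  have eΓ : Γ₁ = H4.Mx.T1 S := Subgroup.ext fun x => by
    rw [hΓ₁, H24.NE.mem_T1']
    exact and_congr_right fun _ => forall₂_congr fun y _ =>
      ⟨fun h => by simpa [commutatorElement_def, mul_assoc] using inv_mem h,
        fun h => by simpa [commutatorElement_def, mul_assoc] using inv_mem h⟩
  have key := fun E hE => H7.GP.main H12.GP.ql H7.GP.co0 H2.GP.rs H2.GP.rc H2.GP.px h1 (H4.Mx.maxC_im R.inj hn (by omega) hmax) h4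
    (R.ess h1 (P := E) hE)
  simp only [H25.fs_S, ← H24.NE.im_T1 R.inj, ← H4.Mx.im_D, ← H25.im_inf_cz R.inj H4.Mx.D_le] at key
  rw [H4.Mx.two_eq (H4.Mx.maxC_of hn (by omega) hmax) h4, eΓ]
  refine ⟨fun E hE => ?_, fun h E hE c => (key E hE).2 (fun e => h (H25.im_inj R.inj H4.Mx.T1_le inf_le_left |>.1 e))
    ((H25.card_im R.inj hE.1.1).trans c.1)⟩
  have hES : E ≤ S := hE.1.1
  have : Finite E := .of_injective _ (Subgroup.inclusion_injective hES)
  have c := H25.card_im R.inj hES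
  rcases (key E hE).1 with h | ⟨h, h'⟩ | h | h
  · exact .inl ⟨c ▸ h, (Cfsg.Agent.S5185.result p hS F hF E hE (c ▸ h)).1⟩
  · rw [c] at h
    rw [H4.G3.cm_im R.inj hES] at h'
    refine .inr (.inl ⟨h, H9.isExtraspecial_of_card_cube h h', ?_⟩)
    rcases Cfsg.Agent.S5186.result p hS F hF E hE h with k | ⟨k, -, k'⟩ | ⟨k, k'⟩
    · exact (h' k.1).elim
    · have : Nontrivial E := Finite.one_lt_card_iff_nontrivial.1 (h ▸ Nat.one_lt_pow (by norm_num) pp.one_lt)
      exact ⟨fun _ => (Monoid.exponent_eq_prime_iff pp).2 fun g hg => orderOf_eq_prime (Subtype.ext (k' g g.2)) hg,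
        fun e => absurd (e ▸ k) (by decide)⟩
    · exact ⟨fun e => (e k).elim, fun _ => k'⟩
  · exact .inr (.inr (.inl ((H25.im_inj R.inj hES H4.Mx.T1_le).1 h)))
  · exact .inr (.inr (.inr ((H25.im_inj R.inj hES inf_le_left).1 h)))

end Cfsg.Agent.S5267
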