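import Cfsg.Statements.S5269
import Cfsg.Agent.H24.NE7

set_option autoImplicit false
open Cfsg

namespace Cfsg.Agent.S5269

/-- Let p ≥ 5 be a prime, S a finite p-group of maximal class of order p^n with n ≥ 4, F a saturated fusion system over S, and E an F-essential subgroup that is normal in S. Then E has index p in S; moreover E is the two-step centralizer Γ₁ = C_S([S,S]/γ₄(S)) or E = C_S(Z₂(S)), unless S has order p^4 and E is extraspecial of order p³ and exponent p. -/
theorem result {Ω : Type*} [Group Ω] {S : Subgroup Ω} [Finite S] (p : ℕ) [Fact p.Prime] (hS : IsPGroup p ↥S) (n : ℕ) (hn : Nat.card S = p ^ n) (h4 : 4 ≤ n) (hmax : Subgroup.lowerCentralSeries S (n - 2) ≠ ⊥) (F : Cfsg.FusionSystem S) (hF : F.IsSaturated p) (hp : 5 ≤ p) (Γ₁ : Subgroup Ω) (hΓ₁ : ∀ x : Ω, x ∈ Γ₁ ↔ x ∈ S ∧ ∀ y ∈ Subgroup.lowerCentralSeries S 1, x * y * x⁻¹ * y⁻¹ ∈ Subgroup.lowerCentralSeries S 3) (E : Subgroup Ω) (hE : F.IsEssential p E) (hEn : (E.subgroupOf S).Normal)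 : (E.subgroupOf S).index = p ∧ (E = Γ₁ ∨ E = (S ⊓ Subgroup.centralizer (((Subgroup.upperCentralSeries ↥S 2).map S.subtype) : Set Ω)) ∨ (n = 4 ∧ Nat.card ↥E = p ^ 3 ∧ Cfsg.IsExtraspecial p ↥E ∧ Monoid.exponent ↥E = p)) := by
  obtain ⟨N, θ, R⟩ := H25.exists_rep F
  have h1 := R.sat hS hF
  have M0 := H4.Mx.maxC_of hn (by omega) hmax
  have M := H4.Mx.maxC_im R.inj hn (by omega) hmax
  have hES : E ≤ S := hE.1.1
  have nE : S ≤ H25.nz E := (Subgroup.normal_subgroupOf_iff_le_normalizer hES).1 hEn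
  have eΓ : Γ₁ = H4.Mx.T1 S := Subgroup.ext fun x => by
    rw [hΓ₁, H24.NE.mem_T1']
    exact and_congr_right fun _ => forall₂_congr fun y _ =>
      ⟨fun h => by simpa [commutatorElement_def, mul_assoc] using inv_mem h,
        fun h => by simpa [commutatorElement_def, mul_assoc] using inv_mem h⟩
  have c1 := H25.card_im R.inj hES
  have c2 := H25.card_im R.inj (le_refl S)
  have f := H25.imEquiv R.inj hES
  haveI : Finite E := .of_injective _ (Subgroup.inclusion_injective hES)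
  obtain ⟨c, h⟩ := H24.NE.main h1 M h4 hp (R.ess h1 hE) (fun g hg => by
    obtain ⟨x, hx, rfl⟩ := (H25.mem_im' le_rfl).1 hg
    exact H25.ex_mem_nz θ hx hES (nE hx))
  refine ⟨?_, ?_⟩
  · refine Nat.eq_of_mul_eq_mul_left (Nat.card_pos (α := E)) ?_
    rw [← c1, ← c]
    rw [c1, ← Nat.card_congr (Subgroup.subgroupOfEquivOfLe hES).toEquiv, Subgroup.card_mul_index]
    exact c2.symm
  rcases h with h | h | ⟨a, b, d, e⟩
  · exact .inl ((H25.im_inj R.inj hES H4.Mx.T1_le).1 (h.trans (H24.NE.im_T1 R.inj).symm) ▸ eΓ.symm)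
  · refine .inr (.inl ((H25.im_inj R.inj hES inf_le_left).1 ?_))
    rw [H25.im_inf_cz R.inj (Subgroup.map_subtype_le _), H4.Mx.two_eq M0 h4, H4.Mx.im_D]
    exact h
  · have nc : ¬ IsMulCommutative E := fun k => d fun x hx y hy => by
      obtain ⟨x, e1⟩ := f.surjective ⟨x, hx⟩
      obtain ⟨y, e2⟩ := f.surjective ⟨y, hy⟩
      have := congrArg (fun w => (f w : _)) (mul_comm' x y)
      simp only [map_mul, e1, e2] at this
      exact congrArg Subtype.val this
    refine .inr (.inr ⟨a, c1 ▸ b, H9.isExtraspecial_of_card_cube (c1 ▸ b) nc, ?_⟩)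
    haveI : Nontrivial E := by
      by_contra hn
      rw [not_nontrivial_iff_subsingleton] at hn
      exact nc ⟨⟨fun _ _ => Subsingleton.elim _ _⟩⟩
    exact (Monoid.exponent_eq_prime_iff Fact.out).2 fun g hg => orderOf_eq_prime (f.injective (by
      rw [map_pow, map_one]; exact Subtype.ext (e _ (f g).2))) hg

end Cfsg.Agent.S5269
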