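import Cfsg.Statements.S5270
import Cfsg.Agent.H4.Mx2

set_option autoImplicit false
open Cfsg

namespace Cfsg.Agent.S5270

/-- Let p ≥ 5 be a prime, S a finite p-group of maximal class of order p^n with n ≥ 4, and F a saturated fusion system over S. If some map of F defined on the second centre Z₂(S) with image Z₂(S) does not carry Z(S) into itself, then the centralizer C_S(Z₂(S)) is an F-essential subgroup. -/
theorem result {Ω : Type*} [Group Ω] {S : Subgroup Ω} [Finite S] (p : ℕ) [Fact p.Prime] (hS : IsPGroup p ↥S) (n : ℕ) (hn : Nat.card S = p ^ n) (h4 : 4 ≤ n) (hmax : Subgroup.lowerCentralSeries S (n - 2) ≠ ⊥) (F : Cfsg.FusionSystem S) (hF : F.IsSaturated p) (hp : 5 ≤ p) (φ : ↥((Subgroup.upperCentralSeries ↥S 2).map S.subtype) →* Ω) (hφ : φ ∈ F.Hom ((Subgroup.upperCentralSeries ↥S 2).map S.subtype)) (hφZ : φ.range = ((Subgroup.upperCentralSeries ↥S 2).map S.subtype)) (hmove : ∃ (z : Ω) (hz : z ∈ ((Subgroup.upperCentralSeries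 ↥S 2).map S.subtype)), z ∈ ((Subgroup.center ↥S).map S.subtype) ∧ φ ⟨z, hz⟩ ∉ ((Subgroup.center ↥S).map S.subtype)) : F.IsEssential p (S ⊓ Subgroup.centralizer (((Subgroup.upperCentralSeries ↥S 2).map S.subtype) : Set Ω)) := by
  obtain ⟨N, θ, R⟩ := H25.exists_rep F
  have h1 := R.sat hS hF
  have M0 := H4.Mx.maxC_of hn (by omega) hmax
  have M := H4.Mx.maxC_im R.inj hn (by omega) hmax
  obtain ⟨g, H, hc⟩ := R.exists_T hφ
  obtain ⟨z, hz, h2, h3⟩ := hmove
  have e1 := H4.Mx.two_eq M0 h4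
  have e2 : (Subgroup.center S).map S.subtype = H4.Mx.DD S (n - 2) := by
    rw [M0.center_eq]; exact Subgroup.top_subtype_lowerCentralSeries S _
  have hm := fun x => H25.hom_mem hφ x
  have e3 := hc.im_range (Subgroup.map_subtype_le _) hm
  rw [hφZ] at e3
  have e4 := hc ⟨z, hz⟩
  rw [e2] at h2 h3
  refine (R.ess_iff h1 inf_le_left).2 ?_
  rw [H25.im_inf_cz R.inj (Subgroup.map_subtype_le _)]
  rw [e1, H4.Mx.im_D] at H e3 ⊢
  refine H4.Mx.ess_two h1 M h4 H e3.symm (z := H25.ex θ z) ?_ ?_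
  · exact H4.Mx.im_D θ _ ▸ H25.ex_mem_im θ H4.Mx.D_le h2
  · erw [← H4.Mx.im_D, ← e4, H25.ex_mem_im_iff R.inj (hm _)]
    exact h3

end Cfsg.Agent.S5270
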