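import Cfsg.Statements.S5271
import Cfsg.Agent.H4.WE

set_option autoImplicit false
open Cfsg

namespace Cfsg.Agent.S5271

/-- A nilpotency criterion for fusion systems. Let F be a saturated fusion system over a finite p-group S of order at least p². Call a subgroup Q of S weakly embedded in F when there is a subgroup P of S strongly closed in F such that both the product QP and the intersection Q ∩ P are strongly closed in F. Then F is the inner fusion system of S if and only if there is a subgroup D of S with 1 < D < S such that every subgroup of S of the same order as D is weakly embedded in F and, for every fully normalized subgroup H of S of that order, the normalizer fusion system of H in F is the inner fusion system of N_S(H). -/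
theorem result {Ω : Type*} [Group Ω] {S : Subgroup Ω} [Finite S] (p : ℕ) [Fact p.Prime] (hS : IsPGroup p ↥S) (F : Cfsg.FusionSystem S) (hF : F.IsSaturated p) (hcard : p ^ 2 ≤ Nat.card S) : (∀ P : Subgroup Ω, F.Hom P = (Cfsg.innerFusionSystem S).Hom P) ↔ ∃ D : Subgroup Ω, ⊥ < D ∧ D < S ∧ (∀ Q : Subgroup Ω, Q ≤ S → Nat.card ↥Q = Nat.card ↥D → ∃ P : Subgroup Ω, F.StronglyClosed P ∧ F.StronglyClosed (Q ⊔ P) ∧ F.StronglyClosed (Q ⊓ P)) ∧ (∀ H : Subgroup Ω, F.IsFullyNormalized H → Nat.card ↥H = Nat.card ↥D → ∀ N : Cfsg.FusionSystem (Cfsg.FusionSystem.normalizerIn S H), F.IsNormalizerSystem H N → ∀ P : Subgroup Ω, N.Hom P = (Cfsg.innerFusionSystem (Cfsg.FusionSystem.normalizerIn S H)).Hom P) := by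
  obtain ⟨M, θ, R⟩ := H25.exists_rep F
  have hθ := R.inj
  have hp : p.Prime := Fact.out
  have key : ∀ d, H4.WE (H25.fs θ F) d ↔ (∀ Q : Subgroup Ω, Q ≤ S → Nat.card ↥Q = d → ∃ P : Subgroup Ω, F.StronglyClosed P ∧ F.StronglyClosed (Q ⊔ P) ∧ F.StronglyClosed (Q ⊓ P)) ∧ (∀ H : Subgroup Ω, F.IsFullyNormalized H → Nat.card ↥H = d → ∀ N : Cfsg.FusionSystem (Cfsg.FusionSystem.normalizerIn S H), F.IsNormalizerSystem H N → ∀ P : Subgroup Ω, N.Hom P = (Cfsg.innerFusionSystem (Cfsg.FusionSystem.normalizerIn S H)).Hom P) := fun d => by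
    refine ⟨fun h => ⟨fun Q hQ e => ?_, fun H hH e => (R.NF_inner_iff hH.1).2
      (h.ni _ (R.fn hH) ((H25.card_im hθ hH.1).trans e))⟩, fun h => ⟨fun Q hQ e => ?_, fun H hH e => ?_⟩⟩
    · obtain ⟨P, a1, a2, a3⟩ := h.we _ (H25.im_mono θ hQ) ((H25.card_im hθ hQ).trans e)
      obtain ⟨P, hP, rfl⟩ := R.exists_im a1.le
      rw [← H25.im_sup θ hQ hP] at a2
      rw [← H25.im_inf hθ] at a3
      exact ⟨P, (R.sc_iff hP).2 a1, (R.sc_iff (sup_le hQ hP)).2 a2,
        (R.sc_iff (inf_le_left.trans hQ)).2 a3⟩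
    · obtain ⟨Q, hQ', rfl⟩ := R.exists_im hQ
      obtain ⟨P, a1, a2, a3⟩ := h.1 Q hQ' ((H25.card_im hθ hQ').symm.trans e)
      exact ⟨_, R.sc a1, H25.im_sup θ hQ' a1.1 ▸ R.sc a2, H25.im_inf hθ ▸ R.sc a3⟩
    · obtain ⟨H, hH', rfl⟩ := R.exists_im hH.le
      exact (R.NF_inner_iff hH').1 (h.2 H ((R.fn_iff hH').2 hH) ((H25.card_im hθ hH').symm.trans e))
  obtain ⟨m, hm⟩ := IsPGroup.iff_card.1 hS
  rw [hm, Nat.pow_le_pow_iff_right hp.one_lt] at hcard
  obtain ⟨n, rfl⟩ : ∃ n, m = n + 1 + 1 := ⟨m - 2, by omega⟩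
  have hc := H25.card_im hθ (le_refl S)
  refine ⟨fun h => ?_, fun ⟨D, h1, h2, h3⟩ => ?_⟩
  · obtain ⟨D, -, h1, h2⟩ := H25.exists_card_ge (R.sat hS hF).pg bot_le (n := n + 1)
      (by simpa using Nat.one_le_pow _ _ hp.pos)
      (by rw [H25.fs_S, hc, hm]; exact Nat.pow_le_pow_right hp.pos (by omega))
    obtain ⟨D, hD, rfl⟩ := R.exists_im h1
    rw [H25.card_im hθ hD] at h2
    refine ⟨D, bot_lt_iff_ne_bot.2 fun e => ?_, lt_of_le_of_ne hD fun e => ?_, (key _).1 ?_⟩
    · rw [e, Subgroup.card_bot] at h2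
      exact (Nat.one_lt_pow n.succ_ne_zero hp.one_lt).ne h2
    · rw [e, hm] at h2
      exact absurd (Nat.pow_right_injective hp.two_le h2) (by omega)
    · rw [R.inner_iff.1 h, h2]
      exact H4.we_inner (R.sat hS hF).pg (hc.trans hm)
  · haveI := H25.finite_of_le h2.le
    obtain ⟨k, hk⟩ := IsPGroup.iff_card.1 (hS.to_le h2.le)
    obtain _ | k := k
    · exact absurd (Subgroup.card_eq_one.1 hk) h1.ne'
    exact R.inner_iff.2 ((hk ▸ (key _).2 h3).eq_inner (R.sat hS hF)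
      (by rw [H25.fs_S, hc, ← hk]; exact H25.card_lt_of_lt h2))

end Cfsg.Agent.S5271
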