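import Cfsg.Statements.S5272
import Cfsg.Agent.H25.KL4

set_option autoImplicit false
open Cfsg

namespace Cfsg.Agent.S5272
open H25 Subgroup

/-- An axiomatic Glauberman–Thompson nilpotency criterion for fusion systems. Let p be an odd prime, F a saturated fusion system over a finite p-group S, and 𝒜 a nonempty family of abelian subgroups of S. For Q ≤ S write I(Q) for the intersection of the members of 𝒜 contained in Q. Assume (invariance) that for every Q ≤ S containing a member of 𝒜, every F-automorphism of Q maps I(Q) into itself, and (replacement) that for every subgroup B of S of nilpotency class at most 2, if some member of 𝒜 contains [B,B] but not B, then B normalizes some member of 𝒜 that contains [B,B] but not B. Then F is the inner fusion system of S if and only if the normalizer fusion system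 of I(S) in F is the inner fusion system of N_S(I(S)). -/
theorem result {Ω : Type*} [Group Ω] {S : Subgroup Ω} [Finite S] (p : ℕ) [Fact p.Prime] (hS : IsPGroup p ↥S) (F : Cfsg.FusionSystem S) (hF : F.IsSaturated p) (hp : p ≠ 2) (𝒜 : Set (Subgroup Ω)) (h𝒜 : ∀ A ∈ 𝒜, A ≤ S ∧ IsMulCommutative ↥A) (hne : 𝒜.Nonempty) (hinv : ∀ Q : Subgroup Ω, Q ≤ S → (∃ A ∈ 𝒜, A ≤ Q) → ∀ α ∈ F.autGroup Q, ∀ x : ↥Q, (x : Ω) ∈ (⨅ A ∈ {A : Subgroup Ω | A ∈ 𝒜 ∧ A ≤ Q}, A) → (((α : MulAut ↥Q) x : ↥Q) : Ω) ∈ (⨅ A ∈ {A : Subgroup Ω | A ∈ 𝒜 ∧ A ≤ Q}, A)) (hrep : ∀ B : Subgroup Ω, B ≤ S → ⁅⁅B, B⁆, B⁆ = ⊥ → (∃ A ∈ 𝒜, ⁅B, B⁆ ≤ A ∧ ¬ B ≤ A) → ∃ A ∈ 𝒜, ⁅B, B⁆ ≤ A ∧ ¬ B ≤ A ∧ B ≤ Subgroup.normalizer (A : Set Ω)) : (∀ P : Subgroup Ω, F.Hom P = (Cfsg.innerFusionSystem S).Hom P) ↔ ∀ N : Cfsg.FusionSystem (Cfsg.FusionSystem.normalizerIn S (⨅ A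 ∈ 𝒜, A)), F.IsNormalizerSystem (⨅ A ∈ 𝒜, A) N → ∀ P : Subgroup Ω, N.Hom P = (Cfsg.innerFusionSystem (Cfsg.FusionSystem.normalizerIn S (⨅ A ∈ 𝒜, A))).Hom P := by
  obtain ⟨M, θ, U⟩ := exists_urep S
  have R := U.rep le_rfl F
  have hs := R.sat hS hF
  have e : ∀ ℬ : Set (Subgroup Ω), ℬ ⊆ 𝒜 → ℬ.Nonempty → im θ (⨅ A ∈ ℬ, A) = sInf (im θ '' ℬ) := by
    intro ℬ h1 ⟨A, hA⟩
    have h2 : ⨅ A ∈ ℬ, A ≤ S := (iInf₂_le A hA).trans (h𝒜 A (h1 hA)).1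
    refine le_antisymm (le_sInf ?_) fun y hy => ?_
    · rintro _ ⟨B, hB, rfl⟩
      exact im_mono θ (iInf₂_le B hB)
    · obtain ⟨x, hx, rfl⟩ := (mem_im' (h𝒜 A (h1 hA)).1).1 (mem_sInf.1 hy _ ⟨A, hA, rfl⟩)
      exact ex_mem_im θ h2 (mem_iInf.2 fun B => mem_iInf.2 fun hB => (ex_mem_im_iff U.inj
        ((h𝒜 A (h1 hA)).1 hx)).1 (mem_sInf.1 hy _ ⟨B, hB, rfl⟩))
  obtain ⟨A₀, hA₀⟩ := hne
  have h0 : ⨅ A ∈ 𝒜, A ≤ S := (iInf₂_le A₀ hA₀).trans (h𝒜 _ hA₀).1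
  have h3 : ∀ Q, Q ≤ (fs θ F).S → (∃ A ∈ im θ '' 𝒜, A ≤ Q) →
      (fs θ F).A Q ≤ nz (sInf {A | A ∈ im θ '' 𝒜 ∧ A ≤ Q}) := by
    rintro Q hQ' ⟨_, ⟨A, hA, rfl⟩, h⟩ g hg
    obtain ⟨Q, hQ, rfl⟩ := R.exists_im hQ'
    rw [im_le_im U.inj (h𝒜 A hA).1] at h
    have e1 : {A | A ∈ im θ '' 𝒜 ∧ A ≤ im θ Q} = im θ '' {A | A ∈ 𝒜 ∧ A ≤ Q} := by
      ext B
      constructor
      · rintro ⟨⟨B, hB, rfl⟩, h⟩
        exact ⟨B, ⟨hB, (im_le_im U.inj (h𝒜 B hB).1).1 h⟩, rfl⟩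
      · rintro ⟨B, hB, rfl⟩
        exact ⟨⟨B, hB.1, rfl⟩, im_mono θ hB.2⟩
    rw [e1, ← e {A | A ∈ 𝒜 ∧ A ≤ Q} (fun _ h => h.1) ⟨A, hA, h⟩]
    obtain ⟨α, hα, e2⟩ := R.exists_aut hQ hg
    have h4 : ⨅ A ∈ {A : Subgroup Ω | A ∈ 𝒜 ∧ A ≤ Q}, A ≤ Q :=
      (iInf₂_le A (show A ∈ {A | A ∈ 𝒜 ∧ A ≤ Q} from ⟨hA, h⟩)).trans h
    refine mem_nz_of_conj_mem fun y hy => ?_
    obtain ⟨x, hx, rfl⟩ := (mem_im' (h4.trans hQ)).1 hy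
    exact e2 ⟨x, h4 hx⟩ ▸ ex_mem_im θ (h4.trans hQ) (hinv Q hQ ⟨A, hA, h⟩ α hα ⟨x, h4 hx⟩ hx)
  rw [R.inner_iff, R.NF_inner_iff h0, e _ le_rfl ⟨A₀, hA₀⟩]
  have h5 : sInf (im θ '' 𝒜) ≤ (fs θ F).S := (sInf_le (Set.mem_image_of_mem _ hA₀)).trans (im_mono θ (h𝒜 _ hA₀).1)
  refine ⟨fun h => (hs.NF (FS.FN_of_le_nz h5 ?_)).eq_inner_of_le hs.pg ((FS.NF_le _ _).trans h.le),
    fun h => hs.eq_inner_of_family hp (U.big_S F) ?_ ⟨_, Set.mem_image_of_mem _ hA₀⟩ h3 ?_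
      (h.le.trans (FS.inner_mono inf_le_left))⟩
  · have := h3 _ le_rfl ⟨_, ⟨A₀, hA₀, rfl⟩, im_mono θ (h𝒜 _ hA₀).1⟩
    rw [show {A | A ∈ im θ '' 𝒜 ∧ A ≤ (fs θ F).S} = im θ '' 𝒜 from Set.ext fun B =>
      and_iff_left_of_imp (by rintro ⟨B, hB, rfl⟩; exact im_mono θ (h𝒜 _ hB).1)] at this
    exact (le_inf le_rfl (le_nz_self _)).trans ((FS.N_le_A _ _).trans this)
  · rintro _ ⟨A, hA, rfl⟩
    exact ⟨im_mono θ (h𝒜 _ hA).1, (isMulCommutative_im U.inj (h𝒜 _ hA).1).2 (h𝒜 _ hA).2⟩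
  · rintro B hB' h1 ⟨_, ⟨A, hA, rfl⟩, h2, h4⟩
    obtain ⟨B, hB, rfl⟩ := R.exists_im hB'
    have h6 := (commutator_le_self' B).trans hB
    rw [← im_commutator θ hB hB] at h1 h2 ⊢
    rw [← im_commutator θ h6 hB, im_eq_bot U.inj ((commutator_mono h6 hB).trans
      (commutator_le_self' S))] at h1
    obtain ⟨A, hA, a, b, c⟩ := hrep B hB h1 ⟨A, hA, (im_le_im U.inj h6).1 h2,
      fun h => h4 (im_mono θ h)⟩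
    exact ⟨_, ⟨A, hA, rfl⟩, im_mono θ a, fun h => b ((im_le_im U.inj hB).1 h),
      im_le_nz_im θ (h𝒜 _ hA).1 c⟩

end Cfsg.Agent.S5272
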