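import Cfsg.Statements.S5296
import Cfsg.Agent.H4.BGH

set_option autoImplicit false
universe u
open Cfsg

namespace Cfsg.Agent.S5296

/-- Small-exponent abelian subgroups of the hyperfocal subgroup control fusion. Let E and F be saturated fusion systems over the same finite p-group S with E contained in F. Suppose that E and F have the same maps between A and B for all subgroups A, B of the hyperfocal subgroup of F that are elementary abelian when p is odd, respectively abelian of exponent dividing 4 when p = 2. Then E = F. -/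
theorem result {Ω : Type u} [Group Ω] {S : Subgroup Ω} [Finite S] (p : ℕ) [Fact p.Prime] (hS : IsPGroup p S)
    (E F : Cfsg.FusionSystem S) (hE : E.IsSaturated p) (hF : F.IsSaturated p) (hEF : E.IsSubsystemOf F)
    (hodd : p ≠ 2 → ∀ A B : Subgroup Ω, A ≤ (F.hyperfocalSubgroup p) → B ≤ (F.hyperfocalSubgroup p) →
      Cfsg.IsElementaryAbelian p A → Cfsg.IsElementaryAbelian p B → E.homSet A B = F.homSet A B)
    (htwo : p = 2 → ∀ A B : Subgroup Ω, A ≤ (F.hyperfocalSubgroup p) → B ≤ (F.hyperfocalSubgroup p) →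
      IsMulCommutative ↥A → IsMulCommutative ↥B → (∀ a ∈ A, a ^ 4 = 1) → (∀ b ∈ B, b ^ 4 = 1) → E.homSet A B = F.homSet A B) :
    ∀ P : Subgroup Ω, E.Hom P = F.Hom P := by
  obtain ⟨M, θ, R⟩ := H25.exists_rep F
  have R' := R.of_sub hEF
  have hF' := R.sat hS hF
  have hle := (R.le_iff R').1 hEF
  refine (R.hom_eq_iff R').2 (le_antisymm hle (H4.le_of_small (R'.sat hS hE) hF' hle rfl
    fun A h1 h2 h3 g H => ?_))
  obtain ⟨A₀, a1, rfl, a2, a3, φ, a4, a5, a6, a7, a8⟩ := H4.rep_small R (U := F.hyperfocalSubgroup p)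
    (R.im_hyp (p := p) ▸ hF'.sc_hyp) (R.im_hyp (p := p) ▸ h1) h2 h3 H
  refine R'.T_of_mem (?_ : φ ∈ E.homSet A₀ φ.range).1 a5
  by_cases h : p = 2
  · simp only [H4.pp, if_pos h] at a3 a8
    exact (htwo h _ _ a1 a6 a2 a7 a3 a8).ge ⟨a4, fun x => ⟨x, rfl⟩⟩
  · simp only [H4.pp, if_neg h] at a3 a8
    exact (hodd h _ _ a1 a6 ⟨a2, a3⟩ ⟨a7, a8⟩).ge ⟨a4, fun x => ⟨x, rfl⟩⟩

end Cfsg.Agent.S5296
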