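import Cfsg.Statements.S5274
import Cfsg.Agent.H25.CamH
import Cfsg.Agent.H25.Trans2

set_option autoImplicit false
open Cfsg

namespace Cfsg.Agent.S5274
open _root_.H25 Subgroup

/-- Let F be a saturated fusion system over a finite 2-group S. Suppose that every element of S is F-conjugate to an element of the centre Z(S) (some map of F defined on the cyclic subgroup it generates sends it into Z(S)). Then S is abelian. -/
theorem result {Ω : Type*} [Group Ω] {S : Subgroup Ω} [Finite S] (hS : IsPGroup 2 ↥S) (F : Cfsg.FusionSystem S) (hF : F.IsSaturated 2) (h : ∀ x ∈ S, ∃ z ∈ S ⊓ Subgroup.centralizer (S : Set Ω), F.IsConjElt x z) : IsMulCommutative ↥S := by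
  obtain ⟨M, θ, U⟩ := exists_urep S
  have R := U.rep le_rfl F
  have h1 := (R.sat hS hF).comm_of_cHz fun y hy => by
    obtain ⟨x, hx, rfl⟩ := R.exists_ex hy
    obtain ⟨z, hz, e⟩ := h x hx
    obtain ⟨g, H, e'⟩ := (R.conjElt_iff hx hz.1).1 e
    exact ⟨g, H, e' ▸ ex_mem_cz θ hz.1 le_rfl hz.2⟩
  exact ⟨⟨fun a b => Subtype.ext (mem_cz'.1 ((ex_mem_cz_iff U.inj b.2 le_rfl).1
    (h1 (ex_mem_im θ le_rfl b.2))) a a.2)⟩⟩

end Cfsg.Agent.S5274
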