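import Cfsg.Statements.S5275
import Cfsg.Agent.H25.KL3

set_option autoImplicit false
open Cfsg

namespace Cfsg.Agent.S5275
open H25 Subgroup

/-- A Glauberman–Thompson nilpotency criterion for fusion systems relative to a strongly closed subgroup. Let p be an odd prime, F a saturated fusion system over a finite p-group S, and D a subgroup of S that is strongly closed in F. Let Z(J(D)) be the centre of the subgroup of D generated by the abelian subgroups of D of largest order. Then F is the inner fusion system of S if and only if the normalizer fusion system of Z(J(D)) in F is the inner fusion system of N_S(Z(J(D))) = S. -/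
theorem result {Ω : Type*} [Group Ω] {S : Subgroup Ω} [Finite S] (p : ℕ) [Fact p.Prime] (hS : IsPGroup p ↥S) (F : Cfsg.FusionSystem S) (hF : F.IsSaturated p) (hp : p ≠ 2) (D : Subgroup Ω) (hD : F.StronglyClosed D) : (∀ P : Subgroup Ω, F.Hom P = (Cfsg.innerFusionSystem S).Hom P) ↔ ∀ N : Cfsg.FusionSystem (Cfsg.FusionSystem.normalizerIn S (Cfsg.centerThompsonAOf D)), F.IsNormalizerSystem (Cfsg.centerThompsonAOf D) N → ∀ P : Subgroup Ω, N.Hom P = (Cfsg.innerFusionSystem (Cfsg.FusionSystem.normalizerIn S (Cfsg.centerThompsonAOf D))).Hom P := by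
  obtain ⟨M, θ, U⟩ := exists_urep S
  have R := U.rep le_rfl F
  have hs := R.sat hS hF
  rw [H9.centerThompsonAOf_eq_ZJ, R.inner_iff, R.NF_inner_iff ((H9.ZJ_le 0 D).trans hD.1),
    im_ZJ U.inj hD.1]
  have h1 := R.sc hD
  have h2 : (fs θ F).FN (H9.ZJ 0 (im θ D)) := FS.FN_of_le_nz ((H9.ZJ_le 0 _).trans h1.le)
    (h1.S_le_nz.trans (H9.normalizer_le_normalizer_ZJ 0 _))
  exact ⟨fun h => (hs.NF h2).eq_inner_of_le hs.pg ((FS.NF_le _ _).trans h.le), fun h =>
    hs.eq_inner_of_ZJ hp (U.big_S F) h1 (h.le.trans (FS.inner_mono inf_le_left))⟩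

end Cfsg.Agent.S5275
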