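import Cfsg.Statements.S5276
import Cfsg.Agent.H25.Tate

set_option autoImplicit false
open Cfsg

namespace Cfsg.Agent.S5276
open H25 Subgroup

/-- Let p be a prime and F a saturated fusion system over a finite p-group S. Then F is the inner fusion system of S if and only if the normalizer fusion system of S itself in F is the inner fusion system (equivalently, Aut_F(S) is induced by S) and the Frattini subgroup Φ(S) is strongly closed in F. -/
theorem result {Ω : Type*} [Group Ω] {S : Subgroup Ω} [Finite S] (p : ℕ) [Fact p.Prime] (hS : IsPGroup p ↥S) (F : Cfsg.FusionSystem S) (hF : F.IsSaturated p) : (∀ P : Subgroup Ω, F.Hom P = (Cfsg.innerFusionSystem S).Hom P) ↔ (∀ N : Cfsg.FusionSystem (Cfsg.FusionSystem.normalizerIn S S), F.IsNormalizerSystem S N → ∀ P : Subgroup Ω, N.Hom P = (Cfsg.innerFusionSystem (Cfsg.FusionSystem.normalizerIn S S)).Hom P) ∧ F.StronglyClosed ((frattini ↥S).map S.subtype) := by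
  obtain ⟨M, θ, R⟩ := exists_rep F
  have hs := R.sat hS hF
  rw [R.inner_iff, R.NF_inner_iff le_rfl, R.sc_iff (fr_le S), im_fr R.inj le_rfl]
  refine ⟨fun h => ⟨(hs.NF (FS.FN_S _)).eq_inner_of_le hs.pg ((FS.NF_le _ _).trans h.le), ?_⟩,
    fun h => hs.eq_inner_of_sc_fr (h.1.le.trans (FS.inner_mono inf_le_left)) h.2
      (commutator_le_fr hs.pg) le_rfl⟩
  rw [h]
  exact (FS.nm_inner (fr_le _) ((le_nz_self _).trans (nz_le_nz_fr _))).sc

end Cfsg.Agent.S5276
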