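import Cfsg.Statements.S5277
import Cfsg.Agent.H4.GT5

set_option autoImplicit false
open Cfsg

namespace Cfsg.Agent.S5277

/-- Let p be an odd prime, F a saturated fusion system over a finite p-group S, and α an automorphism of S that fixes no non-identity element of S and preserves F (every map of F, transported along α, is again a map of F). Suppose the order of α is a prime r that does not divide the order of Aut_F(R) for any F-centric F-radical subgroup R of S. Then S is normal in F (F is the normalizer fusion system of S). -/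
theorem result {Ω : Type*} [Group Ω] {S : Subgroup Ω} [Finite S] (p : ℕ) [Fact p.Prime] (hS : IsPGroup p ↥S) (F : Cfsg.FusionSystem S) (hF : F.IsSaturated p) (hp : p ≠ 2) (α : ↥S ≃* ↥S) (hfix : ∀ x : ↥S, α x = x → x = 1) (hmor : F.IsMorphism F (S.subtype.comp α.toMonoidHom)) (r : ℕ) (hr : r.Prime) (hord : orderOf α = r) (hcr : ∀ R : Subgroup Ω, F.IsCentric R → F.IsRadical p R → ¬ r ∣ Nat.card ↥(F.autGroup R)) : F.IsNormal S := by
  open H25 H4.GT Subgroup in
  obtain ⟨M, θ, U⟩ := exists_urep S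
  have R := U.rep le_rfl F
  have hF' := R.sat hS hF
  obtain ⟨a, ha⟩ := exists_hc_of_good U.inj U.big.good le_rfl (φ := S.subtype.comp α.toMonoidHom)
    (S.subtype_injective.comp α.injective) fun x => (α x).2
  obtain ⟨π, q⟩ := exists_sq (α := S.subtype.comp α.toMonoidHom) U.inj θ le_rfl fun x => (α x).2
  have hn : a ∈ nz (im θ S) := HC.mem_nz (α := α) ha le_rfl
  have e1 : ex (act θ S) a = α := HC.act_eq (α := α) U.inj le_rfl ha
  refine (R.nm_iff le_rfl).2 (FP.nm hp hr _ a hF' (U.big_S F) ⟨aut_of_mor (q.mor R R hmor)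
    fun y hy => ?_, fun y hy e => ?_, mem_cz.2 fun y hy => ?_, cop_of_cr hF' fun P h1 h2 g hg => ?_⟩)
  · obtain ⟨x, hx, rfl⟩ := R.exists_ex hy
    rw [q.eq x hx, ← ha ⟨x, hx⟩, ex_of_mem _ hx]
  · obtain ⟨x, hx, rfl⟩ := R.exists_ex hy
    rw [← ha ⟨x, hx⟩] at e
    rw [show x = 1 from congrArg Subtype.val (hfix ⟨x, hx⟩ (Subtype.ext
      (ex_inj U.inj (α _).2 hx e))), ex_one]
  · obtain ⟨x, hx, rfl⟩ := R.exists_ex hy
    have := hc_act U.inj le_rfl (pow_mem hn r) ⟨x, hx⟩
    rw [ex_pow _ hn, e1, ← hord, pow_orderOf_eq_one] at this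
    rw [← hord, ← this]; rfl
  · obtain ⟨Q, hQ, rfl⟩ := R.exists_im h1.le
    have := finite_of_le hQ
    obtain ⟨β, hβ, e⟩ := R.exists_aut hQ hg
    have h3 := e.mem_nz hQ
    refine ⟨_, ((Nat.Prime.coprime_iff_not_dvd hr).2 (hcr Q ((R.centric_iff hQ).2 h1)
      ((R.rad_iff hS hQ).2 h2))).symm, ?_⟩
    rw [← lift_bot U.inj hQ, (hc_act U.inj hQ (pow_mem h3 _)).mem_lift_iff U.inj hQ, ex_pow _ h3,
      e.act_eq U.inj hQ, mem_bot]
    exact congrArg Subtype.val (pow_card_eq_one' (x := (⟨β, hβ⟩ : F.autGroup Q)))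

end Cfsg.Agent.S5277
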