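import Cfsg.Statements.S5278
import Cfsg.Agent.H4.GT3

set_option autoImplicit false
open Cfsg

namespace Cfsg.Agent.S5278

/-- Let p be an odd prime, F a saturated fusion system over a finite p-group S, and T a subgroup of Z(S) such that the normalizer fusion system of J(S) in F is contained in the normalizer fusion system of T, J(S) being the subgroup generated by the abelian subgroups of S of largest order. Then either T is weakly closed in F, or Aut_F(T) has a nontrivial cyclic subgroup X of order prime to p that permutes transitively the non-identity elements of the commutator [T, X] (the subgroup of T generated by the elements ψ(t)·t⁻¹ with ψ in X and t in T). -/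
theorem result {Ω : Type*} [Group Ω] {S : Subgroup Ω} [Finite S] (p : ℕ) [Fact p.Prime] (hS : IsPGroup p ↥S) (F : Cfsg.FusionSystem S) (hF : F.IsSaturated p) (hp : p ≠ 2) (T : Subgroup Ω) (hT : T ≤ S ⊓ Subgroup.centralizer (S : Set Ω)) (hJT : ∀ NJ : Cfsg.FusionSystem (Cfsg.FusionSystem.normalizerIn S (Cfsg.thompsonSubgroupAOf S)), F.IsNormalizerSystem (Cfsg.thompsonSubgroupAOf S) NJ → ∀ NT : Cfsg.FusionSystem (Cfsg.FusionSystem.normalizerIn S T), F.IsNormalizerSystem T NT → NJ.IsSubsystemOf NT) : F.WeaklyClosed T ∨ ∃ X : Subgroup (MulAut ↥T), X ≤ F.autGroup T ∧ X ≠ ⊥ ∧ IsCyclic ↥X ∧ (Nat.card ↥X).Coprime p ∧ ∀ a b : ↥T, a ∈ Subgroup.closure {y : ↥T | ∃ ψ ∈ X, ∃ t : ↥T, y = ψ t * t⁻¹} → b ∈ Subgroup.closure {y : ↥T | ∃ ψ ∈ X, ∃ t : ↥T, y = ψ t * t⁻¹} → a ≠ 1 → b ≠ 1 → ∃ ψ ∈ X, ψ a = b := by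
  open H25 H4.GT Subgroup in
  obtain ⟨M, θ, U⟩ := exists_urep S
  have R := U.rep le_rfl F
  have hTS := hT.trans inf_le_left
  have hJ : thompsonSubgroupAOf S ≤ S := H9.thompsonSubgroupAOf_eq S ▸ H9.JJ_le 0 S
  obtain ⟨NJ, a1, a2, a3⟩ := R.exists_normalizer hJ
  obtain ⟨NT, b1, b2, b3⟩ := R.exists_normalizer hTS
  have h1 := (b2.le_iff a2).1 (hJT NJ a1 NT b1)
  rw [a3, b3, H9.thompsonSubgroupAOf_eq, im_JJ U.inj le_rfl] at h1
  have hF' := R.sat hS hF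
  have hT' : im θ T ≤ (fs θ F).C (fs θ F).S := by
    change _ ≤ (fs θ F).C (im θ S)
    rw [← R.im_C le_rfl]; exact im_mono θ hT
  have hT1 := hT'.trans inf_le_left
  have h2 : ((fs θ F).NF (H9.JJ 0 (fs θ F).S)).Nm (im θ T) :=
    (FS.nm_NF hT1).of_le (hF'.NF (FS.FN_of_le_nz (H9.JJ_le 0 _) (H9.le_normalizer_JJ 0 _))) h1
      (le_inf hT1 (hT1.trans (H9.le_normalizer_JJ 0 _)))
  refine (nm_or_ct hp hF' (U.big_S F) hT' h2).imp (fun h => (R.wc_iff hTS).2 h.wc) ?_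
  rintro ⟨h, hh, c1, c2, c3, c4⟩
  obtain ⟨α, hα, e⟩ := R.exists_aut hTS hh
  have e1 : ∀ n : ℤ, ∀ t : T, ex θ ((α ^ n) t : Ω) = h ^ n * ex θ t * (h ^ n)⁻¹ := fun n t => by
    have := hc_act U.inj hTS (zpow_mem c1 n) t
    rwa [ex_zpow _ c1, e.act_eq U.inj hTS] at this
  have inj : ∀ a b : T, ex θ (a : Ω) = ex θ (b : Ω) → a = b := fun a b h =>
    Subtype.ext (ex_inj U.inj (hTS a.2) (hTS b.2) h)
  have key : ∀ a : T, a ∈ closure {y : T | ∃ ψ ∈ zpowers α, ∃ t : T, y = ψ t * t⁻¹} →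
      ex θ (a : Ω) ∈ ⁅im θ T, zpowers h⁆ := fun a ha => by
    have : closure {y : T | ∃ ψ ∈ zpowers α, ∃ t : T, y = ψ t * t⁻¹} ≤
        (pre θ ⁅im θ T, zpowers h⁆).subgroupOf T := (closure_le _).2 (by
      rintro _ ⟨_, ⟨n, rfl⟩, t, rfl⟩
      refine mem_pre.2 ⟨hTS ((α ^ n) t * t⁻¹ : T).2, ?_⟩
      change ex θ (((α ^ n) t : Ω) * (t : Ω)⁻¹) ∈ _
      rw [ex_mul θ (hTS ((α ^ n) t).2) (inv_mem (hTS t.2)), ex_inv θ (hTS t.2), e1, commutator_comm]
      exact commutator_mem_commutator (zpow_mem (mem_zpowers h) n) (ex_mem_im θ hTS t.2))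
    exact (mem_pre.1 (this ha)).2
  refine ⟨zpowers α, zpowers_le.2 hα, fun h0 => c3 (mem_cz.2 fun y hy => ?_), inferInstance, ?_,
    fun a b ha hb ha' hb' => ?_⟩
  · obtain ⟨t, ht, rfl⟩ := (mem_im' hTS).1 hy
    rw [← e ⟨t, ht⟩, zpowers_eq_bot.1 h0]; rfl
  · rw [Nat.card_zpowers]
    refine c2.coprime_dvd_left (orderOf_dvd_of_pow_eq_one (MulEquiv.ext fun t => inj _ _ ?_))
    have := e1 (orderOf h) t
    rw [zpow_natCast, zpow_natCast, pow_orderOf_eq_one] at this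
    simpa using this
  · obtain ⟨i, hi⟩ := c4 _ (key a ha) (fun h => ha' (inj _ _ (by simpa using h))) _ (key b hb)
      fun h => hb' (inj _ _ (by simpa using h))
    refine ⟨α ^ (i : ℤ), zpow_mem (mem_zpowers α) _, inj _ _ ?_⟩
    rw [e1, zpow_natCast, hi]

end Cfsg.Agent.S5278
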