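import Cfsg.Statements.S5279
import Cfsg.Agent.H25.PStC

set_option autoImplicit false
open Cfsg

namespace Cfsg.Agent.S5279
open _root_.H25 Subgroup

/-- Let p be an odd prime, G a finite group with a nontrivial Sylow p-subgroup P, and F the fusion system of G on P. Suppose F is p-stable: for every fully normalized subgroup Q and every χ in Aut_F(Q) acting quadratically on Q (χ(a⁻¹)·a·χ(a⁻¹)·χ(χ(a)) = 1 for all a in Q), χ lies in O_p(Aut_F(Q)). Then some nontrivial subgroup of P is normal in F. -/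
theorem result {Ω : Type*} [Group Ω] [Finite Ω] (p : ℕ) [Fact p.Prime] (hp : p ≠ 2) (P : Sylow p Ω) (hP : (P : Subgroup Ω) ≠ ⊥) (hst : (∀ Q : Subgroup Ω, (Cfsg.groupFusionSystem (P : Subgroup Ω)).IsFullyNormalized Q → ∀ χ : MulAut ↥Q, χ ∈ (Cfsg.groupFusionSystem (P : Subgroup Ω)).autGroup Q → (∀ a : ↥Q, (χ a⁻¹) * a * (χ a⁻¹) * (χ (χ a)) = 1) → χ ∈ ((Cfsg.pCore p ↥((Cfsg.groupFusionSystem (P : Subgroup Ω)).autGroup Q)).map ((Cfsg.groupFusionSystem (P : Subgroup Ω)).autGroup Q).subtype : Subgroup (MulAut ↥Q)))) : (Cfsg.groupFusionSystem (P : Subgroup Ω)).core ≠ ⊥ := by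
  obtain ⟨M, θ, U⟩ := exists_urep (P : Subgroup Ω)
  have R := U.rep le_rfl (groupFusionSystem (P : Subgroup Ω))
  have hs := R.sat P.isPGroup' (((rep_group _).sat_iff P.isPGroup').2
    (fs_group (P : Subgroup Ω) ▸ FS.sat_ofSub P.isPGroup' (syl_sylow P)))
  have h := (FS.Sat.constr_of_pSt hp _ hs (U.big_S _) (R.pSt_iff.1 hst)).2
  exact fun e => (FS.fun_ZJ (p := p)).ne _ hs.pg (fun e' => hP ((im_eq_bot U.inj le_rfl).1 e'))
    (eq_bot_iff.2 (R.core_eq_bot.1 e ▸ h.le_core))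

end Cfsg.Agent.S5279
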