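import Cfsg.Statements.S5287
import Cfsg.Agent.H4.Rz6

set_option autoImplicit false
open Cfsg

namespace Cfsg.Agent.S5287

/-- Let S be a finite metacyclic p-group (an extension of a cyclic group by a cyclic group). Every saturated fusion system over S is supersoluble (S has a chain of F-strongly closed subgroups from 1 to S with cyclic steps) if and only if S is not homocyclic of rank two (isomorphic to Z/p^n × Z/p^n with n ≥ 1) and, when p = 2, S is not dihedral of order at least 4, not quasi-dihedral (semidihedral) and not generalized quaternion of order at least 8. -/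
theorem result {Ω : Type*} [Group Ω] {S : Subgroup Ω} [Finite S] (p : ℕ) [Fact p.Prime] (hS : IsPGroup p ↥S) (hm : Cfsg.IsMetacyclic ↥S) : (∀ F : Cfsg.FusionSystem S, F.IsSaturated p → (∃ (m : ℕ) (c : Fin (m + 1) → Subgroup Ω), c 0 = ⊥ ∧ c (Fin.last m) = S ∧ (∀ i : Fin (m + 1), F.StronglyClosed (c i)) ∧ ∀ i : Fin m, c i.castSucc ≤ c i.succ ∧ ∃ x ∈ S, c i.succ = c i.castSucc ⊔ Subgroup.zpowers x)) ↔ ¬ ((∃ n : ℕ, 0 < n ∧ Nonempty (↥S ≃* Multiplicative (ZMod (p ^ n)) × Multiplicative (ZMod (p ^ n)))) ∨ (p = 2 ∧ ((∃ n : ℕ, 2 ≤ n ∧ Nonempty (↥S ≃* DihedralGroup n)) ∨ Cfsg.IsQuasiDihedral ↥S ∨ (∃ n : ℕ, 2 ≤ n ∧ Nonempty (↥S ≃* QuaternionGroup n))))) := by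
  constructor
  · have key : ∀ n, 0 < n → Nonempty (S ≃* Multiplicative (ZMod (p ^ n)) × Multiplicative (ZMod (p ^ n))) →
        ¬ H4.AutSS p S := fun n hn ⟨e⟩ => by
      haveI : Fact (1 < p ^ n) := ⟨Nat.one_lt_pow hn.ne' (Fact.out : p.Prime).one_lt⟩
      exact H4.not_autSS (X := Unit) (.of_card (n := n) (by simp)) (e.trans MulEquiv.prodUnique.symm)
    rintro h (⟨n, hn, e⟩ | ⟨rfl, h1⟩)
    · exact key n hn e ((H4.supS_iff hS).1 h).2
    rcases H4.mm_of_shape hS h1 with h2 | ⟨n, x, e, w, h2⟩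
    · obtain ⟨e⟩ : Nonempty (S ≃* Multiplicative (ZMod 2 × ZMod 2)) := IsKleinFour.nonempty_mulEquiv
      exact key 1 one_pos ⟨e.trans (MulEquiv.prodMultiplicative _ _)⟩ ((H4.supS_iff hS).1 h).2
    · exact h2.not_sup h
  · intro h
    have h1 := fun n hn e => h (.inl ⟨n, hn, e⟩)
    refine (H4.supS_iff hS).2 ⟨fun F hF => ?_, ?_⟩
    · obtain ⟨N, θ, R⟩ := H25.exists_rep F
      have e := H25.imEquiv R.inj (le_refl S)
      have h2 := H4.metacyclic_of_surjective hm e.toMonoidHom e.surjective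
      refine (R.nm_iff le_rfl).2 ?_
      by_cases hp : p = 2
      · subst hp
        exact H4.nm_of_meta_two (R.sat hS hF) (H25.FS.sc_S _) h2 fun h3 => h (.inr ⟨rfl, h3.of_equiv e⟩)
      · exact H4.nm_of_meta_odd hp (R.sat hS hF) (H25.FS.sc_S _) h2
    · by_cases hp : p = 2
      · subst hp
        exact H4.autSS_meta_two hS hm (fun e => h (.inr ⟨rfl, .inr (.inr ⟨2, le_rfl, e⟩)⟩)) h1
      · exact H4.MetaP.autSS ⟨hp, hS, hm⟩ h1

end Cfsg.Agent.S5287
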