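import Cfsg.Statements.S5289
import Cfsg.Agent.H4.Res5

set_option autoImplicit false
open Cfsg

namespace Cfsg.Agent.S5289

/-- Let p ≥ 5 be a prime and S a finite p-group of p-rank two (it has an elementary abelian subgroup of order p² and none of order p³) which is not the extraspecial group of order p³ and exponent p. Then S is resistant: for every saturated fusion system F over S, S is normal in F, that is, every map of F extends to an F-automorphism of S. -/
theorem result {Ω : Type*} [Group Ω] {S : Subgroup Ω} [Finite S] (p : ℕ) [Fact p.Prime] (hS : IsPGroup p S)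
    (F : Cfsg.FusionSystem S) (hF : F.IsSaturated p)
    (hp : 5 ≤ p)
    (hrank2 : ∃ E : Subgroup Ω, E ≤ S ∧ Cfsg.IsElementaryAbelian p E ∧ Nat.card E = p ^ 2)
    (hrank3 : ∀ E : Subgroup Ω, E ≤ S → Cfsg.IsElementaryAbelian p E → Nat.card E ≤ p ^ 2)
    (hnotE : ¬ (Nat.card S = p ^ 3 ∧ Monoid.exponent ↥S = p)) : F.IsNormal S := by
  obtain ⟨M, θ, R⟩ := H25.exists_rep F
  have e := (H25.imEquiv R.inj (le_refl S)).symm
  have h2 : Cfsg.PRankLE p 2 S := fun A hA h => by
    have := hrank3 _ (H4.map_subtype_le' A) (H4.abelem_map_subtype.2 ⟨hA, h⟩)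
    rwa [H4.card_map_subtype] at this
  refine (R.nm_iff le_rfl).2 (H4.nm_of_rank_two (by omega) (R.sat hS hF)
    (H4.pRankLE_of_inj h2 e.toMonoidHom e.injective) fun h => hnotE ?_)
  have h3 := (Nat.card_congr e.toEquiv).symm.trans h.1
  have : Nontrivial S := Finite.one_lt_card_iff_nontrivial.1 (h3 ▸ one_lt_pow₀ (by omega) (by omega))
  refine ⟨h3, (Monoid.exponent_eq_prime_iff Fact.out).2 fun a ha => orderOf_eq_prime
    (e.symm.injective ?_) ha⟩
  rw [map_pow, map_one]
  exact Subtype.ext (h.2 _ (e.symm a).2)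

end Cfsg.Agent.S5289
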