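import Cfsg.Statements.S5292
import Cfsg.Agent.H25.KL3
import Cfsg.Agent.H1.PSolv

set_option autoImplicit false
universe u
open Cfsg

namespace Cfsg.Agent.S5292
open H25 Subgroup

universe v in
theorem key {Ω : Type*} [Group Ω] {S : Subgroup Ω} [Finite S] {p : ℕ} [Fact p.Prime]
    (hS : IsPGroup p S) {F : FusionSystem S} {G : Type v} [Group G] {ι : S →* G}
    (h : F.IsModel p G ι) : IsPSolvable p G ↔ IsPSolvable p (F.autGroup F.core) := by
  have := h.1
  obtain ⟨R, e, hs, hc⟩ := (isModel_iff hS).1 h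
  have hM : (fs ι F).Mdl p ⊤ := e ▸ FS.mdl_ofSub (isPGroup_range hS ι) hs hc
  have hn := (hM.nm_iff.1 (R.im_core ▸ FS.nm_core _)).2
  have h1 : (act ι F.core).range = F.autGroup F.core :=
    le_antisymm (fun α hα => by
      obtain ⟨g, hg⟩ := (mem_range_act R.inj (core_le_S F)).1 hα
      refine (R.mem_A_iff (core_le_S F) hg).1 ?_
      rw [hM.A_eq (im_mono ι (core_le_S F))]
      exact mem_ai_of_mem trivial (hn trivial)) (R.autGroup_le_range (core_le_S F))
  rw [← h1]
  refine ⟨fun h => H1.isPSolvable_of_surjective (H1.isPSolvable_subgroup h _)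
    (act ι F.core).rangeRestrict_surjective, fun h => H1.isPSolvable_of_injective
      (H1.isPSolvable_of_ker_of_range (act ι F.core) (H1.isPSolvable_of_isPGroup fun x => ?_) h)
      (f := (MonoidHom.id G).codRestrict _ fun g => hn trivial) fun a b e => congrArg Subtype.val e⟩
  have h2 : (x.1 : G) ∈ cz (fs ι F).core := R.im_core ▸
    (lift_bot R.inj (core_le_S F)).le (mem_pre_bot.2 ⟨x.1.2, (ex_coe _ _).trans x.2⟩)
  obtain ⟨k, hk⟩ := hM.sat.pg' (FS.core_le _) ⟨_, hM.inf_cz_le (FS.nm_core _)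
    hM.constr.centric_core ⟨trivial, h2⟩⟩
  exact ⟨k, Subtype.ext (Subtype.ext (by simpa using congrArg Subtype.val hk))⟩

theorem realizedBy_comp {Ω G G' : Type*} [Group Ω] [Group G] [Group G'] [Finite G]
    {S : Subgroup Ω} {p : ℕ} [Fact p.Prime] (hS : IsPGroup p S) {F : FusionSystem S} {ι : S →* G}
    (h : F.IsRealizedBy ι) (hs : Syl p ι.range ⊤) {f : G →* G'} (h1 : Function.Surjective f)
    (h2 : Function.Injective (f.comp ι)) : F.IsRealizedBy (f.comp ι) := by
  refine ⟨h2, fun P hP φ hφ => (h.2 P hP φ hφ).trans ⟨fun ⟨g, e⟩ => ⟨f g, fun x => by simp [e]⟩,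
    fun ⟨g', e⟩ => ?_⟩⟩
  obtain ⟨g, H, e'⟩ := (FS.epi_ofSub (top f) le_rfl (isPGroup_range hS ι) hs).lift' (g' := g')
    (im_le_range ι P) (FS.ofSub_T_of_mem (im_mono _ (im_le_range ι P))
      (by rw [im_self, range_top]; exact h1 g') (by
        rw [im_top, im_top]
        refine cj_le.2 ?_
        rintro _ ⟨y, hy, rfl⟩
        obtain ⟨x, hx, rfl⟩ := (mem_im' hP).1 hy
        exact ⟨_, ⟨_, rfl⟩, (e ⟨x, hx⟩).trans (by rw [ex_of_mem ι (hP hx)]; rfl)⟩))
  refine ⟨g, fun x => ?_⟩
  have h3 := ex_mem_im ι hP x.2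
  obtain ⟨y, hy⟩ := H.conj_mem h3
  have h4 := e' _ h3
  rw [← hy, ex_top, ex_top, ex_of_mem ι (hP x.2)] at h4
  rw [h2 ((e x).trans h4.symm), hy, ex_of_mem ι (hP x.2)]

/-- Let F be a saturated fusion system over a finite p-group S. Then F is the fusion system of some finite p-solvable group on a Sylow p-subgroup if and only if F is constrained (some subgroup normal in F is centric in F) and the group of automorphisms that F induces on its largest normal subgroup O_p(F) is p-solvable. -/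
theorem result {Ω : Type u} [Group Ω] {S : Subgroup Ω} [Finite S] (p : ℕ) [Fact p.Prime] (hS : IsPGroup p S)
    (F : Cfsg.FusionSystem S) (hF : F.IsSaturated p) :
    (∃ (G : Type u) (_ : Group G) (_ : Finite G) (ι : S →* G), Cfsg.IsPSolvable p G ∧ F.IsRealizedBy ι ∧
        ∃ T : Sylow p G, (T : Subgroup G) = ι.range) ↔
      (F.IsConstrained p ∧ Cfsg.IsPSolvable p ↥(F.autGroup F.core)) := by
  refine ⟨fun ⟨G, _, _, ι, h1, h2, h3⟩ => ?_, fun ⟨h1, h2⟩ => ?_⟩
  · rw [sylow_range_iff hS] at h3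
    have h4 := H1.isPSolvable_quotient h1 (pPrimeCore p G)
    have h5 : F.IsModel p _ ((QuotientGroup.mk' (pPrimeCore p G)).comp ι) := by
      refine ⟨inferInstance, realizedBy_comp hS h2 h3 (QuotientGroup.mk'_surjective _)
        ((injective_iff_map_eq_one _).2 fun x hx => h2.1 ?_), (sylow_range_iff hS).2 ?_,
        H1.centralizer_pCore_le_of_isPSolvable h4 H1.pPrimeCore_quotient_pPrimeCore⟩
      · obtain ⟨k, hk⟩ := hS x
        have h6 : orderOf (ι x) ∣ Nat.card (pPrimeCore p G) :=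
          orderOf_dvd_natCard _ ((QuotientGroup.eq_one_iff _).1 hx)
        have h7 : orderOf (ι x) ∣ p ^ k := orderOf_dvd_of_pow_eq_one (by rw [← map_pow, hk, map_one])
        rw [map_one, ← orderOf_eq_one_iff]
        exact Nat.eq_one_of_dvd_coprimes ((H1.pPrimeCore_coprime).pow_right k) h6 h7
      · have := h3.im (top (QuotientGroup.mk' (pPrimeCore p G))) le_rfl
        rwa [im_self, range_top, im_top, MonoidHom.range_eq_top.2 (QuotientGroup.mk'_surjective _),
          ← MonoidHom.range_comp] at this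
    obtain ⟨R, e, hs, hc⟩ := (isModel_iff hS).1 h5
    exact ⟨(R.constr_iff hS).2 (e ▸ FS.constr_ofSub (isPGroup_range hS _) hs hc), (key hS h5).1 h4⟩
  · obtain ⟨M, θ, U⟩ := exists_urep S
    have R := U.rep le_rfl F
    obtain ⟨H, hH, -⟩ := ((R.constr_iff hS).1 h1).exists_mdl (U.big_S F)
    obtain ⟨G, _, ι, h, -⟩ := R.exists_isModel hH
    exact ⟨G, _, h.1, ι, (key hS h).2 h2, h.2.1, h.2.2.1⟩

end Cfsg.Agent.S5292
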