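import Cfsg.Statements.S5294
import Cfsg.Agent.H25.KL4

set_option autoImplicit false
universe u
open Cfsg

namespace Cfsg.Agent.S5294
open H25 Subgroup

/-- Let F be a saturated fusion system over a finite p-group S whose centre Z(S) lies in the largest subgroup O_p(F) normal in F. Then the centre Z(F) of F is a direct factor of Z(S): there is a subgroup K of Z(S) with Z(F) ∩ K = 1 and Z(F)K = Z(S). -/
theorem result {Ω : Type u} [Group Ω] {S : Subgroup Ω} [Finite S] (p : ℕ) [Fact p.Prime] (hS : IsPGroup p S)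
    (F : Cfsg.FusionSystem S) (hF : F.IsSaturated p) (hZ : (S ⊓ Subgroup.centralizer (S : Set Ω)) ≤ F.core) :
    ∃ K : Subgroup Ω, K ≤ (S ⊓ Subgroup.centralizer (S : Set Ω)) ∧ F.center ⊓ K = ⊥ ∧ F.center ⊔ K = (S ⊓ Subgroup.centralizer (S : Set Ω)) := by
  obtain ⟨M, θ, R⟩ := exists_rep F
  obtain ⟨K, h1, h2, h3, -⟩ := (R.sat hS hF).exists_trace (FS.nm_core _) (by
    rw [← R.im_core]; exact (im_inf_cz R.inj le_rfl).ge.trans (im_mono θ hZ))
  have e : (fs θ F).C (fs θ F).S = im θ (S ⊓ cz S) := (im_inf_cz R.inj le_rfl).symm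
  rw [e] at h1 h3
  obtain ⟨K, hK, hK', rfl⟩ := exists_im h1
  rw [← R.im_center] at h2 h3
  rw [← im_inf R.inj, im_eq_bot R.inj (inf_le_right.trans hK')] at h2
  rw [← im_sup θ (center_le_S F) hK', im_inj R.inj (sup_le (center_le_S F) hK') inf_le_left] at h3
  exact ⟨K, hK, h2, h3⟩

end Cfsg.Agent.S5294
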