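import Cfsg.Statements.S5295
import Cfsg.Agent.H25.KL4

set_option autoImplicit false
universe u
open Cfsg

namespace Cfsg.Agent.S5295
open H25 Subgroup

/-- Let F be a saturated fusion system over a finite p-group S with p odd. Then the centre Z(F) of F is a direct factor of Z(S): there is a subgroup K of Z(S) with Z(F) ∩ K = 1 and Z(F)K = Z(S). (At the prime 2 this can fail.) -/
theorem result {Ω : Type u} [Group Ω] {S : Subgroup Ω} [Finite S] (p : ℕ) [Fact p.Prime] (hp : p ≠ 2) (hS : IsPGroup p S)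
    (F : Cfsg.FusionSystem S) (hF : F.IsSaturated p) :
    ∃ K : Subgroup Ω, K ≤ (S ⊓ Subgroup.centralizer (S : Set Ω)) ∧ F.center ⊓ K = ⊥ ∧ F.center ⊔ K = (S ⊓ Subgroup.centralizer (S : Set Ω)) := by
  obtain ⟨M, θ, U⟩ := exists_urep S
  have R := U.rep le_rfl F
  have hs := R.sat hS hF
  have h0 := (le_nz_self _).trans (FS.fun_JJ.nz _ hs.pg)
  have h4 : ((fs θ F).NF (H9.JJ 0 (fs θ F).S)).S = (fs θ F).S := inf_eq_left.2 h0
  have e : ((fs θ F).NF (H9.JJ 0 (fs θ F).S)).C ((fs θ F).NF (H9.JJ 0 (fs θ F).S)).S =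
      im θ (S ⊓ cz S) := by rw [FS.C, h4]; exact (im_inf_cz R.inj le_rfl).symm
  obtain ⟨K, h1, h2, h3, -⟩ := (hs.NF (FS.FN_of_le_nz (H9.JJ_le 0 _) h0)).exists_trace
    (FS.nm_NF (H9.JJ_le 0 _)) (by
      rw [FS.C, h4]
      exact (inf_le_inf_left _ (cz_anti (H9.JJ_le 0 _))).trans (FS.inf_cz_JJ_le _))
  rw [FS.TC.center_JJ ⟨hs, U.big_S F, Or.inl hp⟩] at h2 h3
  rw [e] at h1 h3
  obtain ⟨K, hK, hK', rfl⟩ := exists_im h1
  rw [← R.im_center] at h2 h3
  rw [← im_inf R.inj, im_eq_bot R.inj (inf_le_right.trans hK')] at h2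
  rw [← im_sup θ (center_le_S F) hK', im_inj R.inj (sup_le (center_le_S F) hK') inf_le_left] at h3
  exact ⟨K, hK, h2, h3⟩

end Cfsg.Agent.S5295
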