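import Cfsg.Statements.S5299
import Cfsg.Agent.H25.KL3

set_option autoImplicit false
universe u
open Cfsg

namespace Cfsg.Agent.S5299
open H25 Subgroup

/-- Let F be a saturated fusion system over a finite p-group S, H a finite group and Q a p-subgroup of H. If Q is not involved in S (no section of S is isomorphic to Q), then F is H-free: H is involved in no model of the normalizer system of a fully normalized centric subgroup. -/
theorem result {Ω : Type u} [Group Ω] {S : Subgroup Ω} [Finite S] (p : ℕ) [Fact p.Prime] (hS : IsPGroup p S)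
    (F : Cfsg.FusionSystem S) (hF : F.IsSaturated p) (H : Type*) [Group H] [Finite H] (Q : Subgroup H) (hQ : IsPGroup p Q)
    (hfree : ¬ Cfsg.Involves (↥Q) (↥S)) : F.IsSectionFree p H := by
  obtain ⟨M, θ, U⟩ := exists_urep S
  rw [U.free_iff le_rfl hS]
  intro P _ _ L hL h
  obtain ⟨K, hK, ρ, hρ⟩ := H9.involves_iff.2 h
  obtain ⟨T, hT, hs⟩ := exists_syl (p := p) (pre ρ Q)
  have h2 := hs.im ρ (pre_le ρ _)
  rw [im_pre' (MonoidHom.range_eq_top.2 hρ ▸ le_top)] at h2
  have h3 := h2.eq_of_isPGroup hQ
  have h4 := hs.le.trans (pre_le ρ _)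
  obtain ⟨g, -, h5⟩ := hL.syl.exists_cj_le hT (h4.trans hK)
  refine hfree (H29.involves_trans (H29.involves_of_surjective
    ((ρ.comp (inclusion h4)).codRestrict Q fun x => h3.le (ex_of_mem ρ (h4 x.2) ▸
      ex_mem_im ρ h4 x.2)) fun y => ?_) (H29.involves_trans ?_ (H29.involves_trans
      (H29.involves_of_le (h5.trans inf_le_left)) (H29.involves_of_surjective
        (imEquiv U.inj le_rfl).toMonoidHom (imEquiv U.inj le_rfl).surjective))))
  · obtain ⟨x, hx, e⟩ := (mem_im' h4).1 (h3.ge y.2)
    exact ⟨⟨x, hx⟩, Subtype.ext ((ex_of_mem ρ (h4 hx)).symm.trans e)⟩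
  · exact H29.involves_of_surjective (T.equivMapOfInjective _ (MulAut.conj g).injective).symm.toMonoidHom
      (MulEquiv.surjective _)

end Cfsg.Agent.S5299
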