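import Cfsg.Statements.S5308
import Cfsg.Agent.H25.Comp

set_option autoImplicit false
open Cfsg

namespace Cfsg.Agent.S5308
open _root_.H25 Subgroup

/-- A saturated fusion system F over a finite p-group S has a generalized Fitting subsystem — a central product of the inner fusion system of O_p(F) (the largest subgroup of S normal in F) with a layer of F — and every generalized Fitting subsystem of F is a normal subsystem of F. -/
theorem result {Ω : Type*} [Group Ω] {S : Subgroup Ω} [Finite S] (p : ℕ) [Fact p.Prime] (hS : IsPGroup p S) (F : Cfsg.FusionSystem S) (hF : F.IsSaturated p) :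
    (∃ (U : Subgroup Ω) (D : Cfsg.FusionSystem U), D.IsGeneralizedFittingOf F p) ∧
      ∀ (U : Subgroup Ω) (D : Cfsg.FusionSystem U), D.IsGeneralizedFittingOf F p → D.IsNormalIn F p := by
  obtain ⟨M, θ, V⟩ := exists_urep S
  have R := V.rep le_rfl F
  have hB := V.big_S F
  refine ⟨?_, fun U D hD => ?_⟩
  · obtain ⟨E, hE⟩ := (R.sat hS hF).exists_lay hB
    obtain ⟨D, h1, h2⟩ := hE.exists_fit hB
    obtain ⟨T, hT, D, R', rfl⟩ := R.exists_sub h2.S_le
    exact ⟨T, D, (V.fit_iff le_rfl hS hT).2 ⟨E, hE, h1⟩⟩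
  · obtain ⟨E, hE, h1⟩ := (V.fit_iff le_rfl hS (le_of_fit hD)).1 hD
    exact (R.nml_iff (V.rep (le_of_fit hD) D) hS).2 (hE.fit_nml hB h1)

end Cfsg.Agent.S5308
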