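import Cfsg.Statements.S5309
import Cfsg.Agent.H25.Comp

set_option autoImplicit false
open Cfsg

namespace Cfsg.Agent.S5309
open _root_.H25 Subgroup

/-- Self-centralizing property of the generalized Fitting subsystem. Let F be a saturated fusion system over a finite p-group S and D a generalized Fitting subsystem of F, over U. Then the centre of D is the largest subgroup Y of C_S(U) centralized by D in F, in the sense that every map of D extends to a map of F fixing Y elementwise: the centre of D is such a subgroup, and every such Y lies in the centre of D. -/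
theorem result {Ω : Type*} [Group Ω] {S : Subgroup Ω} [Finite S] (p : ℕ) [Fact p.Prime] (hS : IsPGroup p S) (F : Cfsg.FusionSystem S) (hF : F.IsSaturated p)
    {U : Subgroup Ω} (D : Cfsg.FusionSystem U) (hD : D.IsGeneralizedFittingOf F p) :
    (D.center ≤ Cfsg.FusionSystem.centralizerIn S U ∧ ∀ P : Subgroup Ω, D.Hom P ⊆ F.centralizerHom D.center P) ∧
      ∀ Y : Subgroup Ω, Y ≤ Cfsg.FusionSystem.centralizerIn S U →
        (∀ P : Subgroup Ω, D.Hom P ⊆ F.centralizerHom Y P) → Y ≤ D.center := by
  obtain ⟨M, θ, V⟩ := exists_urep S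
  have R := V.rep le_rfl F
  have hB := V.big_S F
  have h0 := le_of_fit hD
  have R' := V.rep h0 D
  obtain ⟨E, hE, h1⟩ := (V.fit_iff le_rfl hS h0).1 hD
  have h2 := hE.fit_nml hB h1
  refine ⟨(R.cz_iff R' ((center_le_S D).trans h0)).2
    (R'.im_center ▸ (FS.cen_center _).cz_self h2.le), fun Y h3 h4 => ?_⟩
  have h5 : Y ≤ S := h3.trans inf_le_left
  have h6 := (R.cz_iff R' h5).1 ⟨h3, h4⟩
  rw [← im_le_im R.inj h5, R'.im_center]
  exact (h6.cen h2.sat (h6.le_cse.trans (hE.cse_le hB h2 h1.le₂ (FS.S_le_of_le h1.le₁)))).le_center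

end Cfsg.Agent.S5309
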