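import Cfsg.Statements.S5312
import Cfsg.Agent.H25.Comp

set_option autoImplicit false
open Cfsg

namespace Cfsg.Agent.S5312
open _root_.H25 Subgroup

/-- Let F be a saturated fusion system over a finite p-group S. Every component C of F is a normal subsystem of every generalized Fitting subsystem of F. -/
theorem result {Ω : Type*} [Group Ω] {S : Subgroup Ω} [Finite S] (p : ℕ) [Fact p.Prime] (hS : IsPGroup p S) (F : Cfsg.FusionSystem S) (hF : F.IsSaturated p)
    {T : Subgroup Ω} (C : Cfsg.FusionSystem T) (hC : C.IsComponentIn F p)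
    {U : Subgroup Ω} (D : Cfsg.FusionSystem U) (hD : D.IsGeneralizedFittingOf F p) : C.IsNormalIn D p := by
  obtain ⟨M, θ, V⟩ := exists_urep S
  have h0 := le_of_fit hD
  obtain ⟨E, hE, h1⟩ := (V.fit_iff le_rfl hS h0).1 hD
  obtain ⟨h2, h3⟩ := V.cmp le_rfl hS hC
  exact ((V.rep h0 D).nml_iff (V.rep h2 C) (hS.to_le h0)).2 (h3.nml_fit (V.big_S F) hE h1)

end Cfsg.Agent.S5312
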