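import Cfsg.Statements.S5316
import Cfsg.Agent.H4.Mx4
import Cfsg.Agent.S5185
import Cfsg.Agent.S5186

set_option autoImplicit false
open Cfsg

namespace Cfsg.Agent.S5316

/-- Let p ≥ 5 be a prime, S a finite p-group of maximal class of order p^n with n ≥ 5 (nilpotency class n − 1), F a saturated fusion system over S, and E an F-essential subgroup that is not a pearl (not elementary abelian of order p² and not extraspecial of order p³ and exponent p). Then E has order at least p⁴. -/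
theorem result {Ω : Type*} [Group Ω] {S : Subgroup Ω} [Finite S] (p : ℕ) [Fact p.Prime] (hp : 5 ≤ p) (hS : IsPGroup p ↥S) (n : ℕ) (hn : Nat.card S = p ^ n) (h5 : 5 ≤ n)
    (hmax : Subgroup.lowerCentralSeries S (n - 2) ≠ ⊥) (F : Cfsg.FusionSystem S) (hF : F.IsSaturated p)
    (E : Subgroup Ω) (hE : F.IsEssential p E)
    (hnp : ¬ ((Nat.card ↥E = p ^ 2 ∧ Cfsg.IsElementaryAbelian p E) ∨ (Nat.card ↥E = p ^ 3 ∧ Cfsg.IsExtraspecial p ↥E ∧ Monoid.exponent ↥E = p))) :
    p ^ 4 ≤ Nat.card ↥E := by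
  have pp : p.Prime := Fact.out
  have hES : E ≤ S := hE.1.1
  haveI : Finite E := Finite.of_injective _ (Subgroup.inclusion_injective hES)
  obtain ⟨a, ha⟩ := IsPGroup.iff_card.1 (hS.to_le hES)
  obtain ⟨x, -, α, -, -, -, r⟩ := H4.exists_RA hS hF hE
  have h1 := r.lt_index.trans_le (Nat.le_of_dvd Nat.card_pos (Subgroup.index_dvd_card _))
  rw [ha] at h1 ⊢
  have h2 : 1 < a := (Nat.pow_lt_pow_iff_right pp.one_lt).1 (by simpa using h1)
  refine Nat.pow_le_pow_right pp.pos (not_lt.1 fun h3 => hnp ?_)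
  obtain rfl | rfl : a = 2 ∨ a = 3 := by omega
  · exact .inl ⟨ha, (Cfsg.Agent.S5185.result p hS F hF E hE ha).1⟩
  rcases Cfsg.Agent.S5186.result p hS F hF E hE ha with h | ⟨-, h, h'⟩ | ⟨h, -⟩
  · exfalso
    obtain ⟨N, θ, R⟩ := H25.exists_rep F
    have s := R.sat hS hF
    have M := H4.Mx.maxC_im R.inj hn (by omega) hmax
    have e := (R.ess_iff s hES).1 hE
    have cm := (H4.G3.cm_im R.inj hES).2 h.1
    have pw : ∀ x ∈ H25.im θ E, x ^ p = 1 := fun x hx => by
      obtain ⟨y, hy, rfl⟩ := (H25.mem_im' hES).1 hx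
      rw [← H25.ex_pow θ (hES hy), h.2 y hy, H25.ex_one]
    have c := (H25.card_im R.inj hES).trans ha
    refine H4.Mx.Bad.false ⟨s, e, cm, pw, c, fun e' => ?_⟩ M hp
    have := H4.P5.card_N_le s e cm pw c
    rw [e', H25.fs_S, M.card, Nat.pow_le_pow_iff_right pp.one_lt] at this
    omega
  · refine .inr ⟨ha, h, ?_⟩
    haveI : Nontrivial E := Finite.one_lt_card_iff_nontrivial.1 (ha ▸ Nat.one_lt_pow (by norm_num) pp.one_lt)
    exact (Monoid.exponent_eq_prime_iff pp).2 fun g hg => orderOf_eq_prime (Subtype.ext (h' g g.2)) hg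
  · omega

end Cfsg.Agent.S5316
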