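import Cfsg.Statements.S5328
import Cfsg.Agent.H25.Xfer

set_option autoImplicit false
universe u
open Cfsg

namespace Cfsg.Agent.S5328
open H25 Subgroup

/-- Every fusion system over a finite p-group S, saturated or not, is realized inside some finite group: there is a finite group G and an injective homomorphism ι of S into G such that the maps of the system are exactly the homomorphisms between subgroups of S that become conjugations by elements of G (the image of S need not be a Sylow p-subgroup of G). -/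
theorem result {Ω : Type u} [Group Ω] {S : Subgroup Ω} [Finite S] (p : ℕ) [Fact p.Prime] (hS : IsPGroup p S) (F : Cfsg.FusionSystem S) : ∃ (G : Type u) (_ : Group G) (_ : Finite G) (ι : ↥S →* G), F.IsRealizedBy ι := by
  obtain ⟨M, θ, R⟩ := exists_rep F
  obtain ⟨G, _, _, ι, N, π, D⟩ := (fs θ F).exists_td
  have h : ∀ s : S, θ s ∈ (fs θ F).S := fun s => ex_coe θ s ▸ ex_mem_im θ le_rfl s.2
  let j : S →* ULift.{u} G := MulEquiv.ulift.symm.toMonoidHom.comp (ι.comp (θ.codRestrict _ h))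
  have e : ∀ x (hx : x ∈ S), j ⟨x, hx⟩ = ⟨ex ι (ex θ x)⟩ := fun x hx => by
    rw [ex_of_mem θ hx, ex_of_mem ι (h _)]; rfl
  refine ⟨_, _, inferInstance, j, MulEquiv.ulift.symm.injective.comp (D.inj.comp
    fun a b e => R.inj (congrArg Subtype.val e)), fun P hP φ hφ => ⟨fun h => ?_, fun ⟨k, hk⟩ => ?_⟩⟩
  · obtain ⟨g, H, e'⟩ := R.exists_T h
    obtain ⟨k, hk⟩ := D.stab _ _ H
    refine ⟨⟨k⟩, fun x => ?_⟩
    rw [e, e, e' x, hk _ (ex_mem_im θ hP x.2)]
    rfl
  · obtain ⟨a, Ha, e'⟩ := D.gen k.down⁻¹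
    simp only [inv_inv] at e'
    have h1 : ∀ x : P, ex ι (ex θ (φ x)) = k.down * ex ι (ex θ x) * k.down⁻¹ := fun x => by
      have := hk x
      rw [e, e] at this
      exact congrArg ULift.down this
    have h2 : ∀ x ∈ S, ex θ x ∈ (fs θ F).S := fun x hx => ex_mem_im θ le_rfl hx
    have h3 : im θ P ≤ pre ι (cj k.down⁻¹ N) := (im_le_iff hP).2 fun x hx => mem_pre.2 ⟨h2 x (hP hx),
      mem_cj.2 (by rw [inv_inv, ← h1 ⟨x, hx⟩]; exact (D.base _ (h2 _ (hφ _))).1)⟩
    refine R.mem_of_T hP (Ha.mono h3) hφ fun x => ?_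
    rw [← e' _ (h3 (ex_mem_im θ hP x.2)), ← h1 x, (D.base _ (h2 _ (hφ _))).2]

end Cfsg.Agent.S5328
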