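import Cfsg.Statements.S5330
import Cfsg.Agent.H25.KL4

set_option autoImplicit false
open Cfsg

namespace Cfsg.Agent.S5330
open H25 Subgroup

/-- Let F be a saturated fusion system over a finite abelian p-group S. Then S is the internal direct product of the centre of the system and the focal subgroup: Z(F) ∩ foc(F) = 1 and Z(F)·foc(F) = S. -/
theorem result {Ω : Type*} [Group Ω] {S : Subgroup Ω} [Finite S] (p : ℕ) [Fact p.Prime] (hS : IsPGroup p S) (F : Cfsg.FusionSystem S) (hF : F.IsSaturated p) (hab : ∀ x ∈ S, ∀ y ∈ S, x * y = y * x) : F.center ⊓ F.focalSubgroup = ⊥ ∧ F.center ⊔ F.focalSubgroup = S := by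
  obtain ⟨M, θ, R⟩ := exists_rep F
  have hs := R.sat hS hF
  have h0 : (fs θ F).S ≤ cz (fs θ F).S := (isMulCommutative_im R.inj le_rfl).2
    (isMulCommutative_iff_le_cz.2 fun x hx => mem_cz'.2 fun y hy => hab y hy x hx)
  obtain ⟨K, -, h2, h3, h4, h5⟩ := hs.exists_trace (hs.nm_of_sc_abelian (FS.sc_S _) h0) inf_le_left
  rw [le_antisymm h4 (h5 h0), ← R.im_center, ← R.im_foc] at h2 h3
  rw [← im_inf R.inj, im_eq_bot R.inj (inf_le_right.trans (foc_le_S F))] at h2
  rw [← im_sup θ (center_le_S F) (foc_le_S F), FS.C, inf_eq_left.2 h0, fs_S,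
    im_inj R.inj (sup_le (center_le_S F) (foc_le_S F)) le_rfl] at h3
  exact ⟨h2, h3⟩

end Cfsg.Agent.S5330
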