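import Cfsg.Statements.S5331
import Cfsg.Agent.H4.Sup2

set_option autoImplicit false
open Cfsg

namespace Cfsg.Agent.S5331

/-- Let S be a finite abelian 2-group that is a direct product of cyclic groups of pairwise distinct orders 2^{a_1} < 2^{a_2} < ⋯ < 2^{a_n} (all a_i ≥ 1). Then every saturated fusion system over S is the inner one: its maps are exactly the conjugations by elements of S. -/
theorem result {Ω : Type*} [Group Ω] {S : Subgroup Ω} [Finite S] (n : ℕ) (a : Fin n → ℕ) (ha : StrictMono a) (ha1 : ∀ i, 1 ≤ a i) (e : ↥S ≃* Multiplicative ((i : Fin n) → ZMod (2 ^ a i))) (F : Cfsg.FusionSystem S) (hF : F.IsSaturated 2) (P : Subgroup Ω) : F.Hom P = (Cfsg.innerFusionSystem S).Hom P := by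
  have e' := e.trans (MulEquiv.piMultiplicative _)
  have hS : IsPGroup 2 S := .of_card (n := ∑ i, a i) (by
    rw [Nat.card_congr e'.toEquiv, Nat.card_pi, ← Finset.prod_pow_eq_pow_sum]
    simp)
  have hc : IsMulCommutative S := H4.isMulCommutative_iff'.2 fun x y => e.injective (by
    rw [map_mul, map_mul, mul_comm])
  obtain ⟨M, θ, R⟩ := H25.exists_rep F
  have h1 := (H4.autSS_of_pi ha.injective e').of_equiv (H25.imEquiv R.inj (le_refl S)).symm
  refine R.inner_iff.2 (H4.eq_inner_of_nm (R.sat hS hF) ((R.nm_iff le_rfl).1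
    (H4.isNormal_of_comm hS hF hc)) fun α h => ?_) P
  exact (pow_one α).symm.trans ((h1 (Subgroup.zpowers α) ((Nat.card_zpowers α).symm ▸ h)).2 α
    (Subgroup.mem_zpowers α))

end Cfsg.Agent.S5331
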