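import Cfsg.Statements.S5332
import Cfsg.Agent.H25.KL3

set_option autoImplicit false
open Cfsg

namespace Cfsg.Agent.S5332
open H25 Subgroup

/-- Let p be odd and F a saturated fusion system over a finite p-group S that is not the inner system of S. Then F contains a saturated constrained subsystem over S that is itself not the inner system. -/
theorem result {Ω : Type*} [Group Ω] {S : Subgroup Ω} [Finite S] (p : ℕ) [Fact p.Prime] (hS : IsPGroup p S) (F : Cfsg.FusionSystem S) (hF : F.IsSaturated p) (hp : p ≠ 2) (hne : ∃ P : Subgroup Ω, F.Hom P ≠ (Cfsg.innerFusionSystem S).Hom P) : ∃ E : Cfsg.FusionSystem S, E ≤ F ∧ E.IsConstrained p ∧ ∃ P : Subgroup Ω, E.Hom P ≠ (Cfsg.innerFusionSystem S).Hom P := by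
  obtain ⟨M, θ, U⟩ := exists_urep S
  have R := U.rep le_rfl F
  obtain ⟨E, a, b, -, d, e⟩ := FS.TC.exists_constr ⟨R.sat hS hF, U.big_S F, Or.inl hp⟩
    fun h => let ⟨P, hP⟩ := hne; hP (R.inner_iff.2 h P)
  obtain ⟨E, R', rfl⟩ := exists_pb U.inj E le_rfl b
  exact ⟨E, (R.le_iff R').2 a, (R'.constr_iff hS).2 d, not_forall.1 fun h => e (R'.inner_iff.1 h)⟩

end Cfsg.Agent.S5332
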