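import Cfsg.Statements.S5343
import Cfsg.Agent.S5292

set_option autoImplicit false
universe u
open Cfsg

namespace Cfsg.Agent.S5343
open _root_.H25 Subgroup

/-- Let F be a simple saturated fusion system over a finite p-group S that is realized by some finite group on a Sylow p-subgroup. Then F is realized by a finite simple group on a Sylow p-subgroup. -/
theorem result {Ω : Type u} [Group Ω] {S : Subgroup Ω} [Finite S] (p : ℕ) [Fact p.Prime] (hS : IsPGroup p S) (F : Cfsg.FusionSystem S) (hsimple : F.IsSimple p) (hreal : F.IsRealizable p) : ∃ (G : Type u) (_ : Group G) (_ : Finite G) (_ : IsSimpleGroup G) (ι : ↥S →* G), F.IsRealizedBy ι ∧ ∃ T : Sylow p G, (T : Subgroup G) = ι.range := by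
  obtain ⟨G, _, _, ι, h1, h2⟩ := hreal
  rw [sylow_range_iff hS] at h2
  generalize hn : Nat.card G = n
  induction n using Nat.strong_induction_on generalizing G with
  | h n ih =>
  subst hn
  obtain ⟨R, e⟩ := realizedBy_iff.1 h1
  have h3 := (R.simple_iff hS).1 hsimple
  rw [e] at h3
  by_cases h4 : ∀ N : Subgroup G, N.Normal → N = ⊥ ∨ N = ⊤
  · have : Nontrivial G := by
      by_contra h
      exact h3.2.1 (@Subsingleton.elim _ (by
        rw [not_nontrivial_iff_subsingleton] at h; infer_instance) _ _)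
    exact ⟨G, _, ‹_›, ⟨h4⟩, ι, h1, (sylow_range_iff hS).2 h2⟩
  push Not at h4
  obtain ⟨N, hN, h4, h5⟩ := h4
  rcases h3.2.2 _ (FS.nml_ofSub (isPGroup_range hS ι) h2 le_top (le_nz_of_normal N ⊤)) with h | h
  · refine ih _ ?_ (G ⧸ N) _ inferInstance ((QuotientGroup.mk' N).comp ι) (S5292.realizedBy_comp hS h1 h2
      (QuotientGroup.mk'_surjective _) ((injective_iff_map_eq_one _).2 fun x hx => h1.1 ?_)) ?_ rfl
    · rw [card_eq_card_quotient_mul_card_subgroup N]
      exact lt_mul_of_one_lt_right Nat.card_pos ((one_lt_card_iff_ne_bot N).2 h4)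
    · exact (map_one ι).symm ▸ h.le ⟨⟨x, rfl⟩, (QuotientGroup.eq_one_iff _).1 hx⟩
    · have := h2.im (top (QuotientGroup.mk' N)) le_rfl
      rwa [im_self, range_top, im_top, MonoidHom.range_eq_top.2 (QuotientGroup.mk'_surjective _),
        ← MonoidHom.range_comp] at this
  have h6 : ι.range ≤ N := inf_eq_left.1 (congrArg FS.S h)
  let j := ι.codRestrict N fun x => h6 ⟨x, rfl⟩
  have h7 : ∀ s : S, N.subtype (j s) = ex ι s := fun s => (ex_coe ι s).symm
  refine ih _ (card_top (G := G) ▸ card_lt_of_lt (lt_top_iff_ne_top.2 h5)) N _ inferInstance j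
    ((R.realizedBy_iff N.subtype_injective h7).2 ?_) ?_ rfl
  · rw [e, ← h, range_subtype, im_self, inf_eq_left.2 h6]
  · rw [← syl_im (top_inj N.subtype_injective) le_top le_top, im_top_range le_rfl h7, im_self,
      im_self, range_top, range_subtype]
    exact h2.mono_right h6 le_top

end Cfsg.Agent.S5343
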