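import Cfsg.Statements.S5465
import Cfsg.Agent.H9.Half
import Cfsg.Agent.S2079

set_option autoImplicit false
open Cfsg

namespace Cfsg.Agent.S5465

/-- Let G be a finite group with trivial centre generated by a conjugation-invariant set D of 3-transpositions on which it acts primitively, such that for some d in D the subgroup generated by the members of D other than d commuting with d has central largest normal 2- and 3-subgroups, and suppose G with D is of type M(24), and let L be the commutator subgroup of G. Let d₁, d₂ be distinct commuting members of D and j = d₁ d₂. Then K, the joint centralizer of d₁ and d₂ in L, is quasisimple, is the generalized Fitting subgroup of the centralizer of j in L, has index 2 in it and contains j, and the centralizer of j in L modulo the subgroup generated by j is isomorphic to the full automorphism group of the Fischer group Fi₂₂ (as presented). -/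
theorem result {G : Type*} [Group G] [Finite G] {D : Set G} (hD : Cfsg.IsThreeTranspositionGroup D) (hprim : Cfsg.IsPrimitiveUnderConj D) (d₀ : G) (hd₀ : d₀ ∈ D) (h3 : Cfsg.pCore 3 ↥(Subgroup.closure {y : G | y ∈ D ∧ y ≠ d₀ ∧ Commute d₀ y}) ≤ Subgroup.center ↥(Subgroup.closure {y : G | y ∈ D ∧ y ≠ d₀ ∧ Commute d₀ y})) (h2 : Cfsg.pCore 2 ↥(Subgroup.closure {y : G | y ∈ D ∧ y ≠ d₀ ∧ Commute d₀ y}) ≤ Subgroup.center ↥(Subgroup.closure {y : G | y ∈ D ∧ y ≠ d₀ ∧ Commute d₀ y})) (h24 : Cfsg.IsOfTypeM24 G D) (L : Subgroup G) (hL : L = commutator G) (d₁ d₂ : G) (h₁ : d₁ ∈ D) (h₂ : d₂ ∈ D) (hne : d₁ ≠ d₂) (hc : Commute d₁ d₂) (K CL : Subgroup G) (hK : K = L ⊓ Subgroup.centralizer ({d₁, d₂} : Set G)) (hCL : CL = L ⊓ Subgroup.centralizer ({d₁ * d₂} : Set G)) [hn : ((Subgroup.zpowers (d₁ * d₂)).subgroupOf CL).Normal] : Cfsg.IsQuasisimple ↥K ∧ K = (Cfsg.generalizedFittingSubgroup ↥CL).map CL.subtype ∧ K ≤ CL ∧ (K.subgroupOf CL).index = 2 ∧ d₁ * d₂ ∈ K ∧ Nonempty (↥CL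 ⧸ (Subgroup.zpowers (d₁ * d₂)).subgroupOf CL ≃* MulAut Cfsg.Spor.Fi22) := by
  have h := H26.isM24 hD hprim h24
  have T := h.tg
  have k : H9.Cl3 D (List.ofFn ![d₁, d₂]) := ⟨by simp [h₁, h₂], by simp [H9.Dn, hne.symm, hc]⟩
  have e : (List.ofFn ![d₁, d₂]).prod = d₁ * d₂ := by simp
  have e' : Set.range ![d₁, d₂] = {d₁, d₂} := by ext; simp [eq_comm]; tauto
  obtain ⟨G', _, D', π, q, cv⟩ := H9.cov24_2 h h₂ h₁ ⟨hne, hc.symm⟩
  obtain ⟨l, l1, l2⟩ := H9.cl22 q
  obtain ⟨x, hx⟩ := List.exists_mem_of_length_pos (l2 ▸ by decide : 0 < l.length)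
  obtain ⟨x, hx, -⟩ := cv.ex x (l1.1 x hx)
  obtain ⟨e1, -⟩ := q.unique H26.F22.isM
  have := H26.simple22 q
  have n := fun d => H9.not_mem24 h (d := d)
  have z : Subgroup.zpowers (d₁ * d₂) = L ⊓ Subgroup.closure {d₁, d₂} := by
    rw [Subgroup.zpowers_eq_closure, ← H9.inf_closure_insert (T.sq _ h₁) (hL ▸ n _ h₁)
      (by simpa using (Commute.refl _).mul_right hc) (by
        simpa [hL] using (Subgroup.mul_mem_iff_of_index_two (H26.index24 h)).2
          (iff_of_false (n _ h₁) (n _ h₂)))]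
    congr 1
    refine le_antisymm ((Subgroup.closure_le _).2 (Set.pair_subset (Subgroup.subset_closure (by simp))
      (mul_mem (Subgroup.subset_closure (by simp)) (Subgroup.subset_closure (by simp)))))
      ((Subgroup.closure_le _).2 (Set.pair_subset (Subgroup.subset_closure (by simp))
      ((mul_mem_cancel_left (x := d₁) (Subgroup.subset_closure (by simp))).1
        (Subgroup.subset_closure (by simp)))))
  obtain ⟨a1, -, a3, a4, ⟨ρ, -, -⟩, ⟨φ, b1, b2⟩, θ, c1, c2⟩ := H9.half_struct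
    (fun l a b => (H9.wt24 h l a b).imp_right fun k => by omega)
    (fun l l' a b c d => H9.tr24 h l l' a b c (by omega)) (by decide) (hL ▸ H26.index24 h) (hL ▸ n) k
    (e'.symm ▸ cv) (x := x) (H9.Cl3.cons.2 ⟨hx.1.1, by simpa using ⟨H9.Dn.symm hx.2, H9.Dn.symm hx.1.2⟩, k⟩)
    (fun _ h => h.1.1) q.center_eq (e'.symm ▸ hK) (e.symm ▸ hCL) (e'.symm ▸ z) (by
      rw [hK, hL]
      refine H9.perf24 h h₁ (Set.singleton_subset_iff.2 ⟨h₂, hne.symm, hc⟩) fun π k _ _ => ?_
      rw [Set.image_singleton, ← H26.cp23 (H26.quotD24 h h₁) _ (k _ rfl)]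
      exact H26.perfD23 (H26.quotD24 h h₁) (k _ rfl))
    ((H16.card_out_congr e1).trans Cfsg.Agent.S2079.result)
  refine ⟨a1, a4.symm, a3, ?_, hK ▸ ⟨(z.le (Subgroup.mem_zpowers _)).1, ?_⟩,
    ⟨(QuotientGroup.quotientMulEquivOfEq c2.symm).trans
      ((QuotientGroup.quotientKerEquivOfSurjective θ c1).trans (MulAut.congr e1))⟩⟩
  · rw [← b2, Subgroup.index_ker, MonoidHom.range_eq_top.2 b1, Subgroup.card_top, Nat.card_eq_fintype_card]
    rfl
  · simpa [Subgroup.mem_centralizer_iff] using ⟨((Commute.refl _).mul_right hc).eq,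
      (hc.symm.mul_right (Commute.refl _)).eq⟩

end Cfsg.Agent.S5465
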