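import Cfsg.Statements.S5472
import Cfsg.Agent.H9.Pd5

set_option autoImplicit false
open Cfsg

namespace Cfsg.Agent.S5472

/-- Let G be a finite group with trivial centre generated by a conjugation-invariant set D of 3-transpositions on which it acts primitively, such that for some d in D the subgroup generated by the members of D other than d commuting with d has central largest normal 2- and 3-subgroups, and suppose G with D is of type M(22). Then G has a non-inner automorphism s of order 2 whose fixed-point subgroup is isomorphic to the full automorphism group of Ω⁺(8, 2) (the commutator subgroup of the isometry group of the hyperbolic quadratic form in dimension 8 over the field with two elements), together with distinct commuting members a, b of D fixed by s such that: s, s composed with conjugation by a, and s composed with conjugation by a b represent the three classes (under the automorphism group) of non-inner automorphisms of order 2; the elements fixed by the automorphism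 s composed with conjugation by a are exactly those fixed by s and commuting with a, and they form a group isomorphic to the direct product of a group of order 2 and the symplectic group of dimension 6 over the field with two elements; and the elements fixed by the automorphism s composed with conjugation by a b form a group whose largest normal 2-subgroup is elementary abelian of order 64 with quotient isomorphic to the full isometry group of the elliptic quadratic form in dimension 6 over the field with two elements. -/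
theorem result {G : Type*} [Group G] [Finite G] {D : Set G} (hD : Cfsg.IsThreeTranspositionGroup D) (hprim : Cfsg.IsPrimitiveUnderConj D) (d₀ : G) (hd₀ : d₀ ∈ D) (h3 : Cfsg.pCore 3 ↥(Subgroup.closure {y : G | y ∈ D ∧ y ≠ d₀ ∧ Commute d₀ y}) ≤ Subgroup.center ↥(Subgroup.closure {y : G | y ∈ D ∧ y ≠ d₀ ∧ Commute d₀ y})) (h2 : Cfsg.pCore 2 ↥(Subgroup.closure {y : G | y ∈ D ∧ y ≠ d₀ ∧ Commute d₀ y}) ≤ Subgroup.center ↥(Subgroup.closure {y : G | y ∈ D ∧ y ≠ d₀ ∧ Commute d₀ y})) (h22 : Cfsg.IsOfTypeM22 G D) : ∃ (s : MulAut G) (a b : G) (Cs : Subgroup G), orderOf s = 2 ∧ s ∉ (MulAut.conj : G →* MulAut G).range ∧ (∀ g : G, g ∈ Cs ↔ s g = g) ∧ Nonempty (↥Cs ≃* MulAut (Cfsg.Omega (ZMod 2) (Cfsg.quadFormPlus 4 (ZMod 2)))) ∧ a ∈ D ∧ b ∈ D ∧ a ≠ b ∧ Commute a b ∧ s a = a ∧ s b = b ∧ (∀ t : MulAut G, orderOf t = 2 → t ∉ (MulAut.conj : G →* MulAut G).range → (IsConj t s ∨ IsConj t (s * MulAut.conj a) ∨ IsConj t (s * MulAut.conj (a * b)))) ∧ ¬ IsConj s (s * MulAut.conj a) ∧ ¬ IsConj s (s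 * MulAut.conj (a * b)) ∧ ¬ IsConj (s * MulAut.conj a) (s * MulAut.conj (a * b)) ∧ (∀ g : G, (s * MulAut.conj a) g = g ↔ g ∈ Cs ⊓ Subgroup.centralizer ({a} : Set G)) ∧ Nonempty (↥(Cs ⊓ Subgroup.centralizer ({a} : Set G)) ≃* Multiplicative (ZMod 2) × Cfsg.PSp 3 (ZMod 2)) ∧ ∃ Csab O : Subgroup G, (∀ g : G, g ∈ Csab ↔ (s * MulAut.conj (a * b)) g = g) ∧ O = (Cfsg.pCore 2 ↥Csab).map Csab.subtype ∧ Cfsg.IsElementaryAbelian 2 O ∧ Nat.card O = 64 ∧ ∃ _ : (O.subgroupOf Csab).Normal, Nonempty (↥Csab ⧸ O.subgroupOf Csab ≃* Cfsg.isometryGroup (ZMod 2) (Cfsg.quadFormMinus 2 (ZMod 2) 1 1)) := by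
  have h := H26.isM22 hD hprim h22
  obtain ⟨H, _, E, d, e, π, θ, o⟩ := H9.exists_ov h
  have T := o.m.tg
  obtain ⟨w, a, b, hw, ha, hb⟩ := H9.ex_s4 o.m o.hd o.he o.n
  have ma := hw.memE ha
  have mb := hw.memE hb.1
  have mab := mul_mem (o.c.sub a ma) (o.c.sub b mb)
  let g : Subgroup.centralizer {d * e} := ⟨_, H9.memC.2 (hw.sw.comm o.n)⟩
  have : H9.T24 E (w * H9.vv d e w * (a * b)) := ⟨o.m, _, hw.tet ha hb⟩
  obtain ⟨C, c1, c2, c3, c4, φ, c5, c6⟩ := o.third (hw.sw.mul mab)
  have e2 : θ g * MulAut.conj (π a) = θ (g * ⟨a, H9.K_le (o.c.sub a ma)⟩) := by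
    rw [map_mul, o.inn (o.c.sub a ma)]
  have e3 : θ g * MulAut.conj (π a * π b) = θ (g * ⟨_, H9.K_le mab⟩) := by
    rw [map_mul θ, o.inn mab, o.c.mul _ (o.c.sub a ma) _ (o.c.sub b mb)]
  replace c1 : ∀ y, y ∈ C ↔ (θ g * MulAut.conj (π a * π b)) y = y := e3 ▸ c1
  have f2 := fun y => o.fix2 hw (g := g) rfl (y := y)
  have f3 := fun y => o.fix3 hw ha (g := g) rfl hb (y := y)
  have ot := o.outer (g := g) hw.sw
  obtain ⟨q1⟩ := o.equiv hw le_rfl
  obtain ⟨q2⟩ := o.equiv hw (inf_le_left : _ ⊓ Subgroup.centralizer {a} ≤ _)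
  have n1 : Nat.card {y // θ g y = y} = 1045094400 := (Nat.card_congr (Equiv.subtypeEquivRight f2)).symm.trans
    ((Nat.card_congr q1.toEquiv).symm.trans (hw.card_K o.m))
  have n2 : Nat.card {y // (θ g * MulAut.conj (π a)) y = y} = 2903040 :=
    (Nat.card_congr (Equiv.subtypeEquivRight f3)).trans
      (o.img3 hw ha ▸ (Nat.card_congr q2.toEquiv).symm.trans (hw.card_Ka o.m ha))
  have n3 : Nat.card {y // (θ g * MulAut.conj (π a * π b)) y = y} = 3317760 :=
    (Nat.card_congr (Equiv.subtypeEquivRight c1)).symm.trans c2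
  have fx : ∀ x ∈ H9.XX E d e w, θ g (π x) = π x := fun x hx => (f2 _).1 ((o.c.mem_img inf_le_left).2
    ⟨x, ⟨o.c.sub x (hw.memE hx), H9.memC.2 hx.2.1⟩, rfl⟩)
  have dn := (o.c.dn_iff ma mb).2 hb.2
  obtain ⟨r1⟩ := hw.K_aut o.m
  obtain ⟨r2⟩ := hw.Ka o.m ha
  have so : ((Cfsg.pCore 2 C).map C.subtype).subgroupOf C = φ.ker :=
    c6 ▸ Subgroup.comap_map_eq_self_of_injective C.subtype_injective _
  have nO : (((Cfsg.pCore 2 C).map C.subtype).subgroupOf C).Normal := so ▸ inferInstance
  refine ⟨θ g, π a, π b, _, H9.orderOf_two ?_ fun q => ot (q ▸ one_mem _), ot, f2, ⟨q1.symm.trans r1⟩,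
    o.c.mem a ma, o.c.mem b mb, dn.1.symm, dn.2, fx a ha, fx b hb.1, fun t t1 t2 => ?_,
    fun q => by have := H9.card_fix q; omega, fun q => by have := H9.card_fix q; omega,
    fun q => by have := H9.card_fix q; omega, f3, o.img3 hw ha ▸ ⟨q2.symm.trans r2⟩, C, _, c1, rfl,
    ⟨have := c3.1; inferInstance, ?_⟩, (Subgroup.card_map_of_injective C.subtype_injective).trans c4,
    nO, ⟨(QuotientGroup.quotientMulEquivOfEq so).trans
      (QuotientGroup.quotientKerEquivOfSurjective φ c5)⟩⟩
  · rw [← map_mul, show g * g = 1 from Subtype.ext (by simpa using hw.cl.sq T.sq), map_one]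
  · obtain ⟨u, s, uu, rfl⟩ := o.of_outer t2 (H9.sq_of_orderOf t1)
    obtain ⟨k, hk, q⟩ := s.conj3 o.m uu hw ha hb
    have c : ∀ v : Subgroup.centralizer {d * e}, k * u * k⁻¹ = v → IsConj (θ u) (θ v) := fun v q =>
      θ.map_isConj (isConj_iff.2 ⟨⟨k, H9.K_le hk⟩, Subtype.ext q⟩)
    rw [e2, e3]
    exact q.imp (c _) (.imp (c _) (c _))
  · rintro _ ⟨x, hx, rfl⟩
    exact congrArg Subtype.val (c3.2 x hx)

end Cfsg.Agent.S5472
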