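import Cfsg.Statements.S5473
import Cfsg.Agent.H9.Pb4
import Cfsg.Agent.S2079
import Cfsg.Agent.H16.Out

set_option autoImplicit false
open Cfsg
open scoped commutatorElement

namespace Cfsg.Agent.S5473

/-- Let G be a finite group with trivial centre generated by a conjugation-invariant set D of 3-transpositions on which it acts primitively, such that for some d in D the subgroup generated by the members of D other than d commuting with d has central largest normal 2- and 3-subgroups, and suppose G with D is of type M(22), and let A be the automorphism group of G. Let d₁, d₂ be distinct commuting members of D and j the inner automorphism of their product. Then the generalized Fitting subgroup Q of the centralizer of j in A is a large extraspecial 2-subgroup of A of order 2^11 (extraspecial; centralizer equal to its centre; normal in the centralizer of its centre; normalizing no non-trivial odd-order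 subgroup), and the centralizer of j modulo Q is isomorphic to the full automorphism group of the projective special unitary group of dimension 4 over the field with four elements. -/
theorem result {G : Type*} [Group G] [Finite G] {D : Set G} (hD : Cfsg.IsThreeTranspositionGroup D) (hprim : Cfsg.IsPrimitiveUnderConj D) (d₀ : G) (hd₀ : d₀ ∈ D) (h3 : Cfsg.pCore 3 ↥(Subgroup.closure {y : G | y ∈ D ∧ y ≠ d₀ ∧ Commute d₀ y}) ≤ Subgroup.center ↥(Subgroup.closure {y : G | y ∈ D ∧ y ≠ d₀ ∧ Commute d₀ y})) (h2 : Cfsg.pCore 2 ↥(Subgroup.closure {y : G | y ∈ D ∧ y ≠ d₀ ∧ Commute d₀ y}) ≤ Subgroup.center ↥(Subgroup.closure {y : G | y ∈ D ∧ y ≠ d₀ ∧ Commute d₀ y})) (h22 : Cfsg.IsOfTypeM22 G D) (d₁ d₂ : G) (h₁ : d₁ ∈ D) (h₂ : d₂ ∈ D) (hne : d₁ ≠ d₂) (hc : Commute d₁ d₂) (j : MulAut G) (hj : j = MulAut.conj (d₁ * d₂)) (Q : Subgroup (MulAut G)) (hQ : Q = (Cfsg.generalizedFittingSubgroup ↥(Subgroup.centralizer ({j}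 : Set (MulAut G)))).map (Subgroup.centralizer ({j} : Set (MulAut G))).subtype) : Cfsg.IsLargeExtraspecial Q ∧ Nat.card Q = 2 ^ 11 ∧ Q ≤ Subgroup.centralizer ({j} : Set (MulAut G)) ∧ ∃ (_ : (Q.subgroupOf (Subgroup.centralizer ({j} : Set (MulAut G)))).Normal) (F : Type) (_ : Field F) (_ : Fintype F), Fintype.card F = 4 ∧ Nonempty (↥(Subgroup.centralizer ({j} : Set (MulAut G))) ⧸ Q.subgroupOf (Subgroup.centralizer ({j} : Set (MulAut G))) ≃* MulAut (Cfsg.PSU 4 F 2)) := by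
  have h := H26.isM22 hD hprim h22
  have T := h.tg
  have n : H9.Dn d₁ d₂ := ⟨hne.symm, hc⟩
  obtain ⟨θ, p⟩ := H9.pb22 h h₁ h₂ n
  have H := H9.hx22 h h₁ h₂ n
  have jj := H9.jj h₁ h₂ n
  have aD : ∀ φ : MulAut G, ∀ x, φ x ∈ D ↔ x ∈ D := fun φ x =>
    ⟨fun k => by simpa using H9.aut22 h φ.symm k, H9.aut22 h φ⟩
  have ci : Function.Injective (MulAut.conj : G →* MulAut G) := (injective_iff_map_eq_one _).2 fun x hx =>
    Subgroup.mem_bot.1 (h.center_eq ▸ Subgroup.mem_center_iff.2 fun g =>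
      (mul_inv_eq_iff_eq_mul.1 (DFunLike.congr_fun hx g)).symm)
  have cc : ∀ (φ : MulAut G) x, φ * MulAut.conj x * φ⁻¹ = MulAut.conj (φ x) := fun φ x => by
    ext y; simp
  have cm : ∀ (φ : MulAut G) x, φ * MulAut.conj x = MulAut.conj x * φ ↔ φ x = x := fun φ x => by
    rw [← mul_inv_eq_iff_eq_mul, cc, ci.eq_iff]
  have ic : ∀ g : G, MulAut.conj g ∈ Cfsg.Inn G := fun g => ⟨g, rfl⟩
  have eΓ : Subgroup.centralizer {j} = H9.StG D d₁ d₂ := by
    ext φ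
    rw [Subgroup.mem_centralizer_singleton_iff, hj, cm]
    exact ⟨H9.st_of (H9.wt22 h) h₁ h₂ n (aD φ), fun k => k.fix hc⟩
  have i2 : (Cfsg.Inn G).index = 2 := by
    obtain ⟨e, -⟩ := h.unique H26.F22.isM
    exact (H16.card_out_congr e).trans Cfsg.Agent.S2079.result
  have s : Function.Surjective θ := fun α => let ⟨_, _, k⟩ := p.surj α; ⟨_, k⟩
  have tv : ∀ φ, θ φ = 1 → H9.Tv D d₁ d₂ φ.1 := fun φ k => by
    obtain ⟨b, hb⟩ := (Subgroup.mul_mem_iff_of_index_two i2 (a := φ.1) (b := φ.1)).2 Iff.rfl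
    refine H.tv_of h₁ h₂ n φ.2 ((p.ker' φ).1 k) ((p.ker b (hb ▸ (φ * φ).2)).1 ?_) hb.symm
    rw [show (⟨MulAut.conj b, _⟩ : H9.StG D d₁ d₂) = φ * φ from Subtype.ext hb, map_mul, k, one_mul]
  have ce : ∀ b (hb : b ∈ H9.EE D d₁ d₂), (⟨_, H9.st_conj (H9.E_le n hb)⟩ : H9.StG D d₁ d₂) ∈ θ.ker :=
    fun b hb => (p.ker b _).2 hb
  obtain ⟨t, t1, t2⟩ : ∃ t ∈ θ.ker, t.1 ∉ Cfsg.Inn G := by
    obtain ⟨φ, hφ⟩ : ∃ φ, φ ∉ Cfsg.Inn G := by
      by_contra! k
      rw [(Subgroup.eq_top_iff' _).2 k, Subgroup.index_top] at i2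
      omega
    obtain ⟨g, hg⟩ := H9.tr22 h [φ d₁, φ d₂] [d₁, d₂] (H9.cl3_two ((aD φ _).2 h₂) ((aD φ _).2 h₁)
      ⟨φ.injective.ne hne, hc.symm.map φ⟩) (H9.cl3_two h₂ h₁ n.symm) rfl (by simp)
    simp only [List.map_cons, List.map_nil, List.cons.injEq, and_true] at hg
    have S : MulAut.conj g * φ ∈ H9.StG D d₁ d₂ := ⟨aD _, .inl hg⟩
    obtain ⟨u, hu, e⟩ := p.surj (θ ⟨_, S⟩)
    refine ⟨⟨_, hu⟩⁻¹ * ⟨_, S⟩, by rw [MonoidHom.mem_ker, map_mul, map_inv, e, inv_mul_cancel], fun k => hφ ?_⟩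
    exact (mul_mem_cancel_left (ic g)).1 ((mul_mem_cancel_left (inv_mem (ic u))).1 k)
  have t3 : t.1 d₁ = d₂ := (t.2.2.resolve_left fun k => t2 (p.inn t t1 (tv t t1) k.1)).1
  have cs : ∀ φ ∈ θ.ker, ∃ b ∈ H9.EE D d₁ d₂, φ.1 = MulAut.conj b ∨ φ.1 = t.1 * MulAut.conj b := fun φ k => by
    by_cases q : φ.1 ∈ Cfsg.Inn G
    · obtain ⟨b, hb⟩ := q
      exact ⟨b, (p.ker b (hb ▸ φ.2)).1 ((congrArg θ (Subtype.ext hb)).trans k), .inl hb.symm⟩
    · obtain ⟨b, hb⟩ := (Subgroup.mul_mem_iff_of_index_two i2).2 (iff_of_false (mt inv_mem_iff.1 t2) q)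
      exact ⟨b, (p.ker b (hb ▸ (t⁻¹ * φ).2)).1 ((congrArg θ (Subtype.ext hb)).trans
        (mul_mem (inv_mem t1) k)), .inr (by rw [hb, mul_inv_cancel_left])⟩
  have mj : j ∈ θ.ker.map (H9.StG D d₁ d₂).subtype := ⟨_, ce _ (mul_mem H9.d_memE H9.e_memE), hj.symm⟩
  have j2 : j * j = 1 := by rw [hj, ← map_mul, jj, map_one]
  have cen : ∀ x ∈ θ.ker.map (H9.StG D d₁ d₂).subtype, x * j = j * x := by
    rintro _ ⟨x, -, rfl⟩
    exact Subgroup.mem_centralizer_singleton_iff.1 (eΓ.ge x.2)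
  have c1 : ∀ φ ∈ θ.ker, ∀ b ∈ H9.EE D d₁ d₂, ⁅φ.1, MulAut.conj b⁆ = 1 ∨ ⁅φ.1, MulAut.conj b⁆ = j :=
    fun φ k b hb => by
    rw [commutatorElement_def, cc, ← map_inv, ← map_mul]
    refine ((tv φ k).rj h₁ h₂ n hb).imp (fun q => by simp [q]) fun q => ?_
    rw [q, ← (H9.comm_j (H9.E_le n hb)).eq, mul_inv_cancel_right, hj]
  have c2 : ∀ x ∈ θ.ker.map (H9.StG D d₁ d₂).subtype, ∀ y ∈ θ.ker.map (H9.StG D d₁ d₂).subtype,
      ⁅x, y⁆ = 1 ∨ ⁅x, y⁆ = j := by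
    rintro _ ⟨x, hx, rfl⟩ _ ⟨y, hy, rfl⟩
    show ⁅x.1, y.1⁆ = 1 ∨ ⁅x.1, y.1⁆ = j
    obtain ⟨a, ha, e | e⟩ := cs x hx
    · rw [e, ← commutatorElement_inv]
      exact (c1 y hy a ha).imp (fun q => by rw [q, inv_one]) fun q => by rw [q, H9.inv_of_sq j2]
    obtain ⟨b, hb, e' | e'⟩ := cs y hy
    · rw [e']; exact c1 x hx b hb
    have : y.1 = x.1 * MulAut.conj (a⁻¹ * b) := by rw [e, e', map_mul, map_inv]; group
    rw [this, show ∀ u v : MulAut G, ⁅u, u * v⁆ = u * ⁅u, v⁆ * u⁻¹ from fun u v => by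
      simp only [commutatorElement_def]; group]
    exact (c1 x hx _ (mul_mem (inv_mem ha) hb)).imp (fun q => by rw [q, mul_one, mul_inv_cancel]) fun q => by
      rw [q, show x.1 * j = j * x.1 from cen _ ⟨x, hx, rfl⟩, mul_inv_cancel_right]
  have c3 : ∀ x ∈ θ.ker.map (H9.StG D d₁ d₂).subtype,
      (∀ y ∈ θ.ker.map (H9.StG D d₁ d₂).subtype, x * y = y * x) → x = 1 ∨ x = j := by
    rintro _ ⟨x, hx, rfl⟩ k
    have k1 := fun b hb => (cm x.1 b).1 (k _ ⟨_, ce b hb, rfl⟩)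
    obtain ⟨a, ha⟩ := p.inn x hx (tv x hx) (k1 _ H9.d_memE)
    have m := (p.ker a (ha ▸ x.2)).1 ((congrArg θ (Subtype.ext ha)).trans hx)
    have k2 := (cm t.1 a).1 (ha ▸ (k _ ⟨t, t1, rfl⟩).symm)
    show x.1 = 1 ∨ x.1 = j
    rcases H9.mem_closure_two (T.sq _ h₁) (T.sq _ h₂) hc (p.zE a m fun b hb =>
      mul_inv_eq_iff_eq_mul.1 (by rw [← MulAut.conj_apply, ha]; exact k1 b hb)) with q | q | q | q
    · exact .inl (by rw [← ha, q, map_one])
    · exact absurd (k2.symm.trans (q ▸ t3)) (q ▸ hne)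
    · exact absurd (t.1.injective (t3.trans (q ▸ k2.symm))) hne
    · exact .inr (by rw [← ha, q, hj])
  obtain ⟨a, ha, b, hb, ab, cj, ne⟩ := H9.nonabE h h₁ h₂ n
  have es : H0.ES (θ.ker.map (H9.StG D d₁ d₂).subtype) j := ⟨mj, fun q => hne ((T.mul_eq_one h₂).1
    (ci (hj.symm.trans (q.trans (map_one _).symm)))), j2, c2, fun x hx => c3 _ (mul_mem hx hx) fun y hy => by
      have e : x * y = ⁅x, y⁆ * (y * x) := by simp only [commutatorElement_def]; group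
      rcases c2 x hx y hy with q | q <;> rw [q] at e
      · rw [mul_assoc, e, one_mul, ← mul_assoc, e, one_mul, mul_assoc]
      · rw [mul_assoc, e, ← mul_assoc, cen x hx, mul_assoc, ← mul_assoc x, e, ← mul_assoc, ← mul_assoc, j2,
          one_mul, mul_assoc], cen, c3,
    ⟨_, ⟨_, ce a ha, rfl⟩, _, ⟨_, ce b hb, rfl⟩, fun q => ab (ci (by simpa using q))⟩⟩
  have := H9.u4_simple
  have gf := H9.gf_eq_ker H9.u4_center θ (MonoidHom.range_eq_top.2 s ▸ le_top) (p := 2)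
    (fun g => ⟨2, Subtype.ext (Subtype.ext (es.pow4 ⟨g, g.2, rfl⟩))⟩) fun g hg => p.cen _ fun x hx =>
      (cm g.1 x).1 (congrArg Subtype.val (hg _ (ce x hx))).symm
  have o : orderOf j = 2 := es.ord
  have le := H0.LE_of_gf o (hQ ▸ eΓ ▸ gf ▸ es.extraspecial) hQ.symm
  rw [eΓ, gf] at hQ
  rw [eΓ]
  obtain ⟨g, hg⟩ := isConj_iff.1 cj
  have e1 : Q.subgroupOf (H9.StG D d₁ d₂) = θ.ker := hQ ▸ Subgroup.comap_map_eq_self_of_injective
    (Subgroup.subtype_injective _) _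
  have nQ : (Q.subgroupOf (H9.StG D d₁ d₂)).Normal := e1 ▸ inferInstance
  refine ⟨le.large_of_conj (g := MulAut.conj g) ?_ ?_, ?_, hQ ▸ Subgroup.map_subtype_le _, nQ,
    H12.F4, inferInstance, inferInstance, rfl,
    ⟨(QuotientGroup.quotientMulEquivOfEq e1).trans (QuotientGroup.quotientKerEquivOfSurjective θ s)⟩⟩
  · rw [hj, cc, MulAut.conj_apply, hg, hQ]; exact ⟨_, ce a ha, rfl⟩
  · rw [hj, cc, MulAut.conj_apply, hg]; exact ci.ne ne
  · have i : (((H9.EE D d₁ d₂).map MulAut.conj).subgroupOf Q).index = 2 := by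
      refine Subgroup.index_eq_two_iff.2 ⟨⟨t.1, hQ ▸ ⟨t, t1, rfl⟩⟩, fun ⟨x, hx⟩ => ?_⟩
      have k : ∀ y ∈ Q, y ∈ (H9.EE D d₁ d₂).map MulAut.conj ↔ y ∈ Cfsg.Inn G := fun y hy =>
        ⟨fun ⟨b, _, q⟩ => ⟨b, q⟩, fun q => by
          obtain ⟨w, hw, rfl⟩ := hQ.le hy
          obtain ⟨b, hb, e | e⟩ := cs w hw
          · exact ⟨b, hb, e.symm⟩
          · exact absurd ((mul_mem_cancel_right (ic b)).1 (e ▸ (q : w.1 ∈ _))) t2⟩
      rw [Subgroup.mem_subgroupOf, Subgroup.mem_subgroupOf, k _ (Subtype.prop _), k _ (Subtype.prop _),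
        Subgroup.coe_mul, Subgroup.mul_mem_iff_of_index_two i2]
      simp only [t2, iff_false]
      exact xor_not_left.2 Iff.rfl
    rw [← Subgroup.card_mul_index (((H9.EE D d₁ d₂).map MulAut.conj).subgroupOf Q), i,
      Nat.card_congr (Subgroup.subgroupOfEquivOfLe ?_).toEquiv, Subgroup.card_map_of_injective ci, p.card]
    · rfl
    rintro _ ⟨b, hb, rfl⟩
    exact hQ ▸ ⟨_, ce b hb, rfl⟩

end Cfsg.Agent.S5473
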