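import Cfsg.Statements.S5522
import Cfsg.Agent.H15.Dod

set_option autoImplicit false
open Cfsg

namespace Cfsg.Agent.S5522

open H15 Finset
open scoped Pointwise

/-- The Mathieu group M₁₁, realised as the stabiliser of one point of the dodecad of squares inside the stabiliser M₁₂ of that dodecad in M₂₄, acts on the twelve coordinate positions outside the dodecad of squares (its 3-transitive action of degree 12); in this action every element of prime order fixes a point, i.e. the action is elusive. -/
theorem result (g : Equiv.Perm Cfsg.GolayPt) (hg : g ∈ Cfsg.Spor.M11) (hord : (orderOf g).Prime) :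
    ∃ x : Cfsg.GolayPt, x ∉ Cfsg.Spor.squareDodecad ∧ g x = x := by
  rw [squareDodecad_eq]
  obtain ⟨⟨h1, h2⟩, h3⟩ := mem_M11.1 hg
  have h4 : (fixS g).card ≠ 0 := card_ne_zero.2 ⟨pt 0, by simpa using h3⟩
  have h5 : 6 ≤ (fixS g).card → ∃ x, x ∉ S 340831 ∧ g x = x := fun h => by
    have := dod_fix_le D0_mem h1 h2 (by rintro rfl; simp at hord; exact Nat.not_prime_one hord)
    obtain ⟨x, h6, h7⟩ := exists_mem_notMem (s := fixS g) (t := fixS g ∩ S 340831) (by omega)
    exact ⟨x, fun e => h7 (mem_inter.2 ⟨h6, e⟩), (mem_filter.1 h6).2⟩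
  by_cases e2 : orderOf g = 2
  · rcases inv_cases h1 e2 with h | h
    · exact h5 (by omega)
    · exact absurd h.1 h4
  by_cases e3 : orderOf g = 3
  · rcases three_cases h1 e3 with h | h
    · exact h5 (by omega)
    · exact absurd h.1 h4
  have := Fact.mk hord
  let φ := resHom Cfsg.Spor.M12 (S 340831)ᶜ fun g hg => by
    rw [smul_finset_compl', (mem_M12.1 hg).2]
  obtain ⟨x, hx⟩ := Equiv.Perm.exists_fixed_point_of_prime (p := orderOf g) (n := 1)
    (σ := φ ⟨g, M11_le_M12 hg⟩) (by
      rw [Fintype.card_coe, (compl_mem_dodecads D0_mem).2, show 12 = 2 ^ 2 * 3 by norm_num,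
        hord.dvd_mul, not_or, Nat.prime_dvd_prime_iff_eq hord Nat.prime_three]
      exact ⟨fun h => e2 ((Nat.prime_dvd_prime_iff_eq hord Nat.prime_two).1
        (hord.dvd_of_dvd_pow h)), e3⟩) (by
      rw [← map_pow, pow_one, ← map_one φ]
      exact congrArg φ (Subtype.ext (pow_orderOf_eq_one g)))
  exact ⟨x, mem_compl.1 x.2, congrArg Subtype.val hx⟩

end Cfsg.Agent.S5522
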