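import Cfsg.Statements.S5539
import Cfsg.Agent.H15.MX1
import Cfsg.Agent.H15.MX2
import Cfsg.Agent.H15.MX5
import Cfsg.Agent.H15.MX6
import Cfsg.Agent.H15.MW
import Cfsg.Agent.H2.MX1
import Cfsg.Agent.H2.MX2
import Cfsg.Agent.H2.MX3
import Cfsg.Agent.H3.MX2
import Cfsg.Agent.H10.MX.A
import Cfsg.Agent.H19.MX1
import Cfsg.Agent.H25.MX1
import Cfsg.Agent.H25.MX2

set_option autoImplicit false
open Cfsg

namespace Cfsg.Agent.S5539

/-- In the Monster (realised inside the presented Bimonster) there are seven 2-local subgroups (normalizers of non-trivial 2-subgroups) such that every maximal 2-local subgroup is conjugate to one of them. -/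
theorem result : ∃ S : Finset (Subgroup Cfsg.Spor.Monster), S.card = 7 ∧ (∀ H ∈ S, Cfsg.IsTwoLocal H) ∧ ∀ H : Subgroup Cfsg.Spor.Monster, Cfsg.IsMaximalTwoLocal H → ∃ H₀ ∈ S, ∃ g : Cfsg.Spor.Monster, H = H₀.map (MulAut.conj g).toMonoidHom := by
  have := H15.MW.fin
  obtain ⟨z, h⟩ := H15.MW.mg
  exact H15.MX.All.main ⟨H15.MX.ar, H15.MX.kd', H3.MX.sc, H15.MX.sq', H15.MX.ta, H2.MX.la, H2.MX.lb, H2.MX.lc, H19.MX.ka,
    H19.MX.kb, H10.MX.st, H25.MX.ca, H25.MX.bs, H25.MX.a1, H25.MX.a1', H19.MX.g3, H25.MX.l3, H25.MX.a3, H25.MX.a3',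
    H10.MX.fn⟩ h

end Cfsg.Agent.S5539
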