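import Cfsg.Statements.S5542
import Cfsg.Agent.H0.M.H
-- import your own Cfsg.Agent.* helpers here

set_option autoImplicit false
open Cfsg

namespace Cfsg.Agent.S5542

/-- The Monster (realised inside the presented Bimonster, as in the definitions) is a group of Monster type: it has an involution z and a normal subgroup Q of C(z) such that Q is the generalized Fitting subgroup of C(z) and is extraspecial of order 2^25, C(z)/Q is identified with the first Conway group in such a way that Q modulo its centre is the Leech lattice modulo 2 as a module, and some conjugate of z other than z lies in Q. -/
theorem result : Cfsg.IsGroupOfMonsterType Cfsg.Spor.Monster := by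
  have := H0.M.fin0
  obtain ⟨z, h⟩ := H0.M.mg0
  exact H0.M.s5542 h

end Cfsg.Agent.S5542
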