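import Cfsg.Statements.S5586
import Cfsg.Agent.H7.AM5
import Cfsg.Agent.H0.M.H
import Cfsg.Agent.H2.AM1
import Cfsg.Agent.H3.AM3
import Cfsg.Agent.H3.AM4
import Cfsg.Agent.H5.AM3
import Cfsg.Agent.H5.AM5
import Cfsg.Agent.H15.AM2
import Cfsg.Agent.H19.AM3
import Cfsg.Agent.H19.AM5
import Cfsg.Agent.H29.AM2
import Cfsg.Agent.H29.AM3
import Cfsg.Agent.H29.AM4

set_option autoImplicit false
open Cfsg

namespace Cfsg.Agent.S5586

/-- The Monster is the only group generated by three subgroups C, N, L of the following kind: the largest normal 2-subgroup of C is extraspecial of order 2^25 of plus type, contains its centralizer in C, and has quotient C modulo it isomorphic to the first Conway group; N modulo its largest normal 2-subgroup is isomorphic to the direct product of the symmetric group of degree 3 and M₂₄; L modulo its largest normal 2-subgroup is the direct product of a normal subgroup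 isomorphic to L₃(2) and a normal subgroup B of order 2160 having a normal subgroup T of order 3 with B/T the symmetric group of degree 6, with T centralized by a subgroup of index 2 of B and with the commutator subgroup of B perfect of order 1080 (the triple cover of the alternating group of degree 6 extended by an automorphism); and the indices [N : N ∩ C] = 3, [L : L ∩ N] = [L : L ∩ C] = 7 and [L : L ∩ N ∩ C] = 21. -/
theorem result {G : Type*} [Group G] (C N L : Subgroup G) (hgen : C ⊔ N ⊔ L = ⊤)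
    (hQ : Cfsg.IsExtraspecial 2 ↥((Cfsg.pCore 2 ↥C).map C.subtype)) (hQc : Nat.card ↥((Cfsg.pCore 2 ↥C).map C.subtype) = 2 ^ 25)
    (hplus : ∃ E : Subgroup G, E ≤ ((Cfsg.pCore 2 ↥C).map C.subtype) ∧ Cfsg.IsElementaryAbelian 2 E ∧ Nat.card ↥E = 2 ^ 13)
    (hcc : C ⊓ Subgroup.centralizer (((Cfsg.pCore 2 ↥C).map C.subtype) : Set G) ≤ ((Cfsg.pCore 2 ↥C).map C.subtype))
    (hCo : Cfsg.Spor.IsoCo1 (↥C ⧸ Cfsg.pCore 2 ↥C))
    (hN : Nonempty (↥N ⧸ Cfsg.pCore 2 ↥N ≃* Equiv.Perm (Fin 3) × ↥Cfsg.M24))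
    (hL : ∃ A B : Subgroup (↥L ⧸ Cfsg.pCore 2 ↥L), A.Normal ∧ B.Normal ∧ A ⊓ B = ⊥ ∧ A ⊔ B = ⊤ ∧
      Nonempty (↥A ≃* Matrix.SpecialLinearGroup (Fin 3) (ZMod 2)) ∧ Nat.card ↥B = 2160 ∧
      ∃ (T : Subgroup ↥B) (_ : T.Normal), Nat.card ↥T = 3 ∧ Nonempty (↥B ⧸ T ≃* Equiv.Perm (Fin 6)) ∧
        (Subgroup.centralizer (T : Set ↥B)).index = 2 ∧ Nat.card ↥(commutator ↥B) = 1080 ∧
        ⁅commutator ↥B, commutator ↥B⁆ = commutator ↥B)
    (hNC : C.relIndex N = 3) (hLN : N.relIndex L = 7) (hLC : C.relIndex L = 7) (hLNC : (N ⊓ C).relIndex L = 21) :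
    Cfsg.Spor.IsoM G := by
  obtain ⟨A, B, h1, h2, h3, h4, h5, h6, T, h7, h8, h9, h10, -⟩ := hL
  have ch := H5.AM.ch H3.AM.t1 H3.AM.t1 H3.AM.cd H3.AM.cd
  obtain ⟨e⟩ := H7.AM.main H19.AM.n0 H19.AM.l0 H19.AM.ld H19.AM.lo H19.AM.cp H2.AM.b1
    (H3.AM.s1 H19.AM.cp (H19.AM.al H19.AM.ce H5.AM.je) H19.AM.ne) (H3.AM.s2 H19.AM.cp (H2.AM.b2 H19.AM.ne)) H3.AM.t1
    H3.AM.t0 H5.AM.pb (H5.AM.nc H3.AM.t1 H3.AM.t1 ch H3.AM.dd H3.AM.dd H19.AM.d0) H5.AM.sl ch H29.AM.ex H29.AM.lt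
    (H29.AM.cv H29.AM.tt fun _ h => let ⟨_, _, M⟩ := H7.AM.mgM.1; H0.Y.gen M (H7.AM.mgM.lp h.2.2.1 h.2.1 h.2.2.2))
    (H29.AM.sk H29.AM.sy) (H7.AM.ym H0.M.inj0 (H15.AM.sg H19.AM.cl) H15.AM.nd H15.AM.g1 H15.AM.g2) H29.AM.fn hgen hQ hQc
    hcc hCo hN ⟨A, B, h1, h2, h3, h4, h5, h6, T, h7, h8, h9, h10⟩ hNC hLN hLC hLNC
  exact ⟨e.trans H0.M.iso0.some.symm⟩

end Cfsg.Agent.S5586
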