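import Cfsg.Statements.S5587
import Cfsg.Agent.H1.RC12
import Cfsg.Agent.S1704

set_option autoImplicit false
open Cfsg

namespace Cfsg.Agent.S5587

/-- Over any field F whose characteristic is not 2, the Baby Monster (the finitely presented group of the definitions) has a faithful linear representation of degree 4371; every such representation is irreducible over F, and any two are equivalent. -/
theorem result (F : Type*) [Field F] (hF : ringChar F ≠ 2) :
    (∃ ρ : Cfsg.Spor.BabyMonster →* GL (Fin 4371) F, Function.Injective ρ) ∧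
    ∀ ρ : Cfsg.Spor.BabyMonster →* GL (Fin 4371) F, Function.Injective ρ →
      (∀ W : Submodule F (Fin 4371 → F), (∀ g : Cfsg.Spor.BabyMonster, ∀ v ∈ W, (ρ g : Matrix (Fin 4371) (Fin 4371) F).mulVec v ∈ W) → W = ⊥ ∨ W = ⊤) ∧
      ∀ ρ' : Cfsg.Spor.BabyMonster →* GL (Fin 4371) F, Function.Injective ρ' →
        ∃ P : GL (Fin 4371) F, ∀ g : Cfsg.Spor.BabyMonster, ρ' g = P * ρ g * P⁻¹ := by
  open H14.Mn H14.Mj H19 H0 H0.Y in
  have : NeZero (2 : F) := ⟨Ring.two_ne_zero hF⟩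
  obtain ⟨ψ, h⟩ := surj_B
  have : IsSimpleGroup Spor.BabyMonster := (Agent.S1704.result).1
  refine ⟨?_, ?_⟩
  · obtain ⟨σ, i⟩ := H1.RC.exB F rfl
    exact ⟨σ.comp ψ, i.comp (H15.YB.bij_of card_Bm h).1⟩
  · obtain ⟨x, π, g, u, Y⟩ := y6_M
    obtain ⟨z, s, f, R, M, L, rs, r, h', -⟩ := Y.genB
    obtain ⟨c, gen⟩ := genB (MT_M.le.isConj M.le) L (Y.tp 5 (by decide)).2 (M.mem r) h'
    obtain ⟨c, c1⟩ := isConj_iff.1 c
    obtain ⟨φ, c2⟩ := exists_cj c1
    have := Fintype.ofFinite Mon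
    obtain ⟨p, p1, p2⟩ := H1.RC.kerc (ψ := ψ) (H15.YB.bij_of card_Bm h) πB_surj (fun _ => πB_one) c1 c2
    exact (⟨M, L, rs, r⟩ : H1.RC.St _ _ _ _ _ _ _).all p2 rfl p1 gen

end Cfsg.Agent.S5587
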