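import Cfsg.Statements.S5615
import Cfsg.Agent.H15.Dod
import Mathlib.GroupTheory.SpecificGroups.Alternating.Simple

set_option autoImplicit false
open scoped Pointwise
open Cfsg

namespace Cfsg.Agent.S5615

open H15 Finset MulAction
open scoped Pointwise

noncomputable def has (c : ℕ) : Bool := anyTo (fun j => Nat.beq (part c j) 8536111) 3

theorem has_iff (c : ℕ) : S 8536111 ∈ SS 3 c ↔ has c = true := by
  rw [mem_SS, has, anyTo_iff]
  exact exists_congr fun j => and_congr_right' ⟨fun h => Nat.beq_eq.mpr (S_inj (by norm_num)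
    (part_lt _ _) h).symm, fun h => by rw [Nat.eq_of_beq_eq_true h]⟩

theorem one {o : Finset Cfsg.GolayPt} {T T' : Finset (Finset Cfsg.GolayPt)} (hT : T ∈ Cfsg.trios)
    (hT' : T' ∈ Cfsg.trios) (h : o ∈ T) (h' : o ∈ T') : ∃ g ∈ Cfsg.M24, g • o = o ∧ g • T = T' := by
  obtain ⟨a, h1, h2, rfl⟩ := trio_exists hT h
  obtain ⟨b, h3, h4, rfl⟩ := trio_exists hT' h'
  obtain ⟨g, h5, h6, h7⟩ := oct_pair (hT.2.1 o h) h1 (hT.2.1 o h) h3 (by
    rw [disjoint_iff_inter_eq_empty.1 h2, disjoint_iff_inter_eq_empty.1 h4])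
  exact ⟨g, h5, h6, by rw [smul_trio, h6, h7]⟩

theorem t1_mem : SS 3 (tr 330) ∈ Cfsg.trios := (trE.mem _).2 ⟨330, by decide, by decide +kernel, rfl⟩

theorem two : ∀ σ ∈ Cfsg.M24, ∀ x ∈ Cfsg.trios, ∀ y ∈ Cfsg.trios,
    (σ • S 8536111 ∈ x ∧ x ≠ σ • SS 3 (tr 330)) → (σ • S 8536111 ∈ y ∧ y ≠ σ • SS 3 (tr 330)) →
    0 = 0 → ∃ g ∈ Cfsg.M24, g • σ • (S 8536111, SS 3 (tr 330)) = σ • (S 8536111, SS 3 (tr 330)) ∧
      g • x = y :=
  trE.pair trE_inv (S 8536111, SS 3 (tr 330)) _ (chk_prod (chk_S _) (chk_SS _ _))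
    (fun a T => a.1 ∈ T ∧ T ≠ a.2) (fun σ _ a x => by
      simp only [Prod.smul_fst, Prod.smul_snd, smul_mem_smul_finset_iff, Ne, smul_left_cancel_iff])
    (fun i => band (has (tr i)) (bnot (Nat.beq i 330))) (fun i _ _ h => by
      rw [band_iff, bnot_iff, Nat.beq_eq]
      exact ⟨(has_iff _).1 h.1, fun e => h.2 (e ▸ rfl)⟩)
    (fun _ _ => 0) (fun _ _ _ _ => rfl) (fun _ => 0) (fun _ _ _ => rfl)
    0x1a5b583c129c50c5d89431caabb8220dab3820af68e4622d54626e78880e0519652ca7304909a1e96d5d21c6e2 3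
    0x100000001000100020101000000000000000000000000000000000000000000000000000000000000000000000000000000000000000000000000000000000000000000000000000000000000000000000000000000000000000000000000000000000000000000000000000000000000000000000000000000000000000000000000000000000000000000000000000000000000000000000000000000000000000000000000000000000000000000000000000000000000000000000000000000000000000000000000000000000000000000000000000000000000000000000000000000000000000000000000000000000000000000000000000000000000000000000000000000000000000000000000000000000000000000000000000000000000000000000000000000000000000000000000000000000000000000000000000000000000000000000000000000000000000000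
    [331] (by decide +kernel)

theorem three : ∀ σ ∈ Cfsg.M24 ⊓ Fx 8388655, ∀ T ∈ Cfsg.trios, S 8536111 ∈ T → σ • T = T := by
  intro σ hσ
  obtain ⟨g, h1, h2⟩ := m24_chain6.forall (Q := fun g => allTo2 (fun i => force i fun i =>
    bimp (trE.V i) (force (tr i) fun c => bimp (has c) (mapsSS 3 g c c))) trE.a trE.b)
    (by decide +kernel) σ hσ
  exact trE.forall _ _ (fun i _ _ h h3 => by
    rw [force_eq, bimp_iff] at h
    exact smul_SS_self h1 (h ((has_iff _).1 h3))) h2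

/-- An octad of the length-24 code lies in exactly 15 trios; the stabiliser of the octad in the code's group acts doubly transitively on these 15 trios, and the kernel of this action is the pointwise stabiliser of the octad. -/
theorem result (o : Finset Cfsg.GolayPt) (ho : o ∈ Cfsg.octads) : {T : Finset (Finset Cfsg.GolayPt) | T ∈ Cfsg.trios ∧ o ∈ T}.ncard = 15 ∧ (∀ T₁ T₂ T₁' T₂' : Finset (Finset Cfsg.GolayPt), T₁ ∈ Cfsg.trios → T₂ ∈ Cfsg.trios → T₁' ∈ Cfsg.trios → T₂' ∈ Cfsg.trios → o ∈ T₁ → o ∈ T₂ → o ∈ T₁' → o ∈ T₂' → T₁ ≠ T₂ → T₁' ≠ T₂' → ∃ g ∈ Cfsg.M24, g • o = o ∧ g • T₁ = T₁' ∧ g • T₂ = T₂') ∧ ∀ g ∈ Cfsg.M24, g • o = o → ((∀ T ∈ Cfsg.trios, o ∈ T → g • T = T) ↔ ∀ p ∈ o, g p = p) := by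
  obtain ⟨σ, hσ, rfl⟩ := std_octad ho
  have h1 : {T : Finset (Finset Cfsg.GolayPt) | T ∈ Cfsg.trios ∧ σ • S 8536111 ∈ T}.ncard = 15 :=
    (trE.pair_ncard trE_inv (S 8536111) (fun a T => a ∈ T) (fun _ _ _ _ => smul_mem_smul_finset_iff _)
      (fun i => has (tr i)) (fun i _ _ => has_iff _) hσ).trans (by decide +kernel)
  have h2 : ∀ g ∈ Cfsg.M24, (∀ p ∈ σ • S 8536111, g p = p) →
      ∀ T ∈ Cfsg.trios, σ • S 8536111 ∈ T → g • T = T := fun g hg h T hT hT' => by
    have := three _ (fix_O0_eq.le ⟨conj_mem_M24 hσ hg, conj_mem_Fx_iff.2 h⟩) _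
      (smul_mem_trios (inv_mem hσ) hT) (by rwa [← smul_mem_smul_finset_iff σ, smul_inv_smul])
    rwa [conj_smul_eq_iff, smul_inv_smul] at this
  refine ⟨h1, fun T₁ T₂ T₁' T₂' k1 k2 k3 k4 k5 k6 k7 k8 k9 k10 => ?_, fun g hg hg' =>
    ⟨fun h => ?_, h2 g hg⟩⟩
  · obtain ⟨a, h3, h4, rfl⟩ := one k1 k3 k5 k7
    obtain ⟨b, h5, h6, h7⟩ := one (smul_mem_trios hσ t1_mem) k3
      (smul_mem_smul_finset ((has_iff _).2 (by decide +kernel))) k7
    rw [← mul_smul] at h6 h7
    obtain ⟨c, h8, h9, rfl⟩ := two _ (mul_mem h5 hσ) _ (smul_mem_trios h3 k2) _ k4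
      ⟨by rw [h6, ← h4]; exact smul_mem_smul_finset k6, by
        rw [h7]; exact fun e => k9 (MulAction.injective a e).symm⟩ ⟨h6 ▸ k8, h7 ▸ k10.symm⟩ rfl
    rw [Prod.smul_mk, Prod.smul_mk, h6, h7, Prod.mk.injEq] at h9
    exact ⟨c * a, mul_mem h8 h3, by rw [mul_smul, h4, h9.1], by rw [mul_smul, h9.2], mul_smul _ _ _⟩
  generalize σ • S 8536111 = o at *
  have hinv : ∀ g ∈ Cfsg.M24 ⊓ stabilizer (Equiv.Perm Cfsg.GolayPt) o, g • o = o := fun g hg => hg.2
  have h3 := card_eq_range_mul_ker (resHom _ o hinv)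
  have h4 : Nat.card (resHom _ o hinv).ker = 16 := by
    rw [← card_fix_octad ho]
    exact Nat.card_congr
      { toFun := fun g => ⟨g.1.1, g.1.2.1, mem_fixing.2 ((mem_ker_resHom _ _ _ _).1 g.2)⟩
        invFun := fun g => ⟨⟨g.1, g.2.1, smul_eq_of_fix (mem_fixing.1 g.2.2)⟩,
          (mem_ker_resHom _ _ _ _).2 (mem_fixing.1 g.2.2)⟩
        left_inv := fun _ => rfl
        right_inv := fun _ => rfl }
  rw [h4, card_stab_inf, card_stab_octad ho] at h3
  have h5 : IsSimpleGroup (resHom _ o hinv).range := by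
    rw [range_eq_alt (resHom _ o hinv) (by
      rw [Fintype.card_coe, ho.2, show Nat.factorial 8 = 40320 from rfl]; omega)]
    exact alternatingGroup.isSimpleGroup (by rw [Nat.card_eq_fintype_card, Fintype.card_coe, ho.2]; norm_num)
  let N : Subgroup ↥(Cfsg.M24 ⊓ stabilizer (Equiv.Perm Cfsg.GolayPt) o) :=
    ⨅ T ∈ {T | T ∈ Cfsg.trios ∧ o ∈ T}, stabilizer _ T
  have hN : ∀ x, x ∈ N ↔ ∀ T ∈ Cfsg.trios, o ∈ T → x.1 • T = T := fun x => by
    simp only [N, Subgroup.mem_iInf, Set.mem_setOf_eq, and_imp]; rfl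
  have h6 : N.Normal := ⟨fun n hn x => (hN _).2 fun T hT hT' => by
    have := (hN n).1 hn _ (smul_mem_trios (inv_mem x.2.1) hT) (by
      rwa [← smul_mem_smul_finset_iff x.1, smul_inv_smul, x.2.2])
    show (x.1 * n.1 * x.1⁻¹) • T = T
    rw [mul_smul, mul_smul, this, smul_inv_smul]⟩
  rcases (h6.map _ (resHom _ o hinv).rangeRestrict_surjective).eq_bot_or_eq_top with e | e
  · rw [Subgroup.map_eq_bot_iff, MonoidHom.ker_rangeRestrict] at e
    exact (mem_ker_resHom _ _ _ _).1 (e ((hN ⟨g, hg, hg'⟩).2 h))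
  · exfalso
    obtain ⟨T, h7, T', h8, h9⟩ := (Set.one_lt_ncard (Set.toFinite _)).1 (h1.ge.trans' (by norm_num))
    obtain ⟨a, h10, h11, rfl⟩ := one h7.1 h8.1 h7.2 h8.2
    obtain ⟨n, h12, h13⟩ := e.ge (Subgroup.mem_top ((resHom _ o hinv).rangeRestrict ⟨a, h10, h11⟩))
    rw [← MonoidHom.div_mem_ker_iff, MonoidHom.ker_rangeRestrict, mem_ker_resHom] at h13
    have := h2 _ (n / ⟨a, h10, h11⟩).2.1 h13 _ h8.1 h8.2
    rw [div_eq_mul_inv, Subgroup.coe_mul, mul_smul, Subgroup.coe_inv, inv_smul_smul,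
      (hN n).1 h12 T h7.1 h7.2] at this
    exact h9 this

end Cfsg.Agent.S5615
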