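import Cfsg.Statements.S5726
import Cfsg.Agent.H17.PermMod
import Cfsg.Agent.H17.Cent
-- import your own Cfsg.Agent.* helpers here

set_option autoImplicit false
set_option maxHeartbeats 400000
open Cfsg

namespace Cfsg.Agent.S5726

/-- If a finite group acts faithfully and transitively on a set with p^k elements, p a prime and k ≥ 1, then some element of order p fixes no point. -/
theorem result {G Ω : Type*} [Group G] [Finite G] [MulAction G Ω] [FaithfulSMul G Ω] [Fintype Ω] (htr : MulAction.IsPretransitive G Ω)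
    (p k : ℕ) (hp : p.Prime) (hk : 1 ≤ k) (hΩ : Fintype.card Ω = p ^ k) :
    ∃ g : G, orderOf g = p ∧ ∀ ω : Ω, g • ω ≠ ω := by
  have : Fact p.Prime := ⟨hp⟩
  obtain ⟨P⟩ : Nonempty (Sylow p G) := inferInstance
  have ht := H17.sylow_trans (G := G) (Ω := Ω) (p := p) (f := k) (by simpa using hΩ) P
  have h1 : 1 < Fintype.card Ω := hΩ ▸ Nat.one_lt_pow (by omega) hp.one_lt
  obtain ⟨a, b, hab⟩ := Fintype.exists_pair_of_one_lt_card h1
  have : Nontrivial (P : Subgroup G) := by
    obtain ⟨g, hg⟩ := ht.exists_smul_eq a b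
    exact ⟨g, 1, by rintro rfl; exact hab (by simpa using hg)⟩
  have := P.isPGroup'.center_nontrivial
  obtain ⟨n, hn0, hn⟩ := (P.isPGroup'.to_subgroup (Subgroup.center _)).nontrivial_iff_card.1 this
  obtain ⟨z, hz⟩ := exists_prime_orderOf_dvd_card' (G := Subgroup.center (P : Subgroup G)) p
    (hn ▸ dvd_pow_self p hn0.ne')
  refine ⟨z.1.1, by rw [Subgroup.orderOf_coe, Subgroup.orderOf_coe, hz], fun ω h => ?_⟩
  have := H17.semireg_of_comm (P : Subgroup G) ht z.1.1 (fun m hm =>
    congrArg Subtype.val (Subgroup.mem_center_iff.1 z.2 ⟨m, hm⟩)) h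
  rw [show z = 1 from Subtype.ext (Subtype.ext this), orderOf_one] at hz
  exact hp.one_lt.ne hz

end Cfsg.Agent.S5726
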