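import Cfsg.Statements.S5727
import Cfsg.Agent.H17.Gleason
import Cfsg.Agent.S5726
-- import your own Cfsg.Agent.* helpers here

set_option autoImplicit false
set_option maxHeartbeats 400000
open Cfsg

namespace Cfsg.Agent.S5727

/-- If a finite group acts faithfully and transitively on a set with m·p elements, where p is a prime and 1 ≤ m ≤ p, then some element of order p fixes no point. -/
theorem result {G Ω : Type*} [Group G] [Finite G] [MulAction G Ω] [FaithfulSMul G Ω] [Fintype Ω] (htr : MulAction.IsPretransitive G Ω)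
    (p m : ℕ) (hp : p.Prime) (hm : 1 ≤ m) (hmp : m ≤ p) (hΩ : Fintype.card Ω = m * p) :
    ∃ g : G, orderOf g = p ∧ ∀ ω : Ω, g • ω ≠ ω := by
  classical
  rcases hmp.eq_or_lt with rfl | hmp
  · exact Cfsg.Agent.S5726.result htr m 2 hp (by omega) (by rw [hΩ, sq])
  have : Fact p.Prime := ⟨hp⟩
  obtain ⟨P, -, hP, hc⟩ := H17.exists_sylow_le (p := p) (⊤ : Subgroup G)
  have h1 : ∀ ω : Ω, (MulAction.stabilizer P ω).index = p := fun ω => by
    obtain ⟨n, hn⟩ := hP.index (MulAction.stabilizer P ω)
    have h2 : n ≠ 0 := by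
      rintro rfl
      refine H17.sylow_not_fix hp le_top hc (a := ω) ?_ fun g => ?_
      · have : MulAction.orbit (⊤ : Subgroup G) ω = Set.univ := Set.eq_univ_of_forall fun b =>
          let ⟨g, e⟩ := htr.exists_smul_eq ω b; ⟨⟨g, trivial⟩, e⟩
        simp [this, hΩ]
      · exact (Subgroup.index_eq_one.1 hn).ge (Subgroup.mem_top g)
    have h3 : p ^ n ≤ m * p := by
      rw [← hn, MulAction.index_stabilizer, ← hΩ, ← Nat.card_eq_fintype_card, ← Set.ncard_univ]
      exact Set.ncard_le_ncard (Set.subset_univ _)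
    have h4 : n < 2 := (Nat.pow_lt_pow_iff_right hp.one_lt).1 (h3.trans_lt (by
      rw [sq]; exact Nat.mul_lt_mul_of_pos_right hmp hp.pos))
    rw [hn, show n = 1 by omega, pow_one]
  have h2 : Fintype.card (MulAction.orbitRel.Quotient P Ω) = m := by
    refine Nat.eq_of_mul_eq_mul_right hp.pos ?_
    rw [← hΩ, Fintype.card_congr (MulAction.selfEquivSigmaOrbits P Ω), Fintype.card_sigma,
      Finset.sum_congr rfl (g := fun _ => p) fun q _ => by
        rw [← h1 q.out, MulAction.index_stabilizer, ← Nat.card_eq_fintype_card]; rfl]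
    simp
  have h3 : ∀ ω : Ω, (MulAction.stabilizer P ω).Normal := fun ω => by
    refine Subgroup.normal_of_index_eq_minFac_card ?_
    have := (MulAction.stabilizer P ω).index_dvd_card
    rw [h1] at this ⊢
    rw [hc] at this ⊢
    rw [hp.pow_minFac (by rintro e; rw [e, pow_zero] at this; exact hp.one_lt.ne' (Nat.dvd_one.1 this))]
  obtain ⟨g, hg⟩ : ∃ g : P, ∀ q : MulAction.orbitRel.Quotient P Ω, g • q.out ≠ q.out := by
    by_contra h
    push Not at h
    obtain ⟨q, -, -, h4⟩ := Subgroup.exists_index_le_card_of_leftCoset_cover (s := Finset.univ)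
      (H := fun q : MulAction.orbitRel.Quotient P Ω => MulAction.stabilizer P q.out) (g := fun _ => 1)
      (Set.eq_univ_of_forall fun g => by simpa using h g)
    rw [h1, Finset.card_univ, h2] at h4
    omega
  have h4 : ∀ ω : Ω, g • ω ≠ ω := fun ω h => by
    obtain ⟨k, hk⟩ : (Quotient.mk (MulAction.orbitRel P Ω) ω).out ∈ MulAction.orbit P ω :=
      Quotient.mk_out (s := MulAction.orbitRel P Ω) ω
    refine hg (Quotient.mk _ ω) ?_
    have := (h3 ω).conj_mem' g h k
    rw [← hk]
    simpa [mul_smul, inv_smul_eq_iff] using this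
  obtain ⟨ω⟩ : Nonempty Ω := Fintype.card_pos_iff.1 (hΩ ▸ Nat.mul_pos hm hp.pos)
  refine ⟨g, orderOf_eq_prime ?_ (fun e => h4 ω (by rw [Subgroup.smul_def, e, one_smul])), h4⟩
  refine FaithfulSMul.eq_of_smul_eq_smul (α := Ω) fun x => ?_
  have := h3 x
  simpa [h1, Subgroup.smul_def] using (MulAction.stabilizer P x).pow_index_mem g

end Cfsg.Agent.S5727
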