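import Cfsg.Statements.S5728
-- import your own Cfsg.Agent.* helpers here

set_option autoImplicit false
set_option maxHeartbeats 400000
open Cfsg

namespace Cfsg.Agent.S5728

/-- An elusive transitive action. Let p = 2^s − 1 be a prime and let F be the field with p² elements. Inside the group of affine maps x ↦ a·x + b of F (a ≠ 0), consider the subgroup of maps with both coefficients in the prime field. Then every element of prime order of the affine group is conjugate, within the affine group, to an element of that subgroup; equivalently, in the transitive action of the affine group on the cosets of that subgroup (of degree p(p + 1)) every element of prime order fixes a point. -/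
theorem result (p s : ℕ) [Fact p.Prime] (hs : p = 2 ^ s - 1)
    (g : Equiv.Perm (GaloisField p 2)) (hg : g ∈ Cfsg.affineGroup (GaloisField p 2)) (hord : (orderOf g).Prime) :
    ∃ x ∈ Cfsg.affineGroup (GaloisField p 2), ∃ a b : ZMod p, a ≠ 0 ∧
      ∀ y : GaloisField p 2, (x * g * x⁻¹) y = algebraMap (ZMod p) (GaloisField p 2) a * y + algebraMap (ZMod p) (GaloisField p 2) b := by
  obtain ⟨a, b, hg⟩ := hg
  have hp : p.Prime := Fact.out
  by_cases ha : (a : GaloisField p 2) = 1
  · have hb : b ≠ 0 := by
      rintro rfl
      rw [show g = 1 from Equiv.ext fun x => by simp [hg, ha], orderOf_one] at hord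
      exact Nat.not_prime_one hord
    refine ⟨Equiv.mulLeft₀ b⁻¹ (inv_ne_zero hb), ⟨Units.mk0 _ (inv_ne_zero hb), 0, by simp⟩, 1, 1,
      one_ne_zero, fun y => ?_⟩
    simp [hg, ha, Equiv.Perm.inv_def, mul_add, hb]
  have ha' : (1 - a : GaloisField p 2) ≠ 0 := sub_ne_zero.2 (Ne.symm ha)
  set c := b / (1 - a) with hc
  have h1 : ∀ (n : ℕ) y, (g ^ n) (y + c) = (a : GaloisField p 2) ^ n * y + c := fun n => by
    induction n with
    | zero => simp
    | succ n ih => intro y; rw [pow_succ', Equiv.Perm.mul_apply, ih, hg, hc]; field_simp; ring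
  have h2 : (a : GaloisField p 2) ^ orderOf g = 1 := by simpa using (h1 (orderOf g) 1).symm
  have h3 : orderOf (a : GaloisField p 2) = orderOf g := by
    have := Fact.mk hord
    exact orderOf_eq_prime h2 ha
  have h4 : (a : GaloisField p 2) ^ (p - 1) = 1 := by
    have := Fintype.ofFinite (GaloisField p 2)
    have h5 := orderOf_dvd_of_pow_eq_one (FiniteField.pow_card_sub_one_eq_one _ a.ne_zero)
    rw [← Nat.card_eq_fintype_card, GaloisField.card p 2 two_ne_zero, h3, ← one_pow 2,
      Nat.sq_sub_sq] at h5
    rw [← orderOf_dvd_iff_pow_eq_one, h3]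
    refine ((Nat.Prime.dvd_mul hord).1 h5).elim (fun h => ?_) id
    have h6 : p + 1 = 2 ^ s := by have := Nat.one_le_two_pow (n := s); omega
    rw [h6] at h
    rw [(Nat.prime_dvd_prime_iff_eq hord Nat.prime_two).1 (hord.dvd_of_dvd_pow h)]
    rcases hp.eq_two_or_odd' with e | e
    · rcases s with _ | s <;> omega
    · exact (Nat.Odd.sub_odd e odd_one).two_dvd
  obtain ⟨a₀, h5⟩ : ∃ a₀, algebraMap (ZMod p) (GaloisField p 2) a₀ = a := by
    have : (a : GaloisField p 2) ^ p = a := by
      have := congrArg (· * (a : GaloisField p 2)) h4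
      simpa only [← pow_succ, Nat.sub_add_cancel hp.one_le, one_mul] using this
    have := (Subfield.mem_bot_iff_pow_eq_self (GaloisField p 2) p).2 this
    rwa [Subfield.bot_eq_of_zMod_algebra p] at this
  refine ⟨Equiv.subRight c, ⟨1, -c, by simp [sub_eq_add_neg]⟩, a₀, 0, ?_, fun y => ?_⟩
  · rintro rfl; exact a.ne_zero (by simpa using h5.symm)
  · have := h1 1 y
    simp only [pow_one] at this
    simp [h5, Equiv.Perm.inv_def, this]

end Cfsg.Agent.S5728
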