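import Cfsg.Statements.S5732
import Cfsg.Agent.H24.DG3
import Cfsg.Agent.S3549

set_option autoImplicit false
open Cfsg

namespace Cfsg.Agent.S5732

/-- There is a bound N such that for every finite group G acting faithfully and transitively on a set with n ≥ N points, either G is primitive and a Frobenius permutation group (Frobenius as a permutation group: transitive, some non-identity element fixes a point, and no non-identity element fixes two points), or the subgroup generated by the derangements of G has index at most √n − 1 in G. -/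
theorem result : ∃ N : ℕ, ∀ (G Ω : Type*) [Group G] [Finite G] [MulAction G Ω] [FaithfulSMul G Ω] [Fintype Ω],
      MulAction.IsPretransitive G Ω → N ≤ Fintype.card Ω →
      (MulAction.IsPreprimitive G Ω ∧ (MulAction.IsPretransitive G Ω ∧ (∃ g : G, g ≠ 1 ∧ ∃ ω : Ω, g • ω = ω) ∧ ∀ g : G, g ≠ 1 → Nat.card (MulAction.fixedBy Ω g) ≤ 1)) ∨
      ((Subgroup.closure {g : G | ∀ ω : Ω, g • ω ≠ ω}).index : ℝ) ≤ Real.sqrt (Fintype.card Ω) - 1 := by
  refine ⟨4, fun G Ω _ _ _ _ _ ht hΩ => ?_⟩
  rw [← Nat.card_eq_fintype_card] at hΩ ⊢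
  by_cases hp : MulAction.IsPreprimitive G Ω
  swap
  · exact .inr (S3549.result ht hp)
  obtain ⟨h1, h2⟩ := S3546.result (G := G) (Ω := Ω) ht
  have := S3546.normal (G := G) (Ω := Ω)
  set D := Subgroup.closure {g : G | ∀ ω : Ω, g • ω ≠ ω}
  have k : (D.index + 1) ^ 2 ≤ Nat.card Ω → (D.index : ℝ) ≤ Real.sqrt (Nat.card Ω) - 1 := fun h => by
    rw [le_sub_iff_add_le]
    exact Real.le_sqrt_of_sq_le (by exact_mod_cast h)
  by_cases i : D.index = 1
  · exact .inr (k (by rw [i]; exact hΩ))
  rcases H24.DG.main (fun a b => let ⟨g, e⟩ := h1.1 a b; ⟨g.1, g.2, e⟩) (fun g k => not_not.1 (mt (h2 g) k))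
    (by omega) with h | h | ⟨Q, -, -, -, h⟩
  · exact .inr (k h)
  · exact (i h).elim
  refine .inl ⟨hp, ht, ?_, h⟩
  by_contra n
  refine i (Subgroup.index_eq_one.2 (eq_top_iff.2 fun g _ => ?_))
  by_cases e : g = 1
  · exact e ▸ D.one_mem
  · exact Subgroup.subset_closure fun ω l => n ⟨g, e, ω, l⟩

end Cfsg.Agent.S5732
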