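import Cfsg.Statements.S5744
import Cfsg.Agent.H15.E6C
import Cfsg.Agent.S1686
import Cfsg.Agent.S2604
import Cfsg.Agent.H11.OmegaBridge
import Cfsg.Agent.H16.Out

set_option autoImplicit false
open Cfsg

namespace Cfsg.Agent.S5744

/-- The simple group ²E₆(2) (the twisted group of type E₆ over the field with 4 elements) contains at least three pairwise non-conjugate subgroups isomorphic to the orthogonal group Ω₇(3) (the commutator subgroup of the isometry group of x₀² + x₁y₁ + x₂y₂ + x₃y₃ over the field with 3 elements). -/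
theorem result {K : Type*} [Field K] [Fintype K] (hK : Fintype.card K = 4) :
    ∃ H : Fin 3 → Subgroup (Cfsg.Lie.twistedE6 K 2),
      (∀ i, Nonempty ((H i) ≃* Cfsg.Omega (ZMod 3) (Cfsg.quadFormOdd 3 (ZMod 3)))) ∧
      (∀ i j, i ≠ j → ∀ g : (Cfsg.Lie.twistedE6 K 2), (H i).map (MulAut.conj g).toMonoidHom ≠ H j) := by
  obtain ⟨f, θ, h1, h2, h3⟩ := H15.E6.main hK
  obtain ⟨e⟩ := Cfsg.Agent.S1686.result
  obtain ⟨o⟩ := Cfsg.Agent.S2604.result (F := ZMod 3) (p := 3) (f := 1) (m := 3) le_rfl rfl (by decide) le_rfl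
  obtain ⟨H, a, b⟩ := H14.three_classes (j := f.comp (Subgroup.subtype _)) (h1.comp (Subgroup.subtype_injective _))
    ((H16.card_out_congr e).trans ((Nat.card_congr o.toEquiv).trans (by simp))) h2 fun n y h => h3 n y fun x hx =>
      h ⟨.of x, Subgroup.mem_map_of_mem _ (Subgroup.subset_closure (by cases x <;> simp at hx ⊢))⟩
  exact ⟨H, fun i => (a i).map fun g => g.trans (e.trans ((QuotientGroup.quotientMulEquivOfEq
    (H11.center_omegaOdd (by decide) (by decide))).trans QuotientGroup.quotientBot)), b⟩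

end Cfsg.Agent.S5744
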