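import Cfsg.Statements.S5806
import Cfsg.Agent.H6.SP9
import Cfsg.Agent.H12.SP4
import Cfsg.Agent.H3.S6d
import Cfsg.Agent.H14.S6c
import Cfsg.Agent.H23.S6e
import Cfsg.Agent.H15.S6b
import Cfsg.Agent.H4.SPd

set_option autoImplicit false
open Cfsg

namespace Cfsg.Agent.S5806

/-- The maximal subgroups of Sp_6(q) in the residual class. Let F be a finite field with q elements and characteristic p, and H a maximal subgroup of Sp_6(F) (isometries of the standard alternating form on F^6) lying in the residual class of the symplectic case. Then the perfect socle preimage P of H satisfies one of: P modulo scalars is isomorphic to A_5, with q = p and either p ≡ ±3 or ±13 mod 40 or p ≡ ±1 mod 8; or to PSL_2(7), with q = p ≡ ±1 or ±7 mod 16 and p ≠ 7, or q = p² with p ≡ ±3 or ±5 mod 16 and p ≠ 3; or to PSL_2(13), with q = p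 ≡ ±1, ±3 or ±4 mod 13, or q = p² with p ≡ ±2, ±5 or ±6 mod 13 and p ≠ 2; or to A_7, with q = 9; or to U_3(3) (PSU_3 over the field with 9 elements), with q = 2 or q = p ≡ ±7 or ±17 mod 60 or q = p ≡ ±1 mod 12; or to the Hall–Janko group J_2, with q = 5, or q = p ≡ ±1 mod 5, or q = p² with p ≡ ±2 mod 5 and p ≠ 2; or to PSL_2(F) itself, with p ≥ 7; or to the group G_2(F) of automorphisms of the split octonion algebra over F, with q even and q ≠ 2. -/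
theorem result {F : Type*} [Field F] [Fintype F] (H : Subgroup (Matrix.GeneralLinearGroup (Fin 3 ⊕ Fin 3) F)) (hH : Cfsg.Geo.IsMaximalIn (Cfsg.spGL 3 F) H) (hS : Cfsg.Geo.InSymplecticResidualClass H) :
    ∃ (P : Subgroup (Matrix.GeneralLinearGroup (Fin 3 ⊕ Fin 3) F)) (p : ℕ), Cfsg.Geo.IsResidualCore H P ∧ p.Prime ∧ CharP F p ∧
    ((Nonempty ((P ⧸ (Cfsg.Geo.scalars (Fin 3 ⊕ Fin 3) F).subgroupOf P) ≃* alternatingGroup (Fin 5)) ∧ Fintype.card F = p ∧ (p % 40 = 3 ∨ p % 40 = 37 ∨ p % 40 = 13 ∨ p % 40 = 27 ∨ p % 8 = 1 ∨ p % 8 = 7)) ∨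
     (Nonempty ((P ⧸ (Cfsg.Geo.scalars (Fin 3 ⊕ Fin 3) F).subgroupOf P) ≃* Matrix.ProjectiveSpecialLinearGroup (Fin 2) (ZMod 7)) ∧ ((Fintype.card F = p ∧ p ≠ 7 ∧ (p % 16 = 1 ∨ p % 16 = 15 ∨ p % 16 = 7 ∨ p % 16 = 9)) ∨ (Fintype.card F = p ^ 2 ∧ p ≠ 3 ∧ (p % 16 = 3 ∨ p % 16 = 13 ∨ p % 16 = 5 ∨ p % 16 = 11)))) ∨
     (Nonempty ((P ⧸ (Cfsg.Geo.scalars (Fin 3 ⊕ Fin 3) F).subgroupOf P) ≃* Matrix.ProjectiveSpecialLinearGroup (Fin 2) (ZMod 13)) ∧ ((Fintype.card F = p ∧ (p % 13 = 1 ∨ p % 13 = 12 ∨ p % 13 = 3 ∨ p % 13 = 10 ∨ p % 13 = 4 ∨ p % 13 = 9)) ∨ (Fintype.card F = p ^ 2 ∧ p ≠ 2 ∧ (p % 13 = 2 ∨ p % 13 = 11 ∨ p % 13 = 5 ∨ p % 13 = 8 ∨ p % 13 = 6 ∨ p % 13 = 7)))) ∨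
     (Nonempty ((P ⧸ (Cfsg.Geo.scalars (Fin 3 ⊕ Fin 3) F).subgroupOf P) ≃* alternatingGroup (Fin 7)) ∧ Fintype.card F = 9) ∨
     ((∃ (K : Type) (_ : Field K) (_ : Fintype K), Fintype.card K = 9 ∧ Nonempty ((P ⧸ (Cfsg.Geo.scalars (Fin 3 ⊕ Fin 3) F).subgroupOf P) ≃* Cfsg.PSU 3 K 3)) ∧ (Fintype.card F = 2 ∨ (Fintype.card F = p ∧ (p % 60 = 7 ∨ p % 60 = 53 ∨ p % 60 = 17 ∨ p % 60 = 43 ∨ p % 12 = 1 ∨ p % 12 = 11)))) ∨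
     (Cfsg.Spor.IsoJ2 (P ⧸ (Cfsg.Geo.scalars (Fin 3 ⊕ Fin 3) F).subgroupOf P) ∧ ((Fintype.card F = p ∧ (p % 5 = 0 ∨ p % 5 = 1 ∨ p % 5 = 4)) ∨ (Fintype.card F = p ^ 2 ∧ p ≠ 2 ∧ (p % 5 = 2 ∨ p % 5 = 3)))) ∨
     (Nonempty ((P ⧸ (Cfsg.Geo.scalars (Fin 3 ⊕ Fin 3) F).subgroupOf P) ≃* Matrix.ProjectiveSpecialLinearGroup (Fin 2) F) ∧ 7 ≤ p) ∨
     (Nonempty ((P ⧸ (Cfsg.Geo.scalars (Fin 3 ⊕ Fin 3) F).subgroupOf P) ≃* Cfsg.Lie.G2 F) ∧ p = 2 ∧ Fintype.card F ≠ 2)) := by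
  exact H6.SP.s5806 (H6.SP.fam H3.S6.u3b (H4.SP.j2o H11.SP.sc H11.SP.cs)) (H6.SP.od (H23.S6.ca1 H15.S6.mo) H12.SP.ca8)
    (H6.SP.ev H14.S6.na) H hH hS

end Cfsg.Agent.S5806
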