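import Cfsg.Statements.S5855
import Cfsg.Agent.H4.USa
import Cfsg.Agent.H4.PG4
import Cfsg.Agent.H6.UZ
import Cfsg.Agent.H6.UW3
import Cfsg.Agent.H6.UA2

set_option autoImplicit false
open Cfsg

namespace Cfsg.Agent.S5855

/-- Maximal subgroups of SU_11(q) of geometric type (any prime power q). Let F be the field with q² elements (characteristic p), f the standard unitary form Σ u_i v_i^q on F^11 and SU_11(q) its determinant-one isometry group inside GL_11(F). Each of the following, intersected with SU_11(q), is a maximal subgroup of SU_11(q): (1) the stabiliser of any non-zero subspace on which f vanishes identically (totally isotropic subspaces, of dimension 1 to 5); (2) the stabiliser of any non-zero non-degenerate subspace W with 2 dim W < 11 (dimension 1 to 5); (3) the stabiliser of any decomposition of F^11 into 11 mutually orthogonal non-degenerate 1-spaces; (4) the normaliser of any degree-11 subfield of the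 matrix algebra closed under adjoints for f; (5) every subfield group for a subfield F₀ of odd prime index in F whose F₀-structure carries f; (6) for q odd, every subfield group for the subfield F₀ of index 2 whose F₀-structure carries f (orthogonal type); (7) for q = p with p ≡ 10 mod 11, or q = p⁵ with p ≡ 2, 6, 7 or 8 mod 11, the normaliser of any absolutely irreducible 11-group R of exponent 11, order 11³ and centre of order 11 with all characteristic abelian subgroups cyclic, consisting of isometries of f. -/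
theorem result {F : Type*} [Field F] [Fintype F] (q : ℕ) (hF : Fintype.card F = q ^ 2) :
    (∀ W : Submodule F (Fin 11 → F), W ≠ ⊥ → Cfsg.Geo.IsTotallySingularFor (Cfsg.hermForm 11 F q) W → Cfsg.Geo.IsMaximalIn (Cfsg.GU 11 F q ⊓ Cfsg.Geo.specialLinear (Fin 11) F) (Cfsg.Geo.subspaceStabilizer W ⊓ (Cfsg.GU 11 F q ⊓ Cfsg.Geo.specialLinear (Fin 11) F))) ∧
    (∀ W : Submodule F (Fin 11 → F), W ≠ ⊥ → Cfsg.Geo.IsNondegenerateOn (Cfsg.hermForm 11 F q) W → 2 * Module.finrank F W < 11 → Cfsg.Geo.IsMaximalIn (Cfsg.GU 11 F q ⊓ Cfsg.Geo.specialLinear (Fin 11) F) (Cfsg.Geo.subspaceStabilizer W ⊓ (Cfsg.GU 11 F q ⊓ Cfsg.Geo.specialLinear (Fin 11) F))) ∧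
    (∀ D : Fin 11 → Submodule F (Fin 11 → F), Cfsg.Geo.IsNondegenerateMDecomposition (Cfsg.hermForm 11 F q) 1 D → Cfsg.Geo.IsMaximalIn (Cfsg.GU 11 F q ⊓ Cfsg.Geo.specialLinear (Fin 11) F) (Cfsg.Geo.decompositionStabilizer D ⊓ (Cfsg.GU 11 F q ⊓ Cfsg.Geo.specialLinear (Fin 11) F))) ∧
    (∀ K : Subalgebra F (Matrix (Fin 11) (Fin 11) F), Cfsg.Geo.IsFieldSubalgebra 11 K → Cfsg.Geo.IsAdjointClosedFor (Cfsg.hermForm 11 F q) K → Cfsg.Geo.IsMaximalIn (Cfsg.GU 11 F q ⊓ Cfsg.Geo.specialLinear (Fin 11) F) (Cfsg.Geo.subalgebraNormalizer K ⊓ (Cfsg.GU 11 F q ⊓ Cfsg.Geo.specialLinear (Fin 11) F))) ∧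
    (∀ (F₀ : Subfield F) (r : ℕ) (P : Matrix.GeneralLinearGroup (Fin 11) F), r.Prime → Odd r → Fintype.card F = Nat.card F₀ ^ r → Cfsg.Geo.IsFormRationalStructure (Cfsg.hermForm 11 F q) F₀ 1 P → Cfsg.Geo.IsMaximalIn (Cfsg.GU 11 F q ⊓ Cfsg.Geo.specialLinear (Fin 11) F) (Cfsg.Geo.subfieldSubgroup F₀ P ⊓ (Cfsg.GU 11 F q ⊓ Cfsg.Geo.specialLinear (Fin 11) F))) ∧
    (Odd q → ∀ (F₀ : Subfield F) (P : Matrix.GeneralLinearGroup (Fin 11) F), Fintype.card F = Nat.card F₀ ^ 2 → Cfsg.Geo.IsFormRationalStructure (Cfsg.hermForm 11 F q) F₀ 1 P → Cfsg.Geo.IsMaximalIn (Cfsg.GU 11 F q ⊓ Cfsg.Geo.specialLinear (Fin 11) F) (Cfsg.Geo.subfieldSubgroup F₀ P ⊓ (Cfsg.GU 11 F q ⊓ Cfsg.Geo.specialLinear (Fin 11) F))) ∧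
    (∀ (p : ℕ) (R : Subgroup (Matrix.GeneralLinearGroup (Fin 11) F)), p.Prime → CharP F p → ((q = p ∧ p % 11 = 10) ∨ (q = p ^ 5 ∧ (p % 11 = 2 ∨ p % 11 = 6 ∨ p % 11 = 7 ∨ p % 11 = 8))) → Cfsg.Geo.IsSymplecticTypeGroup 11 R → Cfsg.Geo.ActsAbsolutelyIrreducibly (Cfsg.Geo.matrixSet R) → R ≤ Cfsg.GU 11 F q → Nat.card R = 1331 → Nat.card (Subgroup.center R) = 11 → Cfsg.Geo.IsMaximalIn (Cfsg.GU 11 F q ⊓ Cfsg.Geo.specialLinear (Fin 11) F) (Cfsg.Geo.subgroupNormalizer R ⊓ (Cfsg.GU 11 F q ⊓ Cfsg.Geo.specialLinear (Fin 11) F))) := by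
  open H6.UE in
  exact ⟨fun _ a b => H12.sul_ts hF (by omega) a b, fun _ a b c => H12.sul_nondeg hF (by omega) a b c,
    fun _ a => H4.US.frame7 hF (by omega) a,
    as ar (H4.PG.mn (on dd (co H4.US.wb (cw H4.US.wb)) H6.UQ.qq) (on2 dd (co H4.US.wb (cw H4.US.wb)) H6.UQ.qq) fn
      (sp_of dv' H9.UE.lg H9.UE.ic H9.UE.sn H9.UE.ix H6.AM.a32 H6.AM.a43)) F q hF,
    fun _ _ _ a b c d => H12.sul_rat hF (by omega) a b c d, fun a _ _ b c => H12.sul_orth6 hF (by omega) a b c,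
    fun p R a b c d e f _ _ => H6.UZ.c6u H6.UW.ct2 F q hF p R a b c d e f⟩

end Cfsg.Agent.S5855
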