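import Cfsg.Statements.S5934
import Cfsg.Agent.H7.ME4
import Cfsg.Agent.H3.ME1
import Cfsg.Agent.H9.ME3
import Cfsg.Agent.H9.ME2
import Cfsg.Agent.H15.ME1
import Cfsg.Agent.H18.ME1
import Cfsg.Agent.H18.ME2
import Cfsg.Agent.H19.ME1
import Cfsg.Agent.H22.ME1
import Cfsg.Agent.H23.ME2
import Cfsg.Agent.H24.ME1
import Cfsg.Agent.H24.ME2
import Cfsg.Agent.H29.ME1

set_option autoImplicit false
open Cfsg

namespace Cfsg.Agent.S5934

/-- The Chevalley group of type E₇ over the field with two elements (generated by its root elements in the adjoint representation; the simple group E₇(2)) has at least 19 conjugacy classes of maximal subgroups: there are 19 maximal subgroups, no two of which are conjugate. -/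
theorem result :
    ∃ M : Fin 19 → Subgroup ↥(Cfsg.Lie.chevE7.group (ZMod 2)), (∀ i, IsCoatom (M i)) ∧
      ∀ i j, (∃ g : ↥(Cfsg.Lie.chevE7.group (ZMod 2)), (M i).map (MulAut.conj g).toMonoidHom = M j) → i = j := by
  have f := H9.ME.fs
  have v := H18.ME.fv
  have p := H3.ME.p43 v
  exact H24.ME.fin H3.ME.pa p (H22.ME.ph f) (H22.ME.cb f) (H22.ME.l1 f v p) (H15.ME.l2 f)
    (H15.ME.l3 f H23.ME.fi (H24.ME.lp v H3.ME.bt p))
    (H7.ME.da f (H18.ME.gd f H9.ME.lam) (H24.ME.ct f H9.ME.lam) H29.ME.fx H29.ME.cc H29.ME.sd (H19.ME.pn v H29.ME.fx))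
    H18.ME.dl

end Cfsg.Agent.S5934
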